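import Mathlib
import Cfsg.Agent.Classical.Misc.SiegelGen

/-!
Singular vectors of finite quadratic spaces of any characteristic, and the generation of `Ω` by Siegel
transformations.
-/

set_option autoImplicit false
set_option linter.style.haveILetI false

namespace Cfsg.Lib.Classical.Refl

open Matrix
open scoped commutatorElement

universe u

variable {F : Type u} [Field F] {ι : Type} [Fintype ι] [DecidableEq ι] (Q : QuadraticForm F (ι → F))

theorem exists_of_equiv (e : (ι → F) ≃ₗ[F] (ι → F)) (he : ∀ x, Q (e x) = Q x) :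
    ∃ g : Cfsg.isometryGroup F (⇑Q), ∀ x, mat Q g *ᵥ x = e x := by
  have hdet : (LinearMap.toMatrix' e.toLinearMap).det ≠ 0 := by
    rw [LinearMap.det_toMatrix']; exact (LinearEquiv.isUnit_det' e).ne_zero
  refine ⟨⟨Matrix.GeneralLinearGroup.mkOfDetNeZero _ hdet, (mem_iff Q).mpr fun x => ?_⟩, fun x => ?_⟩
  · show Q (LinearMap.toMatrix' e.toLinearMap *ᵥ x) = Q x
    rw [LinearMap.toMatrix'_mulVec]; exact he x
  · show LinearMap.toMatrix' e.toLinearMap *ᵥ x = e x
    rw [LinearMap.toMatrix'_mulVec]; rfl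

theorem exists_siegel {u z : ι → F} (hu : Q u = 0) (huz : QuadraticMap.polar (⇑Q) u z = 0) :
    ∃ g : Cfsg.isometryGroup F (⇑Q), ∀ x, mat Q g *ᵥ x = siegelMap Q u z x := by
  let L : ∀ w : ι → F, (ι → F) →ₗ[F] (ι → F) := fun w =>
    { toFun := siegelMap Q u w
      map_add' := fun x y => by
        funext i
        simp only [siegelMap, Pi.add_apply, Pi.smul_apply, smul_eq_mul, QuadraticMap.polar_add_right]
        ring
      map_smul' := fun c x => by
        funext i
        simp only [siegelMap, Pi.add_apply, Pi.smul_apply, smul_eq_mul, QuadraticMap.polar_smul_right,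
          RingHom.id_apply]
        ring }
  have huz' : QuadraticMap.polar (⇑Q) u (-z) = 0 := by rw [QuadraticMap.polar_neg_right, huz, neg_zero]
  let e : (ι → F) ≃ₗ[F] (ι → F) := LinearEquiv.ofLinearMap (L z) (L (-z))
    (LinearMap.ext fun x => by
      show siegelMap Q u z (siegelMap Q u (-z) x) = x
      rw [siegel_add Q hu huz huz', add_neg_cancel, siegel_zero])
    (LinearMap.ext fun x => by
      show siegelMap Q u (-z) (siegelMap Q u z x) = x
      rw [siegel_add Q hu huz' huz, neg_add_cancel, siegel_zero])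
  exact exists_of_equiv Q e fun x => siegel_preserve Q hu huz x

/-- A Siegel transformation. -/
noncomputable def siegelG {u z : ι → F} (hu : Q u = 0) (huz : QuadraticMap.polar (⇑Q) u z = 0) :
    Cfsg.isometryGroup F (⇑Q) := Classical.choose (exists_siegel Q hu huz)

theorem mat_siegelG {u z : ι → F} (hu : Q u = 0) (huz : QuadraticMap.polar (⇑Q) u z = 0) (x : ι → F) :
    mat Q (siegelG Q hu huz) *ᵥ x = siegelMap Q u z x := Classical.choose_spec (exists_siegel Q hu huz) x

theorem siegelG_mul {u z z' : ι → F} (hu : Q u = 0) (huz : QuadraticMap.polar (⇑Q) u z = 0)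
    (huz' : QuadraticMap.polar (⇑Q) u z' = 0) :
    siegelG Q hu huz * siegelG Q hu huz' =
      siegelG Q hu (z := z + z') (by rw [QuadraticMap.polar_add_right, huz, huz', add_zero]) := by
  refine ext_mulVec Q fun x => ?_
  rw [mat, mulVec_mul]
  change mat Q _ *ᵥ (mat Q _ *ᵥ x) = mat Q _ *ᵥ x
  rw [mat_siegelG, mat_siegelG, mat_siegelG, siegel_add Q hu huz huz']

theorem siegelG_conj (g : Cfsg.isometryGroup F (⇑Q)) {u z : ι → F} (hu : Q u = 0)
    (huz : QuadraticMap.polar (⇑Q) u z = 0) :
    g * siegelG Q hu huz * g⁻¹ = siegelG Q (u := mat Q g *ᵥ u) (z := mat Q g *ᵥ z)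
      (by rw [(mem_iff Q).mp g.2, hu]) (by rw [polar_act, huz]) := by
  refine ext_mulVec Q fun x => ?_
  rw [mat, mulVec_mul, mulVec_mul]
  change mat Q g *ᵥ (mat Q _ *ᵥ (mat Q g⁻¹ *ᵥ x)) = mat Q _ *ᵥ x
  rw [mat_siegelG, mat_siegelG, siegelMap_conj,
    show mat Q g *ᵥ (mat Q g⁻¹ *ᵥ x) = x by rw [← mulVec_mul, mul_inv_cancel]; exact Matrix.one_mulVec x]

theorem exists_sqrt_two [Finite F] (h2 : (2 : F) = 0) (c : F) : ∃ t : F, t * t = c := by
  haveI : CharP F 2 := CharTwo.of_one_ne_zero_of_two_eq_zero one_ne_zero h2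
  haveI := Fintype.ofFinite F
  obtain ⟨t, ht⟩ := FiniteField.isSquare_of_char_two (ringChar.eq F 2) c
  exact ⟨t, ht.symm⟩

variable [Finite F]

theorem exists_singular (X : Submodule F (ι → F)) (hX : 3 ≤ Module.finrank F X) :
    ∃ w ∈ X, w ≠ 0 ∧ Q w = 0 := by
  by_contra hc
  push Not at hc
  obtain ⟨y, hy, hy0⟩ := X.exists_mem_ne_zero_of_ne_bot (fun h => by rw [h, finrank_bot] at hX; omega)
  have hker : ∀ (Y : Submodule F (ι → F)) (a : ι → F), Module.finrank F Y ≤
      Module.finrank F ↥(Y ⊓ LinearMap.ker (QuadraticMap.polarBilin Q a)) + 1 := by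
    intro Y a
    have h1 := (QuadraticMap.polarBilin Q a).finrank_range_add_finrank_ker
    have h2 := (LinearMap.range (QuadraticMap.polarBilin Q a)).finrank_le
    rw [Module.finrank_self] at h2
    have h3 := Submodule.finrank_sup_add_finrank_inf_eq Y (LinearMap.ker (QuadraticMap.polarBilin Q a))
    have h4 := Submodule.finrank_le (Y ⊔ LinearMap.ker (QuadraticMap.polarBilin Q a))
    omega
  set X₁ := X ⊓ LinearMap.ker (QuadraticMap.polarBilin Q y)
  have hX₁ : 2 ≤ Module.finrank F X₁ := by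
    have h1 : Module.finrank F X ≤ Module.finrank F X₁ + 1 := hker X y
    omega
  by_cases h2 : (2 : F) = 0
  · obtain ⟨x, hx, hxy⟩ : ∃ x ∈ X₁, x ∉ Submodule.span F {y} := by
      by_contra hh
      push Not at hh
      have := Submodule.finrank_mono (show X₁ ≤ Submodule.span F {y} from hh)
      rw [finrank_span_singleton hy0] at this
      omega
    obtain ⟨t, ht⟩ := exists_sqrt_two h2 (-Q x / Q y)
    refine hc (x + t • y) (add_mem hx.1 (X.smul_mem t hy)) (fun h => hxy ?_) ?_
    · rw [eq_neg_of_add_eq_zero_left h]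
      exact neg_mem (Submodule.smul_mem _ t (Submodule.mem_span_singleton_self y))
    · have hp : QuadraticMap.polar (⇑Q) x y = 0 := by rw [QuadraticMap.polar_comm]; exact hx.2
      have hQy := hc y hy hy0
      rw [WittQuad.val_smul_add, hp, ht]
      field_simp
      ring
  · obtain ⟨y', hy', hy'0⟩ := X₁.exists_mem_ne_zero_of_ne_bot (fun h => by rw [h, finrank_bot] at hX₁; omega)
    set X₂ := X₁ ⊓ LinearMap.ker (QuadraticMap.polarBilin Q y')
    obtain ⟨y'', hy'', hy''0⟩ := X₂.exists_mem_ne_zero_of_ne_bot (fun h => by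
      have := hker X₁ y'
      rw [show X₁ ⊓ LinearMap.ker (QuadraticMap.polarBilin Q y') = X₂ from rfl, h, finrank_bot] at this
      omega)
    obtain ⟨a, b, hab⟩ := binary_universal h2 (hc y hy hy0) (hc y' hy'.1 hy'0) (-Q y'')
    have hyy' : QuadraticMap.polar (⇑Q) y y' = 0 := hy'.2
    have hp : QuadraticMap.polar (⇑Q) y'' (a • y + b • y') = 0 := by
      rw [QuadraticMap.polar_comm, QuadraticMap.polar_add_left, QuadraticMap.polar_smul_left,
        QuadraticMap.polar_smul_left, show QuadraticMap.polar (⇑Q) y y'' = 0 from hy''.1.2,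
        show QuadraticMap.polar (⇑Q) y' y'' = 0 from hy''.2, smul_zero, smul_zero, add_zero]
    refine hc (y'' + (a • y + b • y')) (add_mem hy''.1.1 (add_mem (X.smul_mem a hy) (X.smul_mem b hy'.1)))
      (fun h => ?_) ?_
    · have h1 := congrArg (QuadraticMap.polar (⇑Q) y'') h
      rw [QuadraticMap.polar_add_right, hp, add_zero, QuadraticMap.polar_zero_right, polar_self_two] at h1
      exact mul_ne_zero h2 (hc y'' hy''.1.1 hy''0) h1
    · rw [QuadraticMap.map_add (f := Q), hp, val_lin Q hyy', hab]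
      ring

variable (hQ : (QuadraticMap.polarBilin Q).Nondegenerate)

include hQ

omit [Finite F] in
theorem perp_perp (S : Submodule F (ι → F)) : HypQuad.perp Q (HypQuad.perp Q S) = S := by
  refine (Submodule.eq_of_le_of_finrank_eq (fun x hx => ?_) ?_).symm
  · rw [HypQuad.mem_perp]
    intro w hw
    rw [QuadraticMap.polar_comm]
    exact (HypQuad.mem_perp Q).mp hw x hx
  · rw [HypQuad.finrank_perp Q hQ, HypQuad.finrank_perp Q hQ]
    have := Submodule.finrank_le S
    omega

theorem exists_pair_perp (S : Submodule F (ι → F)) (hS : 2 * Module.finrank F S + 3 ≤ Fintype.card ι) :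
    ∃ w ∈ HypQuad.perp Q S, ∃ r ∈ HypQuad.perp Q S,
      Q w = 0 ∧ Q r = 0 ∧ QuadraticMap.polar (⇑Q) w r = 1 := by
  have hV : Module.finrank F (ι → F) = Fintype.card ι := Module.finrank_fintype_fun_eq_card F
  obtain ⟨C, hC⟩ := S.exists_isCompl
  have h1 := HypQuad.finrank_perp Q hQ S
  have h2 := Submodule.finrank_add_eq_of_isCompl hC
  have h3 := Submodule.finrank_sup_add_finrank_inf_eq (HypQuad.perp Q S) C
  have h4 := Submodule.finrank_le (HypQuad.perp Q S ⊔ C)
  obtain ⟨w, hw, hw0, hQw⟩ := exists_singular Q (HypQuad.perp Q S ⊓ C) (by omega)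
  obtain ⟨y, hy, hwy⟩ : ∃ y ∈ HypQuad.perp Q S, QuadraticMap.polar (⇑Q) w y ≠ 0 := by
    by_contra hh
    push Not at hh
    have : w ∈ HypQuad.perp Q (HypQuad.perp Q S) := (HypQuad.mem_perp Q).mpr fun y hy => by
      rw [QuadraticMap.polar_comm]; exact hh y hy
    rw [perp_perp Q hQ] at this
    exact hw0 (Submodule.disjoint_def.mp hC.disjoint w this hw.2)
  set c := QuadraticMap.polar (⇑Q) w y with hc
  have hww : QuadraticMap.polar (⇑Q) w w = 0 := by rw [polar_self_two, hQw, mul_zero]
  refine ⟨w, hw.1, c⁻¹ • y + (-(c⁻¹ * c⁻¹ * Q y)) • w,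
    add_mem ((HypQuad.perp Q S).smul_mem _ hy) ((HypQuad.perp Q S).smul_mem _ hw.1), hQw, ?_, ?_⟩
  · rw [QuadraticMap.map_add (f := Q), QuadraticMap.map_smul, QuadraticMap.map_smul, hQw,
      QuadraticMap.polar_smul_left, QuadraticMap.polar_smul_right, QuadraticMap.polar_comm (⇑Q) y w, ← hc,
      smul_eq_mul, smul_eq_mul, smul_eq_mul, smul_eq_mul]
    field_simp
    ring
  · rw [QuadraticMap.polar_add_right, QuadraticMap.polar_smul_right, QuadraticMap.polar_smul_right, hww, ← hc,
      smul_zero, add_zero, smul_eq_mul, inv_mul_cancel₀ hwy]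

theorem exists_norm_in_perp (S : Submodule F (ι → F)) (hS : 2 * Module.finrank F S + 3 ≤ Fintype.card ι) (d : F) :
    ∃ x ∈ HypQuad.perp Q S, Q x = d := by
  obtain ⟨w, hw, r, hr, hQw, hQr, hwr⟩ := exists_pair_perp Q hQ S hS
  refine ⟨w + d • r, add_mem hw ((HypQuad.perp Q S).smul_mem d hr), ?_⟩
  rw [WittQuad.val_smul_add, hQw, hQr, hwr]
  ring

theorem mem_of_orth_singular (S : Submodule F (ι → F)) (hS : 2 * Module.finrank F S + 3 ≤ Fintype.card ι)
    {z : ι → F} (hz : ∀ r ∈ HypQuad.perp Q S, Q r = 0 → QuadraticMap.polar (⇑Q) z r = 0) : z ∈ S := by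
  obtain ⟨w, hw, r, hr, hQw, hQr, hwr⟩ := exists_pair_perp Q hQ S hS
  rw [← perp_perp Q hQ S, HypQuad.mem_perp]
  intro x hx
  set x' := x - QuadraticMap.polar (⇑Q) w x • r with hx'
  have hx'X : x' ∈ HypQuad.perp Q S := sub_mem hx ((HypQuad.perp Q S).smul_mem _ hr)
  have hwx' : QuadraticMap.polar (⇑Q) w x' = 0 := by
    rw [hx', QuadraticMap.polar_sub_right, QuadraticMap.polar_smul_right, hwr, smul_eq_mul, mul_one, sub_self]
  set k := -Q x' - QuadraticMap.polar (⇑Q) r x' with hk
  have hsing : Q (r + x' + k • w) = 0 := by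
    rw [WittQuad.val_smul_add, QuadraticMap.map_add (f := Q), hQw, hQr, QuadraticMap.polar_add_left,
      QuadraticMap.polar_comm (⇑Q) r w, hwr, QuadraticMap.polar_comm (⇑Q) x' w, hwx', hk]
    ring
  have h1 := hz _ (add_mem (add_mem hr hx'X) ((HypQuad.perp Q S).smul_mem k hw)) hsing
  rw [QuadraticMap.polar_add_right, QuadraticMap.polar_add_right, QuadraticMap.polar_smul_right, hz w hw hQw,
    hz r hr hQr, smul_zero, add_zero, zero_add, hx', QuadraticMap.polar_sub_right, QuadraticMap.polar_smul_right,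
    hz r hr hQr, smul_zero, sub_zero] at h1
  rw [QuadraticMap.polar_comm]
  exact h1

/-- Every isometry agrees on a small subspace with an element of `Ω`. -/
theorem exists_omega_agree (h : Fintype.card ι ≠ 4) (S : Submodule F (ι → F))
    (hS : 2 * Module.finrank F S + 3 ≤ Fintype.card ι) (g : Cfsg.isometryGroup F (⇑Q)) :
    ∃ g' ∈ Cfsg.Omega F (⇑Q), ∀ x ∈ S, mat Q g' *ᵥ x = mat Q g *ᵥ x := by
  haveI := Fintype.ofFinite F
  let Fix : Subgroup (Cfsg.isometryGroup F (⇑Q)) :=
    { carrier := {f | ∀ x ∈ S, mat Q f *ᵥ x = x}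
      mul_mem' := fun {a b} ha hb x hx => by rw [mat, mulVec_mul]; exact (congrArg _ (hb x hx)).trans (ha x hx)
      one_mem' := fun x _ => Matrix.one_mulVec x
      inv_mem' := fun {a} ha x hx => by
        conv_lhs => rw [← ha x hx]
        exact mulVec_inv_cancel Q a x }
  have htop : (Fix.map Abelianization.of).comap Abelianization.of = ⊤ := by
    refine eq_top_of_refl Q _ (fun v hv => ?_) hQ (Or.inr h)
    obtain ⟨x, hx, hQx⟩ := exists_norm_in_perp Q hQ S hS (Q v)
    have hx0 : Q x ≠ 0 := hQx ▸ hv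
    refine ⟨refl Q x hx0, fun y hy => ?_, ?_⟩
    · exact fix Q x y (by rw [QuadraticMap.polar_comm]; exact (HypQuad.mem_perp Q).mp hx y hy)
    · exact refl_same_class Q hQ Abelianization.of hx0 hv ⟨Q v, by rw [hQx]⟩
  have hg : g ∈ (Fix.map Abelianization.of).comap Abelianization.of := htop ▸ Subgroup.mem_top g
  obtain ⟨f, hf, hfg⟩ := hg
  refine ⟨g * f⁻¹, (QuotientGroup.eq_one_iff _).mp ?_, fun x hx => ?_⟩
  · show Abelianization.of (g * f⁻¹) = 1
    rw [map_mul, map_inv, hfg, mul_inv_cancel]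
  · rw [mat, mulVec_mul]
    exact congrArg _ ((Fix.inv_mem hf) x hx)

/-- A Siegel transformation with singular second vector is a commutator with a stabiliser element. -/
theorem siegel_commutator {u w : ι → F} (hn : 5 ≤ Fintype.card ι) (hu : Q u = 0) (hu0 : u ≠ 0) (hw : Q w = 0)
    (huw : QuadraticMap.polar (⇑Q) u w = 0) :
    ∃ (z : ι → F) (huz : QuadraticMap.polar (⇑Q) u z = 0) (h : Cfsg.isometryGroup F (⇑Q)),
      mat Q h *ᵥ u = u ∧ ∀ h', (∀ x ∈ Submodule.span F {u, z}, mat Q h' *ᵥ x = mat Q h *ᵥ x) →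
        siegelG Q hu huw = ⁅h', siegelG Q hu huz⁆ := by
  classical
  have hV : Module.finrank F (ι → F) = Fintype.card ι := Module.finrank_fintype_fun_eq_card F
  set S := Submodule.span F ({u, w} : Set (ι → F))
  have hS : Module.finrank F S ≤ 2 := by
    refine (finrank_span_le_card _).trans ?_
    rw [Set.toFinset_insert, Set.toFinset_singleton]
    exact Finset.card_le_two
  obtain ⟨z, hz, hzS⟩ : ∃ z ∈ HypQuad.perp Q S, z ∉ S := by
    by_contra hh
    push Not at hh
    have := Submodule.finrank_mono (show HypQuad.perp Q S ≤ S from hh)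
    rw [HypQuad.finrank_perp Q hQ, hV] at this
    omega
  have huz := (HypQuad.mem_perp Q).mp hz u (Submodule.subset_span (by simp))
  have hwz := (HypQuad.mem_perp Q).mp hz w (Submodule.subset_span (by simp))
  have hle : Submodule.span F {u} ≤ S := Submodule.span_mono (by simp)
  obtain ⟨e, he, hfix, hez⟩ := WittQuad.exists_move_fix Q hQ (Submodule.span F {u}) (a := z) (b := z + w)
    (fun h => hzS (hle h)) (fun h => hzS (by
      have := sub_mem (hle h) (Submodule.subset_span (show w ∈ ({u, w} : Set (ι → F)) by simp))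
      simpa using this))
    (by rw [QuadraticMap.map_add (f := Q), hw, QuadraticMap.polar_comm (⇑Q) z w, hwz]; simp)
    (fun x hx => by
      obtain ⟨c, rfl⟩ := Submodule.mem_span_singleton.mp hx
      rw [QuadraticMap.polar_add_right, QuadraticMap.polar_smul_left, QuadraticMap.polar_smul_left, huw]
      simp)
  obtain ⟨h, hh⟩ := exists_of_equiv Q e he
  have hhu : mat Q h *ᵥ u = u := by rw [hh]; exact hfix u (Submodule.mem_span_singleton_self u)
  refine ⟨z, huz, h, hhu, fun h' hh' => ?_⟩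
  have h1 : mat Q h' *ᵥ u = u := (hh' u (Submodule.subset_span (by simp))).trans hhu
  have h2 : mat Q h' *ᵥ z = z + w := (hh' z (Submodule.subset_span (by simp))).trans ((hh z).trans hez)
  rw [commutatorElement_def, siegelG_conj]
  refine (eq_mul_inv_of_mul_eq ?_)
  rw [siegelG_mul]
  refine ext_mulVec Q fun x => ?_
  rw [mat_siegelG, mat_siegelG, h1, h2, add_comm]

theorem siegelG_mem_of_singular (R : Subgroup (Cfsg.isometryGroup F (⇑Q))) {u : ι → F}
    (hn : 5 ≤ Fintype.card ι) (hu : Q u = 0)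
    (hR : ∀ w (huw : QuadraticMap.polar (⇑Q) u w = 0), Q w = 0 → siegelG Q hu huw ∈ R)
    {z : ι → F} (huz : QuadraticMap.polar (⇑Q) u z = 0) : siegelG Q hu huz ∈ R := by
  by_cases hz : Q z = 0
  · exact hR z huz hz
  obtain ⟨r, hr, hQr, hzr⟩ : ∃ r ∈ HypQuad.perp Q (Submodule.span F {u}), Q r = 0 ∧ QuadraticMap.polar (⇑Q) z r ≠ 0 := by
    by_contra hh
    push Not at hh
    have hle : Module.finrank F (Submodule.span F ({u} : Set (ι → F))) ≤ 1 := by
      refine (finrank_span_le_card _).trans ?_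
      simp
    obtain ⟨c, hc⟩ := Submodule.mem_span_singleton.mp (mem_of_orth_singular Q hQ _ (by omega) hh)
    exact hz (by rw [← hc, QuadraticMap.map_smul, hu, smul_zero])
  have hur := (HypQuad.mem_perp Q).mp hr u (Submodule.mem_span_singleton_self u)
  set w := (Q z / QuadraticMap.polar (⇑Q) z r) • r with hw
  have hQw : Q w = 0 := by rw [hw, QuadraticMap.map_smul, hQr, smul_zero]
  have huw : QuadraticMap.polar (⇑Q) u w = 0 := by rw [hw, QuadraticMap.polar_smul_right, hur, smul_zero]
  have hzw : QuadraticMap.polar (⇑Q) z w = Q z := by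
    rw [hw, QuadraticMap.polar_smul_right, smul_eq_mul, div_mul_cancel₀ _ hzr]
  have huzw : QuadraticMap.polar (⇑Q) u (z - w) = 0 := by rw [QuadraticMap.polar_sub_right, huz, huw, sub_zero]
  have hQzw : Q (z - w) = 0 := by
    rw [sub_eq_add_neg, QuadraticMap.map_add (f := Q), QuadraticMap.map_neg, QuadraticMap.polar_neg_right, hQw, hzw]
    simp
  have := mul_mem (hR w huw hQw) (hR (z - w) huzw hQzw)
  rw [siegelG_mul] at this
  convert this using 2
  abel

theorem siegelG_mem_omega (hn : 5 ≤ Fintype.card ι) {u z : ι → F} (hu : Q u = 0)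
    (huz : QuadraticMap.polar (⇑Q) u z = 0) : siegelG Q hu huz ∈ Cfsg.Omega F (⇑Q) := by
  refine siegelG_mem_of_singular Q hQ _ hn hu (fun w huw hw => ?_) huz
  by_cases hu0 : u = 0
  · have : siegelG Q hu huw = 1 := ext_mulVec Q fun x => by
      rw [mat_siegelG, show mat Q 1 = 1 from rfl, Matrix.one_mulVec]
      simp [siegelMap, hu0]
    rw [this]; exact one_mem _
  obtain ⟨z', huz', h, -, e⟩ := siegel_commutator Q hQ hn hu hu0 hw huw
  rw [e h fun x _ => rfl]
  exact Subgroup.commutator_mem_commutator (Subgroup.mem_top _) (Subgroup.mem_top _)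

/-- The set of all Siegel transformations. -/
def siegelAll : Set (Cfsg.isometryGroup F (⇑Q)) :=
  {g | ∃ (u z : ι → F) (hu : Q u = 0) (huz : QuadraticMap.polar (⇑Q) u z = 0), g = siegelG Q hu huz}

theorem omega_eq_closure_all (hn : 5 ≤ Fintype.card ι) :
    Cfsg.Omega F (⇑Q) = Subgroup.closure (siegelAll Q) := by
  haveI := Fintype.ofFinite F
  set K := Subgroup.closure (siegelAll Q)
  haveI hK : K.Normal := by
    refine ⟨fun a ha g => ?_⟩
    induction ha using Subgroup.closure_induction with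
    | mem x hx =>
      obtain ⟨u, z, hu, huz, rfl⟩ := hx
      rw [siegelG_conj]
      exact Subgroup.subset_closure ⟨_, _, _, _, rfl⟩
    | one => simp
    | mul a b _ _ iha ihb =>
      rw [show g * (a * b) * g⁻¹ = (g * a * g⁻¹) * (g * b * g⁻¹) by group]
      exact mul_mem iha ihb
    | inv a _ iha =>
      rw [show g * a⁻¹ * g⁻¹ = (g * a * g⁻¹)⁻¹ by group]
      exact inv_mem iha
  refine le_antisymm ?_ ((Subgroup.closure_le _).mpr ?_)
  swap
  · rintro g ⟨u, z, hu, huz, rfl⟩
    exact siegelG_mem_omega Q hQ hn hu huz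
  set π := QuotientGroup.mk' K
  have pinv : ∀ v (hv : Q v ≠ 0), π (refl Q v hv) * π (refl Q v hv) = 1 := fun v hv => by
    rw [← map_mul, refl_mul_self, map_one]
  have step : ∀ v (hv : Q v ≠ 0) r, Q r = 0 → QuadraticMap.polar (⇑Q) v r = 0 → ∀ hs : Q (v + r) ≠ 0,
      π (refl Q (v + r) hs) = π (refl Q v hv) := by
    intro v hv r hr hvr hs
    have hrv : QuadraticMap.polar (⇑Q) r v = 0 := by rw [QuadraticMap.polar_comm]; exact hvr
    have hz : QuadraticMap.polar (⇑Q) r ((1 * (Q v)⁻¹) • v) = 0 := by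
      rw [QuadraticMap.polar_smul_right, hrv, smul_zero]
    have e : refl Q v hv * refl Q (v + r) hs = siegelG Q hr hz := by
      refine ext_mulVec Q fun x => ?_
      rw [mat_siegelG, mat, mulVec_mul, coe_refl, coe_refl, ← pair_eq Q hr hrv hv 1 x, one_smul]
    have h1 : π (refl Q v hv) * π (refl Q (v + r) hs) = 1 := by
      rw [← map_mul, e]
      exact (QuotientGroup.eq_one_iff _).mpr (Subgroup.subset_closure ⟨_, _, _, _, rfl⟩)
    rw [eq_inv_of_mul_eq_one_right h1, inv_eq_of_mul_eq_one_left (pinv v hv)]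
  have conn : ∀ v v' (hv : Q v ≠ 0) (hv' : Q v' ≠ 0), Q v = Q v' → π (refl Q v hv) = π (refl Q v' hv') := by
    intro v v' hv hv' heq
    by_cases hspan : v' ∈ Submodule.span F {v}
    · obtain ⟨c, hc⟩ := Submodule.mem_span_singleton.mp hspan
      exact (congrArg π (refl_congr Q hv hv' hc.symm)).symm
    set e := 2 * Q v - QuadraticMap.polar (⇑Q) v v' with he
    have two : ∀ r, Q r = 0 → QuadraticMap.polar (⇑Q) v r = 0 → QuadraticMap.polar (⇑Q) v' r = e →
        π (refl Q v hv) = π (refl Q v' hv') := by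
      intro r hr hvr hv'r
      have hw : Q (v + r) = Q v := by rw [QuadraticMap.map_add (f := Q), hr, hvr]; simp
      have hs : Q (v + r) ≠ 0 := hw ▸ hv
      have hpw : QuadraticMap.polar (⇑Q) v' (v + r) = 2 * Q v := by
        rw [QuadraticMap.polar_add_right, hv'r, he, QuadraticMap.polar_comm (⇑Q) v' v]; ring
      have hs' : Q (v' + (v + r - v')) ≠ 0 := by rwa [add_sub_cancel]
      rw [← step v hv r hr hvr hs, ← step v' hv' (v + r - v') (by
        rw [sub_eq_add_neg, QuadraticMap.map_add (f := Q), QuadraticMap.map_neg, QuadraticMap.polar_neg_right,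
          QuadraticMap.polar_comm (⇑Q) (v + r) v', hpw, hw, ← heq]; ring)
        (by rw [QuadraticMap.polar_sub_right, hpw, polar_self_two, ← heq, sub_self]) hs']
      exact congrArg π (refl_congr Q hs' hs (t := 1) (by rw [one_smul, add_sub_cancel]))
    obtain ⟨r, hr, hQr, hp⟩ : ∃ r ∈ HypQuad.perp Q (Submodule.span F {v}), Q r = 0 ∧
        QuadraticMap.polar (⇑Q) v' r ≠ 0 := by
      by_contra hh
      push Not at hh
      have hle : Module.finrank F (Submodule.span F ({v} : Set (ι → F))) ≤ 1 := by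
        refine (finrank_span_le_card _).trans ?_
        simp
      exact hspan (mem_of_orth_singular Q hQ _ (by omega) hh)
    refine two ((e / QuadraticMap.polar (⇑Q) v' r) • r) (by rw [QuadraticMap.map_smul, hQr, smul_zero]) ?_ ?_
    · rw [QuadraticMap.polar_smul_right, (HypQuad.mem_perp Q).mp hr v (Submodule.mem_span_singleton_self v), smul_zero]
    · rw [QuadraticMap.polar_smul_right, smul_eq_mul, div_mul_cancel₀ _ hp]
  have h4 : Fintype.card F ≠ 2 ∨ Fintype.card ι ≠ 4 := Or.inr (by omega)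
  have comm : ∀ u v (hu : Q u ≠ 0) (hv : Q v ≠ 0), Commute (π (refl Q u hu)) (π (refl Q v hv)) := by
    intro u v hu hv
    have h3 := congrArg π (refl_conj Q (refl Q u hu) v hv)
    rw [map_mul, map_mul, map_inv, conn _ v _ hv ((mem_iff Q).mp (refl Q u hu).2 v)] at h3
    exact mul_inv_eq_iff_eq_mul.mp h3
  have hall : ∀ h g : Cfsg.isometryGroup F (⇑Q), Commute (π g) (π h) := by
    have h1 : ∀ v (hv : Q v ≠ 0) g, Commute (π g) (π (refl Q v hv)) := by
      intro v hv g
      have := eq_top_of_refl Q ((Subgroup.centralizer {π (refl Q v hv)}).comap π)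
        (fun u hu => Subgroup.mem_centralizer_singleton_iff.mpr (comm u v hu hv).eq) hQ h4
      exact Subgroup.mem_centralizer_singleton_iff.mp (show π g ∈ Subgroup.centralizer {π (refl Q v hv)} from
        (this ▸ Subgroup.mem_top g : g ∈ (Subgroup.centralizer {π (refl Q v hv)}).comap π))
    intro h g
    have := eq_top_of_refl Q ((Subgroup.centralizer {π g}).comap π)
      (fun u hu => Subgroup.mem_centralizer_singleton_iff.mpr (h1 u hu g).eq.symm) hQ h4
    exact (Subgroup.mem_centralizer_singleton_iff.mp (show π h ∈ Subgroup.centralizer {π g} from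
      (this ▸ Subgroup.mem_top h : h ∈ (Subgroup.centralizer {π g}).comap π))).symm
  show commutator (Cfsg.isometryGroup F (⇑Q)) ≤ K
  rw [commutator_def, Subgroup.commutator_le]
  intro a _ b _
  refine (QuotientGroup.eq_one_iff _).mp ?_
  show π ⁅a, b⁆ = 1
  rw [map_commutatorElement, commutatorElement_eq_one_iff_mul_comm]
  exact (hall b a).eq

end Cfsg.Lib.Classical.Refl
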