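import Mathlib
import Cfsg.Agent.Classical.Misc.Witt
import Cfsg.Agent.Classical.Orth.OmegaGen

/-! Numbers of zeros and orders of isometry groups of quadratic forms over finite fields. -/

set_option autoImplicit false
set_option linter.style.haveILetI false

namespace Cfsg.Lib.Classical.OrthCard

universe u v w

variable {F : Type u} [Field F] {V : Type v} [AddCommGroup V] [Module F V]
  {W : Type w} [AddCommGroup W] [Module F W]

/-- The linear isometries. -/
def Aut (Q : QuadraticForm F V) : Type v := {e : V ≃ₗ[F] V // ∀ x, Q (e x) = Q x}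

theorem card_congr (Q : QuadraticForm F V) (P : QuadraticForm F W) (φ : V ≃ₗ[F] W) (h : ∀ x, P (φ x) = Q x) :
    Nat.card (Aut Q) = Nat.card (Aut P) :=
  Nat.card_congr
    { toFun := fun e => ⟨φ.symm ≪≫ₗ e.1 ≪≫ₗ φ, fun y => by
        rw [LinearEquiv.trans_apply, LinearEquiv.trans_apply, h, e.2, ← h, LinearEquiv.apply_symm_apply]⟩
      invFun := fun e => ⟨φ ≪≫ₗ e.1 ≪≫ₗ φ.symm, fun y => by
        rw [LinearEquiv.trans_apply, LinearEquiv.trans_apply, ← h, LinearEquiv.apply_symm_apply, e.2, h]⟩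
      left_inv := fun e => Subtype.ext (LinearEquiv.ext fun x => by simp)
      right_inv := fun e => Subtype.ext (LinearEquiv.ext fun x => by simp) }

theorem zeros_congr (Q : QuadraticForm F V) (P : QuadraticForm F W) (φ : V ≃ₗ[F] W) (h : ∀ x, P (φ x) = Q x) :
    Nat.card {x // Q x = 0} = Nat.card {y // P y = 0} :=
  Nat.card_congr (φ.toEquiv.subtypeEquiv fun x => by
    show Q x = 0 ↔ P (φ x) = 0
    rw [h])

theorem card_isometryGroup {ι : Type} [Fintype ι] [DecidableEq ι] (Q : QuadraticForm F (ι → F)) :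
    Nat.card (Cfsg.isometryGroup F (⇑Q)) = Nat.card (Aut Q) := by
  let f : Cfsg.isometryGroup F (⇑Q) → Aut Q := fun g =>
    ⟨LinearEquiv.ofLinearMap (Matrix.toLin' (Refl.mat Q g)) (Matrix.toLin' (Refl.mat Q g⁻¹))
      (LinearMap.ext fun x => by
        rw [LinearMap.comp_apply, Matrix.toLin'_apply, Matrix.toLin'_apply, ← Refl.mulVec_mul, mul_inv_cancel]
        exact Matrix.one_mulVec x)
      (LinearMap.ext fun x => by
        rw [LinearMap.comp_apply, Matrix.toLin'_apply, Matrix.toLin'_apply]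
        exact Refl.mulVec_inv_cancel Q g x),
      fun x => (Refl.mem_iff Q).mp g.2 x⟩
  refine Nat.card_congr (Equiv.ofBijective f ⟨fun g h e => Refl.ext_mulVec Q fun x => ?_, fun e => ?_⟩)
  · exact congrArg (fun z : Aut Q => z.1 x) e
  · obtain ⟨g, hg⟩ := Refl.exists_of_equiv Q e.1 e.2
    exact ⟨g, Subtype.ext (LinearEquiv.ext hg)⟩

theorem card_orbit [FiniteDimensional F V] (Q : QuadraticForm F V) (hQ : (QuadraticMap.polarBilin Q).Nondegenerate)
    (e : V) (he : e ≠ 0) :
    Nat.card (Aut Q) = Nat.card {x // x ≠ 0 ∧ Q x = Q e} * Nat.card {g : Aut Q // g.1 e = e} := by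
  have hk : ∀ x : {x // x ≠ 0 ∧ Q x = Q e}, ∃ g : Aut Q, g.1 e = x.1 := by
    intro x
    obtain ⟨g, hg, -, hgx⟩ := WittQuad.exists_move_fix Q hQ ⊥ (a := e) (b := x.1) (by simpa using he)
      (by simpa using x.2.1) x.2.2.symm (fun w hw => by rw [(Submodule.mem_bot F).mp hw]; simp)
    exact ⟨⟨g, hg⟩, hgx⟩
  choose k hk using hk
  let pt : Aut Q → {x // x ≠ 0 ∧ Q x = Q e} := fun g =>
    ⟨g.1 e, fun h => he (g.1.map_eq_zero_iff.mp h), g.2 e⟩
  rw [← Nat.card_prod]
  refine Nat.card_congr
    { toFun := fun g => (pt g, ⟨⟨g.1 ≪≫ₗ (k (pt g)).1.symm, fun y => ?_⟩, ?_⟩)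
      invFun := fun p => ⟨p.2.1.1 ≪≫ₗ (k p.1).1, fun y => by
        rw [LinearEquiv.trans_apply, (k p.1).2, p.2.1.2]⟩
      left_inv := fun g => Subtype.ext (LinearEquiv.ext fun y => by simp)
      right_inv := ?_ }
  · rw [LinearEquiv.trans_apply, ← (k (pt g)).2, LinearEquiv.apply_symm_apply, g.2]
  · show (k (pt g)).1.symm (g.1 e) = e
    rw [LinearEquiv.symm_apply_eq, hk]
  · rintro ⟨x, ⟨h, hh⟩⟩
    have hx : ∀ hp, pt ⟨h.1 ≪≫ₗ (k x).1, hp⟩ = x := fun hp => Subtype.ext (by
      show (k x).1 (h.1 e) = x.1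
      rw [hh, hk])
    refine Prod.ext (hx _) (Subtype.ext (Subtype.ext (LinearEquiv.ext fun y => ?_)))
    simp [hx]

/-- A form extended by a hyperbolic plane. -/
def hyp (Q : QuadraticForm F W) : QuadraticForm F ((F × F) × W) :=
  QuadraticMap.linMulLin ((LinearMap.fst F F F).comp (LinearMap.fst F (F × F) W))
    ((LinearMap.snd F F F).comp (LinearMap.fst F (F × F) W)) + Q.comp (LinearMap.snd F (F × F) W)

theorem hyp_apply (Q : QuadraticForm F W) (x : (F × F) × W) : hyp Q x = x.1.1 * x.1.2 + Q x.2 := rfl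

theorem polar_hyp (Q : QuadraticForm F W) (x y : (F × F) × W) :
    QuadraticMap.polar (⇑(hyp Q)) x y = x.1.1 * y.1.2 + y.1.1 * x.1.2 + QuadraticMap.polar (⇑Q) x.2 y.2 := by
  simp only [QuadraticMap.polar, hyp_apply, Prod.fst_add, Prod.snd_add]
  ring

theorem hyp_nondegenerate (Q : QuadraticForm F W) (hQ : (QuadraticMap.polarBilin Q).Nondegenerate) :
    (QuadraticMap.polarBilin (hyp Q)).Nondegenerate := by
  have h1 : ∀ x, (∀ y, QuadraticMap.polar (⇑(hyp Q)) x y = 0) → x = 0 := by
    intro x hx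
    have e1 := hx ((0, 1), 0)
    have e2 := hx ((1, 0), 0)
    simp [polar_hyp] at e1 e2
    refine Prod.ext (Prod.ext e1 e2) (hQ.1 _ fun w => ?_)
    have e3 := hx ((0, 0), w)
    simp [polar_hyp] at e3
    exact e3
  exact ⟨h1, fun x hx => h1 x fun y => by rw [QuadraticMap.polar_comm]; exact hx y⟩

variable [Finite F]

theorem zeros_hyp (Q : QuadraticForm F W) [FiniteDimensional F W] :
    Nat.card {x // hyp Q x = 0} =
      Nat.card F * Nat.card {y // Q y = 0} + (Nat.card F - 1) * Nat.card W := by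
  classical
  haveI := Fintype.ofFinite F
  haveI : Finite W := Module.finite_of_finite F
  haveI := Fintype.ofFinite W
  have e : {x // hyp Q x = 0} ≃ (F × {y // Q y = 0}) ⊕ ({a : F // a ≠ 0} × W) :=
    { toFun := fun x => if h : x.1.1.1 = 0 then
          Sum.inl (x.1.1.2, ⟨x.1.2, by have := x.2; rwa [hyp_apply, h, zero_mul, zero_add] at this⟩)
        else Sum.inr (⟨x.1.1.1, h⟩, x.1.2)
      invFun := Sum.elim (fun p => ⟨((0, p.1), p.2.1), by rw [hyp_apply, zero_mul, zero_add, p.2.2]⟩)
        (fun p => ⟨((p.1.1, -Q p.2 / p.1.1), p.2), by rw [hyp_apply, mul_div_cancel₀ _ p.1.2]; ring⟩)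
      left_inv := fun x => by
        obtain ⟨⟨⟨a, b⟩, y⟩, h⟩ := x
        rw [hyp_apply] at h
        by_cases ha : a = 0
        · simp [ha]
        · simp only [ha, dite_false, Sum.elim_inr]
          refine Subtype.ext (Prod.ext (Prod.ext rfl ?_) rfl)
          rw [div_eq_iff ha]
          linear_combination -h
      right_inv := fun z => by
        rcases z with ⟨b, y⟩ | ⟨a, y⟩
        · simp
        · simp [a.2] }
  rw [Nat.card_congr e, Nat.card_sum, Nat.card_prod, Nat.card_prod, Nat.card_eq_fintype_card (α := {a : F // a ≠ 0}),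
    Fintype.card_subtype_compl, Fintype.card_subtype_eq, ← Nat.card_eq_fintype_card]

theorem card_hyp (Q : QuadraticForm F W) [FiniteDimensional F W] (hQ : (QuadraticMap.polarBilin Q).Nondegenerate) :
    Nat.card (Aut (hyp Q)) = (Nat.card {x // hyp Q x = 0} - 1) * (Nat.card W * Nat.card (Aut Q)) := by
  classical
  haveI := Fintype.ofFinite F
  haveI : Finite W := Module.finite_of_finite F
  haveI := Fintype.ofFinite ((F × F) × W)
  set e : (F × F) × W := ((1, 0), 0) with he'
  set f : (F × F) × W := ((0, 1), 0) with hf'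
  have he : e ≠ 0 := fun h => one_ne_zero (congrArg (fun z : (F × F) × W => z.1.1) h)
  have hQe : hyp Q e = 0 := by simp [e, hyp_apply]
  rw [card_orbit (hyp Q) (hyp_nondegenerate Q hQ) e he]
  congr 1
  · rw [hQe, Nat.card_eq_fintype_card, Nat.card_eq_fintype_card, Fintype.card_subtype, Fintype.card_subtype,
      ← Finset.card_erase_of_mem (show (0 : (F × F) × W) ∈ Finset.univ.filter (fun x => hyp Q x = 0) by simp)]
    congr 1
    ext x
    simp [and_comm]
  · rw [← Nat.card_prod]
    refine Nat.card_congr ?_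
    let z : {g : Aut (hyp Q) // g.1 e = e} → W := fun g => (g.1.1 f).2
    have pol : ∀ (g : Aut (hyp Q)) x y,
        QuadraticMap.polar (⇑(hyp Q)) (g.1 x) (g.1 y) = QuadraticMap.polar (⇑(hyp Q)) x y := fun g x y => by
      simp only [QuadraticMap.polar, ← map_add, g.2]
    have hf : ∀ g : {g : Aut (hyp Q) // g.1 e = e}, g.1.1 f = ((-Q (z g), 1), z g) := by
      intro g
      have h1 := pol g.1 e f
      rw [g.2] at h1
      simp [e, f, polar_hyp] at h1
      have h2 := g.1.2 f
      simp [hyp_apply, f] at h2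
      rw [h1, mul_one] at h2
      exact Prod.ext (Prod.ext (eq_neg_of_add_eq_zero_left h2) h1) rfl
    have hw : ∀ (g : {g : Aut (hyp Q) // g.1 e = e}) (w : W),
        g.1.1 ((0, 0), w) = ((-QuadraticMap.polar (⇑Q) (z g) (g.1.1 ((0, 0), w)).2, 0), (g.1.1 ((0, 0), w)).2) := by
      intro g w
      have h1 := pol g.1 e ((0, 0), w)
      rw [g.2] at h1
      simp [e, polar_hyp] at h1
      have h2 := pol g.1 f ((0, 0), w)
      rw [hf g] at h2
      simp [polar_hyp, f, h1] at h2
      exact Prod.ext (Prod.ext (eq_neg_of_add_eq_zero_left h2) h1) rfl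
    let hmap : {g : Aut (hyp Q) // g.1 e = e} → (W →ₗ[F] W) := fun g =>
      (LinearMap.snd F (F × F) W).comp (g.1.1.toLinearMap.comp (LinearMap.inr F (F × F) W))
    have hmap_apply : ∀ g w, hmap g w = (g.1.1 ((0, 0), w)).2 := fun g w => rfl
    have hinj : ∀ g, Function.Injective (hmap g) := by
      intro g
      refine (injective_iff_map_eq_zero _).mpr fun w hw0 => ?_
      rw [hmap_apply] at hw0
      have h1 := hw g w
      rw [hw0, QuadraticMap.polar_zero_right, neg_zero] at h1
      exact (congrArg Prod.snd (g.1.1.map_eq_zero_iff.mp h1) : _)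
    have hiso : ∀ g w, Q (hmap g w) = Q w := by
      intro g w
      have h1 := g.1.2 ((0, 0), w)
      rw [hw g w] at h1
      rw [hmap_apply]
      simpa [hyp_apply] using h1
    let build : W → Aut Q → ((F × F) × W) ≃ₗ[F] ((F × F) × W) := fun z h =>
      { toFun := fun x => ((x.1.1 - x.1.2 * Q z - QuadraticMap.polar (⇑Q) z (h.1 x.2), x.1.2), h.1 x.2 + x.1.2 • z)
        invFun := fun y => ((y.1.1 + y.1.2 * Q z + QuadraticMap.polar (⇑Q) z (y.2 - y.1.2 • z), y.1.2),
          h.1.symm (y.2 - y.1.2 • z))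
        map_add' := fun x y => by
          refine Prod.ext (Prod.ext ?_ rfl) ?_
          · simp only [Prod.fst_add, Prod.snd_add, map_add, QuadraticMap.polar_add_right]; ring
          · simp only [Prod.fst_add, Prod.snd_add, map_add, add_smul]; abel
        map_smul' := fun c x => by
          refine Prod.ext (Prod.ext ?_ rfl) ?_
          · simp only [Prod.smul_fst, Prod.smul_snd, map_smul, QuadraticMap.polar_smul_right, smul_eq_mul,
              RingHom.id_apply]
            ring
          · simp only [Prod.smul_fst, Prod.smul_snd, map_smul, RingHom.id_apply, smul_add, smul_eq_mul, smul_smul]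
        left_inv := fun x => Prod.ext (Prod.ext (by simp; ring) rfl) (by simp)
        right_inv := fun y => Prod.ext (Prod.ext (by simp; ring) rfl) (by simp) }
    have build_iso : ∀ z h x, hyp Q (build z h x) = hyp Q x := fun z h x => by
      show hyp Q ((x.1.1 - x.1.2 * Q z - QuadraticMap.polar (⇑Q) z (h.1 x.2), x.1.2), h.1 x.2 + x.1.2 • z) = _
      rw [hyp_apply, hyp_apply, WittQuad.val_smul_add, h.2, QuadraticMap.polar_comm (⇑Q) (h.1 x.2) z]
      ring
    refine
      { toFun := fun g => (z g, ⟨LinearEquiv.ofInjectiveEndo (hmap g) (hinj g), hiso g⟩)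
        invFun := fun p => ⟨⟨build p.1 p.2, build_iso p.1 p.2⟩, ?_⟩
        left_inv := fun g => ?_
        right_inv := fun p => ?_ }
    · show ((_, _), _) = e
      simp [e]
    · refine Subtype.ext (Subtype.ext (LinearEquiv.ext fun x => ?_))
      show ((x.1.1 - x.1.2 * Q (z g) - QuadraticMap.polar (⇑Q) (z g) (hmap g x.2), x.1.2), hmap g x.2 + x.1.2 • z g) =
        g.1.1 x
      have hx : x = x.1.1 • e + x.1.2 • f + ((0, 0), x.2) := by
        refine Prod.ext (Prod.ext ?_ ?_) ?_ <;> simp [e, f]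
      conv_rhs => rw [hx, map_add, map_add, map_smul, map_smul, g.2, hf g, hw g x.2]
      rw [hmap_apply]
      refine Prod.ext (Prod.ext ?_ ?_) ?_ <;> simp [e] <;> first | ring1 | abel
    · obtain ⟨z', h⟩ := p
      have hz : (build z' h f).2 = z' := by
        show h.1 f.2 + f.1.2 • z' = z'
        simp [f]
      refine Prod.ext hz (Subtype.ext (LinearEquiv.ext fun w => ?_))
      show (build z' h ((0, 0), w)).2 = h.1 w
      show h.1 w + (0 : F) • z' = h.1 w
      simp

end Cfsg.Lib.Classical.OrthCard
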