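import Mathlib
import Cfsg.Agent.Classical.Misc.NegOne
import Cfsg.Agent.Classical.Orth.OmegaGen

/-! The standard quadratic forms as bundled forms. -/

set_option autoImplicit false
set_option linter.style.haveILetI false

namespace Cfsg.Lib.Classical.Refl

open Matrix

universe u

variable {F : Type u} [Field F]

/-- The odd-dimensional form. -/
def oddForm (m : ℕ) (F : Type u) [Field F] : QuadraticForm F (Unit ⊕ (Fin m ⊕ Fin m) → F) :=
  QuadraticMap.linMulLin (LinearMap.proj (Sum.inl ())) (LinearMap.proj (Sum.inl ())) +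
    ∑ i : Fin m, QuadraticMap.linMulLin (LinearMap.proj (Sum.inr (Sum.inl i))) (LinearMap.proj (Sum.inr (Sum.inr i)))

theorem oddForm_coe (m : ℕ) : ⇑(oddForm m F) = Cfsg.quadFormOdd m F := by
  funext x
  simp [oddForm, Cfsg.quadFormOdd, pow_two]

theorem oddForm_nondegenerate (h2 : (2 : F) ≠ 0) (m : ℕ) :
    (QuadraticMap.polarBilin (oddForm m F)).Nondegenerate := by
  have h1 : ∀ x : Unit ⊕ (Fin m ⊕ Fin m) → F, (∀ y, QuadraticMap.polar (⇑(oddForm m F)) x y = 0) → x = 0 := by
    intro x hx
    funext i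
    rcases i with _ | j | j
    · have h := hx (Pi.single (Sum.inl ()) 1)
      simp [QuadraticMap.polar, oddForm_coe, Cfsg.quadFormOdd] at h
      have : 2 * x (Sum.inl ()) = 0 := by linear_combination h
      exact (mul_eq_zero.mp this).resolve_left h2
    · have := hx (Pi.single (Sum.inr (Sum.inr j)) 1)
      simp [QuadraticMap.polar, oddForm_coe, Cfsg.quadFormOdd, Pi.single_apply, mul_add, Finset.sum_add_distrib] at this
      exact this
    · have := hx (Pi.single (Sum.inr (Sum.inl j)) 1)
      simp [QuadraticMap.polar, oddForm_coe, Cfsg.quadFormOdd, Pi.single_apply, add_mul, Finset.sum_add_distrib] at this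
      exact this
  exact ⟨h1, fun x hx => h1 x fun y => by rw [QuadraticMap.polar_comm]; exact hx y⟩

theorem disc_ne_zero [Finite F] {a b : F}
    (hab : ∀ z₁ z₂ : F, z₁ ^ 2 + a * z₁ * z₂ + b * z₂ ^ 2 = 0 → z₁ = 0 ∧ z₂ = 0) : 4 * b - a ^ 2 ≠ 0 := by
  intro h
  by_cases h2 : (2 : F) = 0
  · have ha : a = 0 := by
      have : a ^ 2 = 0 := by linear_combination 2 * b * h2 - h
      exact pow_eq_zero_iff two_ne_zero |>.mp this
    obtain ⟨t, ht⟩ := exists_sqrt_two h2 b
    exact one_ne_zero (hab t 1 (by rw [ha]; linear_combination ht + b * h2)).2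
  · refine one_ne_zero (hab (-a / 2) 1 ?_).2
    field_simp
    linear_combination h

theorem minusForm_nondegenerate' [Finite F] (m : ℕ) {a b : F}
    (hab : ∀ z₁ z₂ : F, z₁ ^ 2 + a * z₁ * z₂ + b * z₂ ^ 2 = 0 → z₁ = 0 ∧ z₂ = 0) :
    (QuadraticMap.polarBilin (minusForm m F a b)).Nondegenerate := by
  have hd := disc_ne_zero hab
  have h1 : ∀ x : (Fin m ⊕ Fin m) ⊕ Fin 2 → F,
      (∀ y, QuadraticMap.polar (⇑(minusForm m F a b)) x y = 0) → x = 0 := by
    intro x hx
    have e0 := hx (Pi.single (Sum.inr 0) 1)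
    have e1 := hx (Pi.single (Sum.inr 1) 1)
    simp [QuadraticMap.polar, minusForm_coe, Cfsg.quadFormMinus] at e0 e1
    have f0 : x (Sum.inr 0) = 0 := by
      have : (4 * b - a ^ 2) * x (Sum.inr 0) = 0 := by linear_combination (2 * b) * e0 - a * e1
      exact (mul_eq_zero.mp this).resolve_left hd
    have f1 : x (Sum.inr 1) = 0 := by
      have : (4 * b - a ^ 2) * x (Sum.inr 1) = 0 := by linear_combination -a * e0 + 2 * e1
      exact (mul_eq_zero.mp this).resolve_left hd
    funext i
    rcases i with (j | j) | j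
    · have := hx (Pi.single (Sum.inl (Sum.inr j)) 1)
      simp [QuadraticMap.polar, minusForm_coe, Cfsg.quadFormMinus, Pi.single_apply, mul_add, Finset.sum_add_distrib] at this
      exact this
    · have := hx (Pi.single (Sum.inl (Sum.inl j)) 1)
      simp [QuadraticMap.polar, minusForm_coe, Cfsg.quadFormMinus, Pi.single_apply, add_mul, Finset.sum_add_distrib] at this
      exact this
    · fin_cases j
      · exact f0
      · exact f1
  exact ⟨h1, fun x hx => h1 x fun y => by rw [QuadraticMap.polar_comm]; exact hx y⟩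

theorem two_ne_zero_of_odd [Fintype F] (hodd : Odd (Fintype.card F)) : (2 : F) ≠ 0 := fun h => by
  haveI : CharP F 2 := CharTwo.of_one_ne_zero_of_two_eq_zero one_ne_zero h
  have := FiniteField.even_card_iff_char_two.mp (ringChar.eq F 2)
  have := Nat.odd_iff.mp hodd
  omega

end Cfsg.Lib.Classical.Refl
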