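import Mathlib
import Cfsg.Agent.Classical.Orth.Card
import Cfsg.Agent.Classical.Orth.StdForms

/-! Zero counts and orders for the standard forms. -/

set_option autoImplicit false
set_option linter.style.haveILetI false

namespace Cfsg.Lib.Classical.OrthCard

universe u w

variable {F : Type u} [Field F] {W : Type w} [AddCommGroup W] [Module F W]

/-- `m` hyperbolic planes added to `P`. -/
def split (P : QuadraticForm F W) (m : ℕ) : QuadraticForm F (((Fin m → F) × (Fin m → F)) × W) :=
  (∑ i : Fin m, QuadraticMap.linMulLin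
      ((LinearMap.proj i).comp ((LinearMap.fst F (Fin m → F) (Fin m → F)).comp (LinearMap.fst F _ W)))
      ((LinearMap.proj i).comp ((LinearMap.snd F (Fin m → F) (Fin m → F)).comp (LinearMap.fst F _ W)))) +
    P.comp (LinearMap.snd F _ W)

theorem split_apply (P : QuadraticForm F W) (m : ℕ) (x : ((Fin m → F) × (Fin m → F)) × W) :
    split P m x = (∑ i : Fin m, x.1.1 i * x.1.2 i) + P x.2 := by
  simp [split]

theorem split_nondegenerate (P : QuadraticForm F W) (hP : (QuadraticMap.polarBilin P).Nondegenerate) (m : ℕ) :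
    (QuadraticMap.polarBilin (split P m)).Nondegenerate := by
  have h1 : ∀ x, (∀ y, QuadraticMap.polar (⇑(split P m)) x y = 0) → x = 0 := by
    intro x hx
    refine Prod.ext (Prod.ext (funext fun i => ?_) (funext fun i => ?_)) (hP.1 _ fun w => ?_)
    · have h := hx ((0, Pi.single i 1), 0)
      simp [QuadraticMap.polar, split_apply, Pi.single_apply, mul_add, Finset.sum_add_distrib] at h
      exact h
    · have h := hx ((Pi.single i 1, 0), 0)
      simp [QuadraticMap.polar, split_apply, Pi.single_apply, add_mul, Finset.sum_add_distrib] at h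
      exact h
    · have h := hx ((0, 0), w)
      simp [QuadraticMap.polar, split_apply] at h
      change QuadraticMap.polar (⇑P) x.2 w = 0
      unfold QuadraticMap.polar
      linear_combination h
  exact ⟨h1, fun x hx => h1 x fun y => by rw [QuadraticMap.polar_comm]; exact hx y⟩

theorem exists_split_succ (P : QuadraticForm F W) (m : ℕ) :
    ∃ φ : ((F × F) × (((Fin m → F) × (Fin m → F)) × W)) ≃ₗ[F] (((Fin (m + 1) → F) × (Fin (m + 1) → F)) × W),
      ∀ x, split P (m + 1) (φ x) = hyp (split P m) x := by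
  refine ⟨{ toFun := fun x => ((Fin.cons x.1.1 x.2.1.1, Fin.cons x.1.2 x.2.1.2), x.2.2)
            invFun := fun y => ((y.1.1 0, y.1.2 0), ((Fin.tail y.1.1, Fin.tail y.1.2), y.2))
            map_add' := fun x y => ?_
            map_smul' := fun c x => ?_
            left_inv := fun x => by simp
            right_inv := fun y => by simp }, fun x => ?_⟩
  · refine Prod.ext (Prod.ext (funext fun i => ?_) (funext fun i => ?_)) rfl <;>
      refine Fin.cases ?_ (fun j => ?_) i <;> simp
  · refine Prod.ext (Prod.ext (funext fun i => ?_) (funext fun i => ?_)) rfl <;>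
      refine Fin.cases ?_ (fun j => ?_) i <;> simp
  · show split P (m + 1) ((Fin.cons x.1.1 x.2.1.1, Fin.cons x.1.2 x.2.1.2), x.2.2) = _
    rw [split_apply, hyp_apply, split_apply, Fin.sum_univ_succ]
    simp [add_assoc]

variable [Finite F]

theorem card_space [FiniteDimensional F W] (m : ℕ) :
    Nat.card (((Fin m → F) × (Fin m → F)) × W) = Nat.card F ^ (2 * m) * Nat.card W := by
  haveI : Finite W := Module.finite_of_finite F
  rw [Nat.card_prod, Nat.card_prod, Nat.card_fun, Nat.card_eq_fintype_card (α := Fin m), Fintype.card_fin]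
  ring

theorem zeros_succ (P : QuadraticForm F W) [FiniteDimensional F W] (m : ℕ) :
    Nat.card {x // split P (m + 1) x = 0} =
      Nat.card F * Nat.card {x // split P m x = 0} + (Nat.card F - 1) * (Nat.card F ^ (2 * m) * Nat.card W) := by
  obtain ⟨φ, hφ⟩ := exists_split_succ P m
  rw [← zeros_congr (hyp (split P m)) (split P (m + 1)) φ hφ, zeros_hyp, card_space]

theorem aut_succ (P : QuadraticForm F W) [FiniteDimensional F W] (hP : (QuadraticMap.polarBilin P).Nondegenerate)
    (m : ℕ) : Nat.card (Aut (split P (m + 1))) =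
      (Nat.card {x // split P (m + 1) x = 0} - 1) *
        (Nat.card F ^ (2 * m) * Nat.card W * Nat.card (Aut (split P m))) := by
  obtain ⟨φ, hφ⟩ := exists_split_succ P m
  rw [← zeros_congr (hyp (split P m)) (split P (m + 1)) φ hφ, ← card_congr (hyp (split P m)) (split P (m + 1)) φ hφ,
    card_hyp _ (split_nondegenerate P hP m), card_space]

omit [Finite F] in
theorem exists_split_zero (P : QuadraticForm F W) :
    ∃ φ : (((Fin 0 → F) × (Fin 0 → F)) × W) ≃ₗ[F] W, ∀ x, P (φ x) = split P 0 x :=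
  ⟨{ toFun := fun x => x.2
     invFun := fun w => (0, w)
     map_add' := fun x y => rfl
     map_smul' := fun c x => rfl
     left_inv := fun x => Prod.ext (Subsingleton.elim _ _) rfl
     right_inv := fun w => rfl }, fun x => by simp [split_apply]⟩

omit [Finite F] in
theorem aut_zero (P : QuadraticForm F W) : Nat.card (Aut (split P 0)) = Nat.card (Aut P) := by
  obtain ⟨φ, hφ⟩ := exists_split_zero P
  exact card_congr _ _ φ hφ

omit [Finite F] in
theorem zeros_zero (P : QuadraticForm F W) : Nat.card {x // split P 0 x = 0} = Nat.card {x // P x = 0} := by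
  obtain ⟨φ, hφ⟩ := exists_split_zero P
  exact zeros_congr _ _ φ hφ

/-! ### The three bases -/

/-- The zero form. -/
def P0 (F : Type u) [Field F] : QuadraticForm F (Fin 0 → F) := 0

omit [Finite F] in
theorem P0_facts : (QuadraticMap.polarBilin (P0 F)).Nondegenerate ∧ Nat.card (Aut (P0 F)) = 1 ∧
    Nat.card {x // P0 F x = 0} = 1 := by
  refine ⟨⟨fun x _ => Subsingleton.elim _ _, fun x _ => Subsingleton.elim _ _⟩, ?_, ?_⟩
  · haveI : Subsingleton (Aut (P0 F)) := ⟨fun a b => Subtype.ext (LinearEquiv.ext fun x => Subsingleton.elim _ _)⟩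
    haveI : Nonempty (Aut (P0 F)) := ⟨⟨LinearEquiv.refl F _, fun x => rfl⟩⟩
    exact Nat.card_eq_one_iff_unique.mpr ⟨inferInstance, inferInstance⟩
  · haveI : Nonempty {x // P0 F x = 0} := ⟨⟨0, by simp [P0]⟩⟩
    exact Nat.card_eq_one_iff_unique.mpr ⟨inferInstance, inferInstance⟩

/-- The square form. -/
def P1 (F : Type u) [Field F] : QuadraticForm F F :=
  QuadraticMap.linMulLin LinearMap.id LinearMap.id

omit [Finite F] in
theorem P1_apply (x : F) : P1 F x = x * x := rfl

omit [Finite F] in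
theorem P1_facts (h2 : (2 : F) ≠ 0) : (QuadraticMap.polarBilin (P1 F)).Nondegenerate ∧ Nat.card (Aut (P1 F)) = 2 ∧
    Nat.card {x // P1 F x = 0} = 1 := by
  refine ⟨?_, ?_, ?_⟩
  · have h1 : ∀ x : F, (∀ y, QuadraticMap.polar (⇑(P1 F)) x y = 0) → x = 0 := fun x hx => by
      have h := hx 1
      have h' : 2 * x = 0 := by simp only [QuadraticMap.polar, P1_apply] at h; linear_combination h
      exact (mul_eq_zero.mp h').resolve_left h2
    exact ⟨h1, fun x hx => h1 x fun y => by rw [QuadraticMap.polar_comm]; exact hx y⟩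
  · let a : Aut (P1 F) := ⟨LinearEquiv.refl F F, fun x => rfl⟩
    let b : Aut (P1 F) := ⟨LinearEquiv.neg F, fun x => by simp [P1_apply]⟩
    have key : ∀ e : Aut (P1 F), e = a ∨ e = b := by
      intro e
      have h := e.2 1
      simp only [P1_apply, mul_one] at h
      have hx : ∀ x : F, e.1 x = x * e.1 1 := fun x => by
        conv_lhs => rw [← mul_one x, ← smul_eq_mul, map_smul, smul_eq_mul]
      rcases mul_self_eq_one_iff.mp h with h | h
      · exact Or.inl (Subtype.ext (LinearEquiv.ext fun x => by rw [hx, h, mul_one]; rfl))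
      · exact Or.inr (Subtype.ext (LinearEquiv.ext fun x => by rw [hx, h, mul_neg_one]; rfl))
    have hab : a ≠ b := fun h => h2 (by
      have := congrArg (fun z : Aut (P1 F) => z.1 1) h
      simp [a, b] at this
      linear_combination this)
    rw [Nat.card_eq_two_iff]
    exact ⟨a, b, hab, Set.eq_univ_of_forall fun e => key e⟩
  · haveI : Subsingleton {x // P1 F x = 0} := ⟨fun a b => Subtype.ext (by
      rw [show a.1 = 0 from mul_self_eq_zero.mp a.2, show b.1 = 0 from mul_self_eq_zero.mp b.2])⟩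
    haveI : Nonempty {x // P1 F x = 0} := ⟨⟨0, by simp [P1_apply]⟩⟩
    exact Nat.card_eq_one_iff_unique.mpr ⟨inferInstance, inferInstance⟩

/-- The binary form. -/
def P2 (a b : F) : QuadraticForm F (F × F) :=
  QuadraticMap.linMulLin (LinearMap.fst F F F) (LinearMap.fst F F F) +
    a • QuadraticMap.linMulLin (LinearMap.fst F F F) (LinearMap.snd F F F) +
    b • QuadraticMap.linMulLin (LinearMap.snd F F F) (LinearMap.snd F F F)

omit [Finite F] in
theorem P2_apply (a b : F) (z : F × F) : P2 a b z = z.1 * z.1 + a * (z.1 * z.2) + b * (z.2 * z.2) := rfl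

theorem P2_norm_one {a b : F} (hab : ∀ z₁ z₂ : F, z₁ ^ 2 + a * z₁ * z₂ + b * z₂ ^ 2 = 0 → z₁ = 0 ∧ z₂ = 0) :
    Nat.card {z // P2 a b z = 1} = Nat.card F + 1 := by
  classical
  haveI := Fintype.ofFinite F
  have hd := Refl.disc_ne_zero hab
  have hzero : ∀ x : F × F, P2 a b x = 0 → x = 0 := fun x hx => by
    obtain ⟨h1, h2⟩ := hab x.1 x.2 (by rw [P2_apply] at hx; linear_combination hx)
    exact Prod.ext h1 h2
  have hz1 : Nat.card {x // P2 a b x = 0} = 1 := by
    haveI : Subsingleton {x // P2 a b x = 0} := ⟨fun x y => Subtype.ext (by rw [hzero _ x.2, hzero _ y.2])⟩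
    haveI : Nonempty {x // P2 a b x = 0} := ⟨⟨0, by simp⟩⟩
    exact Nat.card_eq_one_iff_unique.mpr ⟨inferInstance, inferInstance⟩
  have hsurj : ∀ c : F, ∃ z, P2 a b z = c := by
    intro c
    by_cases h2 : (2 : F) = 0
    · obtain ⟨t, ht⟩ := Refl.exists_sqrt_two h2 c
      exact ⟨(t, 0), by rw [P2_apply]; linear_combination ht⟩
    · have h4 : (4 : F) ≠ 0 := by rw [show (4 : F) = 2 * 2 by norm_num]; exact mul_ne_zero h2 h2
      obtain ⟨x, y, hxy⟩ := Refl.binary_universal h2 (one_ne_zero (α := F))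
        (show (4 * b - a ^ 2) / 4 ≠ 0 from div_ne_zero hd h4) c
      refine ⟨(x - a / 2 * y, y), ?_⟩
      rw [P2_apply, ← hxy]
      field_simp
      ring
  have hscale : ∀ c : F, c ≠ 0 → Nat.card {z // P2 a b z = c} = Nat.card {z // P2 a b z = 1} := by
    intro c hc
    obtain ⟨w, hw⟩ := hsurj c
    have hw0 : w ≠ 0 := fun h => hc (by rw [← hw, h]; simp)
    let M : F × F → F × F := fun z => (w.1 * z.1 - b * (w.2 * z.2), w.1 * z.2 + w.2 * z.1 + a * (w.2 * z.2))
    have hM : ∀ z, P2 a b (M z) = c * P2 a b z := fun z => by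
      rw [← hw]; simp only [M, P2_apply]; ring
    have hMinj : Function.Injective M := by
      intro z z' h
      have hsub : M (z - z') = 0 := by
        have : M (z - z') = M z - M z' := by
          refine Prod.ext ?_ ?_ <;> simp [M] <;> ring
        rw [this, h, sub_self]
      have h0 := hM (z - z')
      rw [hsub, QuadraticMap.map_zero] at h0
      exact sub_eq_zero.mp (hzero _ ((mul_eq_zero.mp h0.symm).resolve_left hc))
    have hMsurj := Finite.injective_iff_surjective.mp hMinj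
    refine (Nat.card_congr (Equiv.subtypeEquiv (Equiv.ofBijective M ⟨hMinj, hMsurj⟩) fun z => ?_)).symm
    show P2 a b z = 1 ↔ P2 a b (M z) = c
    rw [hM, mul_eq_left₀ hc]
  have hN : Nat.card {z // P2 a b z = 1} = Nat.card F + 1 := by
    have hsum : Nat.card (F × F) = ∑ c : F, Nat.card {z // P2 a b z = c} := by
      rw [← Nat.card_sigma]
      exact (Nat.card_congr (Equiv.sigmaFiberEquiv (fun z => P2 a b z))).symm
    rw [← Finset.add_sum_erase _ _ (Finset.mem_univ (0 : F)), hz1,
      Finset.sum_congr rfl (fun c hc => hscale c (Finset.ne_of_mem_erase hc)), Finset.sum_const,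
      Finset.card_erase_of_mem (Finset.mem_univ _), Finset.card_univ, Nat.card_prod, smul_eq_mul,
      Nat.card_eq_fintype_card (α := F)] at hsum
    rw [Nat.card_eq_fintype_card (α := F)]
    obtain ⟨k, hk⟩ : ∃ k, Fintype.card F = k + 2 := ⟨Fintype.card F - 2, by
      have := Fintype.one_lt_card (α := F); omega⟩
    rw [hk] at hsum ⊢
    rw [show k + 2 - 1 = k + 1 by omega] at hsum
    apply Nat.eq_of_mul_eq_mul_left (show 0 < k + 1 by omega)
    linarith
  exact hN

theorem P2_facts {a b : F} (hab : ∀ z₁ z₂ : F, z₁ ^ 2 + a * z₁ * z₂ + b * z₂ ^ 2 = 0 → z₁ = 0 ∧ z₂ = 0) :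
    (QuadraticMap.polarBilin (P2 a b)).Nondegenerate ∧ Nat.card (Aut (P2 a b)) = 2 * (Nat.card F + 1) ∧
    Nat.card {x // P2 a b x = 0} = 1 := by
  classical
  haveI := Fintype.ofFinite F
  have hd := Refl.disc_ne_zero hab
  have hpol : ∀ x y : F × F, QuadraticMap.polar (⇑(P2 a b)) x y =
      2 * x.1 * y.1 + a * (x.1 * y.2 + x.2 * y.1) + 2 * b * x.2 * y.2 := fun x y => by
    simp only [QuadraticMap.polar, P2_apply, Prod.fst_add, Prod.snd_add]; ring
  have hnd : (QuadraticMap.polarBilin (P2 a b)).Nondegenerate := by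
    have h1 : ∀ x, (∀ y, QuadraticMap.polar (⇑(P2 a b)) x y = 0) → x = 0 := by
      intro x hx
      have e0 := hx (1, 0)
      have e1 := hx (0, 1)
      rw [hpol] at e0 e1
      refine Prod.ext ((mul_eq_zero.mp (?_ : (4 * b - a ^ 2) * x.1 = 0)).resolve_left hd)
        ((mul_eq_zero.mp (?_ : (4 * b - a ^ 2) * x.2 = 0)).resolve_left hd)
      · linear_combination (2 * b) * e0 - a * e1
      · linear_combination -a * e0 + 2 * e1
    exact ⟨h1, fun x hx => h1 x fun y => by rw [QuadraticMap.polar_comm]; exact hx y⟩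
  have hzero : ∀ x : F × F, P2 a b x = 0 → x = 0 := fun x hx => by
    obtain ⟨h1, h2⟩ := hab x.1 x.2 (by rw [P2_apply] at hx; linear_combination hx)
    exact Prod.ext h1 h2
  have hz1 : Nat.card {x // P2 a b x = 0} = 1 := by
    haveI : Subsingleton {x // P2 a b x = 0} := ⟨fun x y => Subtype.ext (by rw [hzero _ x.2, hzero _ y.2])⟩
    haveI : Nonempty {x // P2 a b x = 0} := ⟨⟨0, by simp⟩⟩
    exact Nat.card_eq_one_iff_unique.mpr ⟨inferInstance, inferInstance⟩
  have hN := P2_norm_one hab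
  refine ⟨hnd, ?_, hz1⟩
  have he : ((1, 0) : F × F) ≠ 0 := fun h => one_ne_zero (congrArg Prod.fst h)
  have hQe : P2 a b (1, 0) = 1 := by simp [P2_apply]
  rw [card_orbit (P2 a b) hnd (1, 0) he, hQe, mul_comm 2]
  congr 1
  · rw [← hN]
    refine Nat.card_congr (Equiv.subtypeEquivRight fun x => ⟨fun h => h.2, fun h => ⟨fun h0 => ?_, h⟩⟩)
    rw [h0, QuadraticMap.map_zero] at h
    exact zero_ne_one h
  · have hne : (0, 1) ≠ ((a, -1) : F × F) := by
      intro h
      have h1 : (0 : F) = a := congrArg Prod.fst h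
      have h2 : (1 : F) = -1 := congrArg Prod.snd h
      exact hd (by linear_combination (2 * b) * h2 + a * h1)
    let mk : ∀ v : F × F, v = (0, 1) ∨ v = (a, -1) → {g : Aut (P2 a b) // g.1 (1, 0) = (1, 0)} := fun v hv =>
      ⟨⟨{ toFun := fun z => (z.1 + z.2 * v.1, z.2 * v.2)
          invFun := fun z => (z.1 + z.2 * (-v.2 * v.1), z.2 * v.2)
          map_add' := fun x y => by ext <;> simp <;> ring
          map_smul' := fun c x => by ext <;> simp <;> ring
          left_inv := fun z => by rcases hv with rfl | rfl <;> ext <;> simp <;> ring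
          right_inv := fun z => by rcases hv with rfl | rfl <;> ext <;> simp <;> ring },
        fun z => by rcases hv with rfl | rfl <;> simp [P2_apply] <;> ring⟩, by ext <;> simp⟩
    have hg : ∀ g : {g : Aut (P2 a b) // g.1 (1, 0) = (1, 0)}, g.1.1 (0, 1) = (0, 1) ∨ g.1.1 (0, 1) = (a, -1) := by
      intro g
      set v := g.1.1 (0, 1) with hv
      have h1 : QuadraticMap.polar (⇑(P2 a b)) (g.1.1 (1, 0)) v = QuadraticMap.polar (⇑(P2 a b)) (1, 0) (0, 1) := by
        simp only [v, QuadraticMap.polar, ← map_add, g.1.2]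
      rw [g.2, hpol, hpol] at h1
      have h3 := g.1.2 (0, 1)
      rw [← hv, P2_apply, P2_apply] at h3
      simp at h1 h3
      have ht : (v.2 - 1) * (v.2 + 1) = 0 := by
        have : (4 * b - a ^ 2) * (v.2 * v.2 - 1) = 0 := by linear_combination 4 * h3 - (2 * v.1 + a * v.2 + a) * h1
        linear_combination (mul_eq_zero.mp this).resolve_left hd
      rcases mul_eq_zero.mp ht with ht | ht
      · have ht' : v.2 = 1 := sub_eq_zero.mp ht
        have hs : v.1 * (v.1 + a) = 0 := by rw [ht'] at h3; linear_combination h3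
        have h2s : 2 * v.1 = 0 := by rw [ht'] at h1; linear_combination h1
        rcases mul_eq_zero.mp hs with hs | hs
        · exact Or.inl (Prod.ext hs ht')
        · have hs' : v.1 = -a := eq_neg_of_add_eq_zero_left hs
          have h2a : 2 * a = 0 := by linear_combination -h2s + 2 * hs'
          rcases mul_eq_zero.mp h2a with h2 | ha
          · exact Or.inr (Prod.ext (by rw [hs']; linear_combination -a * h2) (by rw [ht']; linear_combination h2))
          · exact Or.inl (Prod.ext (by rw [hs', ha, neg_zero]) ht')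
      · have ht' : v.2 = -1 := eq_neg_of_add_eq_zero_left ht
        have h2s : 2 * (v.1 - a) = 0 := by rw [ht'] at h1; linear_combination h1
        have hs : (v.1) * (v.1 - a) = 0 := by rw [ht'] at h3; linear_combination h3
        rcases mul_eq_zero.mp hs with hs | hs
        · have h2a : 2 * a = 0 := by rw [hs] at h2s; linear_combination -h2s
          rcases mul_eq_zero.mp h2a with h2 | ha
          · exact Or.inl (Prod.ext hs (by rw [ht']; linear_combination -h2))
          · exact Or.inr (Prod.ext (hs.trans ha.symm) ht')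
        · exact Or.inr (Prod.ext (sub_eq_zero.mp hs) ht')
    rw [Nat.card_eq_two_iff]
    refine ⟨mk (0, 1) (Or.inl rfl), mk (a, -1) (Or.inr rfl), fun h => hne ?_, Set.eq_univ_of_forall fun g => ?_⟩
    · have := congrArg (fun g : {g : Aut (P2 a b) // g.1 (1, 0) = (1, 0)} => g.1.1 (0, 1)) h
      simpa [mk] using this
    · have key : ∀ v hv, g.1.1 (0, 1) = v → g = mk v hv := fun v hv h => by
        refine Subtype.ext (Subtype.ext (LinearEquiv.ext fun z => ?_))
        have hz : z = z.1 • ((1, 0) : F × F) + z.2 • (0, 1) := by ext <;> simp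
        conv_lhs => rw [hz, map_add, map_smul, map_smul, g.2, h]
        ext <;> simp [mk]
      rcases hg g with h | h
      · exact Or.inl (key (0, 1) (Or.inl rfl) h)
      · exact Or.inr (key (a, -1) (Or.inr rfl) h)

/-! ### Closed formulas -/

/-- `∏_{i<k} (q^(2(i+1)) - 1)`. -/
def prodQ (q k : ℕ) : ℕ := ∏ i ∈ Finset.range k, (q ^ (2 * (i + 1)) - 1)

omit [Finite F] in
theorem prodQ_succ (q k : ℕ) : prodQ q (k + 1) = prodQ q k * (q ^ (2 * (k + 1)) - 1) := Finset.prod_range_succ _ _

omit [Finite F] in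
theorem sq_pow_sub_one (q k : ℕ) : (q ^ k + 1) * (q ^ k - 1) = q ^ (2 * k) - 1 := by
  rw [mul_comm 2 k, pow_mul]
  simpa using (Nat.sq_sub_sq (q ^ k) 1).symm

theorem zeros_plus (k : ℕ) : Nat.card {x // split (P0 F) (k + 1) x = 0} =
    (Nat.card F ^ (k + 1) - 1) * (Nat.card F ^ k + 1) + 1 := by
  haveI := Fintype.ofFinite F
  obtain ⟨p, hp⟩ : ∃ p, Nat.card F = p + 1 := ⟨Nat.card F - 1, by
    have := Nat.card_pos (α := F); omega⟩
  have hW : Nat.card (Fin 0 → F) = 1 := by rw [Nat.card_fun]; simp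
  induction k with
  | zero =>
    rw [zeros_succ, zeros_zero, P0_facts.2.2, hW, hp]
    simp
    ring
  | succ k ih =>
    rw [zeros_succ, ih, hW, hp]
    obtain ⟨x, hx⟩ : ∃ x, (p + 1) ^ k = x + 1 := ⟨_, (Nat.sub_add_cancel (Nat.one_le_pow _ _ (by omega))).symm⟩
    rw [Nat.add_sub_cancel, show (p + 1) ^ (k + 1 + 1) = (p + 1) ^ k * (p + 1) * (p + 1) by ring,
      show (p + 1) ^ (k + 1) = (p + 1) ^ k * (p + 1) by ring,
      show (p + 1) ^ (2 * (k + 1)) = (p + 1) ^ k * (p + 1) * ((p + 1) ^ k * (p + 1)) by ring, hx,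
      show (x + 1) * (p + 1) = (x * p + x + p) + 1 by ring, Nat.add_sub_cancel,
      show (x * p + x + p + 1) * (p + 1) = (x * p + x + p) * (p + 1) + p + 1 by ring, Nat.add_sub_cancel]
    ring

theorem zeros_minus {a b : F} (hab : ∀ z₁ z₂ : F, z₁ ^ 2 + a * z₁ * z₂ + b * z₂ ^ 2 = 0 → z₁ = 0 ∧ z₂ = 0) (k : ℕ) :
    Nat.card {x // split (P2 a b) k x = 0} = (Nat.card F ^ (k + 1) + 1) * (Nat.card F ^ k - 1) + 1 := by
  haveI := Fintype.ofFinite F
  obtain ⟨p, hp⟩ : ∃ p, Nat.card F = p + 1 := ⟨Nat.card F - 1, by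
    have := Nat.card_pos (α := F); omega⟩
  induction k with
  | zero => rw [zeros_zero, (P2_facts hab).2.2]; simp
  | succ k ih =>
    rw [zeros_succ, ih, Nat.card_prod, hp]
    obtain ⟨x, hx⟩ : ∃ x, (p + 1) ^ k = x + 1 := ⟨_, (Nat.sub_add_cancel (Nat.one_le_pow _ _ (by omega))).symm⟩
    rw [Nat.add_sub_cancel, show (p + 1) ^ (k + 1 + 1) = (p + 1) ^ k * (p + 1) * (p + 1) by ring,
      show (p + 1) ^ (k + 1) = (p + 1) ^ k * (p + 1) by ring,
      show (p + 1) ^ (2 * k) = (p + 1) ^ k * (p + 1) ^ k by ring, hx,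
      show (x + 1) * (p + 1) = (x * p + x + p) + 1 by ring, Nat.add_sub_cancel, Nat.add_sub_cancel]
    ring

theorem zeros_odd (h2 : (2 : F) ≠ 0) (k : ℕ) :
    Nat.card {x // split (P1 F) k x = 0} = Nat.card F ^ (2 * k) := by
  haveI := Fintype.ofFinite F
  obtain ⟨p, hp⟩ : ∃ p, Nat.card F = p + 1 := ⟨Nat.card F - 1, by
    have := Nat.card_pos (α := F); omega⟩
  induction k with
  | zero => rw [zeros_zero, (P1_facts h2).2.2]; simp
  | succ k ih =>
    rw [zeros_succ, ih, hp, Nat.add_sub_cancel]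
    ring

theorem aut_plus (k : ℕ) : Nat.card (Aut (split (P0 F) (k + 1))) =
    2 * Nat.card F ^ ((k + 1) * k) * (Nat.card F ^ (k + 1) - 1) * prodQ (Nat.card F) k := by
  have hW : Nat.card (Fin 0 → F) = 1 := by rw [Nat.card_fun]; simp
  induction k with
  | zero =>
    rw [aut_succ _ P0_facts.1, zeros_plus, aut_zero, P0_facts.2.1, hW]
    simp [prodQ]
    ring
  | succ k ih =>
    rw [aut_succ _ P0_facts.1, zeros_plus, Nat.add_sub_cancel, ih, hW, prodQ_succ, ← sq_pow_sub_one _ (k + 1)]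
    ring

theorem aut_minus {a b : F} (hab : ∀ z₁ z₂ : F, z₁ ^ 2 + a * z₁ * z₂ + b * z₂ ^ 2 = 0 → z₁ = 0 ∧ z₂ = 0) (k : ℕ) :
    Nat.card (Aut (split (P2 a b) k)) =
      2 * Nat.card F ^ ((k + 1) * k) * (Nat.card F ^ (k + 1) + 1) * prodQ (Nat.card F) k := by
  induction k with
  | zero => rw [aut_zero, (P2_facts hab).2.1]; simp [prodQ]
  | succ k ih =>
    rw [aut_succ _ (P2_facts hab).1, zeros_minus hab, Nat.add_sub_cancel, ih, Nat.card_prod, prodQ_succ,
      ← sq_pow_sub_one _ (k + 1)]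
    ring

theorem aut_odd (h2 : (2 : F) ≠ 0) (k : ℕ) :
    Nat.card (Aut (split (P1 F) k)) = 2 * Nat.card F ^ (k ^ 2) * prodQ (Nat.card F) k := by
  induction k with
  | zero => rw [aut_zero, (P1_facts h2).2.1]; simp [prodQ]
  | succ k ih =>
    rw [aut_succ _ (P1_facts h2).1, zeros_odd h2, ih, prodQ_succ]
    ring

/-! ### Transport to the standard forms -/

omit [Finite F] in
theorem plus_equiv (m : ℕ) : ∃ φ : (((Fin m → F) × (Fin m → F)) × (Fin 0 → F)) ≃ₗ[F] (Fin m ⊕ Fin m → F),
    ∀ x, HypQuad.plusForm m F (φ x) = split (P0 F) m x :=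
  ⟨{ toFun := fun x => Sum.elim x.1.1 x.1.2
     invFun := fun y => ((fun i => y (.inl i), fun i => y (.inr i)), 0)
     map_add' := fun x y => by funext i; rcases i with i | i <;> rfl
     map_smul' := fun c x => by funext i; rcases i with i | i <;> rfl
     left_inv := fun x => Prod.ext rfl (Subsingleton.elim _ _)
     right_inv := fun y => by funext i; rcases i with i | i <;> rfl },
    fun x => by simp [HypQuad.plusForm_apply, Cfsg.quadFormPlus, split_apply, P0]⟩

omit [Finite F] in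
theorem odd_equiv (m : ℕ) : ∃ φ : (((Fin m → F) × (Fin m → F)) × F) ≃ₗ[F] (Unit ⊕ (Fin m ⊕ Fin m) → F),
    ∀ x, Refl.oddForm m F (φ x) = split (P1 F) m x :=
  ⟨{ toFun := fun x => Sum.elim (fun _ => x.2) (Sum.elim x.1.1 x.1.2)
     invFun := fun y => ((fun i => y (.inr (.inl i)), fun i => y (.inr (.inr i))), y (.inl ()))
     map_add' := fun x y => by funext i; rcases i with i | i | i <;> rfl
     map_smul' := fun c x => by funext i; rcases i with i | i | i <;> rfl
     left_inv := fun x => rfl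
     right_inv := fun y => by funext i; rcases i with i | i | i <;> rfl },
    fun x => by
      rw [Refl.oddForm_coe, split_apply, P1_apply]
      show x.2 ^ 2 + ∑ i, x.1.1 i * x.1.2 i = _
      ring⟩

omit [Finite F] in
theorem minus_equiv (m : ℕ) (a b : F) :
    ∃ φ : (((Fin m → F) × (Fin m → F)) × (F × F)) ≃ₗ[F] ((Fin m ⊕ Fin m) ⊕ Fin 2 → F),
    ∀ x, Refl.minusForm m F a b (φ x) = split (P2 a b) m x :=
  ⟨{ toFun := fun x => Sum.elim (Sum.elim x.1.1 x.1.2) ![x.2.1, x.2.2]
     invFun := fun y => ((fun i => y (.inl (.inl i)), fun i => y (.inl (.inr i))), (y (.inr 0), y (.inr 1)))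
     map_add' := fun x y => by
       funext i; rcases i with (i | i) | i
       · rfl
       · rfl
       · fin_cases i <;> rfl
     map_smul' := fun c x => by
       funext i; rcases i with (i | i) | i
       · rfl
       · rfl
       · fin_cases i <;> rfl
     left_inv := fun x => rfl
     right_inv := fun y => by
       funext i; rcases i with (i | i) | i
       · rfl
       · rfl
       · fin_cases i <;> rfl },
    fun x => by
      rw [Refl.minusForm_coe, split_apply, P2_apply]
      show (∑ i, x.1.1 i * x.1.2 i) + (x.2.1 ^ 2 + a * x.2.1 * x.2.2 + b * x.2.2 ^ 2) = _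
      ring⟩

theorem card_plus (k : ℕ) : Nat.card (Cfsg.isometryGroup F (Cfsg.quadFormPlus (k + 1) F)) =
    2 * Nat.card F ^ ((k + 1) * k) * (Nat.card F ^ (k + 1) - 1) * prodQ (Nat.card F) k := by
  obtain ⟨φ, hφ⟩ := plus_equiv (F := F) (k + 1)
  rw [show Cfsg.quadFormPlus (k + 1) F = ⇑(HypQuad.plusForm (k + 1) F) from
    (funext (HypQuad.plusForm_apply (k + 1))).symm, card_isometryGroup, ← card_congr _ _ φ hφ, aut_plus]

theorem card_odd (h2 : (2 : F) ≠ 0) (k : ℕ) : Nat.card (Cfsg.isometryGroup F (Cfsg.quadFormOdd k F)) =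
    2 * Nat.card F ^ (k ^ 2) * prodQ (Nat.card F) k := by
  obtain ⟨φ, hφ⟩ := odd_equiv (F := F) k
  rw [← Refl.oddForm_coe, card_isometryGroup, ← card_congr _ _ φ hφ, aut_odd h2]

theorem card_minus {a b : F} (hab : ∀ z₁ z₂ : F, z₁ ^ 2 + a * z₁ * z₂ + b * z₂ ^ 2 = 0 → z₁ = 0 ∧ z₂ = 0) (k : ℕ) :
    Nat.card (Cfsg.isometryGroup F (Cfsg.quadFormMinus k F a b)) =
      2 * Nat.card F ^ ((k + 1) * k) * (Nat.card F ^ (k + 1) + 1) * prodQ (Nat.card F) k := by
  obtain ⟨φ, hφ⟩ := minus_equiv (F := F) k a b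
  rw [← Refl.minusForm_coe, card_isometryGroup, ← card_congr _ _ φ hφ, aut_minus hab]

theorem count_plus (m : ℕ) (hm : 1 ≤ m) : Nat.card {v : Fin m ⊕ Fin m → F // Cfsg.quadFormPlus m F v = 0} =
    Nat.card F ^ (2 * m - 1) + Nat.card F ^ m - Nat.card F ^ (m - 1) := by
  obtain ⟨k, rfl⟩ : ∃ k, m = k + 1 := ⟨m - 1, by omega⟩
  obtain ⟨φ, hφ⟩ := plus_equiv (F := F) (k + 1)
  simp only [← HypQuad.plusForm_apply]
  rw [← zeros_congr _ _ φ hφ, zeros_plus, show 2 * (k + 1) - 1 = (k + 1) + k by omega, Nat.add_sub_cancel]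
  obtain ⟨p, hp⟩ : ∃ p, Nat.card F = p + 1 := ⟨Nat.card F - 1, by have := Nat.card_pos (α := F); omega⟩
  obtain ⟨x, hx⟩ : ∃ x, (p + 1) ^ k = x + 1 := ⟨_, (Nat.sub_add_cancel (Nat.one_le_pow _ _ (by omega))).symm⟩
  rw [hp, pow_add (p + 1) (k + 1) k, show (p + 1) ^ (k + 1) = (p + 1) ^ k * (p + 1) by ring, hx,
    show (x + 1) * (p + 1) = (x * p + x + p) + 1 by ring, Nat.add_sub_cancel]
  refine (Nat.sub_eq_of_eq_add ?_).symm
  ring

theorem count_minus (m : ℕ) (hm : 1 ≤ m) {a b : F}
    (hab : ∀ z₁ z₂ : F, z₁ ^ 2 + a * z₁ * z₂ + b * z₂ ^ 2 = 0 → z₁ = 0 ∧ z₂ = 0) :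
    Nat.card {v : (Fin (m - 1) ⊕ Fin (m - 1)) ⊕ Fin 2 → F // Cfsg.quadFormMinus (m - 1) F a b v = 0} =
      Nat.card F ^ (2 * m - 1) + Nat.card F ^ (m - 1) - Nat.card F ^ m := by
  obtain ⟨φ, hφ⟩ := minus_equiv (F := F) (m - 1) a b
  simp only [← Refl.minusForm_coe]
  rw [← zeros_congr _ _ φ hφ, zeros_minus hab]
  obtain ⟨k, rfl⟩ : ∃ k, m = k + 1 := ⟨m - 1, by omega⟩
  rw [show 2 * (k + 1) - 1 = (k + 1) + k by omega, Nat.add_sub_cancel]
  obtain ⟨p, hp⟩ : ∃ p, Nat.card F = p + 1 := ⟨Nat.card F - 1, by have := Nat.card_pos (α := F); omega⟩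
  obtain ⟨x, hx⟩ : ∃ x, (p + 1) ^ k = x + 1 := ⟨_, (Nat.sub_add_cancel (Nat.one_le_pow _ _ (by omega))).symm⟩
  rw [hp, pow_add (p + 1) (k + 1) k, show (p + 1) ^ (k + 1) = (p + 1) ^ k * (p + 1) by ring, hx, Nat.add_sub_cancel]
  refine (Nat.sub_eq_of_eq_add ?_).symm
  ring

theorem count_odd (h2 : (2 : F) ≠ 0) (m : ℕ) :
    Nat.card {v : Unit ⊕ (Fin m ⊕ Fin m) → F // Cfsg.quadFormOdd m F v = 0} = Nat.card F ^ (2 * m) := by
  obtain ⟨φ, hφ⟩ := odd_equiv (F := F) m
  simp only [← Refl.oddForm_coe]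
  rw [← zeros_congr _ _ φ hφ, zeros_odd h2]

end Cfsg.Lib.Classical.OrthCard
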