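import Mathlib
import Cfsg.Agent.Classical.Orth.Orders
import Cfsg.Agent.Classical.Misc.Spinor
import Cfsg.Agent.Classical.Misc.PSLFourGroupsMain

/-! `PΩ₃(q) ≅ PSL₂(q)` and `PΩ⁺₄(q) ≅ PSL₂(q) × PSL₂(q)`. -/

set_option autoImplicit false
set_option linter.unusedSimpArgs false
set_option linter.unusedSectionVars false
set_option linter.style.haveILetI false
set_option linter.flexible false

namespace Cfsg.Lib.Classical.LowRank

open Matrix
open scoped MatrixGroups commutatorElement
open Cfsg.Lib.Classical.PSLFour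

universe u v

variable {F : Type u} [Field F] [Fintype F]

theorem π_neg_one : π (-1 : SL(2, F)) = 1 := π_one_iff.mpr (Or.inr rfl)

theorem sl_central {g : SL(2, F)} (h : ∀ x : SL(2, F), π g * π x = π x * π g) : g = 1 ∨ g = -1 := by
  classical
  have key : ∀ x : SL(2, F), (x.1 0 0 + x.1 1 1 = 2) → g * x = x * g := by
    intro x htr
    have hc := h x
    rw [← map_mul, ← map_mul, eq_comm, π_eq_iff] at hc
    rcases hc with e | e
    · exact e
    have hg : g * x * g⁻¹ = -x := by rw [mul_inv_eq_iff_eq_mul, e, neg_mul]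
    have h00 := congrArg (fun y : SL(2, F) => y.1 0 0 + y.1 1 1) hg
    simp [val_mul, val_neg, Matrix.SpecialLinearGroup.coe_inv, Matrix.adjugate_fin_two] at h00
    have hd := det_eq_one g
    have h4 : (2 : F) + 2 = 0 := by linear_combination h00 - (x.1 0 0 + x.1 1 1) * hd - 2 * htr
    by_cases h2 : (2 : F) = 0
    · refine e.trans ?_
      refine ext_four ?_ ?_ ?_ ?_ <;> rw [val_neg] <;> linear_combination -((x * g).1 _ _) * h2
    · exact absurd ((mul_eq_zero.mp (by linear_combination h4 : (2 : F) * 2 = 0)).elim id id) h2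
  have h1 := key (sl 1 1 0 1 (by ring)) (by simp [sl00, sl11]; norm_num)
  have h2 := key (sl 1 0 1 1 (by ring)) (by simp [sl00, sl11]; norm_num)
  have a0 := congrArg (fun y : SL(2, F) => y.1 0 0) h1
  have a1 := congrArg (fun y : SL(2, F) => y.1 0 1) h1
  have b0 := congrArg (fun y : SL(2, F) => y.1 0 0) h2
  simp [val_mul, sl00, sl01, sl10, sl11] at a0 a1 b0
  have hd := det_eq_one g
  have e10 : g.1 1 0 = 0 := a0
  have e01 : g.1 0 1 = 0 := b0
  have e11 : g.1 1 1 = g.1 0 0 := by linear_combination -a1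
  rw [e10, e01, e11] at hd
  have hsq : g.1 0 0 ^ 2 = 1 := by linear_combination hd
  rcases sq_eq_one_iff.mp hsq with e | e
  · left; refine ext_four ?_ ?_ ?_ ?_ <;> simp [e, e10, e01, e11]
  · right; refine ext_four ?_ ?_ ?_ ?_ <;> simp [val_neg, e, e10, e01, e11]

/-- A surjection onto a group with kernel the centre, composed with the central quotient. -/
theorem iso_center {G Ω P : Type*} [Group G] [Group Ω] [Group P] (ρ : G →* Ω) (hρ : Function.Surjective ρ)
    (θ : G →* P) (hθ : Function.Surjective θ)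
    (h : ∀ g, θ g = 1 ↔ ∀ a, ρ g * ρ a = ρ a * ρ g) : Nonempty (Ω ⧸ Subgroup.center Ω ≃* P) := by
  let ψ : G →* Ω ⧸ Subgroup.center Ω := (QuotientGroup.mk' _).comp ρ
  have hψ : Function.Surjective ψ := (QuotientGroup.mk'_surjective _).comp hρ
  have hker : ψ.ker = θ.ker := by
    ext g
    rw [MonoidHom.mem_ker, MonoidHom.mem_ker, h, MonoidHom.comp_apply, QuotientGroup.mk'_apply,
      QuotientGroup.eq_one_iff, Subgroup.mem_center_iff]
    exact ⟨fun hc a => (hc (ρ a)).symm, fun hc y => by obtain ⟨a, rfl⟩ := hρ y; exact (hc a).symm⟩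
  exact ⟨(QuotientGroup.quotientKerEquivOfSurjective ψ hψ).symm.trans
    ((QuotientGroup.quotientMulEquivOfEq hker).trans (QuotientGroup.quotientKerEquivOfSurjective θ hθ))⟩

/-- Squares of isometries lie in `Ω`. -/
theorem square_mem {ι : Type} [Fintype ι] [DecidableEq ι] (Q : QuadraticForm F (ι → F))
    (hQ : (QuadraticMap.polarBilin Q).Nondegenerate) (hq : 3 ≤ Fintype.card F)
    (y : Cfsg.isometryGroup F (⇑Q)) : y * y ∈ Cfsg.Omega F (⇑Q) := by
  let f : Cfsg.isometryGroup F (⇑Q) →* Abelianization (Cfsg.isometryGroup F (⇑Q)) :=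
    (powMonoidHom 2).comp Abelianization.of
  have hf := Refl.eq_top_of_refl Q f.ker (fun v hv => by
    rw [MonoidHom.mem_ker]
    show (Abelianization.of (Refl.refl Q v hv)) ^ 2 = 1
    rw [← map_pow, pow_two, Refl.refl_mul_self, map_one]) hQ (Or.inl (by omega))
  have hy : y ∈ f.ker := hf ▸ Subgroup.mem_top y
  rw [MonoidHom.mem_ker] at hy
  change (Abelianization.of y) ^ 2 = 1 at hy
  rw [← map_pow, ← MonoidHom.mem_ker, Abelianization.ker_of, pow_two] at hy
  exact hy

/-- Every homomorphism from `SL₂` to the isometry group lands in `Ω` when `q ≥ 3`. -/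
theorem range_le_omega {ι : Type} [Fintype ι] [DecidableEq ι] (Q : QuadraticForm F (ι → F))
    (hQ : (QuadraticMap.polarBilin Q).Nondegenerate)
    (hq : 3 ≤ Fintype.card F) (ρ : SL(2, F) →* Cfsg.isometryGroup F (⇑Q)) (g : SL(2, F)) :
    ρ g ∈ Cfsg.Omega F (⇑Q) := by
  classical
  suffices h : (Cfsg.Omega F (⇑Q)).comap ρ = ⊤ by
    have : g ∈ (Cfsg.Omega F (⇑Q)).comap ρ := h ▸ Subgroup.mem_top g
    exact this
  have both : ∀ c : F, ρ (sl 1 c 0 1 (by ring)) ∈ Cfsg.Omega F (⇑Q) ∧ ρ (sl 1 0 c 1 (by ring)) ∈ Cfsg.Omega F (⇑Q) := by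
    intro c
    by_cases h2 : (2 : F) = 0
    · obtain ⟨a, ha0, ha1⟩ : ∃ a : F, a ≠ 0 ∧ a ≠ 1 := by
        by_contra hcon
        push Not at hcon
        have : (Finset.univ : Finset F) ⊆ {0, 1} := fun x _ => by
          by_cases hx : x = 0
          · simp [hx]
          · simp [hcon x hx]
        have := (Finset.card_le_card this).trans Finset.card_le_two
        rw [Finset.card_univ] at this
        omega
      have hne : a * a - 1 ≠ 0 := fun h0 => by
        have : (a - 1) ^ 2 = 0 := by linear_combination h0 - (a - 1) * h2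
        exact ha1 (sub_eq_zero.mp (eq_zero_of_pow_eq_zero this))
      obtain ⟨d, rfl⟩ : ∃ d, c = (a * a - 1) * d := ⟨c / (a * a - 1), (mul_div_cancel₀ c hne).symm⟩
      have hmem : ∀ D E R : SL(2, F), D * E = R * E * D → ρ R ∈ Cfsg.Omega F (⇑Q) := fun D E R e => by
        have hR : R = ⁅D, E⁆ := by rw [commutatorElement_def, e]; group
        rw [hR, map_commutatorElement]
        exact Subgroup.commutator_mem_commutator (Subgroup.mem_top _) (Subgroup.mem_top _)
      refine ⟨hmem (sl a 0 0 a⁻¹ (by field_simp; simp)) (sl 1 d 0 1 (by ring)) _ ?_,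
        hmem (sl a⁻¹ 0 0 a (by field_simp; simp)) (sl 1 0 d 1 (by ring)) _ ?_⟩ <;>
        (refine ext_four ?_ ?_ ?_ ?_ <;> simp [val_mul, sl00, sl01, sl10, sl11] <;> field_simp <;> ring)
    · have hmem : ∀ E R : SL(2, F), R = E * E → ρ R ∈ Cfsg.Omega F (⇑Q) := fun E R e => by
        rw [e, map_mul]; exact square_mem Q hQ hq (ρ E)
      refine ⟨hmem (sl 1 (c / 2) 0 1 (by ring)) _ ?_, hmem (sl 1 0 (c / 2) 1 (by ring)) _ ?_⟩ <;>
        (refine ext_four ?_ ?_ ?_ ?_ <;> simp [val_mul, sl00, sl01, sl10, sl11] <;> field_simp <;> ring)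
  refine Cfsg.Lib.Classical.eq_top_of_transvection_mem _ fun i j hij c => ?_
  rw [Subgroup.mem_comap]
  fin_cases i <;> fin_cases j
  · exact absurd rfl hij
  · convert (both c).1 using 2
    refine ext_four ?_ ?_ ?_ ?_ <;>
      simp [sl00, sl01, sl10, sl11, Matrix.SpecialLinearGroup.transvection, Matrix.transvection, Matrix.single]
  · convert (both c).2 using 2
    refine ext_four ?_ ?_ ?_ ?_ <;>
      simp [sl00, sl01, sl10, sl11, Matrix.SpecialLinearGroup.transvection, Matrix.transvection, Matrix.single]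
  · exact absurd rfl hij

/-- `ρ` induces an isomorphism of the central quotients. -/
theorem pomega_iso {ι : Type} [Fintype ι] [DecidableEq ι] (Q : (ι → F) → F) {G : Type*} [Group G] [Finite G]
    {P : Type*} [Group P] (ρ : G →* Cfsg.isometryGroup F Q) (hρ : ∀ g, ρ g ∈ Cfsg.Omega F Q)
    (hcard : Nat.card (Cfsg.Omega F Q) * Nat.card ρ.ker = Nat.card G) (θ : G →* P) (hθ : Function.Surjective θ)
    (h : ∀ g, θ g = 1 ↔ ∀ a, ρ g * ρ a = ρ a * ρ g) : Nonempty (Cfsg.POmega F Q ≃* P) := by
  let ρ' : G →* Cfsg.Omega F Q := ρ.codRestrict _ hρ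
  have hsurj : Function.Surjective ρ' := by
    intro y
    have hr : ρ.range = Cfsg.Omega F Q := by
      refine Subgroup.eq_of_le_of_card_ge (by rintro _ ⟨g, rfl⟩; exact hρ g) (le_of_eq ?_)
      have h1 := ρ.ker.card_eq_card_quotient_mul_card_subgroup
      rw [Nat.card_congr (QuotientGroup.quotientKerEquivRange ρ).toEquiv, ← hcard] at h1
      exact Nat.eq_of_mul_eq_mul_right Nat.card_pos h1
    obtain ⟨g, hg⟩ : (y : Cfsg.isometryGroup F Q) ∈ ρ.range := by rw [hr]; exact y.2
    exact ⟨g, Subtype.ext hg⟩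
  refine iso_center ρ' hsurj θ hθ fun g => (h g).trans ?_
  exact ⟨fun hc a => Subtype.ext (hc a), fun hc a => congrArg Subtype.val (hc a)⟩

/-- A homomorphism into an isometry group from linear maps. -/
noncomputable def repHom {ι : Type} [Fintype ι] [DecidableEq ι] (Q : (ι → F) → F) {G : Type*} [Group G]
    (L : G → (ι → F) →ₗ[F] (ι → F)) (h1 : L 1 = LinearMap.id) (hmul : ∀ g h, L (g * h) = (L g).comp (L h))
    (hQ : ∀ g x, Q (L g x) = Q x) : G →* Cfsg.isometryGroup F Q :=
  MonoidHom.codRestrict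
    (MonoidHom.toHomUnits
      { toFun := fun g => LinearMap.toMatrix' (L g)
        map_one' := by rw [h1, LinearMap.toMatrix'_id]
        map_mul' := fun g h => by rw [hmul, LinearMap.toMatrix'_comp] })
    _ fun g => fun u _ => by
      show Q (LinearMap.toMatrix' (L g) *ᵥ u) = Q u
      rw [LinearMap.toMatrix'_mulVec]; exact hQ g u

theorem repHom_eq_one {ι : Type} [Fintype ι] [DecidableEq ι] (Q : (ι → F) → F) {G : Type*} [Group G]
    (L : G → (ι → F) →ₗ[F] (ι → F)) (h1 : L 1 = LinearMap.id) (hmul : ∀ g h, L (g * h) = (L g).comp (L h))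
    (hQ : ∀ g x, Q (L g x) = Q x) (g : G) : repHom Q L h1 hmul hQ g = 1 ↔ ∀ x, L g x = x := by
  constructor
  · intro h x
    have h' : LinearMap.toMatrix' (L g) = 1 :=
      congrArg (fun y : Cfsg.isometryGroup F Q => ((y : GL ι F) : Matrix ι ι F)) h
    rw [← LinearMap.toMatrix'_mulVec (f := L g), h', Matrix.one_mulVec]
  · intro h
    refine Subtype.ext (Units.ext ?_)
    show LinearMap.toMatrix' (L g) = 1
    rw [show L g = LinearMap.id from LinearMap.ext h, LinearMap.toMatrix'_id]

theorem card_kernel_pm {G : Type*} [Group G] (K : Subgroup G) (z : G) (hK : ∀ g, g ∈ K ↔ g = 1 ∨ g = z) :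
    (z = 1 → Nat.card K = 1) ∧ (z ≠ 1 → Nat.card K = 2) := by
  constructor
  · intro hz
    rw [Subgroup.card_eq_one, Subgroup.eq_bot_iff_forall]
    intro g hg
    rcases (hK g).mp hg with h | h
    exacts [h, h.trans hz]
  · intro hz
    rw [Nat.card_eq_two_iff]
    refine ⟨⟨1, one_mem K⟩, ⟨z, (hK z).mpr (Or.inr rfl)⟩, fun e => hz (congrArg Subtype.val e).symm, ?_⟩
    ext ⟨g, hg⟩
    simpa [Subtype.ext_iff, eq_comm] using (hK g).mp hg

theorem odd_card_of_two (h2 : (2 : F) ≠ 0) : Odd (Fintype.card F) :=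
  Nat.odd_iff.mpr (FiniteField.odd_card_of_char_ne_two fun h => h2 (by
    haveI := ringChar.of_eq h; exact CharTwo.two_eq_zero))

theorem pomega3_iso (hodd : Odd (Fintype.card F)) :
    Nonempty (Cfsg.POmega F (Cfsg.quadFormOdd 1 F) ≃* Matrix.ProjectiveSpecialLinearGroup (Fin 2) F) := by
  classical
  have h2 := two_ne hodd
  have hq : 3 ≤ Fintype.card F := by
    have := Fintype.one_lt_card (α := F)
    rw [Nat.odd_iff] at hodd
    omega
  rw [← Refl.oddForm_coe]
  set Q := Refl.oddForm 1 F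
  have hQ := Refl.oddForm_nondegenerate (F := F) h2 1
  let a : (Unit ⊕ (Fin 1 ⊕ Fin 1) → F) → Matrix (Fin 2) (Fin 2) F := fun x =>
    !![x (.inl ()), x (.inr (.inl 0)); x (.inr (.inr 0)), -x (.inl ())]
  let b : Matrix (Fin 2) (Fin 2) F → (Unit ⊕ (Fin 1 ⊕ Fin 1) → F) := fun M =>
    Sum.elim (fun _ => M 0 0) (Sum.elim (fun _ => M 0 1) (fun _ => M 1 0))
  let L : SL(2, F) → (Unit ⊕ (Fin 1 ⊕ Fin 1) → F) →ₗ[F] (Unit ⊕ (Fin 1 ⊕ Fin 1) → F) := fun g =>
    { toFun := fun x => b (g.1 * a x * g⁻¹.1)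
      map_add' := fun x y => by
        funext i
        rcases i with i | i | i <;>
          simp [a, b, Matrix.mul_apply, Fin.sum_univ_two, Matrix.SpecialLinearGroup.coe_inv,
            Matrix.adjugate_fin_two] <;> ring
      map_smul' := fun c x => by
        funext i
        rcases i with i | i | i <;>
          simp [a, b, Matrix.mul_apply, Fin.sum_univ_two, Matrix.SpecialLinearGroup.coe_inv,
            Matrix.adjugate_fin_two] <;> ring }
  have hab : ∀ g : SL(2, F), ∀ x, a (b (g.1 * a x * g⁻¹.1)) = g.1 * a x * g⁻¹.1 := fun g x => by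
    ext i j
    fin_cases i <;> fin_cases j <;>
      simp [a, b, Matrix.mul_apply, Fin.sum_univ_two, Matrix.SpecialLinearGroup.coe_inv, Matrix.adjugate_fin_two] <;>
      ring
  have hba : ∀ x, b (a x) = x := fun x => by
    funext i
    rcases i with i | i | i <;> simp [a, b, Subsingleton.elim i 0]
  have h1 : L 1 = LinearMap.id := LinearMap.ext fun x => by
    show b ((1 : SL(2, F)).1 * a x * (1 : SL(2, F))⁻¹.1) = x
    simp [hba]
  have hmul : ∀ g h, L (g * h) = (L g).comp (L h) := fun g h => LinearMap.ext fun x => by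
    show b ((g * h).1 * a x * (g * h)⁻¹.1) = b (g.1 * a (b (h.1 * a x * h⁻¹.1)) * g⁻¹.1)
    rw [hab h x, _root_.mul_inv_rev, Matrix.SpecialLinearGroup.coe_mul, Matrix.SpecialLinearGroup.coe_mul]
    simp only [Matrix.mul_assoc]
  have hQa : ∀ x, Q x = -(a x).det := fun x => by
    simp [Q, Refl.oddForm_coe, Cfsg.quadFormOdd, a, Matrix.det_fin_two]
    ring
  have hQL : ∀ g x, Q (L g x) = Q x := fun g x => by
    rw [hQa, hQa, show a (L g x) = g.1 * a x * g⁻¹.1 from hab g x, Matrix.det_mul, Matrix.det_mul, g.2, g⁻¹.2]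
    simp
  let ρ := repHom (⇑Q) L h1 hmul hQL
  have hker : ∀ g, g ∈ ρ.ker ↔ g = 1 ∨ g = -1 := fun g => by
    rw [MonoidHom.mem_ker, repHom_eq_one]
    constructor
    · intro h
      have hd := det_eq_one g
      have e1 := congrFun (h (Sum.elim (fun _ => 1) (fun _ => 0))) (.inr (.inl 0))
      have e2 := congrFun (h (Sum.elim (fun _ => 1) (fun _ => 0))) (.inr (.inr 0))
      have e3 := congrFun (h (Sum.elim (fun _ => 0) (Sum.elim (fun _ => 1) (fun _ => 0)))) (.inr (.inl 0))
      have e4 := congrFun (h (Sum.elim (fun _ => 1) (fun _ => 0))) (.inl ())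
      simp [L, a, b, Matrix.mul_apply, Fin.sum_univ_two, Matrix.SpecialLinearGroup.coe_inv,
        Matrix.adjugate_fin_two] at e1 e2 e3 e4
      have f1 : g.1 0 1 = 0 := by grind
      have f2 : g.1 1 0 = 0 := by grind
      have f3 : g.1 0 0 ^ 2 = 1 := by grind
      have f4 : g.1 1 1 = g.1 0 0 := by grind
      rcases sq_eq_one_iff.mp f3 with e | e
      · left; refine ext_four ?_ ?_ ?_ ?_ <;> simp [e, f1, f2, f4]
      · right; refine ext_four ?_ ?_ ?_ ?_ <;> simp [val_neg, e, f1, f2, f4]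
    · rintro (rfl | rfl) x
      · rw [h1]; rfl
      · show b ((-1 : SL(2, F)).1 * a x * (-1 : SL(2, F))⁻¹.1) = x
        rw [show ((-1 : SL(2, F))⁻¹) = -1 from inv_eq_of_mul_eq_one_left (by simp)]
        simp [hba]
  have hkc : Nat.card ρ.ker = 2 := (card_kernel_pm _ _ hker).2 (neg_one_ne hodd)
  refine pomega_iso (⇑Q) ρ (range_le_omega Q hQ hq ρ) ?_ π (QuotientGroup.mk'_surjective _) ?_
  · rw [hkc]
    have h4 := Refl.index_omega_odd Q h2 hQ (by simp)
    have hm := (Cfsg.Omega F (⇑Q)).card_mul_index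
    have hO := OrthCard.card_odd (F := F) h2 1
    rw [← Refl.oddForm_coe] at hO
    rw [h4, hO, Nat.card_eq_fintype_card (α := F)] at hm
    simp only [OrthCard.prodQ, Finset.prod_range_succ, Finset.prod_range_zero, one_mul, zero_add, mul_one,
      one_pow, pow_one] at hm
    rw [SLTwoTori.card_SL2]
    linarith
  · intro g
    constructor
    · intro hg a
      have : ρ g = 1 := MonoidHom.mem_ker.mp ((hker g).mpr (π_one_iff.mp hg))
      rw [this, one_mul, mul_one]
    · intro h
      refine π_one_iff.mpr (sl_central fun x => ?_)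
      have e : ρ (g * x * (x * g)⁻¹) = 1 := by
        rw [map_mul, map_inv, map_mul, map_mul, h x, mul_inv_cancel]
      have e' : π (g * x * (x * g)⁻¹) = 1 := π_one_iff.mpr ((hker _).mp e)
      rw [map_mul, map_inv, mul_inv_eq_one, map_mul, map_mul] at e'
      exact e'

set_option maxHeartbeats 1000000 in
theorem pomega4_iso (hq : 3 ≤ Fintype.card F) :
    Nonempty (Cfsg.POmega F (Cfsg.quadFormPlus 2 F) ≃*
      Matrix.ProjectiveSpecialLinearGroup (Fin 2) F × Matrix.ProjectiveSpecialLinearGroup (Fin 2) F) := by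
  classical
  rw [show Cfsg.quadFormPlus 2 F = ⇑(HypQuad.plusForm 2 F) from (funext (HypQuad.plusForm_apply 2)).symm]
  set Q := HypQuad.plusForm 2 F
  have hQ := HypQuad.plusForm_nondegenerate (F := F) 2
  let a : (Fin 2 ⊕ Fin 2 → F) → Matrix (Fin 2) (Fin 2) F := fun x =>
    !![x (.inl 0), -x (.inl 1); x (.inr 1), x (.inr 0)]
  let b : Matrix (Fin 2) (Fin 2) F → (Fin 2 ⊕ Fin 2 → F) := fun M =>
    Sum.elim ![M 0 0, -M 0 1] ![M 1 1, M 1 0]
  have hab : ∀ M, a (b M) = M := fun M => by
    ext i j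
    fin_cases i <;> fin_cases j <;> simp [a, b]
  have hba : ∀ x, b (a x) = x := fun x => by
    funext i
    rcases i with i | i <;> fin_cases i <;> simp [a, b]
  let L : SL(2, F) × SL(2, F) → (Fin 2 ⊕ Fin 2 → F) →ₗ[F] (Fin 2 ⊕ Fin 2 → F) := fun g =>
    { toFun := fun x => b (g.1.1 * a x * g.2⁻¹.1)
      map_add' := fun x y => by
        funext i
        rcases i with i | i <;> fin_cases i <;>
          simp [a, b, Matrix.mul_apply, Fin.sum_univ_two, Matrix.SpecialLinearGroup.coe_inv,
            Matrix.adjugate_fin_two] <;> ring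
      map_smul' := fun c x => by
        funext i
        rcases i with i | i <;> fin_cases i <;>
          simp [a, b, Matrix.mul_apply, Fin.sum_univ_two, Matrix.SpecialLinearGroup.coe_inv,
            Matrix.adjugate_fin_two] <;> ring }
  have h1 : L 1 = LinearMap.id := LinearMap.ext fun x => by
    show b ((1 : SL(2, F)).1 * a x * (1 : SL(2, F))⁻¹.1) = x
    simp [hba]
  have hmul : ∀ g h, L (g * h) = (L g).comp (L h) := fun g h => LinearMap.ext fun x => by
    show b ((g.1 * h.1).1 * a x * (g.2 * h.2)⁻¹.1) = b (g.1.1 * a (b (h.1.1 * a x * h.2⁻¹.1)) * g.2⁻¹.1)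
    rw [hab, _root_.mul_inv_rev, Matrix.SpecialLinearGroup.coe_mul, Matrix.SpecialLinearGroup.coe_mul]
    simp only [Matrix.mul_assoc]
  have hQa : ∀ x, Q x = (a x).det := fun x => by
    simp [Q, HypQuad.plusForm_apply, Cfsg.quadFormPlus, a, Matrix.det_fin_two, Fin.sum_univ_two]
  have hQL : ∀ g x, Q (L g x) = Q x := fun g x => by
    rw [hQa, hQa]
    show (a (b (g.1.1 * a x * g.2⁻¹.1))).det = _
    rw [hab, Matrix.det_mul, Matrix.det_mul, g.1.2,
      g.2⁻¹.2]
    simp
  let ρ := repHom (⇑Q) L h1 hmul hQL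
  have hker : ∀ g, g ∈ ρ.ker ↔ g = 1 ∨ g = (-1, -1) := fun g => by
    rw [MonoidHom.mem_ker, repHom_eq_one]
    constructor
    · intro h
      obtain ⟨g, k⟩ := g
      have hg : ∀ X : Matrix (Fin 2) (Fin 2) F, g.1 * X * k⁻¹.1 = X := fun X => by
        have e := congrArg a (h (b X))
        change a (b (g.1 * a (b X) * k⁻¹.1)) = a (b X) at e
        rw [hab, hab] at e
        exact e
      have h1' : g = k := by
        have e := hg 1
        rw [mul_one, ← Matrix.SpecialLinearGroup.coe_mul] at e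
        exact mul_inv_eq_one.mp (Subtype.ext e)
      subst h1'
      have hd := det_eq_one g
      have e1 := congrFun (congrFun (hg !![1, 0; 0, 0]) 0) 1
      have e2 := congrFun (congrFun (hg !![1, 0; 0, 0]) 1) 0
      have e3 := congrFun (congrFun (hg !![0, 1; 0, 0]) 0) 1
      have e4 := congrFun (congrFun (hg !![1, 0; 0, 0]) 0) 0
      simp [Matrix.mul_apply, Fin.sum_univ_two, Matrix.SpecialLinearGroup.coe_inv,
        Matrix.adjugate_fin_two] at e1 e2 e3 e4
      have f1 : g.1 0 1 = 0 := by grind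
      have f2 : g.1 1 0 = 0 := by grind
      have f3 : g.1 0 0 ^ 2 = 1 := by grind
      have f4 : g.1 1 1 = g.1 0 0 := by grind
      rcases sq_eq_one_iff.mp f3 with e | e
      · left
        have : g = 1 := ext_four (by simp [e]) (by simp [f1]) (by simp [f2]) (by simp [e, f4])
        rw [this]; rfl
      · right
        have : g = -1 := ext_four (by simp [val_neg, e]) (by simp [val_neg, f1]) (by simp [val_neg, f2])
          (by simp [val_neg, e, f4])
        rw [this]
    · rintro (rfl | rfl) x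
      · rw [h1]; rfl
      · show b ((-1 : SL(2, F)).1 * a x * (-1 : SL(2, F))⁻¹.1) = x
        rw [show ((-1 : SL(2, F))⁻¹) = -1 from inv_eq_of_mul_eq_one_left (by simp)]
        simp [hba]
  let θ : SL(2, F) × SL(2, F) →* _ := (π (F := F)).prodMap (π (F := F))
  have hθ : Function.Surjective θ :=
    Function.Surjective.prodMap (QuotientGroup.mk'_surjective _) (QuotientGroup.mk'_surjective _)
  have hρ : ∀ g, ρ g ∈ Cfsg.Omega F (⇑Q) := fun g => by
    rw [show g = (g.1, 1) * (1, g.2) by simp, map_mul]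
    exact mul_mem (range_le_omega Q hQ hq (ρ.comp (MonoidHom.inl _ _)) g.1)
      (range_le_omega Q hQ hq (ρ.comp (MonoidHom.inr _ _)) g.2)
  refine pomega_iso (⇑Q) ρ hρ ?_ θ hθ ?_
  · have hm := (Cfsg.Omega F (⇑Q)).card_mul_index
    have hO := OrthCard.card_plus (F := F) 1
    rw [show Cfsg.quadFormPlus (1 + 1) F = ⇑Q from (funext (HypQuad.plusForm_apply 2)).symm] at hO
    rw [hO, Nat.card_eq_fintype_card (α := F)] at hm
    simp only [OrthCard.prodQ, Finset.prod_range_succ, Finset.prod_range_zero, one_mul, zero_add, mul_one,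
      one_pow, pow_one, show (1 + 1) * 1 = 2 from rfl, show (1 + 1 : ℕ) = 2 from rfl] at hm
    rw [Nat.card_prod, SLTwoTori.card_SL2]
    have hring : ∀ N M : ℕ, N * M * (N * M) = N ^ 2 * M * M := fun N M => by ring
    by_cases h2 : (2 : F) = 0
    · haveI : CharP F 2 := CharTwo.of_one_ne_zero_of_two_eq_zero one_ne_zero h2
      have hneg : (-1 : SL(2, F)) = 1 := by
        refine ext_four ?_ ?_ ?_ ?_ <;> simp [CharTwo.neg_eq]
      rw [(card_kernel_pm _ _ hker).1 (by rw [hneg]; rfl)]
      rw [Refl.index_omega_two Q hQ (by simp) (Or.inl (by omega))] at hm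
      rw [hring]
      linarith
    · have hodd := odd_card_of_two h2
      rw [(card_kernel_pm _ _ hker).2 (fun h => neg_one_ne hodd (congrArg Prod.fst h))]
      rw [Refl.index_omega_odd Q h2 hQ (by simp)] at hm
      rw [hring]
      linarith
  · intro g
    constructor
    · intro hg x
      have e1 : π g.1 = 1 := congrArg Prod.fst hg
      have e2 : π g.2 = 1 := congrArg Prod.snd hg
      have hc : g * x = x * g := by
        refine Prod.ext ?_ ?_
        · rcases π_one_iff.mp e1 with e | e <;> simp [e]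
        · rcases π_one_iff.mp e2 with e | e <;> simp [e]
      rw [← map_mul, ← map_mul, hc]
    · intro h
      have hcomm : ∀ x : SL(2, F) × SL(2, F), π g.1 * π x.1 = π x.1 * π g.1 ∧ π g.2 * π x.2 = π x.2 * π g.2 := fun x => by
        have e : ρ (g * x * (x * g)⁻¹) = 1 := by
          rw [map_mul, map_inv, map_mul, map_mul, h x, mul_inv_cancel]
        have e' : θ (g * x * (x * g)⁻¹) = 1 := by
          rcases (hker _).mp e with e | e <;> rw [e]
          · exact map_one θ
          · exact Prod.ext π_neg_one π_neg_one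
        rw [map_mul, map_inv, mul_inv_eq_one, map_mul, map_mul] at e'
        exact ⟨congrArg Prod.fst e', congrArg Prod.snd e'⟩
      refine Prod.ext (π_one_iff.mpr (sl_central fun x => (hcomm (x, 1)).1))
        (π_one_iff.mpr (sl_central fun x => (hcomm (1, x)).2))

end Cfsg.Lib.Classical.LowRank
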