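import Mathlib
import Cfsg.Agent.Classical.Orth.LowRankIso
import Cfsg.Agent.Classical.Misc.PSLFourTwo

/-! The Klein correspondence `PΩ⁺₆(q) ≅ PSL₄(q)`. -/

set_option autoImplicit false
set_option linter.unusedSimpArgs false
set_option linter.unusedSectionVars false
set_option linter.style.haveILetI false
set_option linter.flexible false

namespace Cfsg.Lib.Classical.LowRank

open Matrix
open scoped commutatorElement

universe u

variable {F : Type u} [Field F] [Fintype F]

/-- The kernel of a non-trivial homomorphism from a quasisimple group is central. -/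
theorem ker_le_center {G H : Type*} [Group G] [Group H] (hG : commutator G = ⊤)
    (hs : IsSimpleGroup (G ⧸ Subgroup.center G)) (ρ : G →* H) {g₀ : G} (hg : ρ g₀ ≠ 1) :
    ρ.ker ≤ Subgroup.center G := by
  let π := QuotientGroup.mk' (Subgroup.center G)
  haveI : (ρ.ker.map π).Normal := Subgroup.Normal.map inferInstance π (QuotientGroup.mk'_surjective _)
  rcases hs.eq_bot_or_eq_top_of_normal (ρ.ker.map π) inferInstance with h | h
  · intro g hg'
    have : π g ∈ ρ.ker.map π := Subgroup.mem_map_of_mem π hg'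
    rw [h, Subgroup.mem_bot] at this
    exact (QuotientGroup.eq_one_iff g).mp this
  · exfalso
    have hsup : ρ.ker ⊔ Subgroup.center G = ⊤ := by
      have h' := congrArg (Subgroup.comap π) h
      rwa [Subgroup.comap_map_eq, QuotientGroup.ker_mk', Subgroup.comap_top] at h'
    have hmem : ∀ x, ∃ z ∈ Subgroup.center G, ρ x = ρ z := fun x => by
      have hx : x ∈ ρ.ker ⊔ Subgroup.center G := hsup.symm ▸ Subgroup.mem_top x
      obtain ⟨k, hk, z, hz, rfl⟩ := Subgroup.mem_sup_of_normal_right.mp hx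
      exact ⟨z, hz, by rw [map_mul, MonoidHom.mem_ker.mp hk, one_mul]⟩
    have hc : commutator G ≤ ρ.ker := by
      rw [commutator_def, Subgroup.commutator_le]
      intro x _ y _
      obtain ⟨z, hz, hx⟩ := hmem x
      rw [MonoidHom.mem_ker, map_commutatorElement, hx, ← map_commutatorElement,
        commutatorElement_eq_one_iff_commute.mpr ((Subgroup.mem_center_iff.mp hz y).symm), map_one]
    exact hg (MonoidHom.mem_ker.mp (hc (hG ▸ Subgroup.mem_top g₀)))

/-- In a perfect group, an element with central commutators is central. -/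
theorem central_of_commutators {G : Type*} [Group G] (hG : commutator G = ⊤) {g : G}
    (h : ∀ x, ⁅g, x⁆ ∈ Subgroup.center G) : g ∈ Subgroup.center G := by
  let f : G →* Subgroup.center G := MonoidHom.mk' (fun x => ⟨⁅g, x⁆, h x⟩) fun x y => Subtype.ext (by
    show ⁅g, x * y⁆ = ⁅g, x⁆ * ⁅g, y⁆
    have hy := Subgroup.mem_center_iff.mp (h y) x
    calc ⁅g, x * y⁆ = ⁅g, x⁆ * (x * ⁅g, y⁆) * x⁻¹ := by simp only [commutatorElement_def]; group
      _ = ⁅g, x⁆ * ⁅g, y⁆ := by rw [hy]; group)
  have hc : commutator G ≤ f.ker := by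
    rw [commutator_def, Subgroup.commutator_le]
    intro x _ y _
    rw [MonoidHom.mem_ker, map_commutatorElement, commutatorElement_eq_one_iff_commute]
    exact Subtype.ext (Subgroup.mem_center_iff.mp (f y).2 _)
  rw [Subgroup.mem_center_iff]
  intro x
  have : f x = 1 := MonoidHom.mem_ker.mp (hc (hG ▸ Subgroup.mem_top x))
  exact (commutatorElement_eq_one_iff_commute.mp (congrArg Subtype.val this : ⁅g, x⁆ = 1)).symm

/-- A quasisimple group mapped onto `Ω` gives `PΩ`. -/
theorem perfect_iso {ι : Type} [Fintype ι] [DecidableEq ι] (Q : (ι → F) → F) {G : Type*} [Group G] [Finite G]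
    (hG : commutator G = ⊤) (ρ : G →* Cfsg.isometryGroup F Q) (hker : ρ.ker ≤ Subgroup.center G)
    (hcard : Nat.card (Cfsg.Omega F Q) * Nat.card ρ.ker = Nat.card G) :
    Nonempty (Cfsg.POmega F Q ≃* G ⧸ Subgroup.center G) := by
  have hρ : ∀ g, ρ g ∈ Cfsg.Omega F Q := fun g => by
    have hle : (commutator G).map ρ ≤ Cfsg.Omega F Q := by
      rw [commutator_def, Subgroup.map_commutator]
      exact Subgroup.commutator_mono le_top le_top
    exact hle (Subgroup.mem_map_of_mem ρ (hG ▸ Subgroup.mem_top g))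
  refine pomega_iso Q ρ hρ hcard (QuotientGroup.mk' _) (QuotientGroup.mk'_surjective _) fun g => ?_
  rw [QuotientGroup.mk'_apply, QuotientGroup.eq_one_iff]
  constructor
  · intro hg a
    rw [← map_mul, ← map_mul, (Subgroup.mem_center_iff.mp hg a)]
  · intro h
    refine central_of_commutators hG fun x => hker ?_
    rw [MonoidHom.mem_ker, map_commutatorElement, commutatorElement_eq_one_iff_commute]
    exact h x

theorem card_SL_four : Nat.card (SpecialLinearGroup (Fin 4) F) =
    Fintype.card F ^ 6 * ((Fintype.card F ^ 2 - 1) * (Fintype.card F ^ 3 - 1) * (Fintype.card F ^ 4 - 1)) := by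
  have h := Cfsg.Lib.Classical.card_SL_mul_eq_prod (F := F) (n := 4) (by norm_num)
  have h1 : 1 < Fintype.card F := Fintype.one_lt_card
  apply Nat.eq_of_mul_eq_mul_left (show 0 < Fintype.card F - 1 by omega)
  rw [h]
  generalize Fintype.card F = N
  have e1 : N ^ 4 - N = N * (N ^ 3 - 1) := by rw [Nat.mul_sub]; ring_nf
  have e2 : N ^ 4 - N ^ 2 = N ^ 2 * (N ^ 2 - 1) := by rw [Nat.mul_sub]; ring_nf
  have e3 : N ^ 4 - N ^ 3 = N ^ 3 * (N - 1) := by rw [Nat.mul_sub]; ring_nf
  simp only [Fin.prod_univ_four, Fin.val_zero, Fin.val_one, Fin.val_two, pow_zero, pow_one,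
    show ((3 : Fin 4) : ℕ) = 3 from rfl]
  rw [e1, e2, e3]
  ring

theorem klein_iso : Nonempty (Cfsg.POmega F (Cfsg.quadFormPlus 3 F) ≃* ProjectiveSpecialLinearGroup (Fin 4) F) := by
  classical
  have hG := Cfsg.Lib.Classical.SL_commutator_eq_top (ι := Fin 4) (F := F) (by simp)
  have hs := Cfsg.Lib.Classical.isSimpleGroup_PSL_fin (F := F) (n := 4) (by norm_num) (by omega)
  let ρ := PSLFourTwo.hom (F := F)
  have hne : ρ ⟨Matrix.transvection 0 1 1, Matrix.det_transvection_of_ne _ _ (by decide) _⟩ ≠ 1 := fun h1 => by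
    have h2 : PSLFourTwo.ext2 (Matrix.transvection (0 : Fin 4) 1 (1 : F)) (Sum.inl 1) (Sum.inr 2) =
        (1 : Matrix (Fin 3 ⊕ Fin 3) (Fin 3 ⊕ Fin 3) F) (Sum.inl 1) (Sum.inr 2) :=
      congrArg (fun x : Matrix (Fin 3 ⊕ Fin 3) (Fin 3 ⊕ Fin 3) F => x (Sum.inl 1) (Sum.inr 2))
        (congrArg Units.val (congrArg Subtype.val h1))
    simp [PSLFourTwo.ext2, PSLFourTwo.minor, PSLFourTwo.pr, Matrix.transvection, Matrix.one_apply,
      Matrix.single_apply] at h2
  have hle := ker_le_center hG hs ρ hne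
  let z : SpecialLinearGroup (Fin 4) F := ⟨-1, by simp [Matrix.det_neg]; norm_num⟩
  have hval : ∀ g : SpecialLinearGroup (Fin 4) F, g ∈ ρ.ker ↔ PSLFourTwo.ext2 g.1 = 1 := fun g => by
    rw [MonoidHom.mem_ker]
    exact ⟨fun h => congrArg Units.val (congrArg Subtype.val h), fun h => Subtype.ext (Units.ext h)⟩
  have hker : ∀ g, g ∈ ρ.ker ↔ g = 1 ∨ g = z := by
    intro g
    constructor
    · intro hg
      obtain ⟨r, hr, hrA⟩ := Matrix.SpecialLinearGroup.mem_center_iff.mp (hle hg)
      have e := congrFun (congrFun ((hval _).mp hg) (Sum.inl 0)) (Sum.inl 0)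
      rw [← hrA] at e
      simp [PSLFourTwo.ext2, PSLFourTwo.minor, PSLFourTwo.pr] at e
      rcases sq_eq_one_iff.mp (by linear_combination e : r ^ 2 = 1) with h | h <;> subst h
      · left; exact Subtype.ext (hrA.symm.trans (map_one (Matrix.scalar (Fin 4))))
      · right; exact Subtype.ext (hrA.symm.trans (by rw [map_neg, map_one]))
    · rintro (rfl | rfl)
      · exact one_mem _
      · rw [hval]
        show PSLFourTwo.ext2 (-1 : Matrix (Fin 4) (Fin 4) F) = 1
        ext (i | i) (j | j) <;> fin_cases i <;> fin_cases j <;>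
          simp [PSLFourTwo.ext2, PSLFourTwo.minor, PSLFourTwo.pr, Matrix.one_apply]
  refine perfect_iso _ hG ρ hle ?_
  have hO := OrthCard.card_plus (F := F) 2
  have hQe : Cfsg.quadFormPlus 3 F = ⇑(HypQuad.plusForm 3 F) := (funext (HypQuad.plusForm_apply 3)).symm
  have hQ := HypQuad.plusForm_nondegenerate (F := F) 3
  have hm := (Cfsg.Omega F (Cfsg.quadFormPlus 3 F)).card_mul_index
  rw [show (2 + 1 : ℕ) = 3 from rfl, Nat.card_eq_fintype_card (α := F)] at hO
  rw [hO] at hm
  simp only [OrthCard.prodQ, Finset.prod_range_succ, Finset.prod_range_zero, one_mul, zero_add, mul_one,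
    show (3 : ℕ) * 2 = 6 from rfl, show 2 * (1 + 1) = 4 from rfl] at hm
  have hidx2 : ∀ _ : CharP F 2, (Cfsg.Omega F (Cfsg.quadFormPlus 3 F)).index = 2 := fun _ => by
    rw [hQe]; exact Refl.index_omega_two _ hQ (by simp) (Or.inr (by simp))
  have hidx4 : (2 : F) ≠ 0 → (Cfsg.Omega F (Cfsg.quadFormPlus 3 F)).index = 4 := fun h2 => by
    rw [hQe]; exact Refl.index_omega_odd _ h2 hQ (by simp)
  rw [card_SL_four]
  by_cases h2 : (2 : F) = 0
  · haveI : CharP F 2 := CharTwo.of_one_ne_zero_of_two_eq_zero one_ne_zero h2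
    rw [(card_kernel_pm _ _ hker).1 (Subtype.ext (by show (-1 : Matrix (Fin 4) (Fin 4) F) = 1; ext i j; simp [CharTwo.neg_eq]))]
    rw [hidx2 inferInstance] at hm
    linarith
  · have hz : z ≠ 1 := fun h => h2 (by
      have e := congrFun (congrFun (congrArg Subtype.val h) 0) 0
      simp [z] at e
      linear_combination -e)
    rw [(card_kernel_pm _ _ hker).2 hz]
    rw [hidx4 h2] at hm
    linarith

end Cfsg.Lib.Classical.LowRank
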