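import Mathlib
import Cfsg.Agent.Classical.Orth.OmegaGen
import Cfsg.Agent.Classical.IwasawaQuot

/-! Simplicity of `PΩ(Q)` in dimension at least seven, by the action on singular points. -/

set_option autoImplicit false
set_option linter.style.haveILetI false

namespace Cfsg.Lib.Classical.Refl

open Matrix MulAction
open scoped commutatorElement Pointwise

universe u

variable {F : Type u} [Field F] {ι : Type} [Fintype ι] [DecidableEq ι] (Q : QuadraticForm F (ι → F))

theorem siegelMap_smul (u z : ι → F) (c : F) (x : ι → F) : siegelMap Q (c • u) z x = siegelMap Q u (c • z) x := by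
  funext i
  simp only [siegelMap, Pi.add_apply, Pi.smul_apply, smul_eq_mul, QuadraticMap.polar_smul_left, QuadraticMap.map_smul]
  ring

theorem siegelG_congr {u u' z z' : ι → F} (hu : Q u = 0) (huz : QuadraticMap.polar (⇑Q) u z = 0) (hu' : Q u' = 0)
    (huz' : QuadraticMap.polar (⇑Q) u' z' = 0) (h : ∀ x, siegelMap Q u z x = siegelMap Q u' z' x) :
    siegelG Q hu huz = siegelG Q hu' huz' :=
  ext_mulVec Q fun x => by rw [mat_siegelG, mat_siegelG, h]

/-- The singular points. -/
def SPoint : Type u := {L : Submodule F (ι → F) // ∃ u : ι → F, u ≠ 0 ∧ Q u = 0 ∧ L = Submodule.span F {u}}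

/-- A representative. -/
noncomputable def rep (L : SPoint Q) : ι → F := Classical.choose L.2

theorem rep_ne (L : SPoint Q) : rep Q L ≠ 0 := (Classical.choose_spec L.2).1

theorem rep_sing (L : SPoint Q) : Q (rep Q L) = 0 := (Classical.choose_spec L.2).2.1

theorem rep_span (L : SPoint Q) : L.1 = Submodule.span F {rep Q L} := (Classical.choose_spec L.2).2.2

/-- The point of a singular vector. -/
def mkPt (u : ι → F) (h0 : u ≠ 0) (hu : Q u = 0) : SPoint Q := ⟨Submodule.span F {u}, u, h0, hu, rfl⟩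

theorem mkPt_rep (L : SPoint Q) : mkPt Q (rep Q L) (rep_ne Q L) (rep_sing Q L) = L := Subtype.ext (rep_span Q L).symm

theorem exists_rep_smul {u : ι → F} (h0 : u ≠ 0) (hu : Q u = 0) :
    ∃ c : F, c ≠ 0 ∧ rep Q (mkPt Q u h0 hu) = c • u := by
  have h : rep Q (mkPt Q u h0 hu) ∈ Submodule.span F {u} := by
    rw [show Submodule.span F {u} = (mkPt Q u h0 hu).1 from rfl, rep_span]
    exact Submodule.mem_span_singleton_self _
  obtain ⟨c, hc⟩ := Submodule.mem_span_singleton.mp h
  exact ⟨c, fun h0' => rep_ne Q _ (by rw [← hc, h0', zero_smul]), hc.symm⟩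

theorem mat_ne_zero (g : Cfsg.isometryGroup F (⇑Q)) {u : ι → F} (h : u ≠ 0) : mat Q g *ᵥ u ≠ 0 := fun h0 => by
  have := mulVec_inv_cancel Q g u
  rw [h0, Matrix.mulVec_zero] at this
  exact h this.symm

noncomputable instance : MulAction (Cfsg.isometryGroup F (⇑Q)) (SPoint Q) where
  smul g L := ⟨L.1.map (Matrix.toLin' (mat Q g)), by
    refine ⟨mat Q g *ᵥ rep Q L, mat_ne_zero Q g (rep_ne Q L), by rw [(mem_iff Q).mp g.2, rep_sing], ?_⟩
    rw [rep_span, Submodule.map_span, Set.image_singleton, Matrix.toLin'_apply]⟩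
  one_smul L := Subtype.ext (by
    show L.1.map (Matrix.toLin' (mat Q 1)) = L.1
    rw [show mat Q 1 = 1 from rfl, Matrix.toLin'_one, Submodule.map_id])
  mul_smul g h L := Subtype.ext (by
    show L.1.map (Matrix.toLin' (mat Q (g * h))) = (L.1.map (Matrix.toLin' (mat Q h))).map (Matrix.toLin' (mat Q g))
    rw [← Submodule.map_comp, ← Matrix.toLin'_mul]
    rfl)

theorem smul_mkPt (g : Cfsg.isometryGroup F (⇑Q)) {u : ι → F} (h0 : u ≠ 0) (hu : Q u = 0) :
    g • mkPt Q u h0 hu = mkPt Q (mat Q g *ᵥ u) (mat_ne_zero Q g h0) (by rw [(mem_iff Q).mp g.2, hu]) := by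
  refine Subtype.ext ?_
  show (Submodule.span F {u}).map (Matrix.toLin' (mat Q g)) = Submodule.span F {mat Q g *ᵥ u}
  rw [Submodule.map_span, Set.image_singleton, Matrix.toLin'_apply]

theorem mkPt_smul {u : ι → F} (h0 : u ≠ 0) (hu : Q u = 0) {c : F} (hc : c ≠ 0) {v : ι → F} (hv0 : v ≠ 0)
    (hv : Q v = 0) (h : v = c • u) : mkPt Q v hv0 hv = mkPt Q u h0 hu := by
  refine Subtype.ext ?_
  show Submodule.span F {v} = Submodule.span F {u}
  rw [h, Submodule.span_singleton_smul_eq (IsUnit.mk0 c hc)]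

theorem finrank_span_two (a b : ι → F) : Module.finrank F (Submodule.span F ({a, b} : Set (ι → F))) ≤ 2 := by
  classical
  refine (finrank_span_le_card _).trans ?_
  rw [Set.toFinset_insert, Set.toFinset_singleton]
  exact Finset.card_le_two

variable [Finite F] (hQ : (QuadraticMap.polarBilin Q).Nondegenerate) (hn : 7 ≤ Fintype.card ι)

include hQ hn

omit [Finite F] hn in
theorem exists_dual (f : Module.Dual F (ι → F)) : ∃ y, ∀ x, QuadraticMap.polar (⇑Q) x y = f x := by
  obtain ⟨y, hy⟩ := WittQuad.exists_partner_vec Q hQ f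
  exact ⟨y, hy⟩

theorem exists_omega_map {u v : ι → F} (hu0 : u ≠ 0) (hv0 : v ≠ 0) (h : Q u = Q v) :
    ∃ g ∈ Cfsg.Omega F (⇑Q), mat Q g *ᵥ u = v := by
  obtain ⟨g, hg⟩ := exists_map Q hQ hu0 hv0 h
  have hle : Module.finrank F (Submodule.span F ({u} : Set (ι → F))) = 1 := finrank_span_singleton hu0
  obtain ⟨g', hg', e⟩ := exists_omega_agree Q hQ (by omega) (Submodule.span F {u}) (by omega) g
  exact ⟨g', hg', (e u (Submodule.mem_span_singleton_self u)).trans hg⟩

theorem pretransitive : IsPretransitive (Cfsg.Omega F (⇑Q)) (SPoint Q) := by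
  refine ⟨fun a b => ?_⟩
  obtain ⟨g, hg, e⟩ := exists_omega_map Q hQ hn (rep_ne Q a) (rep_ne Q b) (by rw [rep_sing, rep_sing])
  refine ⟨⟨g, hg⟩, ?_⟩
  show g • a = b
  rw [← mkPt_rep Q a, smul_mkPt]
  refine (mkPt_smul Q (rep_ne Q b) (rep_sing Q b) one_ne_zero _ _ ?_).trans (mkPt_rep Q b)
  rw [one_smul, e]

/-- The stabiliser of a point is transitive on each of its two suborbits. -/
theorem suborbit (a b c : SPoint Q) (hba : b ≠ a) (hca : c ≠ a)
    (h : QuadraticMap.polar (⇑Q) (rep Q a) (rep Q b) = 0 ↔ QuadraticMap.polar (⇑Q) (rep Q a) (rep Q c) = 0) :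
    ∃ g ∈ Cfsg.Omega F (⇑Q), g • a = a ∧ g • b = c := by
  set u := rep Q a
  set v := rep Q b
  set w := rep Q c
  have notspan : ∀ (d : SPoint Q), d ≠ a → rep Q d ∉ Submodule.span F {u} := by
    intro d hd hm
    obtain ⟨k, hk⟩ := Submodule.mem_span_singleton.mp hm
    apply hd
    rw [← mkPt_rep Q d, ← mkPt_rep Q a]
    exact mkPt_smul Q _ _ (fun hk0 => rep_ne Q d (by rw [← hk, hk0, zero_smul])) _ _ hk.symm
  have fin : ∀ g ∈ Cfsg.Omega F (⇑Q), ∀ k : F, k ≠ 0 → mat Q g *ᵥ u = u → mat Q g *ᵥ v = k • w →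
      ∃ g ∈ Cfsg.Omega F (⇑Q), g • a = a ∧ g • b = c := by
    intro g hg k hk h1 h2
    refine ⟨g, hg, ?_, ?_⟩
    · rw [← mkPt_rep Q a, smul_mkPt]
      exact mkPt_smul Q _ _ one_ne_zero _ _ (by rw [one_smul]; exact h1)
    · rw [← mkPt_rep Q b, smul_mkPt]
      exact (mkPt_smul Q (rep_ne Q c) (rep_sing Q c) hk _ _ h2).trans (mkPt_rep Q c)
  by_cases hb : QuadraticMap.polar (⇑Q) u v = 0
  · have hc := h.mp hb
    obtain ⟨e, he, hfix, hev⟩ := WittQuad.exists_move_fix Q hQ (Submodule.span F {u}) (a := v) (b := w)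
      (notspan b hba) (notspan c hca) (by rw [rep_sing, rep_sing]) (fun x hx => by
        obtain ⟨k, rfl⟩ := Submodule.mem_span_singleton.mp hx
        rw [QuadraticMap.polar_smul_left, QuadraticMap.polar_smul_left, hb, hc])
    obtain ⟨g, hg⟩ := exists_of_equiv Q e he
    have := finrank_span_two u v
    obtain ⟨g', hg', e'⟩ := exists_omega_agree Q hQ (by omega) (Submodule.span F {u, v}) (by omega) g
    exact fin g' hg' 1 one_ne_zero
      ((e' u (Submodule.subset_span (by simp))).trans ((hg u).trans (hfix u (Submodule.mem_span_singleton_self u))))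
      ((e' v (Submodule.subset_span (by simp))).trans ((hg v).trans (by rw [one_smul]; exact hev)))
  · have hc : QuadraticMap.polar (⇑Q) u w ≠ 0 := fun h' => hb (h.mpr h')
    set α := QuadraticMap.polar (⇑Q) u v with hα
    set γ := QuadraticMap.polar (⇑Q) u w with hγ
    set t := QuadraticMap.polar (⇑Q) v w * α⁻¹ * γ⁻¹ with ht
    set z := γ⁻¹ • w - α⁻¹ • v - t • u with hz
    have huu : QuadraticMap.polar (⇑Q) u u = 0 := by rw [polar_self_two, rep_sing, mul_zero]
    have hvv : QuadraticMap.polar (⇑Q) v v = 0 := by rw [polar_self_two, rep_sing, mul_zero]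
    have huz : QuadraticMap.polar (⇑Q) u z = 0 := by
      simp only [hz, QuadraticMap.polar_sub_right, QuadraticMap.polar_smul_right, smul_eq_mul, huu, ← hα, ← hγ]
      field_simp
      ring
    have hvz : QuadraticMap.polar (⇑Q) v z = 0 := by
      simp only [hz, QuadraticMap.polar_sub_right, QuadraticMap.polar_smul_right, smul_eq_mul, hvv,
        QuadraticMap.polar_comm (⇑Q) v u, ← hα, ht]
      field_simp
      ring
    have hQz : t = -Q z := by
      have e : γ⁻¹ • w = z + α⁻¹ • v + t • u := by rw [hz]; abel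
      have h1 := congrArg Q e
      simp only [QuadraticMap.map_add (f := Q), QuadraticMap.map_smul, QuadraticMap.polar_add_left,
        QuadraticMap.polar_smul_left, QuadraticMap.polar_smul_right, QuadraticMap.polar_comm (⇑Q) z v, hvz,
        QuadraticMap.polar_comm (⇑Q) z u, huz, QuadraticMap.polar_comm (⇑Q) v u, ← hα, smul_eq_mul] at h1
      simp only [w, v, u, rep_sing] at h1
      field_simp at h1
      have h3 : γ ^ 2 * α ^ 2 * (Q z + t) = 0 := by linear_combination -h1
      exact eq_neg_of_add_eq_zero_right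
        ((mul_eq_zero.mp h3).resolve_left (mul_ne_zero (pow_ne_zero 2 hc) (pow_ne_zero 2 hb)))
    refine fin (siegelG Q (rep_sing Q a) huz) (siegelG_mem_omega Q hQ (by omega) _ huz) (α * γ⁻¹)
      (mul_ne_zero hb (inv_ne_zero hc)) ?_ ?_
    · rw [mat_siegelG]
      simp [siegelMap, huu, QuadraticMap.polar_comm (⇑Q) z u, huz, u]
    · rw [mat_siegelG]
      have e : γ⁻¹ • w = z + α⁻¹ • v + t • u := by rw [hz]; abel
      rw [mul_smul, e, hQz]
      simp only [siegelMap, ← hα, QuadraticMap.polar_comm (⇑Q) z v, hvz]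
      rw [smul_add, smul_add, smul_smul, smul_smul, mul_inv_cancel₀ hb, one_smul]
      module

theorem preprimitive : IsPreprimitive (Cfsg.Omega F (⇑Q)) (SPoint Q) := by
  haveI := pretransitive Q hQ hn
  have hbot : Module.finrank F (⊥ : Submodule F (ι → F)) = 0 := finrank_bot F (ι → F)
  obtain ⟨w₀, -, r₀, -, hw₀, -, hwr⟩ := exists_pair_perp Q hQ ⊥ (by omega)
  have hw00 : w₀ ≠ 0 := fun h => by rw [h, QuadraticMap.polar_zero_left] at hwr; exact zero_ne_one hwr
  refine IsPreprimitive.of_isTrivialBlock_base (mkPt Q w₀ hw00 hw₀) fun {B} haB hB => ?_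
  set a := mkPt Q w₀ hw00 hw₀
  by_cases hsub : B.Subsingleton
  · exact Or.inl hsub
  right
  rw [Set.not_subsingleton_iff] at hsub
  obtain ⟨b, hb, hba⟩ := hsub.exists_ne a
  let R := fun (x y : SPoint Q) => QuadraticMap.polar (⇑Q) (rep Q x) (rep Q y) = 0
  have move : ∀ x ∈ B, ∀ y ∈ B, y ≠ x → ∀ z, z ≠ x → (R x y ↔ R x z) → z ∈ B := by
    intro x hx y hy hyx z hzx hiff
    obtain ⟨g, hg, h1, h2⟩ := suborbit Q hQ hn x y z hyx hzx hiff
    have hgB := hB.smul_eq_of_mem (g := ⟨g, hg⟩) hx (by show g • x ∈ B; rwa [h1])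
    have : g • y ∈ (⟨g, hg⟩ : ↥(Cfsg.Omega F (⇑Q))) • B := ⟨y, hy, rfl⟩
    rw [hgB, h2] at this
    exact this
  rw [Set.eq_univ_iff_forall]
  intro c
  by_cases hca : c = a
  · rwa [hca]
  by_cases hab : R a b
  · by_cases hac : R a c
    · exact move a haB b hb hba c hca (iff_of_true hab hac)
    · have := finrank_span_two (rep Q a) (rep Q c)
      obtain ⟨s, hs, r, -, hQs, -, hsr⟩ :=
        exists_pair_perp Q hQ (Submodule.span F {rep Q a, rep Q c}) (by omega)
      have hs0 : s ≠ 0 := fun h => by rw [h, QuadraticMap.polar_zero_left] at hsr; exact zero_ne_one hsr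
      set y := mkPt Q s hs0 hQs
      obtain ⟨k, hk, hy⟩ := exists_rep_smul Q hs0 hQs
      have e1 : R a y := by
        show QuadraticMap.polar (⇑Q) _ (rep Q (mkPt Q s hs0 hQs)) = 0
        rw [hy, QuadraticMap.polar_smul_right, (HypQuad.mem_perp Q).mp hs _ (Submodule.subset_span (by simp)), smul_zero]
      have e2 : R c y := by
        show QuadraticMap.polar (⇑Q) _ (rep Q (mkPt Q s hs0 hQs)) = 0
        rw [hy, QuadraticMap.polar_smul_right, (HypQuad.mem_perp Q).mp hs _ (Submodule.subset_span (by simp)), smul_zero]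
      have hcy : c ≠ y := fun h => hac (h ▸ e1)
      have hya : y ≠ a := fun h => hac (by
        show QuadraticMap.polar (⇑Q) (rep Q a) (rep Q c) = 0
        rw [QuadraticMap.polar_comm]; exact h ▸ e2)
      have hyB : y ∈ B := move a haB b hb hba y hya (iff_of_true hab e1)
      refine move y hyB a haB hya.symm c hcy (iff_of_true ?_ ?_)
      · show QuadraticMap.polar (⇑Q) (rep Q y) (rep Q a) = 0
        rw [QuadraticMap.polar_comm]; exact e1
      · show QuadraticMap.polar (⇑Q) (rep Q y) (rep Q c) = 0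
        rw [QuadraticMap.polar_comm]; exact e2
  · by_cases hac : R a c
    · set u := rep Q a
      set w := rep Q c
      have hwu : w ∉ Submodule.span F {u} := by
        intro hm
        obtain ⟨k, hk⟩ := Submodule.mem_span_singleton.mp hm
        apply hca
        rw [← mkPt_rep Q c, ← mkPt_rep Q a]
        exact mkPt_smul Q _ _ (fun hk0 => rep_ne Q c (show w = 0 by rw [← hk, hk0, zero_smul])) _ _ hk.symm
      obtain ⟨f, hfw, hker⟩ := Submodule.exists_dual_map_eq_bot_of_notMem hwu inferInstance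
      have hfu : f u = 0 := by
        have := Submodule.mem_map_of_mem (f := f) (Submodule.mem_span_singleton_self u)
        rwa [hker, Submodule.mem_bot] at this
      have huw' : u ∉ Submodule.span F {w} := by
        intro hm
        obtain ⟨k, hk⟩ := Submodule.mem_span_singleton.mp hm
        refine hwu (Submodule.mem_span_singleton.mpr ⟨k⁻¹, ?_⟩)
        rw [← hk, smul_smul, inv_mul_cancel₀ (fun hk0 => rep_ne Q a (show u = 0 by rw [← hk, hk0, zero_smul])), one_smul]
      obtain ⟨f', hfu', hker'⟩ := Submodule.exists_dual_map_eq_bot_of_notMem huw' inferInstance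
      have hfw' : f' w = 0 := by
        have := Submodule.mem_map_of_mem (f := f') (Submodule.mem_span_singleton_self w)
        rwa [hker', Submodule.mem_bot] at this
      obtain ⟨y₀, hy₀⟩ := exists_dual Q hQ ((f' u)⁻¹ • f' + (f w)⁻¹ • f)
      have p1 : QuadraticMap.polar (⇑Q) u y₀ = 1 := by rw [hy₀]; simp [hfu, inv_mul_cancel₀ hfu']
      have p2 : QuadraticMap.polar (⇑Q) w y₀ = 1 := by rw [hy₀]; simp [hfw', inv_mul_cancel₀ hfw]
      set y₁ := y₀ + (-Q y₀) • u
      have hwu0 : QuadraticMap.polar (⇑Q) w u = 0 := by rw [QuadraticMap.polar_comm]; exact hac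
      have huu : QuadraticMap.polar (⇑Q) u u = 0 := by rw [polar_self_two, rep_sing, mul_zero]
      have q1 : QuadraticMap.polar (⇑Q) u y₁ = 1 := by
        simp [y₁, QuadraticMap.polar_add_right, QuadraticMap.polar_smul_right, p1, huu]
      have q2 : QuadraticMap.polar (⇑Q) w y₁ = 1 := by
        simp [y₁, QuadraticMap.polar_add_right, QuadraticMap.polar_smul_right, p2, hwu0]
      have qy : Q y₁ = 0 := by
        rw [WittQuad.val_smul_add, rep_sing, QuadraticMap.polar_comm (⇑Q) y₀ u, p1]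
        ring
      have hy0 : y₁ ≠ 0 := fun h => by rw [h, QuadraticMap.polar_zero_right] at q1; exact zero_ne_one q1
      set y := mkPt Q y₁ hy0 qy
      obtain ⟨k, hk, hy⟩ := exists_rep_smul Q hy0 qy
      have e1 : ¬ R a y := by
        show ¬ QuadraticMap.polar (⇑Q) u (rep Q (mkPt Q y₁ hy0 qy)) = 0
        rw [hy, QuadraticMap.polar_smul_right, q1, smul_eq_mul, mul_one]; exact hk
      have e2 : ¬ R c y := by
        show ¬ QuadraticMap.polar (⇑Q) w (rep Q (mkPt Q y₁ hy0 qy)) = 0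
        rw [hy, QuadraticMap.polar_smul_right, q2, smul_eq_mul, mul_one]; exact hk
      have hcy : c ≠ y := fun h => e2 (by
        show QuadraticMap.polar (⇑Q) (rep Q c) (rep Q y) = 0
        rw [← h, polar_self_two, rep_sing, mul_zero])
      have hya : y ≠ a := fun h => e1 (by
        show QuadraticMap.polar (⇑Q) (rep Q a) (rep Q y) = 0
        rw [h, polar_self_two, rep_sing, mul_zero])
      have hyB : y ∈ B := move a haB b hb hba y hya (iff_of_false hab e1)
      refine move y hyB a haB hya.symm c hcy (iff_of_false ?_ ?_)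
      · intro h; exact e1 (by show QuadraticMap.polar (⇑Q) (rep Q a) (rep Q y) = 0; rw [QuadraticMap.polar_comm]; exact h)
      · intro h; exact e2 (by show QuadraticMap.polar (⇑Q) (rep Q c) (rep Q y) = 0; rw [QuadraticMap.polar_comm]; exact h)
    · exact move a haB b hb hba c hca (iff_of_false hab hac)

/-- The root group of a singular point. -/
noncomputable def rootGroup (L : SPoint Q) : Subgroup (Cfsg.Omega F (⇑Q)) where
  carrier := {g | ∃ (z : ι → F) (hz : QuadraticMap.polar (⇑Q) (rep Q L) z = 0),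
    (g : Cfsg.isometryGroup F (⇑Q)) = siegelG Q (rep_sing Q L) hz}
  mul_mem' := by
    rintro a b ⟨z, hz, ha⟩ ⟨z', hz', hb⟩
    exact ⟨z + z', _, by rw [Subgroup.coe_mul, ha, hb, siegelG_mul]⟩
  one_mem' := ⟨0, QuadraticMap.polar_zero_right Q _, ext_mulVec Q fun x => by
    rw [mat_siegelG, siegel_zero]; exact Matrix.one_mulVec x⟩
  inv_mem' := by
    rintro a ⟨z, hz, ha⟩
    refine ⟨-z, by rw [QuadraticMap.polar_neg_right, hz, neg_zero], ?_⟩
    rw [Subgroup.coe_inv, ha]
    refine inv_eq_of_mul_eq_one_right (ext_mulVec Q fun x => ?_)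
    rw [siegelG_mul, mat_siegelG, add_neg_cancel, siegel_zero]
    exact (Matrix.one_mulVec x).symm

omit [Finite F] hQ hn in
theorem mem_rootGroup {L : SPoint Q} {g : Cfsg.Omega F (⇑Q)} {u z : ι → F} (hu0 : u ≠ 0) (hu : Q u = 0)
    (hL : L = mkPt Q u hu0 hu) (hz : QuadraticMap.polar (⇑Q) u z = 0)
    (hg : (g : Cfsg.isometryGroup F (⇑Q)) = siegelG Q hu hz) : g ∈ rootGroup Q L := by
  subst hL
  obtain ⟨c, hc, e⟩ := exists_rep_smul Q hu0 hu
  refine ⟨c⁻¹ • z, by rw [e, QuadraticMap.polar_smul_left, QuadraticMap.polar_smul_right, hz, smul_zero, smul_zero],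
    hg.trans (siegelG_congr Q _ _ _ _ fun x => ?_)⟩
  rw [e, siegelMap_smul, smul_smul, mul_inv_cancel₀ hc, one_smul]

/-- The Iwasawa structure. -/
noncomputable def iwasawa : IwasawaStructure (Cfsg.Omega F (⇑Q)) (SPoint Q) where
  T := rootGroup Q
  is_comm L := ⟨⟨by
    rintro ⟨a, z, hz, ha⟩ ⟨b, z', hz', hb⟩
    refine Subtype.ext (Subtype.ext ?_)
    simp only [Subgroup.coe_mul, ha, hb, siegelG_mul]
    exact siegelG_congr Q _ _ _ _ fun x => by rw [add_comm]⟩⟩
  is_conj g L := by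
    ext a
    rw [Subgroup.mem_pointwise_smul_iff_inv_smul_mem, ← map_inv, MulAut.smul_def, MulAut.conj_apply, inv_inv]
    have key : ∀ (g : Cfsg.Omega F (⇑Q)) (L : SPoint Q) (a : Cfsg.Omega F (⇑Q)), a ∈ rootGroup Q L →
        g * a * g⁻¹ ∈ rootGroup Q (g • L) := by
      rintro g L a ⟨z, hz, ha⟩
      refine mem_rootGroup Q (mat_ne_zero Q g.1 (rep_ne Q L))
        (by rw [(mem_iff Q).mp g.1.2, rep_sing]) ?_ (z := mat Q g.1 *ᵥ z) (by rw [polar_act, hz]) ?_
      · conv_lhs => rw [← mkPt_rep Q L]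
        exact smul_mkPt Q g.1 _ _
      · rw [Subgroup.coe_mul, Subgroup.coe_mul, Subgroup.coe_inv, ha, siegelG_conj]
    constructor
    · intro ha
      have := key g⁻¹ _ a ha
      rwa [inv_inv, inv_smul_smul] at this
    · intro ha
      have := key g _ _ ha
      rwa [show g * (g⁻¹ * a * g) * g⁻¹ = a by group] at this
  is_generator := by
    rw [eq_top_iff]
    rintro ⟨g, hg⟩ -
    have hg' : g ∈ Subgroup.closure (siegelAll Q) := omega_eq_closure_all Q hQ (by omega) ▸ hg
    suffices g ∈ (⨆ L, rootGroup Q L).map (Cfsg.Omega F (⇑Q)).subtype by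
      obtain ⟨y, hy, e⟩ := this
      rwa [show (⟨g, hg⟩ : ↥(Cfsg.Omega F (⇑Q))) = y from Subtype.ext e.symm]
    refine (Subgroup.closure_le _).mpr ?_ hg'
    rintro x ⟨u, z, hu, huz, rfl⟩
    refine ⟨⟨_, siegelG_mem_omega Q hQ (by omega) hu huz⟩, ?_, rfl⟩
    by_cases hu0 : u = 0
    · have h1 : (⟨_, siegelG_mem_omega Q hQ (by omega) hu huz⟩ : ↥(Cfsg.Omega F (⇑Q))) = 1 := by
        refine Subtype.ext (ext_mulVec Q fun x => ?_)
        show mat Q (siegelG Q hu huz) *ᵥ x = mat Q 1 *ᵥ x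
        rw [mat_siegelG, show mat Q 1 = 1 from rfl, Matrix.one_mulVec]
        simp [siegelMap, hu0]
      rw [h1]
      exact Subgroup.one_mem _
    exact Subgroup.mem_iSup_of_mem (mkPt Q u hu0 hu) (mem_rootGroup Q hu0 hu rfl huz rfl)

theorem perfect : commutator (Cfsg.Omega F (⇑Q)) = ⊤ := by
  rw [eq_top_iff]
  rintro ⟨g, hg⟩ -
  have hg' : g ∈ Subgroup.closure (siegelAll Q) := omega_eq_closure_all Q hQ (by omega) ▸ hg
  suffices g ∈ (commutator (Cfsg.Omega F (⇑Q))).map (Cfsg.Omega F (⇑Q)).subtype by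
    obtain ⟨y, hy, e⟩ := this
    rwa [show (⟨g, hg⟩ : ↥(Cfsg.Omega F (⇑Q))) = y from Subtype.ext e.symm]
  refine (Subgroup.closure_le _).mpr ?_ hg'
  rintro x ⟨u, z, hu, huz, rfl⟩
  refine siegelG_mem_of_singular Q hQ _ (by omega) hu (fun w huw hw => ?_) huz
  by_cases hu0 : u = 0
  · have : siegelG Q hu huw = 1 := ext_mulVec Q fun x => by
      rw [mat_siegelG, show mat Q 1 = 1 from rfl, Matrix.one_mulVec]
      simp [siegelMap, hu0]
    rw [this]; exact one_mem _
  obtain ⟨z', huz', h, -, e⟩ := siegel_commutator Q hQ (by omega) hu hu0 hw huw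
  have := finrank_span_two u z'
  obtain ⟨h', hh', e'⟩ := exists_omega_agree Q hQ (by omega) (Submodule.span F {u, z'}) (by omega) h
  rw [e h' e']
  exact ⟨⁅(⟨h', hh'⟩ : ↥(Cfsg.Omega F (⇑Q))), ⟨_, siegelG_mem_omega Q hQ (by omega) hu huz'⟩⁆,
    Subgroup.commutator_mem_commutator (Subgroup.mem_top _) (Subgroup.mem_top _), rfl⟩

theorem scalar_of_fixes (g : Cfsg.isometryGroup F (⇑Q)) (hg : ∀ L : SPoint Q, g • L = L) :
    ∃ c : F, mat Q g = c • 1 := by
  have h1 : ∀ u, Q u = 0 → u ≠ 0 → ∃ c : F, mat Q g *ᵥ u = c • u := by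
    intro u hu hu0
    have h := congrArg Subtype.val (hg (mkPt Q u hu0 hu))
    rw [smul_mkPt] at h
    have : mat Q g *ᵥ u ∈ Submodule.span F {u} := by
      rw [← show Submodule.span F {mat Q g *ᵥ u} = Submodule.span F {u} from h]
      exact Submodule.mem_span_singleton_self _
    obtain ⟨c, hc⟩ := Submodule.mem_span_singleton.mp this
    exact ⟨c, hc.symm⟩
  have same : ∀ u w : ι → F, Q u = 0 → Q w = 0 → u ≠ 0 → w ≠ 0 → QuadraticMap.polar (⇑Q) u w = 0 →
      ∀ c d : F, mat Q g *ᵥ u = c • u → mat Q g *ᵥ w = d • w → c = d := by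
    intro u w hu hw hu0 hw0 huw c d hc hd
    by_cases hli : w ∈ Submodule.span F {u}
    · obtain ⟨k, rfl⟩ := Submodule.mem_span_singleton.mp hli
      rw [Matrix.mulVec_smul, hc, smul_smul, smul_smul, mul_comm k c] at hd
      have := smul_left_injective F hu0 hd
      exact mul_right_cancel₀ (fun hk : k = 0 => hw0 (by rw [hk, zero_smul])) this
    have hsum : Q (u + w) = 0 := by rw [QuadraticMap.map_add (f := Q), hu, hw, huw]; simp
    have hsum0 : u + w ≠ 0 := fun h => hli (by
      rw [eq_neg_of_add_eq_zero_right h]; exact neg_mem (Submodule.mem_span_singleton_self u))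
    obtain ⟨e, he⟩ := h1 _ hsum hsum0
    rw [Matrix.mulVec_add, hc, hd] at he
    have h2 : (d - e) • w = (e - c) • u := by
      rw [sub_smul, sub_smul, sub_eq_sub_iff_add_eq_add, add_comm, he, smul_add]
    by_cases hde : d - e = 0
    · rw [hde, zero_smul, eq_comm, smul_eq_zero] at h2
      have := h2.resolve_right hu0
      linear_combination -this - hde
    · exfalso
      refine hli (Submodule.mem_span_singleton.mpr ⟨(d - e)⁻¹ * (e - c), ?_⟩)
      rw [mul_smul, ← h2, smul_smul, inv_mul_cancel₀ hde, one_smul]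
  have hbot : Module.finrank F (⊥ : Submodule F (ι → F)) = 0 := finrank_bot F (ι → F)
  obtain ⟨w₀, -, r₀, -, hw₀, -, hwr⟩ := exists_pair_perp Q hQ ⊥ (by omega)
  have hw00 : w₀ ≠ 0 := fun h => by rw [h, QuadraticMap.polar_zero_left] at hwr; exact zero_ne_one hwr
  obtain ⟨c, hc⟩ := h1 w₀ hw₀ hw00
  refine ⟨c, ?_⟩
  have hall : ∀ u, Q u = 0 → mat Q g *ᵥ u = c • u := by
    intro u hu
    by_cases hu0 : u = 0
    · rw [hu0, Matrix.mulVec_zero, smul_zero]
    obtain ⟨d, hd⟩ := h1 u hu hu0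
    have := finrank_span_two u w₀
    obtain ⟨s, hs, r, -, hQs, -, hsr⟩ := exists_pair_perp Q hQ (Submodule.span F {u, w₀}) (by omega)
    have hs0 : s ≠ 0 := fun h => by rw [h, QuadraticMap.polar_zero_left] at hsr; exact zero_ne_one hsr
    obtain ⟨e, he⟩ := h1 s hQs hs0
    rw [hd, same u s hu hQs hu0 hs0 ((HypQuad.mem_perp Q).mp hs u (Submodule.subset_span (by simp))) d e hd he,
      ← same w₀ s hw₀ hQs hw00 hs0 ((HypQuad.mem_perp Q).mp hs w₀ (Submodule.subset_span (by simp))) c e hc he]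
  refine Matrix.toLin'.injective (LinearMap.ext fun x => ?_)
  rw [Matrix.toLin'_apply, Matrix.toLin'_apply, Matrix.smul_mulVec, Matrix.one_mulVec]
  have hspan : Submodule.span F {u : ι → F | Q u = 0} = ⊤ := by
    rw [← perp_perp Q hQ (Submodule.span F {u : ι → F | Q u = 0}), eq_top_iff]
    intro y _
    rw [HypQuad.mem_perp]
    intro z hz
    have hz0 : z ∈ (⊥ : Submodule F (ι → F)) := mem_of_orth_singular Q hQ ⊥ (by omega) fun r _ hr => by
      rw [QuadraticMap.polar_comm]
      exact (HypQuad.mem_perp Q).mp hz r (Submodule.subset_span hr)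
    rw [(Submodule.mem_bot F).mp hz0, QuadraticMap.polar_zero_left]
  have hx : x ∈ Submodule.span F {u : ι → F | Q u = 0} := hspan ▸ Submodule.mem_top
  induction hx using Submodule.span_induction with
  | mem y hy => exact hall y hy
  | zero => rw [Matrix.mulVec_zero, smul_zero]
  | add a b _ _ iha ihb => rw [Matrix.mulVec_add, iha, ihb, smul_add]
  | smul k a _ iha => rw [Matrix.mulVec_smul, iha, smul_comm]

omit [Finite F] hQ hn in
theorem mem_center_of_scalar (g : Cfsg.Omega F (⇑Q)) {c : F} (h : mat Q g.1 = c • 1) :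
    g ∈ Subgroup.center (Cfsg.Omega F (⇑Q)) := by
  rw [Subgroup.mem_center_iff]
  intro a
  refine Subtype.ext (ext_mulVec Q fun x => ?_)
  change mat Q (a.1 * g.1) *ᵥ x = mat Q (g.1 * a.1) *ᵥ x
  rw [mat, mulVec_mul, mat, mulVec_mul]
  change mat Q a.1 *ᵥ (mat Q g.1 *ᵥ x) = mat Q g.1 *ᵥ (mat Q a.1 *ᵥ x)
  rw [h, Matrix.smul_mulVec, Matrix.one_mulVec, Matrix.smul_mulVec, Matrix.one_mulVec, Matrix.mulVec_smul]

theorem exists_moved : ∃ (g : Cfsg.Omega F (⇑Q)) (L : SPoint Q), g • L ≠ L := by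
  have hbot : Module.finrank F (⊥ : Submodule F (ι → F)) = 0 := finrank_bot F (ι → F)
  obtain ⟨w, -, r, -, hw, hr, hwr⟩ := exists_pair_perp Q hQ ⊥ (by omega)
  have hw0 : w ≠ 0 := fun h => by rw [h, QuadraticMap.polar_zero_left] at hwr; exact zero_ne_one hwr
  have hr0 : r ≠ 0 := fun h => by rw [h, QuadraticMap.polar_zero_right] at hwr; exact zero_ne_one hwr
  haveI := pretransitive Q hQ hn
  obtain ⟨g, hg⟩ := exists_smul_eq (Cfsg.Omega F (⇑Q)) (mkPt Q w hw0 hw) (mkPt Q r hr0 hr)
  refine ⟨g, mkPt Q w hw0 hw, fun h => ?_⟩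
  rw [hg] at h
  have hm : r ∈ Submodule.span F {w} := by
    rw [← show Submodule.span F {r} = Submodule.span F {w} from congrArg Subtype.val h]
    exact Submodule.mem_span_singleton_self r
  obtain ⟨k, hk⟩ := Submodule.mem_span_singleton.mp hm
  rw [← hk, QuadraticMap.polar_smul_right, polar_self_two, hw, mul_zero, smul_zero] at hwr
  exact zero_ne_one hwr

theorem center_ne_top : Subgroup.center (Cfsg.Omega F (⇑Q)) ≠ ⊤ := by
  intro h
  obtain ⟨g, L, hgL⟩ := exists_moved Q hQ hn
  have h1 : commutator (Cfsg.Omega F (⇑Q)) = ⊥ := by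
    rw [commutator_def, Subgroup.commutator_eq_bot_iff_le_centralizer, Subgroup.coe_top, Subgroup.centralizer_univ, h]
  rw [perfect Q hQ hn] at h1
  have : g = 1 := (Subgroup.eq_bot_iff_forall _).mp h1.symm.symm g (Subgroup.mem_top g)
  rw [this, one_smul] at hgL
  exact hgL rfl

theorem fixes_of_mem_center {g : Cfsg.Omega F (⇑Q)} (hg : g ∈ Subgroup.center (Cfsg.Omega F (⇑Q))) (L : SPoint Q) :
    g • L = L := by
  haveI := preprimitive Q hQ hn
  by_contra hne
  apply center_ne_top Q hQ hn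
  have h := (iwasawa Q hQ hn).commutator_le (Subgroup.center (Cfsg.Omega F (⇑Q)))
    (fun hfix => hne ((Set.eq_univ_iff_forall.mp hfix L) ⟨g, hg⟩))
  rwa [perfect Q hQ hn, top_le_iff] at h

theorem simple : IsSimpleGroup (Cfsg.POmega F (⇑Q)) := by
  haveI := preprimitive Q hQ hn
  refine Cfsg.Lib.Classical.isSimpleGroup_quotient_of_iwasawa (iwasawa Q hQ hn) (perfect Q hQ hn) _
    (fun g hg => ?_) (center_ne_top Q hQ hn)
  obtain ⟨c, hc⟩ := scalar_of_fixes Q hQ hn g.1 hg
  exact mem_center_of_scalar Q g hc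

theorem mem_center_iff_sign {g : Cfsg.Omega F (⇑Q)} :
    g ∈ Subgroup.center (Cfsg.Omega F (⇑Q)) ↔ mat Q g.1 = 1 ∨ mat Q g.1 = -1 := by
  constructor
  · intro hg
    obtain ⟨c, hc⟩ := scalar_of_fixes Q hQ hn g.1 (fixes_of_mem_center Q hQ hn hg)
    have hbot : Module.finrank F (⊥ : Submodule F (ι → F)) = 0 := finrank_bot F (ι → F)
    obtain ⟨x, -, hx⟩ := exists_norm_in_perp Q hQ ⊥ (by omega) 1
    have h1 := (mem_iff Q).mp g.1.2 x
    rw [show (((g.1 : Matrix.GeneralLinearGroup ι F) : Matrix ι ι F)) = mat Q g.1 from rfl, hc, Matrix.smul_mulVec,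
      Matrix.one_mulVec, QuadraticMap.map_smul, hx, smul_eq_mul, mul_one] at h1
    rcases mul_self_eq_one_iff.mp h1 with e | e
    · left; rw [hc, e, one_smul]
    · right; rw [hc, e, neg_one_smul]
  · rintro (h | h)
    · exact mem_center_of_scalar Q g (c := 1) (by rw [one_smul]; exact h)
    · exact mem_center_of_scalar Q g (c := -1) (by rw [neg_one_smul]; exact h)

end Cfsg.Lib.Classical.Refl
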