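import Mathlib
import Cfsg.Agent.Classical.Orth.Orders
import Cfsg.Agent.Classical.Orth.Simple

/-! The orders of the groups `PΩ`. -/

set_option autoImplicit false
set_option linter.style.haveILetI false

namespace Cfsg.Lib.Classical.Refl

open Matrix

universe u

variable {F : Type u} [Field F] [Fintype F]

section

variable {ι : Type} [Fintype ι] [DecidableEq ι] (Q : QuadraticForm F (ι → F))

omit [Fintype F] in
theorem card_pomega_mul :
    Nat.card (Cfsg.POmega F (⇑Q)) * Nat.card (Subgroup.center (Cfsg.Omega F (⇑Q))) * (Cfsg.Omega F (⇑Q)).index =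
      Nat.card (Cfsg.isometryGroup F (⇑Q)) := by
  rw [show Nat.card (Cfsg.POmega F (⇑Q)) * Nat.card (Subgroup.center (Cfsg.Omega F (⇑Q))) =
    Nat.card (Cfsg.Omega F (⇑Q)) from (Subgroup.card_eq_card_quotient_mul_card_subgroup _).symm,
    Subgroup.card_mul_index]

variable (hQ : (QuadraticMap.polarBilin Q).Nondegenerate) (hn : 7 ≤ Fintype.card ι)

include hQ hn

theorem center_card_one (h : ∀ g ∈ Cfsg.Omega F (⇑Q), mat Q g = -1 → mat Q g = 1) :
    Nat.card (Subgroup.center (Cfsg.Omega F (⇑Q))) = 1 := by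
  rw [Subgroup.card_eq_one, Subgroup.eq_bot_iff_forall]
  intro g hg
  refine Subtype.ext (Subtype.ext (Units.ext ?_))
  rcases (mem_center_iff_sign Q hQ hn).mp hg with e | e
  · exact e
  · exact h g.1 g.2 e

theorem center_card_two (h2 : (2 : F) ≠ 0) {g : Cfsg.isometryGroup F (⇑Q)} (hg : g ∈ Cfsg.Omega F (⇑Q))
    (e : mat Q g = -1) : Nat.card (Subgroup.center (Cfsg.Omega F (⇑Q))) = 2 := by
  rw [Nat.card_eq_two_iff]
  haveI : Nonempty ι := Fintype.card_pos_iff.mp (by omega)
  refine ⟨1, ⟨⟨g, hg⟩, (mem_center_iff_sign Q hQ hn).mpr (Or.inr e)⟩, fun h => ?_, ?_⟩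
  · have h1 : (1 : Matrix ι ι F) = -1 := e ▸ congrArg (fun z : ↥(Subgroup.center (Cfsg.Omega F (⇑Q))) => mat Q z.1.1) h
    have h3 := congrFun (congrFun h1 (Classical.arbitrary ι)) (Classical.arbitrary ι)
    simp at h3
    exact h2 (by linear_combination h3)
  · refine Set.eq_univ_of_forall fun z => ?_
    rcases (mem_center_iff_sign Q hQ hn).mp z.2 with h | h
    · exact Or.inl (Subtype.ext (Subtype.ext (Subtype.ext (Units.ext h))))
    · exact Or.inr (Subtype.ext (Subtype.ext (Subtype.ext (Units.ext (h.trans e.symm)))))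

end

theorem gcd_four {N r : ℕ} (h : N % 4 = r) : Nat.gcd 4 N = Nat.gcd r 4 := by rw [← h, Nat.gcd_rec]

theorem card_pomega_odd {q : ℕ} (hF : Fintype.card F = q) (hodd : Odd q) (m : ℕ) (hm : 3 ≤ m) :
    2 * Nat.card (Cfsg.POmega F (Cfsg.quadFormOdd m F)) = q ^ (m ^ 2) * OrthCard.prodQ q m := by
  classical
  rw [← Nat.card_eq_fintype_card] at hF
  subst hF
  have h2 := two_ne_zero_of_odd (by rwa [Nat.card_eq_fintype_card] at hodd : Odd (Fintype.card F))
  have hO := OrthCard.card_odd (F := F) h2 m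
  rw [← oddForm_coe] at hO ⊢
  set Q := oddForm m F
  have hnd := oddForm_nondegenerate h2 m
  have hn : 7 ≤ Fintype.card (Unit ⊕ (Fin m ⊕ Fin m)) := by simp; omega
  have hz := center_card_one Q hnd hn fun g hg e => by
    exfalso
    have h1 := hom_eq_one_of_omega Q (detHom Q) hg
    have h3 : (mat Q g).det = 1 := congrArg Units.val h1
    rw [e, Matrix.det_neg, Matrix.det_one, mul_one, Odd.neg_one_pow (by simp [← two_mul, add_comm 1])] at h3
    exact h2 (by linear_combination -h3)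
  have h1 := card_pomega_mul Q
  rw [hz, index_omega_odd Q h2 hnd (by omega), hO] at h1
  linarith

theorem card_pomega_plus {q : ℕ} (hF : Fintype.card F = q) (m : ℕ) (hm : 4 ≤ m) :
    Nat.gcd 4 (q ^ m - 1) * Nat.card (Cfsg.POmega F (Cfsg.quadFormPlus m F)) =
      q ^ (m * (m - 1)) * (q ^ m - 1) * OrthCard.prodQ q (m - 1) := by
  classical
  rw [← Nat.card_eq_fintype_card] at hF
  subst hF
  obtain ⟨k, rfl⟩ : ∃ k, m = k + 1 := ⟨m - 1, by omega⟩
  have hiff := fun (ho : Odd (Nat.card F)) => neg_one_omega_plus (F := F) (q := Nat.card F)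
    Nat.card_eq_fintype_card.symm ho (k + 1) (by omega)
  have hO := OrthCard.card_plus (F := F) k
  rw [show Cfsg.quadFormPlus (k + 1) F = ⇑(HypQuad.plusForm (k + 1) F) from
    (funext (HypQuad.plusForm_apply (k + 1))).symm] at hO hiff ⊢
  set Q := HypQuad.plusForm (k + 1) F
  have hnd := HypQuad.plusForm_nondegenerate (F := F) (k + 1)
  have hn : 7 ≤ Fintype.card (Fin (k + 1) ⊕ Fin (k + 1)) := by simp; omega
  have h1 := card_pomega_mul Q
  have hpos : 1 ≤ Nat.card F ^ (k + 1) := Nat.one_le_pow _ _ Nat.card_pos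
  rw [Nat.add_sub_cancel]
  by_cases h2 : (2 : F) = 0
  · haveI : CharP F 2 := CharTwo.of_one_ne_zero_of_two_eq_zero one_ne_zero h2
    rw [center_card_one Q hnd hn fun g _ e => by rw [e]; ext i j; exact CharTwo.neg_eq _,
      index_omega_two Q hnd (by omega) (Or.inr (by omega)), hO] at h1
    have hev : Nat.card F ^ (k + 1) % 2 = 0 := by
      rw [Nat.pow_mod, Nat.card_eq_fintype_card, FiniteField.even_card_iff_char_two.mp (ringChar.eq F 2)]
      simp
    rcases (by omega : (Nat.card F ^ (k + 1) - 1) % 4 = 1 ∨ (Nat.card F ^ (k + 1) - 1) % 4 = 3) with h | h <;>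
      first
        | (rw [gcd_four h, show Nat.gcd 1 4 = 1 from rfl]; linarith)
        | (rw [gcd_four h, show Nat.gcd 3 4 = 1 from rfl]; linarith)
  · have hc2 : ringChar F ≠ 2 := fun h => h2 (by haveI := ringChar.of_eq h; exact CharTwo.two_eq_zero)
    have ho : Odd (Nat.card F) := by
      rw [Nat.card_eq_fintype_card]; exact Nat.odd_iff.mpr (FiniteField.odd_card_of_char_ne_two hc2)
    rw [index_omega_odd Q h2 hnd (by omega), hO] at h1
    rcases pow_mod_four ho (k + 1) with h | h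
    · obtain ⟨g, hg, e⟩ := (hiff ho).mpr h
      rw [center_card_two Q hnd hn h2 hg e] at h1
      rw [gcd_four (r := 0) (by omega), show Nat.gcd 0 4 = 4 from rfl]
      linarith
    · rw [center_card_one Q hnd hn fun g hg e => absurd ((hiff ho).mp ⟨g, hg, e⟩) (by omega)] at h1
      rw [gcd_four (r := 2) (by omega), show Nat.gcd 2 4 = 2 from rfl]
      linarith

theorem card_pomega_minus {q : ℕ} (hF : Fintype.card F = q) (m : ℕ) (hm : 4 ≤ m) (a b : F)
    (hab : ∀ z₁ z₂ : F, z₁ ^ 2 + a * z₁ * z₂ + b * z₂ ^ 2 = 0 → z₁ = 0 ∧ z₂ = 0) :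
    Nat.gcd 4 (q ^ m + 1) * Nat.card (Cfsg.POmega F (Cfsg.quadFormMinus (m - 1) F a b)) =
      q ^ (m * (m - 1)) * (q ^ m + 1) * OrthCard.prodQ q (m - 1) := by
  classical
  rw [← Nat.card_eq_fintype_card] at hF
  subst hF
  obtain ⟨k, rfl⟩ : ∃ k, m = k + 1 := ⟨m - 1, by omega⟩
  show Nat.gcd 4 (Nat.card F ^ (k + 1) + 1) * Nat.card (Cfsg.POmega F (Cfsg.quadFormMinus k F a b)) =
    Nat.card F ^ ((k + 1) * k) * (Nat.card F ^ (k + 1) + 1) * OrthCard.prodQ (Nat.card F) k
  have hiff := fun (ho : Odd (Nat.card F)) => neg_one_omega_minus (F := F) (q := Nat.card F)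
    Nat.card_eq_fintype_card.symm ho k a b hab
  have hO := OrthCard.card_minus (F := F) hab k
  rw [← minusForm_coe k a b] at hO hiff ⊢
  set Q := minusForm k F a b
  have hnd := minusForm_nondegenerate' (F := F) k hab
  have hn : 7 ≤ Fintype.card ((Fin k ⊕ Fin k) ⊕ Fin 2) := by simp; omega
  have h1 := card_pomega_mul Q
  by_cases h2 : (2 : F) = 0
  · haveI : CharP F 2 := CharTwo.of_one_ne_zero_of_two_eq_zero one_ne_zero h2
    rw [center_card_one Q hnd hn fun g _ e => by rw [e]; ext i j; exact CharTwo.neg_eq _,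
      index_omega_two Q hnd (by omega) (Or.inr (by omega)), hO] at h1
    have hev : Nat.card F ^ (k + 1) % 2 = 0 := by
      rw [Nat.pow_mod, Nat.card_eq_fintype_card, FiniteField.even_card_iff_char_two.mp (ringChar.eq F 2)]
      simp
    rcases (by omega : (Nat.card F ^ (k + 1) + 1) % 4 = 1 ∨ (Nat.card F ^ (k + 1) + 1) % 4 = 3) with h | h <;>
      first
        | (rw [gcd_four h, show Nat.gcd 1 4 = 1 from rfl]; linarith)
        | (rw [gcd_four h, show Nat.gcd 3 4 = 1 from rfl]; linarith)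
  · have hc2 : ringChar F ≠ 2 := fun h => h2 (by haveI := ringChar.of_eq h; exact CharTwo.two_eq_zero)
    have ho : Odd (Nat.card F) := by
      rw [Nat.card_eq_fintype_card]; exact Nat.odd_iff.mpr (FiniteField.odd_card_of_char_ne_two hc2)
    rw [index_omega_odd Q h2 hnd (by omega), hO] at h1
    rcases pow_mod_four ho (k + 1) with h | h
    · rw [center_card_one Q hnd hn fun g hg e => absurd ((hiff ho).mp ⟨g, hg, e⟩) (by omega)] at h1
      rw [gcd_four (r := 2) (by omega), show Nat.gcd 2 4 = 2 from rfl]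
      linarith
    · obtain ⟨g, hg, e⟩ := (hiff ho).mpr h
      rw [center_card_two Q hnd hn h2 hg e] at h1
      rw [gcd_four (r := 0) (by omega), show Nat.gcd 0 4 = 4 from rfl]
      linarith

end Cfsg.Lib.Classical.Refl
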