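import Mathlib
import Cfsg.Agent.Classical.Orth.StdForms
import Cfsg.Agent.Classical.Symp.Matrix

/-! In characteristic two, `O_{2m+1}(q)` is `Sp_{2m}(q)`. -/

set_option autoImplicit false
set_option linter.style.haveILetI false

namespace Cfsg.Lib.Classical.Refl

open Matrix

universe u

theorem odd_char_two_equiv {F : Type u} [Field F] [Fintype F] [CharP F 2] (m : ℕ) :
    Nonempty (Cfsg.isometryGroup F (Cfsg.quadFormOdd m F) ≃* Matrix.symplecticGroup (Fin m) F) := by
  classical
  rw [← oddForm_coe]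
  set Q := oddForm m F
  have h2 : (2 : F) = 0 := CharTwo.two_eq_zero
  let pw : (Unit ⊕ (Fin m ⊕ Fin m) → F) → (Fin m ⊕ Fin m → F) := fun x i => x (.inr i)
  let P := Cfsg.quadFormPlus m F
  have hQ : ∀ x, Q x = x (.inl ()) ^ 2 + P (pw x) := fun x => by simp [Q, oddForm_coe, Cfsg.quadFormOdd, P, pw, Cfsg.quadFormPlus]
  have hPol : ∀ v w, P (v + w) = P v + P w + sympBilin m F v w := fun v w => by
    simp only [P, Cfsg.quadFormPlus, sympBilin_eq_sum, ← Finset.sum_add_distrib, Pi.add_apply]
    refine Finset.sum_congr rfl fun i _ => ?_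
    linear_combination (v (.inl i) * w (.inr i)) * h2
  have sqinj : ∀ x y : F, x * x = y * y → x = y := fun x y h => by
    have : (x + y) * (x + y) = 0 := by linear_combination h + (y * y + x * y) * h2
    have := mul_self_eq_zero.mp this
    linear_combination this - y * h2
  set e0 : Unit ⊕ (Fin m ⊕ Fin m) → F := Pi.single (.inl ()) 1 with he0
  have hfix : ∀ g : Cfsg.isometryGroup F (⇑Q), mat Q g *ᵥ e0 = e0 := by
    intro g
    have hrad : ∀ y, Q (mat Q g *ᵥ e0 + y) = Q (mat Q g *ᵥ e0) + Q y := by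
      intro y
      obtain ⟨x, rfl⟩ : ∃ x, mat Q g *ᵥ x = y := ⟨mat Q g⁻¹ *ᵥ y, by
        rw [← mulVec_mul, mul_inv_cancel]; exact Matrix.one_mulVec y⟩
      rw [← Matrix.mulVec_add, (mem_iff Q).mp g.2, (mem_iff Q).mp g.2, (mem_iff Q).mp g.2, hQ, hQ, hQ,
        show pw (e0 + x) = pw x from funext fun i => by simp [pw, e0],
        show pw e0 = 0 from funext fun i => by simp [pw, e0]]
      simp [e0, P, Cfsg.quadFormPlus]
      linear_combination x (.inl ()) * h2
    set v := mat Q g *ᵥ e0
    have hv : pw v = 0 := by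
      refine (sympBilin_nondegenerate m F).1 _ fun w => ?_
      have h := hrad (Sum.elim 0 w)
      rw [hQ, hQ, hQ, show pw (v + Sum.elim (0 : Unit → F) w) = pw v + w from funext fun i => rfl,
        show pw (Sum.elim (0 : Unit → F) w) = w from rfl, hPol] at h
      simp at h
      linear_combination h
    have hv0 : v (.inl ()) = 1 := by
      have h := (mem_iff Q).mp g.2 e0
      rw [show (((g : Matrix.GeneralLinearGroup (Unit ⊕ (Fin m ⊕ Fin m)) F) : Matrix _ _ F)) *ᵥ e0 = v from rfl, hQ, hQ,
        hv, show pw e0 = 0 from funext fun i => by simp [pw, e0]] at h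
      simp [e0, P, Cfsg.quadFormPlus] at h
      exact sqinj _ _ (by rcases h with h | h <;> rw [h] <;> simp)
    funext i
    rcases i with i | i
    · simpa [e0] using hv0
    · simpa [e0, pw] using congrFun hv i
  let sub : Cfsg.isometryGroup F (⇑Q) → Matrix (Fin m ⊕ Fin m) (Fin m ⊕ Fin m) F := fun g =>
    (mat Q g).submatrix Sum.inr Sum.inr
  have hsub : ∀ g x, pw (mat Q g *ᵥ x) = sub g *ᵥ pw x := by
    intro g x
    funext i
    have h0 : mat Q g (.inr i) (.inl ()) = 0 := by
      have := congrFun (hfix g) (.inr i)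
      simpa [e0, Matrix.mulVec_single_one] using this
    simp [pw, sub, Matrix.mulVec, dotProduct, Fintype.sum_sum_type, h0]
  have hmem : ∀ g, sub g ∈ symplecticGroup (Fin m) F := by
    intro g
    rw [mem_symplectic_iff_form]
    intro v w
    set x : Unit ⊕ (Fin m ⊕ Fin m) → F := Sum.elim 0 v
    set y : Unit ⊕ (Fin m ⊕ Fin m) → F := Sum.elim 0 w
    have h1 := (mem_iff Q).mp g.2 (x + y)
    have h3 := (mem_iff Q).mp g.2 x
    have h4 := (mem_iff Q).mp g.2 y
    rw [show (((g : Matrix.GeneralLinearGroup (Unit ⊕ (Fin m ⊕ Fin m)) F) : Matrix _ _ F)) = mat Q g from rfl] at h1 h3 h4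
    rw [hQ, hQ, hsub, show pw (x + y) = v + w from rfl, Matrix.mulVec_add, Matrix.mulVec_add, hPol, hPol] at h1
    rw [hQ, hQ, hsub, show pw x = v from rfl] at h3
    rw [hQ, hQ, hsub, show pw y = w from rfl] at h4
    simp [x, y] at h1 h3 h4
    linear_combination h1 - h3 - h4 - (mat Q g *ᵥ x) (.inl ()) * (mat Q g *ᵥ y) (.inl ()) * h2
  let f : Cfsg.isometryGroup F (⇑Q) →* symplecticGroup (Fin m) F :=
    MonoidHom.mk' (fun g => ⟨sub g, hmem g⟩) fun g h => Subtype.ext (Matrix.toLin'.injective (LinearMap.ext fun w => by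
      show sub (g * h) *ᵥ w = (sub g * sub h) *ᵥ w
      rw [← Matrix.mulVec_mulVec, show w = pw (Sum.elim 0 w) from rfl, ← hsub, ← hsub, ← hsub, mulVec_mul]))
  refine ⟨MulEquiv.ofBijective f ⟨?_, fun A => ?_⟩⟩
  · rw [injective_iff_map_eq_one]
    intro g hg
    have hB : sub g = 1 := congrArg Subtype.val hg
    refine ext_mulVec Q fun x => ?_
    rw [show mat Q 1 = 1 from rfl, Matrix.one_mulVec]
    have hp := hsub g x
    rw [hB, Matrix.one_mulVec] at hp
    have hq := (mem_iff Q).mp g.2 x
    rw [show (((g : Matrix.GeneralLinearGroup (Unit ⊕ (Fin m ⊕ Fin m)) F) : Matrix _ _ F)) *ᵥ x = mat Q g *ᵥ x from rfl,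
      hQ, hQ, hp] at hq
    funext i
    rcases i with i | i
    · exact sqinj _ _ (by rw [← pow_two, ← pow_two]; linear_combination hq)
    · exact congrFun hp i
  · choose r hr using exists_sqrt_two h2 (F := F)
    let lam : (Fin m ⊕ Fin m → F) → F := fun w => r (P w + P (A.1 *ᵥ w))
    have hPs : ∀ (c : F) w, P (c • w) = c * c * P w := fun c w => by
      simp only [P, Cfsg.quadFormPlus, Pi.smul_apply, smul_eq_mul, Finset.mul_sum]
      exact Finset.sum_congr rfl fun i _ => by ring
    have lam_add : ∀ v w, lam (v + w) = lam v + lam w := fun v w => sqinj _ _ (by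
      rw [hr, Matrix.mulVec_add, hPol, hPol, (mem_symplectic_iff_form A.1).mp A.2]
      linear_combination sympBilin m F v w * h2 - hr (P v + P (A.1 *ᵥ v)) - hr (P w + P (A.1 *ᵥ w)) - lam v * lam w * h2)
    have lam_smul : ∀ (c : F) w, lam (c • w) = c * lam w := fun c w => sqinj _ _ (by
      rw [hr, Matrix.mulVec_smul, hPs, hPs]
      linear_combination -c * c * hr (P w + P (A.1 *ᵥ w)))
    let L : (Unit ⊕ (Fin m ⊕ Fin m) → F) →ₗ[F] (Unit ⊕ (Fin m ⊕ Fin m) → F) :=
      { toFun := fun x => Sum.elim (fun _ => x (.inl ()) + lam (pw x)) (A.1 *ᵥ pw x)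
        map_add' := fun x y => by
          funext i
          rcases i with i | i
          · show (x + y) (.inl ()) + lam (pw x + pw y) = _
            rw [lam_add]; simp [add_add_add_comm]
          · show (A.1 *ᵥ (pw x + pw y)) i = _
            rw [Matrix.mulVec_add]; rfl
        map_smul' := fun c x => by
          funext i
          rcases i with i | i
          · show c * x (.inl ()) + lam (c • pw x) = _
            rw [lam_smul]; simp [mul_add]
          · show (A.1 *ᵥ (c • pw x)) i = _
            rw [Matrix.mulVec_smul]; rfl }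
    have hinj : Function.Injective L := by
      refine (injective_iff_map_eq_zero _).mpr fun x hx => ?_
      have hp : A.1 *ᵥ pw x = 0 := funext fun i => congrFun hx (.inr i)
      have hw : pw x = 0 := by
        have h := congrArg ((A⁻¹ : symplecticGroup (Fin m) F).1 *ᵥ ·) hp
        simpa [Matrix.mulVec_mulVec, ← Submonoid.coe_mul] using h
      have h0 := congrFun hx (.inl ())
      funext i
      rcases i with i | i
      · have e : lam (pw x) = 0 := by
          rw [hw]; simpa using lam_smul 0 0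
        have h' : x (.inl ()) + lam (pw x) = 0 := h0
        rw [e, add_zero] at h'
        exact h'
      · exact congrFun hw i
    obtain ⟨g, hg⟩ := exists_of_equiv Q (LinearEquiv.ofInjectiveEndo L hinj) fun x => by
      rw [LinearEquiv.coe_ofInjectiveEndo, hQ, hQ]
      show (x (.inl ()) + lam (pw x)) ^ 2 + P (A.1 *ᵥ pw x) = _
      linear_combination hr (P (pw x) + P (A.1 *ᵥ pw x)) + (x (.inl ()) * lam (pw x) + P (A.1 *ᵥ pw x)) * h2
    refine ⟨g, Subtype.ext (Matrix.toLin'.injective (LinearMap.ext fun w => ?_))⟩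
    show sub g *ᵥ w = A.1 *ᵥ w
    conv_lhs => rw [show w = pw (Sum.elim 0 w) from rfl, ← hsub, hg]
    rfl

end Cfsg.Lib.Classical.Refl
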