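import Mathlib
import Cfsg.Agent.Classical.Orth.Orders

/-! The two-dimensional orthogonal groups are dihedral. -/

set_option autoImplicit false
set_option linter.style.haveILetI false

namespace Cfsg.Lib.Classical.Refl

open Matrix Polynomial

universe u

theorem nonempty_dihedral {G : Type u} [Group G] [Finite G] (r s : G) (n : ℕ) [NeZero n]
    (hr : orderOf r = n) (hs : s * s = 1) (hc : s * r * s = r⁻¹) (hns : s ∉ Subgroup.zpowers r)
    (hcard : Nat.card G = 2 * n) : Nonempty (G ≃* DihedralGroup n) := by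
  have inv_pow : ∀ k : ℕ, s * r ^ k * s = (r ^ k)⁻¹ := by
    intro k
    induction k with
    | zero => simp [hs]
    | succ k ih =>
      rw [pow_succ, _root_.mul_inv_rev, ← ih, ← hc]
      calc s * (r ^ k * r) * s = s * (r * r ^ k) * s := by rw [← pow_succ, pow_succ']
        _ = s * r * 1 * r ^ k * s := by simp [mul_assoc]
        _ = s * r * (s * s) * r ^ k * s := by rw [hs]
        _ = s * r * s * (s * r ^ k * s) := by simp [mul_assoc]
  let p : ZMod n → G := fun i => r ^ i.val
  have p_add : ∀ i j, p (i + j) = p i * p j := fun i j => by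
    simp only [p, ← pow_add]
    rw [pow_eq_pow_iff_modEq, hr, ZMod.val_add]
    exact Nat.mod_modEq _ _
  have p_zero : p 0 = 1 := by simp [p, ZMod.val_zero]
  have p_neg : ∀ i, p (-i) = (p i)⁻¹ := fun i => eq_inv_of_mul_eq_one_left (by rw [← p_add, neg_add_cancel, p_zero])
  have p_conj : ∀ i, p i * s = s * p (-i) := fun i => by
    rw [p_neg]
    show r ^ i.val * s = s * (r ^ i.val)⁻¹
    rw [← inv_pow, ← mul_assoc, ← mul_assoc, hs, one_mul]
  let f : DihedralGroup n →* G :=
    { toFun := fun x => match x with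
        | .r i => p i
        | .sr i => s * p i
      map_one' := p_zero
      map_mul' := by
        rintro (i | i) (j | j)
        · exact p_add i j
        · show s * p (j - i) = p i * (s * p j)
          rw [← mul_assoc, p_conj, mul_assoc, ← p_add, neg_add_eq_sub]
        · show s * p (i + j) = s * p i * p j
          rw [p_add, mul_assoc]
        · show p (j - i) = s * p i * (s * p j)
          rw [mul_assoc, ← mul_assoc (p i), p_conj, ← mul_assoc, ← mul_assoc, hs, one_mul, ← p_add, neg_add_eq_sub] }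
  have hinj : Function.Injective f := by
    rw [injective_iff_map_eq_one]
    rintro (i | i) h
    · have h' : r ^ i.val = 1 := h
      rw [← orderOf_dvd_iff_pow_eq_one, hr] at h'
      have : i.val = 0 := Nat.eq_zero_of_dvd_of_lt h' (ZMod.val_lt i)
      rw [(ZMod.val_eq_zero i).mp this]
      rfl
    · exfalso
      refine hns ?_
      have h' : s * p i = 1 := h
      rw [eq_inv_of_mul_eq_one_left h']
      exact inv_mem (pow_mem (Subgroup.mem_zpowers r) _)
  exact ⟨(MulEquiv.ofBijective f ((Nat.bijective_iff_injective_and_card f).mpr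
    ⟨hinj, by rw [DihedralGroup.nat_card, hcard]⟩)).symm⟩

variable {F : Type u} [Field F] [Fintype F]

theorem plus_dihedral {q : ℕ} (hF : Fintype.card F = q) :
    Nonempty (Cfsg.isometryGroup F (Cfsg.quadFormPlus 1 F) ≃* DihedralGroup (q - 1)) := by
  classical
  subst hF
  have hcard := OrthCard.card_plus (F := F) 0
  rw [Nat.card_eq_fintype_card (α := F)] at hcard
  rw [show Cfsg.quadFormPlus (0 + 1) F = ⇑(HypQuad.plusForm 1 F) from (_root_.funext (HypQuad.plusForm_apply 1)).symm] at hcard
  rw [show Cfsg.quadFormPlus 1 F = ⇑(HypQuad.plusForm 1 F) from (_root_.funext (HypQuad.plusForm_apply 1)).symm]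
  set Q := HypQuad.plusForm 1 F
  have hQ : ∀ x, Q x = x (.inl 0) * x (.inr 0) := fun x => by
    simp [Q, HypQuad.plusForm_apply, Cfsg.quadFormPlus]
  obtain ⟨t, ht⟩ := IsCyclic.exists_generator (α := Fˣ)
  have htord : orderOf t = Fintype.card F - 1 := by
    rw [orderOf_eq_card_of_forall_mem_zpowers ht, Nat.card_eq_fintype_card, Fintype.card_units]
  let D : (Fin 1 ⊕ Fin 1 → F) ≃ₗ[F] (Fin 1 ⊕ Fin 1 → F) :=
    LinearEquiv.piCongrRight fun i => LinearEquiv.smulOfUnit (Sum.elim (fun _ => t) (fun _ => t⁻¹) i)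
  obtain ⟨r, hr⟩ := exists_of_equiv Q D fun x => by
    rw [hQ, hQ]
    show ((t : F) * x (.inl 0)) * (((t⁻¹ : Fˣ) : F) * x (.inr 0)) = _
    rw [mul_mul_mul_comm, Units.mul_inv, one_mul]
  let S : (Fin 1 ⊕ Fin 1 → F) ≃ₗ[F] (Fin 1 ⊕ Fin 1 → F) := LinearEquiv.funCongrLeft F F (Equiv.sumComm _ _)
  obtain ⟨s, hs⟩ := exists_of_equiv Q S fun x => by
    rw [hQ, hQ]
    show x (.inr 0) * x (.inl 0) = _
    ring
  have hrk : ∀ (k : ℕ) x i, (mat Q (r ^ k) *ᵥ x) i = (Sum.elim (fun _ => (t : F)) (fun _ => ((t⁻¹ : Fˣ) : F)) i) ^ k * x i := by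
    intro k
    induction k with
    | zero => intro x i; simp [mat]
    | succ k ih =>
      intro x i
      rw [pow_succ', mat, mulVec_mul]
      change (mat Q r *ᵥ (mat Q (r ^ k) *ᵥ x)) i = _
      rw [hr]
      rcases i with i | i
      · show (t : F) * (mat Q (r ^ k) *ᵥ x) (.inl i) = _
        rw [ih, pow_succ']; simp [mul_assoc]
      · show ((t⁻¹ : Fˣ) : F) * (mat Q (r ^ k) *ᵥ x) (.inr i) = _
        rw [ih, pow_succ']; simp [mul_assoc]
  haveI : NeZero (Fintype.card F - 1) := ⟨by have := Fintype.one_lt_card (α := F); omega⟩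
  have hord : orderOf r = Fintype.card F - 1 := by
    rw [← htord]
    refine orderOf_eq_orderOf_iff.mpr fun k => ⟨fun h => Units.ext ?_, fun h => ext_mulVec Q fun x => ?_⟩
    · have h1 := hrk k (fun _ => 1) (.inl 0)
      rw [h, show mat Q 1 = 1 from rfl, Matrix.one_mulVec] at h1
      simpa using h1.symm
    · funext i
      rw [hrk, show mat Q 1 = 1 from rfl, Matrix.one_mulVec]
      rcases i with i | i
      · simp [← Units.val_pow_eq_pow_val, h]
      · show ((t⁻¹ : Fˣ) : F) ^ k * x (.inr i) = _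
        rw [← Units.val_pow_eq_pow_val, _root_.inv_pow, h, inv_one, Units.val_one, one_mul]
  refine nonempty_dihedral r s _ hord ?_ ?_ ?_ ?_
  · refine ext_mulVec Q fun x => funext fun i => ?_
    rw [mat, mulVec_mul]
    change (mat Q s *ᵥ (mat Q s *ᵥ x)) i = _
    rw [hs, hs, show mat Q 1 = 1 from rfl, Matrix.one_mulVec]
    rcases i with i | i <;> rfl
  · refine eq_inv_of_mul_eq_one_left (ext_mulVec Q fun x => funext fun i => ?_)
    rw [mat, mulVec_mul, mulVec_mul, mulVec_mul]
    change (mat Q s *ᵥ (mat Q r *ᵥ (mat Q s *ᵥ (mat Q r *ᵥ x)))) i = _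
    rw [hs, hr, hs, hr, show mat Q 1 = 1 from rfl, Matrix.one_mulVec]
    rcases i with i | i
    · show ((t⁻¹ : Fˣ) : F) * ((t : F) * x (.inl i)) = _
      rw [← mul_assoc, Units.inv_mul, one_mul]
    · show (t : F) * (((t⁻¹ : Fˣ) : F) * x (.inr i)) = _
      rw [← mul_assoc, Units.mul_inv, one_mul]
  · intro h
    obtain ⟨k, hk⟩ := mem_powers_iff_mem_zpowers.mpr h
    have h1 := hrk k (Pi.single (.inl 0) 1) (.inr 0)
    rw [show r ^ k = s from hk, hs] at h1
    simp [S, LinearEquiv.funCongrLeft_apply, LinearMap.funLeft_apply] at h1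
  · rw [hcard]; simp [OrthCard.prodQ]

theorem minus_dihedral {q : ℕ} (hF : Fintype.card F = q) (a b : F)
    (hab : ∀ z₁ z₂ : F, z₁ ^ 2 + a * z₁ * z₂ + b * z₂ ^ 2 = 0 → z₁ = 0 ∧ z₂ = 0) :
    Nonempty (Cfsg.isometryGroup F (Cfsg.quadFormMinus 0 F a b) ≃* DihedralGroup (q + 1)) := by
  classical
  subst hF
  have hcard := OrthCard.card_minus (F := F) hab 0
  rw [Nat.card_eq_fintype_card (α := F), ← minusForm_coe] at hcard
  rw [← minusForm_coe]
  set Q := minusForm 0 F a b
  let ι := (Fin 0 ⊕ Fin 0) ⊕ Fin 2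
  have hQ : ∀ x, Q x = x (.inr 0) ^ 2 + a * x (.inr 0) * x (.inr 1) + b * x (.inr 1) ^ 2 := fun x => by
    simp [Q, minusForm_coe, Cfsg.quadFormMinus]
  set P : F[X] := X ^ 2 - C a * X + C b with hP
  have hdeg : P.natDegree = 2 := by rw [hP]; compute_degree!
  have hmon : P.Monic := by rw [hP]; monicity!
  have hroots : ∀ x : F, P.eval x ≠ 0 := fun x hx => by
    simp [hP] at hx
    exact one_ne_zero (neg_eq_zero.mp (hab x (-1) (by linear_combination hx)).2)
  have hirr : Irreducible P := by
    rw [Polynomial.Monic.irreducible_iff_roots_eq_zero_of_degree_le_three hmon (by omega) (by omega)]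
    exact Multiset.eq_zero_of_forall_notMem fun x hx => hroots x (Polynomial.isRoot_of_mem_roots hx)
  haveI : Fact (Irreducible P) := ⟨hirr⟩
  let K := AdjoinRoot P
  set θ : K := AdjoinRoot.root P
  have hθ : θ ^ 2 - algebraMap F K a * θ + algebraMap F K b = 0 := by
    have := AdjoinRoot.eval₂_root P
    simpa [hP, AdjoinRoot.algebraMap_eq, θ, K] using this
  have hθF : ∀ x : F, algebraMap F K x ≠ θ := fun x hx => hroots x (by
    apply (algebraMap F K).injective
    rw [map_zero, ← hθ, ← hx]
    simp [hP])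
  let φ : (ι → F) → K := fun z => algebraMap F K (z (.inr 0)) + algebraMap F K (z (.inr 1)) * θ
  let φ' : (ι → F) → K := fun z =>
    algebraMap F K (z (.inr 0)) + algebraMap F K (z (.inr 1)) * (algebraMap F K a - θ)
  have hφinj : Function.Injective φ := by
    intro x y h
    have e1 : x (.inr 1) = y (.inr 1) := by
      by_contra hne
      refine hθF (-(x (.inr 0) - y (.inr 0)) / (x (.inr 1) - y (.inr 1))) ?_
      rw [map_div₀, map_neg, map_sub, map_sub, div_eq_iff]
      · simp only [φ] at h; linear_combination -h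
      · rw [← map_sub]; exact (_root_.map_ne_zero _).mpr (sub_ne_zero.mpr hne)
    have e0 : x (.inr 0) = y (.inr 0) := by
      simp only [φ, e1] at h
      exact (algebraMap F K).injective (add_right_cancel h)
    funext i
    rcases i with (i | i) | i
    · exact i.elim0
    · exact i.elim0
    · fin_cases i
      · exact e0
      · exact e1
  have hN : ∀ z, φ z * φ' z = algebraMap F K (Q z) := fun z => by
    simp only [φ, φ', hQ, map_add, map_mul, map_pow]
    linear_combination -(algebraMap F K (z (.inr 1))) ^ 2 * hθ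
  let vec : F → F → (ι → F) := fun x y => Sum.elim 0 ![x, y]
  let M : (ι → F) → (ι → F) →ₗ[F] (ι → F) := fun w =>
    { toFun := fun z => vec (w (.inr 0) * z (.inr 0) - b * (w (.inr 1) * z (.inr 1)))
        (w (.inr 0) * z (.inr 1) + w (.inr 1) * z (.inr 0) + a * (w (.inr 1) * z (.inr 1)))
      map_add' := fun x y => by
        funext i; rcases i with i | i
        · simp [vec]
        · fin_cases i <;> simp [vec] <;> ring
      map_smul' := fun c x => by
        funext i; rcases i with i | i
        · simp [vec]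
        · fin_cases i <;> simp [vec] <;> ring }
  have hM : ∀ w z, φ (M w z) = φ w * φ z := fun w z => by
    simp [φ, M, vec]
    linear_combination -(algebraMap F K (w (.inr 1)) * algebraMap F K (z (.inr 1))) * hθ
  have hMQ : ∀ w z, Q (M w z) = Q w * Q z := fun w z => by
    simp [hQ, M, vec]; ring
  let S : Subgroup Kˣ :=
    { carrier := {u | ∃ w, φ w = (u : K) ∧ Q w = 1}
      one_mem' := ⟨vec 1 0, by simp [φ, vec], by simp [hQ, vec]⟩
      mul_mem' := fun {u v} ⟨w, hw, hw1⟩ ⟨z, hz, hz1⟩ =>
        ⟨M w z, by rw [hM, hw, hz, Units.val_mul], by rw [hMQ, hw1, hz1, one_mul]⟩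
      inv_mem' := fun {u} ⟨w, hw, hw1⟩ => by
        refine ⟨vec (w (.inr 0) + a * w (.inr 1)) (-(w (.inr 1))), ?_, ?_⟩
        · refine (Units.mul_eq_one_iff_inv_eq.mp ?_).symm
          rw [← hw]
          simp [φ, vec]
          have h := hN w
          rw [hw1, map_one] at h
          simp only [φ, φ'] at h
          linear_combination h
        · rw [← hw1, hQ, hQ]; simp [vec]; ring }
  haveI : Module.Finite F K := Polynomial.Monic.finite_adjoinRoot hmon
  haveI : Finite K := Module.finite_of_finite F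
  haveI : IsCyclic S := inferInstance
  have hScard : Nat.card S = Fintype.card F + 1 := by
    obtain ⟨ψ, hψ⟩ := OrthCard.minus_equiv (F := F) 0 a b
    obtain ⟨χ, hχ⟩ := OrthCard.exists_split_zero (OrthCard.P2 a b)
    have h2 := OrthCard.P2_facts hab
    let e : {w : ι → F // Q w = 1} ≃ S :=
      Equiv.ofBijective (fun w => ⟨Units.mk0 (φ w.1) (fun h => by
          have := hN w.1; rw [h, zero_mul, w.2, map_one] at this; exact zero_ne_one this), w.1, rfl, w.2⟩)
        ⟨fun w z h => Subtype.ext (hφinj (congrArg (fun u : S => ((u : Kˣ) : K)) h)),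
         fun u => by
          obtain ⟨w, hw, hw1⟩ := u.2
          exact ⟨⟨w, hw1⟩, Subtype.ext (Units.ext hw)⟩⟩
    rw [← Nat.card_congr e, ← Nat.card_eq_fintype_card, ← OrthCard.P2_norm_one hab]
    refine Nat.card_congr ((ψ.symm ≪≫ₗ χ).toEquiv.subtypeEquiv fun w => ?_)
    show Q w = 1 ↔ OrthCard.P2 a b (χ (ψ.symm w)) = 1
    rw [hχ, ← hψ, LinearEquiv.apply_symm_apply]
  obtain ⟨u₀, hu₀⟩ := IsCyclic.exists_generator (α := S)
  obtain ⟨w₀, hw₀, hw₁⟩ := u₀.2
  have hMinj : Function.Injective (M w₀) := fun x y h => hφinj (by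
    have h' := congrArg φ h
    rw [hM, hM, hw₀] at h'
    exact mul_left_cancel₀ (Units.ne_zero _) h')
  obtain ⟨r, hr⟩ := exists_of_equiv Q (LinearEquiv.ofInjectiveEndo (M w₀) hMinj) fun z => by
    show Q (M w₀ z) = Q z
    rw [hMQ, hw₁, one_mul]
  let cj : (ι → F) ≃ₗ[F] (ι → F) :=
    { toFun := fun z => vec (z (.inr 0) + a * z (.inr 1)) (-(z (.inr 1)))
      invFun := fun z => vec (z (.inr 0) + a * z (.inr 1)) (-(z (.inr 1)))
      map_add' := fun x y => by
        funext i; rcases i with i | i
        · simp [vec]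
        · fin_cases i <;> simp [vec] <;> ring
      map_smul' := fun c x => by
        funext i; rcases i with i | i
        · simp [vec]
        · fin_cases i <;> simp [vec] <;> ring
      left_inv := fun z => by
        funext i; rcases i with (i | i) | i
        · exact i.elim0
        · exact i.elim0
        · fin_cases i <;> simp [vec]
      right_inv := fun z => by
        funext i; rcases i with (i | i) | i
        · exact i.elim0
        · exact i.elim0
        · fin_cases i <;> simp [vec] }
  obtain ⟨s, hs⟩ := exists_of_equiv Q cj fun z => by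
    show Q (vec _ _) = Q z
    simp [hQ, vec]; ring
  have hcj : ∀ z, φ (cj z) = φ' z := fun z => by simp [φ, φ', cj, vec]; ring
  have hcj' : ∀ z, φ' (cj z) = φ z := fun z => by simp [φ, φ', cj, vec]; ring
  have hφ'M : ∀ w z, φ' (M w z) = φ' w * φ' z := fun w z => by
    simp [φ', M, vec]
    linear_combination -(algebraMap F K (w (.inr 1)) * algebraMap F K (z (.inr 1))) * hθ
  have hrk : ∀ (k : ℕ) z, φ (mat Q (r ^ k) *ᵥ z) = ((u₀ : Kˣ) : K) ^ k * φ z := by
    intro k
    induction k with
    | zero => intro z; simp [mat]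
    | succ k ih =>
      intro z
      rw [pow_succ', mat, mulVec_mul]
      change φ (mat Q r *ᵥ (mat Q (r ^ k) *ᵥ z)) = _
      rw [hr, LinearEquiv.coe_ofInjectiveEndo, hM, hw₀, ih, pow_succ']
      ring
  have hone : φ (vec 1 0) = 1 := by simp [φ, vec]
  haveI : NeZero (Fintype.card F + 1) := ⟨by omega⟩
  have hord : orderOf r = Fintype.card F + 1 := by
    rw [← hScard, ← orderOf_eq_card_of_forall_mem_zpowers hu₀]
    refine orderOf_eq_orderOf_iff.mpr fun k => ⟨fun h => Subtype.ext (Units.ext ?_), fun h => ext_mulVec Q fun x => hφinj ?_⟩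
    · have h1 := hrk k (vec 1 0)
      rw [h, show mat Q 1 = 1 from rfl, Matrix.one_mulVec, hone, mul_one] at h1
      simpa using h1.symm
    · rw [hrk, show mat Q 1 = 1 from rfl, Matrix.one_mulVec]
      have h1 := congrArg (fun u : S => ((u : Kˣ) : K)) h
      simp at h1
      rw [h1, one_mul]
  refine nonempty_dihedral r s _ hord ?_ ?_ ?_ ?_
  · refine ext_mulVec Q fun x => ?_
    rw [mat, mulVec_mul]
    change mat Q s *ᵥ (mat Q s *ᵥ x) = _
    rw [hs, hs, show mat Q 1 = 1 from rfl, Matrix.one_mulVec]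
    exact cj.left_inv x
  · refine eq_inv_of_mul_eq_one_left (ext_mulVec Q fun x => hφinj ?_)
    rw [mat, mulVec_mul, mulVec_mul, mulVec_mul]
    change φ (mat Q s *ᵥ (mat Q r *ᵥ (mat Q s *ᵥ (mat Q r *ᵥ x)))) = _
    rw [hs, hr, hs, hr, show mat Q 1 = 1 from rfl, Matrix.one_mulVec, LinearEquiv.coe_ofInjectiveEndo,
      hcj, hφ'M, hcj', hM, ← mul_assoc, mul_comm (φ' w₀), hN, hw₁, map_one, one_mul]
  · intro h
    obtain ⟨k, hk⟩ := mem_powers_iff_mem_zpowers.mpr h
    have h1 := hrk k (vec 1 0)
    rw [show r ^ k = s from hk, hs, hcj, hone, mul_one] at h1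
    have h3 := hrk k (vec 0 1)
    rw [show r ^ k = s from hk, hs, hcj, ← h1] at h3
    simp [φ', φ, vec] at h3
    have ha : a = 0 := by
      by_contra ha
      by_cases h2 : (2 : F) = 0
      · have : (2 : K) = 0 := by rw [← map_ofNat (algebraMap F K) 2, h2, map_zero]
        apply ha
        apply (algebraMap F K).injective
        rw [map_zero]
        linear_combination h3 + θ * this
      · refine hθF (a / 2) ?_
        rw [map_div₀, map_ofNat, div_eq_iff (fun h' : (2 : K) = 0 => h2 ((algebraMap F K).injective (by rw [map_ofNat, h', map_zero])))]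
        linear_combination h3
    rw [ha, map_zero, zero_sub] at h3
    have h20 : (2 : K) * θ = 0 := by linear_combination -h3
    have hθ0 : θ ≠ 0 := fun h => hθF 0 (by rw [h, map_zero])
    have h2K : (2 : K) = 0 := (mul_eq_zero.mp h20).resolve_right hθ0
    have h2 : (2 : F) = 0 := (algebraMap F K).injective (by rw [map_ofNat, h2K, map_zero])
    exact disc_ne_zero hab (by rw [ha]; linear_combination 2 * b * h2)
  · rw [hcard]; simp [OrthCard.prodQ]

end Cfsg.Lib.Classical.Refl
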