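import Mathlib
import Cfsg.Prelude.Def_GeometricClasses
import Cfsg.Agent.Classical.Misc.Dickson
import Cfsg.Agent.Classical.Misc.Spinor
import Cfsg.Agent.Classical.Orth.OmegaGen

/-! `Ω` fixes both families of maximal singular subspaces, and two non-maximal stabilisers that follow. -/

set_option autoImplicit false
set_option linter.unusedSimpArgs false
set_option linter.style.haveILetI false

namespace Cfsg.Lib.Classical.Refl

open Matrix

universe u

variable {F : Type u} [Field F] {ι : Type} [Fintype ι] [DecidableEq ι] (Q : QuadraticForm F (ι → F))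
  (hQ : (QuadraticMap.polarBilin Q).Nondegenerate)

/-- The square of a singular subspace in the doubled space. -/
theorem square_isMax {m : ℕ} (hn : Fintype.card ι = 2 * m) {U : Submodule F (ι → F)} (hU : HypQuad.IsMax Q m U) :
    HypQuad.IsMax (double Q) (Fintype.card ι) (U.prod U) := by
  refine ⟨?_, fun w hw => ?_⟩
  · let e : ↥(U.prod U) ≃ₗ[F] ↥U × ↥U :=
      { toFun := fun z => (⟨z.1.1, z.2.1⟩, ⟨z.1.2, z.2.2⟩)
        map_add' := fun _ _ => rfl
        map_smul' := fun _ _ => rfl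
        invFun := fun z => ⟨(z.1.1, z.2.1), ⟨z.1.2, z.2.2⟩⟩
        left_inv := fun _ => rfl
        right_inv := fun _ => rfl }
    rw [e.finrank_eq, Module.finrank_prod, hU.1, hn, two_mul]
  · rw [double_apply, hU.2 _ hw.1, hU.2 _ hw.2, sub_zero]

theorem finrank_square_inf (U : Submodule F (ι → F)) (g : Cfsg.isometryGroup F (⇑Q)) :
    Module.finrank F ↥(U.prod U ⊓ graph Q g) =
      Module.finrank F ↥(U ⊓ U.map (Matrix.toLin' (mat Q g))) := by
  have e : (U.prod U ⊓ graph Q g).map (LinearMap.fst F (ι → F) (ι → F)) = U ⊓ U.map (Matrix.toLin' (mat Q g)) := by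
    ext y
    constructor
    · rintro ⟨z, ⟨⟨h1, h2⟩, ⟨x, rfl⟩⟩, rfl⟩
      exact ⟨h1, x, h2, rfl⟩
    · rintro ⟨hy, x, hx, rfl⟩
      exact ⟨(Matrix.toLin' (mat Q g) x, x), ⟨⟨hy, hx⟩, ⟨x, rfl⟩⟩, rfl⟩
  rw [← e]
  symm
  let f : ↥(U.prod U ⊓ graph Q g) →ₗ[F] (ι → F) := (LinearMap.fst F _ _).comp (Submodule.subtype _)
  have hf : Function.Injective f := by
    intro a b hab
    obtain ⟨xa, hxa⟩ := a.2.2
    obtain ⟨xb, hxb⟩ := b.2.2
    have h' : mat Q g *ᵥ xa = mat Q g *ᵥ xb := by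
      have h1 : a.1.1 = b.1.1 := hab
      rw [← hxa, ← hxb] at h1
      exact h1
    have := congrArg (mat Q g⁻¹ *ᵥ ·) h'
    simp only [mulVec_inv_cancel] at this
    subst this
    exact Subtype.ext (hxa.symm.trans hxb)
  have hr : LinearMap.range f = (U.prod U ⊓ graph Q g).map (LinearMap.fst F (ι → F) (ι → F)) := by
    rw [LinearMap.range_comp, Submodule.range_subtype]
  rw [← hr, LinearMap.finrank_range_of_inj hf]

include hQ in
/-- An element of trivial Dickson invariant preserves the family of a maximal singular subspace. -/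
theorem even_codim_inf {m : ℕ} (hn : Fintype.card ι = 2 * m) {U : Submodule F (ι → F)} (hU : HypQuad.IsMax Q m U)
    (g : Cfsg.isometryGroup F (⇑Q)) (hg : dickson Q hQ g = 1) :
    Even (m + Module.finrank F ↥(U ⊓ U.map (Matrix.toLin' (mat Q g)))) := by
  have h0 := HypQuad.parity (double Q) (double_nondegenerate Q hQ)
    (by rw [Module.finrank_prod, Module.finrank_fintype_fun_eq_card, two_mul])
    (square_isMax Q hn hU) (graph_isMax Q g) (graph_isMax Q 1)
  rw [finrank_square_inf, finrank_square_inf, finrank_graph_inf,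
    show U.map (Matrix.toLin' (mat Q 1)) = U by rw [show mat Q 1 = 1 from rfl, Matrix.toLin'_one, Submodule.map_id],
    inf_idem, hU.1] at h0
  have hgap : Even (gap Q g 1) := by
    have h : (-1 : ℤˣ) ^ gap Q g 1 = 1 := hg
    exact (neg_one_pow_eq_one_iff_even (by decide)).mp h
  rw [gap] at hgap
  have hle : Module.finrank F ↥(U ⊓ U.map (Matrix.toLin' (mat Q g))) ≤ m :=
    hU.1 ▸ Submodule.finrank_mono inf_le_left
  rw [Nat.even_iff] at h0 hgap ⊢
  omega

include hQ in
theorem dickson_omega (g : Cfsg.isometryGroup F (⇑Q)) (hg : g ∈ Cfsg.Omega F (⇑Q)) : dickson Q hQ g = 1 :=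
  hom_eq_one_of_omega Q (dickson Q hQ) hg

include hQ in
theorem exists_singular_perp {u x : ι → F} (hu : Q u = 0) (hx : Q x = 0)
    (hux : QuadraticMap.polar (⇑Q) u x = 0) (hxu : x ∉ Submodule.span F {u}) :
    ∃ z, Q z = 0 ∧ QuadraticMap.polar (⇑Q) u z = 0 ∧ QuadraticMap.polar (⇑Q) x z ≠ 0 := by
  obtain ⟨y, hy, hxy⟩ : ∃ y ∈ HypQuad.perp Q (Submodule.span F {u}), QuadraticMap.polar (⇑Q) x y ≠ 0 := by
    by_contra h
    push Not at h
    apply hxu
    rw [← perp_perp Q hQ (Submodule.span F {u}), HypQuad.mem_perp]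
    intro w hw
    rw [QuadraticMap.polar_comm]
    exact h w hw
  have huy : QuadraticMap.polar (⇑Q) u y = 0 := HypQuad.mem_perp Q |>.mp hy u (Submodule.mem_span_singleton_self u)
  refine ⟨y + (-(Q y / QuadraticMap.polar (⇑Q) x y)) • x, ?_, ?_, ?_⟩
  · rw [QuadraticMap.map_add (f := Q), QuadraticMap.map_smul, hx, QuadraticMap.polar_smul_right,
      QuadraticMap.polar_comm (⇑Q) y x]
    simp only [smul_eq_mul, mul_zero, add_zero]
    field_simp
    ring
  · rw [QuadraticMap.polar_add_right, QuadraticMap.polar_smul_right, huy, hux, smul_zero, add_zero]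
  · rw [QuadraticMap.polar_add_right, QuadraticMap.polar_smul_right,
      HypQuad.polar_zero_of_singular Q (W := Submodule.span F {x})
        (fun w hw => by obtain ⟨c, rfl⟩ := Submodule.mem_span_singleton.mp hw; rw [QuadraticMap.map_smul, hx, smul_zero])
        (Submodule.mem_span_singleton_self x) (Submodule.mem_span_singleton_self x), smul_zero, add_zero]
    exact hxy

/-- An element of `Ω` inside the general linear group. -/
def omegaVal (g : Cfsg.isometryGroup F (⇑Q)) : GL ι F := (g : GL ι F)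

theorem mem_omegaGL (g : GL ι F) :
    g ∈ Cfsg.Geo.omegaGL (⇑Q) ↔ ∃ h : Cfsg.isometryGroup F (⇑Q), h ∈ Cfsg.Omega F (⇑Q) ∧ (h : GL ι F) = g :=
  Subgroup.mem_map

theorem mem_subspaceStabilizer_iff (W : Submodule F (ι → F)) (g : GL ι F) :
    g ∈ Cfsg.Geo.subspaceStabilizer W ↔ W.map (Matrix.toLin' (g : Matrix ι ι F)) = W := by
  constructor
  · intro h
    refine Submodule.eq_of_le_of_finrank_eq ?_ ?_
    · rintro _ ⟨x, hx, rfl⟩
      exact (h x).mp hx
    · exact LinearEquiv.finrank_map_eq (Matrix.toLinearEquiv' (g : Matrix ι ι F) g.invertible) W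
  · intro h x
    constructor
    · intro hx
      show (g : Matrix ι ι F) *ᵥ x ∈ W
      exact h ▸ Submodule.mem_map_of_mem (f := Matrix.toLin' (g : Matrix ι ι F)) hx
    · intro hx
      have hx' : (g : Matrix ι ι F) *ᵥ x ∈ W.map (Matrix.toLin' (g : Matrix ι ι F)) := by rw [h]; exact hx
      obtain ⟨y, hy, hyx⟩ := hx'
      have := congrArg (((g⁻¹ : GL ι F) : Matrix ι ι F) *ᵥ ·) hyx
      simp only [Matrix.toLin'_apply, Matrix.mulVec_mulVec, ← Units.val_mul, inv_mul_cancel, Units.val_one,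
        Matrix.one_mulVec] at this
      exact this ▸ hy

include hQ in
/-- The stabiliser in `Ω` of a hyperplane of a maximal singular subspace is not maximal. -/
theorem hyperplane_not_maximal [Finite F] {m : ℕ} (hm : 3 ≤ m) (hn : Fintype.card ι = 2 * m)
    (hplus : ∃ U, HypQuad.IsMax Q m U) {W : Submodule F (ι → F)} (hW : ∀ w ∈ W, Q w = 0)
    (hWd : Module.finrank F W + 1 = m) :
    ∃ K : Subgroup (GL ι F), Cfsg.Geo.subspaceStabilizer W ⊓ Cfsg.Geo.omegaGL (⇑Q) < K ∧
      K < Cfsg.Geo.omegaGL (⇑Q) := by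
  have hV : Module.finrank F (ι → F) = 2 * m := by rw [Module.finrank_fintype_fun_eq_card, hn]
  have hn5 : 5 ≤ Fintype.card ι := by omega
  obtain ⟨U0, hU0⟩ := hplus
  obtain ⟨H, hH, hHd⟩ : ∃ H : Submodule F (ι → F), H ≤ U0 ∧ Module.finrank F H = Module.finrank F W := by
    obtain ⟨f, hf⟩ := exists_linearIndependent_of_le_finrank (R := F) (M := U0)
      (n := Module.finrank F W) (by rw [hU0.1]; omega)
    refine ⟨(Submodule.span F (Set.range f)).map U0.subtype, Submodule.map_subtype_le _ _, ?_⟩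
    rw [Submodule.finrank_map_subtype_eq, finrank_span_eq_card hf, Fintype.card_fin]
  obtain ⟨g0, hg0, hg0W⟩ := WittQuad.witt Q hQ H W (LinearEquiv.ofFinrankEq _ _ hHd)
    (fun x => by rw [hW _ (Subtype.mem _), hU0.2 _ (hH x.2)])
  set U1 := U0.map g0.toLinearMap with hU1
  have hU1m : HypQuad.IsMax Q m U1 := ⟨by rw [hU1, LinearEquiv.finrank_map_eq, hU0.1], by
    rintro _ ⟨x, hx, rfl⟩
    exact (hg0 x).trans (hU0.2 x hx)⟩
  have hWU : W ≤ U1 := fun w hw => by
    refine ⟨((LinearEquiv.ofFinrankEq _ _ hHd).symm ⟨w, hw⟩ : ι → F), hH (Subtype.mem _), ?_⟩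
    exact (hg0W _).trans (by rw [LinearEquiv.apply_symm_apply])
  obtain ⟨U2, hU2m, hWU2, hne, hinf, hcover⟩ := HypQuad.exists_other Q hQ hV hWd hU1m hWU
  obtain ⟨u, hu, huW⟩ : ∃ u ∈ U1, u ∉ W := by
    by_contra h
    push Not at h
    have := Submodule.finrank_mono (show U1 ≤ W from h)
    rw [hU1m.1] at this
    omega
  obtain ⟨w, hw, hwu⟩ : ∃ w ∈ W, w ∉ Submodule.span F {u} := by
    by_contra h
    push Not at h
    have h1 := Submodule.finrank_mono (show W ≤ Submodule.span F {u} from h)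
    have h2 : Module.finrank F ↥(Submodule.span F {u}) ≤ 1 := by
      simpa using finrank_span_le_card (R := F) ({u} : Set (ι → F))
    omega
  obtain ⟨z, hz, huz, hwz⟩ := exists_singular_perp Q hQ (hU1m.2 u hu) (hU1m.2 w (hWU hw))
    (HypQuad.polar_zero_of_singular Q hU1m.2 hu (hWU hw)) hwu
  set t := siegelG Q (hU1m.2 u hu) huz
  have htO := siegelG_mem_omega Q hQ hn5 (hU1m.2 u hu) huz
  refine ⟨Cfsg.Geo.subspaceStabilizer U1 ⊓ Cfsg.Geo.omegaGL (⇑Q), lt_of_le_of_ne ?_ ?_, lt_of_le_of_ne inf_le_right ?_⟩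
  · rintro g ⟨hgW, hgO⟩
    refine ⟨?_, hgO⟩
    obtain ⟨h, hhO, rfl⟩ := (mem_omegaGL Q g).mp hgO
    replace hgW := (mem_subspaceStabilizer_iff _ _).mp hgW
    apply (mem_subspaceStabilizer_iff _ _).mpr
    change W.map (Matrix.toLin' (mat Q h)) = W at hgW
    change U1.map (Matrix.toLin' (mat Q h)) = U1
    set X := U1.map (Matrix.toLin' (mat Q h)) with hX
    have hXs : ∀ x ∈ X, Q x = 0 := by
      rintro _ ⟨y, hy, rfl⟩
      rw [Matrix.toLin'_apply, (mem_iff Q).mp h.2]
      exact hU1m.2 y hy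
    have hXd : Module.finrank F X = m := by
      rw [hX, ← hU1m.1]
      exact LinearEquiv.finrank_map_eq (Matrix.toLinearEquiv' (mat Q h) (h : GL ι F).invertible) U1
    have hWX : W ≤ X := hgW.symm.trans_le (Submodule.map_mono hWU)
    have hsub : X ≤ U1 ∨ X ≤ U2 := by
      by_contra hcon
      push Not at hcon
      obtain ⟨a, ha, ha1⟩ := SetLike.not_le_iff_exists.mp hcon.1
      obtain ⟨b, hb, hb2⟩ := SetLike.not_le_iff_exists.mp hcon.2
      have hmem : ∀ c ∈ X, c ∈ U1 ∨ c ∈ U2 := fun c hc => hcover c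
        (HypQuad.mem_perp Q |>.mpr fun v hv => HypQuad.polar_zero_of_singular Q hXs (hWX hv) hc) (hXs c hc)
      have ha2 := (hmem a ha).resolve_left ha1
      have hb1 := (hmem b hb).resolve_right hb2
      rcases hmem (a + b) (add_mem ha hb) with hab | hab
      · exact ha1 ((add_mem_cancel_right hb1).mp hab)
      · exact hb2 ((add_mem_cancel_left ha2).mp hab)
    rcases hsub with hs | hs
    · exact Submodule.eq_of_le_of_finrank_eq hs (by rw [hXd, hU1m.1])
    · exfalso
      have hX2 : X = U2 := Submodule.eq_of_le_of_finrank_eq hs (by rw [hXd, hU2m.1])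
      have he := even_codim_inf Q hQ hn hU1m h (dickson_omega Q hQ h hhO)
      rw [← hX, hX2, hinf, Nat.even_iff] at he
      omega
  · intro heq
    have htK : (t : GL ι F) ∈ Cfsg.Geo.subspaceStabilizer U1 ⊓ Cfsg.Geo.omegaGL (⇑Q) := by
      refine ⟨?_, (mem_omegaGL Q _).mpr ⟨t, htO, rfl⟩⟩
      apply (mem_subspaceStabilizer_iff _ _).mpr
      refine Submodule.eq_of_le_of_finrank_eq ?_
        (LinearEquiv.finrank_map_eq (Matrix.toLinearEquiv' (mat Q t) (t : GL ι F).invertible) U1)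
      rintro _ ⟨x, hx, rfl⟩
      change mat Q t *ᵥ x ∈ U1
      rw [mat_siegelG, siegelMap, HypQuad.polar_zero_of_singular Q hU1m.2 hu hx, zero_smul, add_zero]
      exact add_mem hx (U1.smul_mem _ hu)
    rw [← heq] at htK
    have h1 := (mem_subspaceStabilizer_iff _ _).mp htK.1
    have h2 : mat Q t *ᵥ w ∈ W := h1 ▸ Submodule.mem_map_of_mem (f := Matrix.toLin' (mat Q t)) hw
    rw [mat_siegelG, siegelMap, HypQuad.polar_zero_of_singular Q hU1m.2 hu (hWU hw), zero_smul, add_zero,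
      mul_zero, sub_zero, Submodule.add_mem_iff_right _ hw, Submodule.smul_mem_iff _ (by
        rw [neg_ne_zero, QuadraticMap.polar_comm]; exact hwz)] at h2
    exact huW h2
  · intro heq
    have hzU : z ∉ U1 := fun h => hwz (HypQuad.polar_zero_of_singular Q hU1m.2 (hWU hw) h)
    obtain ⟨x, hx, hzx, hxz⟩ : ∃ x ∈ U1, QuadraticMap.polar (⇑Q) z x = 0 ∧ x ∉ Submodule.span F {z} := by
      refine ⟨u, hu, by rw [QuadraticMap.polar_comm]; exact huz, fun h => ?_⟩
      obtain ⟨c, hc⟩ := Submodule.mem_span_singleton.mp h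
      rcases eq_or_ne c 0 with rfl | hc0
      · exact huW (by rw [← hc, zero_smul]; exact W.zero_mem)
      · exact hzU ((U1.smul_mem_iff hc0).mp (hc ▸ hu))
    obtain ⟨z', hz', hzz', hxz'⟩ := exists_singular_perp Q hQ hz (hU1m.2 x hx) hzx hxz
    set s := siegelG Q hz hzz'
    have hsK : (s : GL ι F) ∈ Cfsg.Geo.subspaceStabilizer U1 ⊓ Cfsg.Geo.omegaGL (⇑Q) :=
      heq.symm ▸ (mem_omegaGL Q _).mpr ⟨s, siegelG_mem_omega Q hQ hn5 hz hzz', rfl⟩
    have h1 := (mem_subspaceStabilizer_iff _ _).mp hsK.1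
    have h2 : mat Q s *ᵥ x ∈ U1 := h1 ▸ Submodule.mem_map_of_mem (f := Matrix.toLin' (mat Q s)) hx
    rw [mat_siegelG, siegelMap, hzx, zero_smul, add_zero, mul_zero, sub_zero, Submodule.add_mem_iff_right _ hx,
      Submodule.smul_mem_iff _ (by rw [neg_ne_zero, QuadraticMap.polar_comm]; exact hxz')] at h2
    exact hzU h2

include hQ in
/-- The stabiliser in `Ω` of a pair of complementary singular subspaces of odd dimension is not maximal. -/
theorem pair_not_maximal [Finite F] {k : ℕ} (hk : 3 ≤ k) (hko : Odd k) (hn : Fintype.card ι = 2 * k)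
    (D : Fin 2 → Submodule F (ι → F)) (hD : ∀ i, HypQuad.IsMax Q k (D i)) (hdis : D 0 ⊓ D 1 = ⊥) :
    ∃ K : Subgroup (GL ι F), Cfsg.Geo.decompositionStabilizer D ⊓ Cfsg.Geo.omegaGL (⇑Q) < K ∧
      K < Cfsg.Geo.omegaGL (⇑Q) := by
  have hV : Module.finrank F (ι → F) = 2 * k := by rw [Module.finrank_fintype_fun_eq_card, hn]
  have hn5 : 5 ≤ Fintype.card ι := by omega
  have key : ∀ i j : Fin 2, i ≠ j → ∃ t : Cfsg.isometryGroup F (⇑Q), t ∈ Cfsg.Omega F (⇑Q) ∧
      (D i).map (Matrix.toLin' (mat Q t)) = D i ∧ (D j).map (Matrix.toLin' (mat Q t)) ≠ D j := by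
    intro i j hij
    have hij0 : D i ⊓ D j = ⊥ := by
      fin_cases i <;> fin_cases j
      · exact absurd rfl hij
      · exact hdis
      · rw [inf_comm]; exact hdis
      · exact absurd rfl hij
    obtain ⟨u, hu, hu0⟩ := Submodule.exists_mem_ne_zero_of_ne_bot (p := D i) (fun h => by
      have := (hD i).1; rw [h, finrank_bot] at this; omega)
    obtain ⟨z, hz, hzu⟩ : ∃ z ∈ D i, z ∉ Submodule.span F {u} := by
      by_contra h
      push Not at h
      have h1 := Submodule.finrank_mono (show D i ≤ Submodule.span F {u} from h)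
      rw [(hD i).1, finrank_span_singleton hu0] at h1
      omega
    obtain ⟨x, hx, hzx⟩ : ∃ x ∈ D j, QuadraticMap.polar (⇑Q) z x ≠ 0 := by
      by_contra h
      push Not at h
      have hz' : z ∈ D j := by
        rw [← HypQuad.perp_eq Q hQ hV (hD j), HypQuad.mem_perp]
        intro w hw
        rw [QuadraticMap.polar_comm]
        exact h w hw
      have : z ∈ D i ⊓ D j := ⟨hz, hz'⟩
      rw [hij0, Submodule.mem_bot] at this
      exact hzu (this ▸ zero_mem _)
    have huz := HypQuad.polar_zero_of_singular Q (hD i).2 hu hz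
    set t := siegelG Q ((hD i).2 u hu) huz
    refine ⟨t, siegelG_mem_omega Q hQ hn5 _ huz, ?_, fun heq => ?_⟩
    · refine Submodule.eq_of_le_of_finrank_eq ?_
        (LinearEquiv.finrank_map_eq (Matrix.toLinearEquiv' (mat Q t) (t : GL ι F).invertible) (D i))
      rintro _ ⟨y, hy, rfl⟩
      change mat Q t *ᵥ y ∈ D i
      rw [mat_siegelG, siegelMap]
      exact add_mem (add_mem hy ((D i).smul_mem _ hz)) ((D i).smul_mem _ hu)
    · have h2 : mat Q t *ᵥ x ∈ D j := heq ▸ Submodule.mem_map_of_mem (f := Matrix.toLin' (mat Q t)) hx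
      rw [mat_siegelG, siegelMap, (hD i).2 z hz, zero_mul, sub_zero, add_assoc,
        Submodule.add_mem_iff_right _ hx] at h2
      set a := QuadraticMap.polar (⇑Q) u x
      set b := -QuadraticMap.polar (⇑Q) z x with hb
      have h3 : a • z + b • u ∈ D i ⊓ D j := ⟨add_mem ((D i).smul_mem _ hz) ((D i).smul_mem _ hu), h2⟩
      rw [hij0, Submodule.mem_bot] at h3
      rcases eq_or_ne a 0 with ha | ha
      · rw [ha, zero_smul, zero_add, smul_eq_zero] at h3
        exact h3.elim (fun h => hzx (neg_eq_zero.mp h)) hu0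
      · apply hzu
        refine Submodule.mem_span_singleton.mpr ⟨-(a⁻¹ * b), ?_⟩
        rw [neg_smul, ← smul_smul, neg_eq_iff_add_eq_zero, add_comm]
        calc z + a⁻¹ • b • u = a⁻¹ • (a • z + b • u) := by
              rw [smul_add, smul_smul a⁻¹ a, inv_mul_cancel₀ ha, one_smul]
          _ = 0 := by rw [h3, smul_zero]
  refine ⟨Cfsg.Geo.subspaceStabilizer (D 0) ⊓ Cfsg.Geo.omegaGL (⇑Q), lt_of_le_of_ne ?_ ?_,
    lt_of_le_of_ne inf_le_right ?_⟩
  · rintro g ⟨⟨σ, hσ⟩, hgO⟩
    refine ⟨?_, hgO⟩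
    obtain ⟨h, hhO, rfl⟩ := (mem_omegaGL Q g).mp hgO
    apply (mem_subspaceStabilizer_iff _ _).mpr
    rcases (by decide : ∀ a : Fin 2, a = 0 ∨ a = 1) (σ 0) with h0 | h0
    · rw [hσ 0, h0]
    · exfalso
      have he := even_codim_inf Q hQ hn (hD 0) h (dickson_omega Q hQ h hhO)
      rw [show (D 0).map (Matrix.toLin' (mat Q h)) = D 1 from (hσ 0).trans (congrArg D h0), hdis, finrank_bot,
        Nat.even_iff] at he
      rw [Nat.odd_iff] at hko
      omega
  · intro heq
    obtain ⟨t, htO, ht0, ht1⟩ := key 0 1 (by decide)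
    have : (t : GL ι F) ∈ Cfsg.Geo.subspaceStabilizer (D 0) ⊓ Cfsg.Geo.omegaGL (⇑Q) :=
      ⟨(mem_subspaceStabilizer_iff _ _).mpr ht0, (mem_omegaGL Q _).mpr ⟨t, htO, rfl⟩⟩
    rw [← heq] at this
    obtain ⟨σ, hσ⟩ := this.1
    rcases (by decide : ∀ a : Fin 2, a = 0 ∨ a = 1) (σ 1) with h1 | h1
    · have h0 : σ 0 = 1 := by
        rcases (by decide : ∀ a : Fin 2, a = 0 ∨ a = 1) (σ 0) with h | h
        · exact absurd (σ.injective (h.trans h1.symm)) (by decide)
        · exact h
      have e : D 0 = D 1 := ht0.symm.trans ((hσ 0).trans (congrArg D h0))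
      have := (hD 0).1
      rw [e, ← inf_idem (D 1)] at this
      rw [e] at hdis
      rw [hdis, finrank_bot] at this
      omega
    · exact ht1 ((hσ 1).trans (congrArg D h1))
  · intro heq
    obtain ⟨t, htO, -, ht0⟩ := key 1 0 (by decide)
    have : (t : GL ι F) ∈ Cfsg.Geo.subspaceStabilizer (D 0) ⊓ Cfsg.Geo.omegaGL (⇑Q) :=
      heq.symm ▸ (mem_omegaGL Q _).mpr ⟨t, htO, rfl⟩
    exact ht0 ((mem_subspaceStabilizer_iff _ _).mp this.1)

end Cfsg.Lib.Classical.Refl

namespace Cfsg.Lib.Classical.Refl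

variable {F : Type*} [Field F] {ι : Type} [Fintype ι] [DecidableEq ι]

theorem exists_form {Q : (ι → F) → F} (h : Cfsg.Geo.IsNondegenerateQuadraticForm Q) :
    ∃ P : QuadraticForm F (ι → F), ⇑P = Q ∧ (QuadraticMap.polarBilin P).Nondegenerate := by
  refine ⟨QuadraticMap.ofPolar Q (fun a x => by rw [h.smul, pow_two, smul_eq_mul])
    h.polar_bilinear.add_left (fun a x y => by rw [h.polar_bilinear.smul_left, smul_eq_mul]), rfl, ?_⟩
  refine ⟨fun v hv => ?_, fun v hv => ?_⟩
  · by_contra h0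
    obtain ⟨-, x, hx⟩ := h.nondegenerate v h0
    exact hx (hv x)
  · by_contra h0
    obtain ⟨⟨x, hx⟩, -⟩ := h.nondegenerate v h0
    exact hx (hv x)

end Cfsg.Lib.Classical.Refl
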