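import Mathlib
import Cfsg.Agent.Classical.Orth.FamilyOvergroups

/-! Maximality in `Ω` of the stabiliser of a singular subspace, through the Siegel centres of an overgroup. -/

set_option autoImplicit false
set_option linter.unusedSimpArgs false
set_option linter.style.haveILetI false

namespace Cfsg.Lib.Classical.Refl

open Matrix

universe u

variable {F : Type u} [Field F] {ι : Type} [Fintype ι] [DecidableEq ι] (Q : QuadraticForm F (ι → F))

theorem siegelG_congr {u z u' z' : ι → F} (hu : Q u = 0) (huz : QuadraticMap.polar (⇑Q) u z = 0) (hu' : Q u' = 0)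
    (huz' : QuadraticMap.polar (⇑Q) u' z' = 0) (h : ∀ x, siegelMap Q u z x = siegelMap Q u' z' x) :
    siegelG Q hu huz = siegelG Q hu' huz' :=
  ext_mulVec Q fun x => by rw [mat_siegelG, mat_siegelG, h]

/-- The singular vectors all of whose Siegel transformations lie in `H`. -/
def sCentres (H : Subgroup (Cfsg.isometryGroup F (⇑Q))) : Set (ι → F) :=
  {u | ∃ hu : Q u = 0, ∀ z (huz : QuadraticMap.polar (⇑Q) u z = 0), siegelG Q hu huz ∈ H}

variable {Q}

theorem sCentres_smul {H : Subgroup (Cfsg.isometryGroup F (⇑Q))} {u : ι → F} (h : u ∈ sCentres Q H) (s : F) :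
    s • u ∈ sCentres Q H := by
  obtain ⟨hu, h⟩ := h
  refine ⟨by rw [QuadraticMap.map_smul, hu, smul_zero], fun z hz => ?_⟩
  have hz' : QuadraticMap.polar (⇑Q) u (s • z) = 0 := by
    rw [QuadraticMap.polar_smul_right]; rw [QuadraticMap.polar_smul_left] at hz; exact hz
  rw [siegelG_congr Q _ hz hu hz' fun x => ?_]
  · exact h _ hz'
  · funext i
    simp only [siegelMap, QuadraticMap.polar_smul_left, QuadraticMap.map_smul, Pi.add_apply, Pi.smul_apply,
      smul_eq_mul]
    ring

theorem sCentres_map {H : Subgroup (Cfsg.isometryGroup F (⇑Q))} {u : ι → F} (h : u ∈ sCentres Q H)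
    {g : Cfsg.isometryGroup F (⇑Q)} (hg : g ∈ H) : mat Q g *ᵥ u ∈ sCentres Q H := by
  obtain ⟨hu, h⟩ := h
  refine ⟨by rw [(mem_iff Q).mp g.2, hu], fun z hz => ?_⟩
  have hz' : QuadraticMap.polar (⇑Q) u (mat Q g⁻¹ *ᵥ z) = 0 := by
    rw [← polar_act Q g, show mat Q g *ᵥ (mat Q g⁻¹ *ᵥ z) = z by
      rw [← mulVec_mul, mul_inv_cancel]; exact Matrix.one_mulVec z]
    exact hz
  have e := H.mul_mem (H.mul_mem hg (h _ hz')) (H.inv_mem hg)
  rw [siegelG_conj] at e
  convert e using 2
  rw [← mulVec_mul, mul_inv_cancel]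
  exact (Matrix.one_mulVec z).symm

theorem siegelG_swap {u z : ι → F} (hu : Q u = 0) (hz : Q z = 0) (huz : QuadraticMap.polar (⇑Q) u z = 0) :
    siegelG Q hu huz = siegelG Q hz (z := -u) (by rw [QuadraticMap.polar_neg_right, QuadraticMap.polar_comm, huz, neg_zero]) := by
  refine siegelG_congr Q _ _ _ _ fun x => ?_
  funext i
  simp only [siegelMap, hz, QuadraticMap.map_neg, hu, QuadraticMap.polar_neg_left, Pi.add_apply, Pi.smul_apply,
    Pi.neg_apply, smul_eq_mul]
  ring

theorem siegel_fix_subspace {W : Submodule F (ι → F)} {u z : ι → F} (hu : Q u = 0)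
    (huz : QuadraticMap.polar (⇑Q) u z = 0)
    (h : ∀ w ∈ W, QuadraticMap.polar (⇑Q) u w • z +
      (-QuadraticMap.polar (⇑Q) z w - Q z * QuadraticMap.polar (⇑Q) u w) • u ∈ W) :
    (siegelG Q hu huz : GL ι F) ∈ Cfsg.Geo.subspaceStabilizer W := by
  apply (mem_subspaceStabilizer_iff _ _).mpr
  refine Submodule.eq_of_le_of_finrank_eq ?_ (LinearEquiv.finrank_map_eq
    (Matrix.toLinearEquiv' (mat Q (siegelG Q hu huz)) (siegelG Q hu huz : GL ι F).invertible) W)
  rintro _ ⟨w, hw, rfl⟩
  change mat Q (siegelG Q hu huz) *ᵥ w ∈ W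
  rw [mat_siegelG, siegelMap, add_assoc]
  exact W.add_mem hw (h w hw)

variable (Q) (hQ : (QuadraticMap.polarBilin Q).Nondegenerate)

include hQ in
theorem exists_singular_move {W : Submodule F (ι → F)} {w : ι → F} (hw : w ∈ W) (hw0 : w ≠ 0)
    (hWs : ∀ v ∈ W, Q v = 0) : ∃ y, Q y = 0 ∧ QuadraticMap.polar (⇑Q) w y ≠ 0 := by
  obtain ⟨y, hy⟩ : ∃ y, QuadraticMap.polar (⇑Q) w y ≠ 0 := by
    by_contra h
    push Not at h
    exact hw0 (hQ.1 w h)
  refine ⟨y + (-(Q y / QuadraticMap.polar (⇑Q) w y)) • w, ?_, ?_⟩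
  · rw [QuadraticMap.map_add (f := Q), QuadraticMap.map_smul, hWs w hw, QuadraticMap.polar_smul_right,
      QuadraticMap.polar_comm (⇑Q) y w]
    simp only [smul_eq_mul, mul_zero, add_zero]
    field_simp
    ring
  · rw [QuadraticMap.polar_add_right, QuadraticMap.polar_smul_right,
      HypQuad.polar_zero_of_singular Q hWs hw hw, smul_zero, add_zero]
    exact hy

include hQ in
theorem parabolic_sup [Finite F] (hn : 7 ≤ Fintype.card ι) {W : Submodule F (ι → F)} (hW0 : W ≠ ⊥)
    (hW : ∀ w ∈ W, Q w = 0)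
    (hex : (∀ x ∈ HypQuad.perp Q W, Q x = 0 → x ∈ W) ∨ Fintype.card ι ≠ 2 * Module.finrank F W + 2)
    (H : Subgroup (Cfsg.isometryGroup F (⇑Q)))
    (hH : ∀ g ∈ Cfsg.Omega F (⇑Q), (g : GL ι F) ∈ Cfsg.Geo.subspaceStabilizer W → g ∈ H)
    {g₀ : Cfsg.isometryGroup F (⇑Q)} (hg₀ : g₀ ∈ H) (hg₀W : (g₀ : GL ι F) ∉ Cfsg.Geo.subspaceStabilizer W) :
    Cfsg.Omega F (⇑Q) ≤ H := by
  classical
  have hn5 : 5 ≤ Fintype.card ι := by omega
  have hO : ∀ {u z} (hu : Q u = 0) (huz : QuadraticMap.polar (⇑Q) u z = 0),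
      (siegelG Q hu huz : GL ι F) ∈ Cfsg.Geo.subspaceStabilizer W → siegelG Q hu huz ∈ H :=
    fun hu huz h => hH _ (siegelG_mem_omega Q hQ hn5 hu huz) h
  have hWC : ∀ w ∈ W, w ∈ sCentres Q H := fun w hw => ⟨hW w hw, fun z hz => hO _ _
    (siegel_fix_subspace _ _ fun v hv => by
      rw [HypQuad.polar_zero_of_singular Q hW hw hv, zero_smul, zero_add]
      exact W.smul_mem _ hw)⟩
  have hfix : ∀ {u z} (hu : Q u = 0) (huz : QuadraticMap.polar (⇑Q) u z = 0), u ∈ HypQuad.perp Q W →
      z ∈ HypQuad.perp Q W → siegelG Q hu huz ∈ H := fun {u z} hu huz hu' hz' => hO _ _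
    (siegel_fix_subspace _ _ fun v hv => by
      rw [QuadraticMap.polar_comm (⇑Q) u, (HypQuad.mem_perp Q).mp hu' v hv, QuadraticMap.polar_comm (⇑Q) z,
        (HypQuad.mem_perp Q).mp hz' v hv, zero_smul, zero_add, neg_zero, mul_zero, sub_zero, zero_smul]
      exact W.zero_mem)
  -- a centre outside W
  obtain ⟨x₀, hx₀C, hx₀W⟩ : ∃ x, x ∈ sCentres Q H ∧ x ∉ W := by
    by_contra hcon
    push Not at hcon
    refine hg₀W ((mem_subspaceStabilizer_iff _ _).mpr (Submodule.eq_of_le_of_finrank_eq ?_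
      (LinearEquiv.finrank_map_eq (Matrix.toLinearEquiv' (mat Q g₀) (g₀ : GL ι F).invertible) W)))
    rintro _ ⟨w, hw, rfl⟩
    exact hcon _ (sCentres_map (hWC w hw) hg₀)
  -- a centre outside the orthogonal of W
  obtain ⟨x, hxC, hxP⟩ : ∃ x, x ∈ sCentres Q H ∧ x ∉ HypQuad.perp Q W := by
    by_contra hcon
    push Not at hcon
    have hx₀P := hcon x₀ hx₀C
    obtain ⟨hQx₀, hx₀H⟩ := id hx₀C
    have hne : Fintype.card ι ≠ 2 * Module.finrank F W + 2 :=
      hex.resolve_left fun h => hx₀W (h x₀ hx₀P hQx₀)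
    obtain ⟨y, hy, hxy⟩ : ∃ y ∈ HypQuad.perp Q W, QuadraticMap.polar (⇑Q) x₀ y ≠ 0 := by
      by_contra h
      push Not at h
      apply hx₀W
      rw [← perp_perp Q hQ W, HypQuad.mem_perp]
      intro v hv
      rw [QuadraticMap.polar_comm]
      exact h v hv
    have hxx : QuadraticMap.polar (⇑Q) x₀ x₀ = 0 := by rw [polar_self_two, hQx₀, mul_zero]
    set u := y + (-(Q y / QuadraticMap.polar (⇑Q) x₀ y)) • x₀ with hu
    have huP : u ∈ HypQuad.perp Q W := add_mem hy (Submodule.smul_mem _ _ hx₀P)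
    have hQu : Q u = 0 := by
      rw [hu, QuadraticMap.map_add (f := Q), QuadraticMap.map_smul, hQx₀, QuadraticMap.polar_smul_right,
        QuadraticMap.polar_comm (⇑Q) y x₀]
      simp only [smul_eq_mul, mul_zero, add_zero]
      field_simp
      ring
    have hxu : QuadraticMap.polar (⇑Q) x₀ u ≠ 0 := by
      rw [hu, QuadraticMap.polar_add_right, QuadraticMap.polar_smul_right, hxx, smul_zero, add_zero]
      exact hxy
    set S := Submodule.span F {x₀, u} with hS
    set X := HypQuad.perp Q W ⊓ HypQuad.perp Q S with hX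
    have hWX : W ≤ X := le_inf (HypQuad.le_perp Q hW) fun w hw => by
      rw [HypQuad.mem_perp]
      intro a ha
      obtain ⟨α, β, rfl⟩ := Submodule.mem_span_pair.mp ha
      rw [QuadraticMap.polar_add_left, QuadraticMap.polar_smul_left, QuadraticMap.polar_smul_left,
        QuadraticMap.polar_comm (⇑Q) x₀, (HypQuad.mem_perp Q).mp hx₀P w hw, QuadraticMap.polar_comm (⇑Q) u,
        (HypQuad.mem_perp Q).mp huP w hw, smul_zero, smul_zero, add_zero]
    have hS2 : Module.finrank F S ≤ 2 := by
      have := finrank_span_le_card (R := F) ({x₀, u} : Set (ι → F))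
      exact le_trans this (by simp [Finset.card_insert_le]; exact Finset.card_le_two)
    obtain ⟨z, hzX, hQz⟩ : ∃ z ∈ X, Q z ≠ 0 := by
      by_contra h
      push Not at h
      have hlt : W < X := by
        refine lt_of_le_of_ne hWX fun e => ?_
        have h1 := Submodule.finrank_sup_add_finrank_inf_eq (HypQuad.perp Q W) (HypQuad.perp Q S)
        have h2 := Submodule.finrank_le (HypQuad.perp Q W ⊔ HypQuad.perp Q S)
        rw [Module.finrank_fintype_fun_eq_card] at h2
        rw [← hX, ← e, HypQuad.finrank_perp Q hQ, HypQuad.finrank_perp Q hQ, Module.finrank_fintype_fun_eq_card] at h1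
        have hle := Submodule.finrank_mono (HypQuad.le_perp Q hW)
        rw [HypQuad.finrank_perp Q hQ, Module.finrank_fintype_fun_eq_card] at hle
        have hWlt : Module.finrank F W + 2 ≤ Fintype.card ι - Module.finrank F W := by
          have hsup : W ⊔ S ≤ HypQuad.perp Q W := sup_le (HypQuad.le_perp Q hW) (Submodule.span_le.mpr (by
            intro a ha
            rcases ha with rfl | rfl
            exacts [hx₀P, huP]))
          have h3 := Submodule.finrank_mono hsup
          rw [HypQuad.finrank_perp Q hQ, Module.finrank_fintype_fun_eq_card] at h3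
          have hdis : W ⊓ S = ⊥ := by
            rw [Submodule.eq_bot_iff]
            rintro a ⟨haW, haS⟩
            obtain ⟨α, β, rfl⟩ := Submodule.mem_span_pair.mp haS
            have e1 := (HypQuad.mem_perp Q).mp hx₀P _ haW
            have e2 := (HypQuad.mem_perp Q).mp huP _ haW
            rw [QuadraticMap.polar_add_left, QuadraticMap.polar_smul_left, QuadraticMap.polar_smul_left,
              QuadraticMap.polar_comm (⇑Q) u x₀] at e1
            rw [QuadraticMap.polar_add_left, QuadraticMap.polar_smul_left, QuadraticMap.polar_smul_left,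
              polar_self_two, hQu, mul_zero, smul_zero, add_zero] at e2
            rw [hxx, smul_zero, zero_add] at e1
            rw [(smul_eq_zero.mp e2).resolve_right hxu, (smul_eq_zero.mp e1).resolve_right hxu, zero_smul,
              zero_smul, add_zero]
          have h4 := Submodule.finrank_sup_add_finrank_inf_eq W S
          rw [hdis, finrank_bot] at h4
          have hli : LinearIndependent F ![x₀, u] := by
            refine LinearIndependent.pair_iff.mpr fun α β hab => ?_
            have e1 := congrArg (QuadraticMap.polar (⇑Q) x₀) hab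
            have e2 := congrArg (fun t => QuadraticMap.polar (⇑Q) t u) hab
            simp [QuadraticMap.polar_add_right, QuadraticMap.polar_smul_right, hxx, hxu] at e1
            simp [QuadraticMap.polar_add_left, QuadraticMap.polar_smul_left, polar_self_two, hQu, hxu] at e2
            exact ⟨e2, e1⟩
          have h5 := finrank_span_eq_card hli
          rw [Fintype.card_fin, Matrix.range_cons, Matrix.range_cons, Matrix.range_empty, Set.union_empty,
            Set.singleton_union, ← hS] at h5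
          omega
        omega
      obtain ⟨-, a, haX, haW⟩ := SetLike.lt_iff_le_and_exists.mp hlt
      apply haW
      rw [← perp_perp Q hQ W, HypQuad.mem_perp]
      intro v hv
      obtain ⟨s, hs, r, hr, rfl⟩ : ∃ s ∈ S, ∃ r ∈ X, s + r = v := by
        set α := QuadraticMap.polar (⇑Q) v u / QuadraticMap.polar (⇑Q) x₀ u
        set β := QuadraticMap.polar (⇑Q) v x₀ / QuadraticMap.polar (⇑Q) x₀ u
        refine ⟨α • x₀ + β • u, Submodule.mem_span_pair.mpr ⟨α, β, rfl⟩, v - (α • x₀ + β • u),
          ⟨sub_mem hv (add_mem (Submodule.smul_mem _ _ hx₀P) (Submodule.smul_mem _ _ huP)), ?_⟩, by abel⟩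
        rw [SetLike.mem_coe, HypQuad.mem_perp]
        intro c hc
        obtain ⟨γ, δ, rfl⟩ := Submodule.mem_span_pair.mp hc
        simp only [QuadraticMap.polar_add_left, QuadraticMap.polar_smul_left, QuadraticMap.polar_sub_right,
          QuadraticMap.polar_add_right, QuadraticMap.polar_smul_right, polar_self_two, hQu, hQx₀, smul_eq_mul,
          QuadraticMap.polar_comm (⇑Q) v, QuadraticMap.polar_comm (⇑Q) u x₀, α, β]
        field_simp
        ring
      rw [QuadraticMap.polar_add_left, HypQuad.polar_zero_of_singular Q h hr haX,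
        (HypQuad.mem_perp Q).mp haX.2 s hs, add_zero]
    have huz : QuadraticMap.polar (⇑Q) u z = 0 :=
      (HypQuad.mem_perp Q).mp hzX.2 u (Submodule.subset_span (by simp))
    have hxz : QuadraticMap.polar (⇑Q) x₀ z = 0 :=
      (HypQuad.mem_perp Q).mp hzX.2 x₀ (Submodule.subset_span (by simp))
    set x₁ := mat Q (siegelG Q hQu huz) *ᵥ x₀ with hx₁
    have hx₁C : x₁ ∈ sCentres Q H := sCentres_map hx₀C (hfix hQu huz huP hzX.1)
    have hxx₁ : QuadraticMap.polar (⇑Q) x₀ x₁ ≠ 0 := by
      rw [hx₁, mat_siegelG, siegelMap, QuadraticMap.polar_add_right, QuadraticMap.polar_add_right,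
        QuadraticMap.polar_smul_right, QuadraticMap.polar_smul_right, hxx, hxz, smul_zero, zero_add, zero_add,
        QuadraticMap.polar_comm (⇑Q) z, hxz, neg_zero, zero_sub, QuadraticMap.polar_comm (⇑Q) u, smul_eq_mul]
      exact mul_ne_zero (neg_ne_zero.mpr (mul_ne_zero hQz hxu)) hxu
    obtain ⟨w, hw, hw0⟩ := W.exists_mem_ne_zero_of_ne_bot hW0
    obtain ⟨c, hc, hxc, hwc⟩ := exists_singular_perp Q hQ hQx₀ (hW w hw)
      (by rw [QuadraticMap.polar_comm]; exact (HypQuad.mem_perp Q).mp hx₀P w hw) (fun h => by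
        obtain ⟨s, hs⟩ := Submodule.mem_span_singleton.mp h
        rcases eq_or_ne s 0 with rfl | hs0
        · exact hw0 (by rw [← hs, zero_smul])
        · exact hx₀W ((W.smul_mem_iff hs0).mp (hs ▸ hw)))
    have hout := hcon _ (sCentres_map hx₁C (hx₀H c hxc))
    have h1 := (HypQuad.mem_perp Q).mp hout w hw
    rw [mat_siegelG, siegelMap, QuadraticMap.polar_add_right, QuadraticMap.polar_add_right,
      QuadraticMap.polar_smul_right, QuadraticMap.polar_smul_right, (HypQuad.mem_perp Q).mp (hcon _ hx₁C) w hw,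
      (HypQuad.mem_perp Q).mp hx₀P w hw, smul_zero, add_zero, zero_add, smul_eq_mul] at h1
    exact mul_ne_zero hxx₁ hwc h1
  -- all singular vectors outside the orthogonal of W are centres
  obtain ⟨hQx, -⟩ := id hxC
  have hall : ∀ y, Q y = 0 → y ∉ HypQuad.perp Q W → y ∈ sCentres Q H := by
    intro y hQy hyP
    obtain ⟨w, hw, hwx, hwy⟩ : ∃ w ∈ W, QuadraticMap.polar (⇑Q) w x ≠ 0 ∧ QuadraticMap.polar (⇑Q) w y ≠ 0 := by
      obtain ⟨w₁, hw₁, hn₁⟩ : ∃ w ∈ W, QuadraticMap.polar (⇑Q) w x ≠ 0 := by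
        by_contra h; push Not at h; exact hxP ((HypQuad.mem_perp Q).mpr h)
      obtain ⟨w₂, hw₂, hn₂⟩ : ∃ w ∈ W, QuadraticMap.polar (⇑Q) w y ≠ 0 := by
        by_contra h; push Not at h; exact hyP ((HypQuad.mem_perp Q).mpr h)
      by_cases h1 : QuadraticMap.polar (⇑Q) w₁ y = 0
      · by_cases h2 : QuadraticMap.polar (⇑Q) w₂ x = 0
        · refine ⟨w₁ + w₂, add_mem hw₁ hw₂, ?_, ?_⟩
          · rw [QuadraticMap.polar_add_left, h2, add_zero]; exact hn₁
          · rw [QuadraticMap.polar_add_left, h1, zero_add]; exact hn₂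
        · exact ⟨w₂, hw₂, h2, hn₂⟩
      · exact ⟨w₁, hw₁, hn₁, h1⟩
    set a := QuadraticMap.polar (⇑Q) w x with ha
    set s := a / QuadraticMap.polar (⇑Q) w y with hs
    have hs0 : s ≠ 0 := div_ne_zero hwx hwy
    set y' := s • y with hy'
    have hwy' : QuadraticMap.polar (⇑Q) w y' = a := by
      rw [hy', QuadraticMap.polar_smul_right, smul_eq_mul, hs, div_mul_cancel₀ _ hwy]
    have hwz : QuadraticMap.polar (⇑Q) w (a⁻¹ • (y' - x)) = 0 := by
      rw [QuadraticMap.polar_smul_right, QuadraticMap.polar_sub_right, hwy', ← ha, sub_self, smul_zero]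
    obtain ⟨hQw, hwH⟩ := hWC w hw
    have himg : mat Q (siegelG Q hQw hwz) *ᵥ x = y' := by
      rw [mat_siegelG, siegelMap, ← ha, smul_smul, mul_inv_cancel₀ hwx, one_smul, add_sub_cancel]
      set d := -QuadraticMap.polar (⇑Q) (a⁻¹ • (y' - x)) x - Q (a⁻¹ • (y' - x)) * a with hd
      have hQ0 : Q (y' + d • w) = 0 := by
        have h := (mem_iff Q).mp (siegelG Q hQw hwz).2 x
        rw [show mat Q (siegelG Q hQw hwz) *ᵥ x = y' + d • w by
          rw [mat_siegelG, siegelMap, ← ha, smul_smul, mul_inv_cancel₀ hwx, one_smul, add_sub_cancel], hQx] at h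
        exact h
      have e1 : Q y' = 0 := by rw [hy', QuadraticMap.map_smul, hQy, smul_zero]
      have e2 : Q (d • w) = 0 := by rw [QuadraticMap.map_smul, hQw, smul_zero]
      rw [QuadraticMap.map_add (f := Q), e1, e2, QuadraticMap.polar_smul_right,
        QuadraticMap.polar_comm (⇑Q) y' w, hwy'] at hQ0
      simp only [smul_zero, add_zero, zero_add, smul_eq_mul, mul_eq_zero] at hQ0
      rw [hQ0.resolve_right hwx, zero_smul, add_zero]
    have h := sCentres_smul (sCentres_map hxC (hwH _ hwz)) s⁻¹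
    rwa [himg, hy', smul_smul, inv_mul_cancel₀ hs0, one_smul] at h
  rw [omega_eq_closure_all Q hQ hn5, Subgroup.closure_le]
  intro g hg
  have hmain : ∀ y z (hy : Q y = 0) (hyz : QuadraticMap.polar (⇑Q) y z = 0), siegelG Q hy hyz ∈ H := by
    intro y z hy hyz
    refine siegelG_mem_of_singular Q hQ H hn5 hy (fun v hyv hv => ?_) hyz
    by_cases hyP : y ∈ HypQuad.perp Q W
    swap
    · exact (hall y hy hyP).2 v hyv
    by_cases hyW : y ∈ W
    · exact (hWC y hyW).2 v hyv
    have hsing : ∀ b, Q b = 0 → b ∉ HypQuad.perp Q W → ∀ (hb : QuadraticMap.polar (⇑Q) y b = 0),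
        siegelG Q hy hb ∈ H := fun b hb hbP h => by
      rw [siegelG_swap hy hb h]
      exact (hall b hb hbP).2 _ _
    by_cases hvP : v ∈ HypQuad.perp Q W
    swap
    · exact hsing v hv hvP hyv
    set S := Submodule.span F {y, v} with hS
    by_cases hWS : W ≤ S
    · obtain ⟨w, hw, hw0⟩ := W.exists_mem_ne_zero_of_ne_bot hW0
      obtain ⟨α, β, hab⟩ := Submodule.mem_span_pair.mp (hWS hw)
      have hβ : β ≠ 0 := fun h0 => by
        rw [h0, zero_smul, add_zero] at hab
        rcases eq_or_ne α 0 with rfl | hα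
        · exact hw0 (by rw [← hab, zero_smul])
        · exact hyW ((W.smul_mem_iff hα).mp (hab ▸ hw))
      have hyw : QuadraticMap.polar (⇑Q) y (β⁻¹ • w) = 0 := by
        rw [QuadraticMap.polar_smul_right, QuadraticMap.polar_comm, (HypQuad.mem_perp Q).mp hyP w hw, smul_zero]
      rw [siegelG_congr Q hy hyv hy hyw fun x => ?_]
      · rw [siegelG_swap hy (by rw [QuadraticMap.map_smul, hW w hw, smul_zero]) hyw]
        exact (hWC _ (W.smul_mem _ hw)).2 _ _
      · have hv' : v = β⁻¹ • w + (-(β⁻¹ * α)) • y := by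
          rw [← hab, smul_add, smul_smul, smul_smul, inv_mul_cancel₀ hβ, one_smul, neg_smul]
          abel
        funext i
        conv_lhs => rw [hv']
        simp only [siegelMap, QuadraticMap.polar_add_left, QuadraticMap.polar_smul_left,
          QuadraticMap.map_add (f := Q), QuadraticMap.map_smul, hy, hW w hw, QuadraticMap.polar_smul_right,
          QuadraticMap.polar_comm (⇑Q) w y, show QuadraticMap.polar (⇑Q) y w = 0 by
            rw [QuadraticMap.polar_comm]; exact (HypQuad.mem_perp Q).mp hyP w hw, Pi.add_apply, Pi.smul_apply,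
          smul_eq_mul]
        ring
    · obtain ⟨b, hb, hbS, hbP⟩ : ∃ b, Q b = 0 ∧ b ∈ HypQuad.perp Q S ∧ b ∉ HypQuad.perp Q W := by
        by_contra hcon
        push Not at hcon
        apply hWS
        intro w hw
        refine mem_of_orth_singular Q hQ S ?_ fun r hr hQr => (HypQuad.mem_perp Q).mp (hcon r hQr hr) w hw
        have h2 : Module.finrank F S ≤ 2 :=
          le_trans (finrank_span_le_card (R := F) ({y, v} : Set (ι → F))) (by
            simp [Finset.card_insert_le]; exact Finset.card_le_two)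
        omega
      have hby : QuadraticMap.polar (⇑Q) y b = 0 :=
        (HypQuad.mem_perp Q).mp hbS y (Submodule.subset_span (by simp))
      have hbv : QuadraticMap.polar (⇑Q) v b = 0 :=
        (HypQuad.mem_perp Q).mp hbS v (Submodule.subset_span (by simp))
      have hyd : QuadraticMap.polar (⇑Q) y (v - b) = 0 := by rw [QuadraticMap.polar_sub_right, hyv, hby, sub_zero]
      have hQd : Q (v - b) = 0 := by
        rw [sub_eq_add_neg, QuadraticMap.map_add (f := Q), QuadraticMap.map_neg, QuadraticMap.polar_neg_right, hv,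
          hb, hbv, neg_zero, add_zero, add_zero]
      have hdP : v - b ∉ HypQuad.perp Q W := fun h => hbP (by simpa using sub_mem hvP h)
      have h := H.mul_mem (hsing _ hQd hdP hyd) (hsing b hb hbP hby)
      rw [siegelG_mul] at h
      convert h using 2
      abel
  obtain ⟨u, z, hu, huz, e⟩ := hg
  rw [show g = siegelG Q hu huz from e]
  exact hmain u z hu huz

include hQ in
theorem parabolic_maximal [Finite F] (hn : 7 ≤ Fintype.card ι) {W : Submodule F (ι → F)} (hW0 : W ≠ ⊥)
    (hW : ∀ w ∈ W, Q w = 0)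
    (hex : (∀ x ∈ HypQuad.perp Q W, Q x = 0 → x ∈ W) ∨ Fintype.card ι ≠ 2 * Module.finrank F W + 2) :
    Cfsg.Geo.IsMaximalIn (Cfsg.Geo.omegaGL (⇑Q)) (Cfsg.Geo.subspaceStabilizer W ⊓ Cfsg.Geo.omegaGL (⇑Q)) := by
  classical
  refine ⟨lt_of_le_of_ne inf_le_right fun heq => ?_, fun M hHM hMO => ?_⟩
  · obtain ⟨w, hw, hw0⟩ := W.exists_mem_ne_zero_of_ne_bot hW0
    obtain ⟨y, hQy, hwy⟩ := exists_singular_move Q hQ hw hw0 hW
    have hle : Module.finrank F W + Module.finrank F W ≤ Fintype.card ι := by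
      have h := Submodule.finrank_mono (HypQuad.le_perp Q hW)
      rw [HypQuad.finrank_perp Q hQ, Module.finrank_fintype_fun_eq_card] at h
      have := Submodule.finrank_le W
      rw [Module.finrank_fintype_fun_eq_card] at this
      omega
    obtain ⟨z, hz, hzW⟩ : ∃ z ∈ HypQuad.perp Q (Submodule.span F {y}), z ∉ W ⊔ Submodule.span F {y} := by
      by_contra h
      push Not at h
      have h1 := Submodule.finrank_mono (show HypQuad.perp Q (Submodule.span F {y}) ≤ W ⊔ Submodule.span F {y} from h)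
      rw [HypQuad.finrank_perp Q hQ, Module.finrank_fintype_fun_eq_card] at h1
      have h2 := Submodule.finrank_sup_add_finrank_inf_eq W (Submodule.span F {y})
      have h3 : Module.finrank F ↥(Submodule.span F {y}) ≤ 1 := by
        simpa using finrank_span_le_card (R := F) ({y} : Set (ι → F))
      omega
    have hyz : QuadraticMap.polar (⇑Q) y z = 0 := (HypQuad.mem_perp Q).mp hz y (Submodule.mem_span_singleton_self y)
    set t := siegelG Q hQy hyz
    have ht : (t : GL ι F) ∈ Cfsg.Geo.subspaceStabilizer W ⊓ Cfsg.Geo.omegaGL (⇑Q) :=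
      heq.symm ▸ (mem_omegaGL Q _).mpr ⟨t, siegelG_mem_omega Q hQ (by omega) hQy hyz, rfl⟩
    have h2 : mat Q t *ᵥ w ∈ W := (ht.1 w).mp hw
    rw [mat_siegelG, siegelMap, add_assoc, W.add_mem_iff_right hw] at h2
    apply hzW
    set a := QuadraticMap.polar (⇑Q) y w with ha
    have ha0 : a ≠ 0 := by rw [ha, QuadraticMap.polar_comm]; exact hwy
    set b := -QuadraticMap.polar (⇑Q) z w - Q z * a
    have e : z = a⁻¹ • (a • z + b • y) + (-(a⁻¹ * b)) • y := by
      rw [smul_add, smul_smul, inv_mul_cancel₀ ha0, one_smul, smul_smul, neg_smul]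
      abel
    rw [e]
    exact add_mem (Submodule.mem_sup_left (W.smul_mem _ h2))
      (Submodule.mem_sup_right (Submodule.smul_mem _ _ (Submodule.mem_span_singleton_self y)))
  · by_cases hM : M ≤ Cfsg.Geo.subspaceStabilizer W
    · exact Or.inl (le_antisymm (le_inf hM hMO) hHM)
    right
    obtain ⟨g, hgM, hgW⟩ := SetLike.not_le_iff_exists.mp hM
    obtain ⟨g₀, -, rfl⟩ := (mem_omegaGL Q g).mp (hMO hgM)
    have h := parabolic_sup Q hQ hn hW0 hW hex (M.comap (Cfsg.isometryGroup F (⇑Q)).subtype)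
      (fun k hk hkW => hHM ⟨hkW, (mem_omegaGL Q _).mpr ⟨k, hk, rfl⟩⟩) (show g₀ ∈ _ from hgM) hgW
    refine le_antisymm hMO fun x hx => ?_
    obtain ⟨k, hk, rfl⟩ := (mem_omegaGL Q x).mp hx
    exact h hk

end Cfsg.Lib.Classical.Refl
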