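import Mathlib
import Cfsg.Agent.Classical.Orth.ParabolicMax

/-! Maximality in `Ω` of the stabiliser of a non-degenerate subspace. -/

set_option autoImplicit false
set_option linter.unusedSimpArgs false
set_option linter.style.haveILetI false
set_option maxHeartbeats 800000

namespace Cfsg.Lib.Classical.Refl

open Matrix
open scoped commutatorElement

universe u

variable {F : Type u} [Field F] {ι : Type} [Fintype ι] [DecidableEq ι] (Q : QuadraticForm F (ι → F))
  (hQ : (QuadraticMap.polarBilin Q).Nondegenerate)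

omit [Fintype ι] [DecidableEq ι] in
theorem finrank_pair_le (a b : ι → F) : Module.finrank F ↥(Submodule.span F ({a, b} : Set (ι → F))) ≤ 2 := by
  classical
  refine le_trans (finrank_span_le_card (R := F) ({a, b} : Set (ι → F))) ?_
  simp only [Set.toFinset_insert, Set.toFinset_singleton]
  exact Finset.card_le_two

include hQ in
theorem nondeg_perp {W : Submodule F (ι → F)} (hW : Cfsg.Geo.IsNondegenerateOn (QuadraticMap.polar (⇑Q)) W) :
    IsCompl W (HypQuad.perp Q W) ∧
      Cfsg.Geo.IsNondegenerateOn (QuadraticMap.polar (⇑Q)) (HypQuad.perp Q W) := by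
  have hdis : W ⊓ HypQuad.perp Q W = ⊥ := by
    rw [Submodule.eq_bot_iff]
    rintro x ⟨hx, hx'⟩
    by_contra h0
    obtain ⟨⟨y, hy, hyx⟩, -⟩ := hW x hx h0
    exact hyx ((HypQuad.mem_perp Q).mp hx' y hy)
  have htop : W ⊔ HypQuad.perp Q W = ⊤ := by
    apply Submodule.eq_top_of_finrank_eq
    have h := Submodule.finrank_sup_add_finrank_inf_eq W (HypQuad.perp Q W)
    rw [hdis, finrank_bot, HypQuad.finrank_perp Q hQ] at h
    have := Submodule.finrank_le W
    omega
  refine ⟨IsCompl.of_eq hdis htop, fun x hx hx0 => ?_⟩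
  obtain ⟨y, hy⟩ : ∃ y, QuadraticMap.polar (⇑Q) x y ≠ 0 := by
    by_contra h
    push Not at h
    exact hx0 (hQ.1 x h)
  obtain ⟨a, ha, b, hb, rfl⟩ := Submodule.mem_sup.mp (htop ▸ Submodule.mem_top : y ∈ W ⊔ HypQuad.perp Q W)
  have hb' : QuadraticMap.polar (⇑Q) x b ≠ 0 := by
    rw [QuadraticMap.polar_add_right, QuadraticMap.polar_comm (⇑Q) x a, (HypQuad.mem_perp Q).mp hx a ha,
      zero_add] at hy
    exact hy
  exact ⟨⟨b, hb, by rw [QuadraticMap.polar_comm]; exact hb'⟩, b, hb, hb'⟩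

theorem exists_singular_in [Finite F] (hQ : (QuadraticMap.polarBilin Q).Nondegenerate) (X S : Submodule F (ι → F))
    (h : 2 * Module.finrank F S + 3 ≤ Module.finrank F X) :
    ∃ u, Q u = 0 ∧ u ∈ X ∧ u ∈ HypQuad.perp Q S ∧ u ∉ S := by
  obtain ⟨C, hC⟩ := S.exists_isCompl
  have h1 := HypQuad.finrank_perp Q hQ S
  have h2 := Submodule.finrank_add_eq_of_isCompl hC
  have h3 := Submodule.finrank_sup_add_finrank_inf_eq X (HypQuad.perp Q S)
  have h4 := Submodule.finrank_le (X ⊔ HypQuad.perp Q S)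
  have h5 := Submodule.finrank_sup_add_finrank_inf_eq (X ⊓ HypQuad.perp Q S) C
  have h6 := Submodule.finrank_le (X ⊓ HypQuad.perp Q S ⊔ C)
  have h7 := Submodule.finrank_le X
  rw [Module.finrank_fintype_fun_eq_card] at h1 h2 h4 h6 h7
  obtain ⟨w, hw, hw0, hQw⟩ := exists_singular Q (X ⊓ HypQuad.perp Q S ⊓ C) (by omega)
  exact ⟨w, hQw, hw.1.1, hw.1.2, fun h => hw0 (Submodule.disjoint_def.mp hC.disjoint w h hw.2)⟩

/-- A singular vector of `X` orthogonal to and outside `S`, when the radical of `S` is small. -/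
theorem exists_singular_in' [Finite F] (hQ : (QuadraticMap.polarBilin Q).Nondegenerate) (X S : Submodule F (ι → F))
    (h : Module.finrank F S + Module.finrank F ↥(S ⊓ HypQuad.perp Q S) + 3 ≤ Module.finrank F X) :
    ∃ u, Q u = 0 ∧ u ∈ X ∧ u ∈ HypQuad.perp Q S ∧ u ∉ S := by
  obtain ⟨C, hC⟩ := (S ⊓ HypQuad.perp Q S).exists_isCompl
  have h1 := HypQuad.finrank_perp Q hQ S
  have h2 := Submodule.finrank_add_eq_of_isCompl hC
  have h3 := Submodule.finrank_sup_add_finrank_inf_eq X (HypQuad.perp Q S)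
  have h4 := Submodule.finrank_le (X ⊔ HypQuad.perp Q S)
  have h5 := Submodule.finrank_sup_add_finrank_inf_eq (X ⊓ HypQuad.perp Q S) C
  have h6 := Submodule.finrank_le (X ⊓ HypQuad.perp Q S ⊔ C)
  have h7 := Submodule.finrank_le X
  have h8 := Submodule.finrank_le S
  rw [Module.finrank_fintype_fun_eq_card] at h1 h2 h4 h6 h7 h8
  obtain ⟨w, hw, hw0, hQw⟩ := exists_singular Q (X ⊓ HypQuad.perp Q S ⊓ C) (by omega)
  exact ⟨w, hQw, hw.1.1, hw.1.2,
    fun h => hw0 (Submodule.disjoint_def.mp hC.disjoint w ⟨h, hw.1.2⟩ hw.2)⟩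

omit [DecidableEq ι] in
theorem finrank_pair_radical_le {a b : ι → F} (hab : QuadraticMap.polar (⇑Q) a b ≠ 0) :
    Module.finrank F ↥(Submodule.span F ({a, b} : Set (ι → F)) ⊓
      HypQuad.perp Q (Submodule.span F ({a, b} : Set (ι → F)))) ≤ 1 := by
  haveI : FiniteDimensional F ↥(Submodule.span F ({a, b} : Set (ι → F))) :=
    FiniteDimensional.span_of_finite F (Set.toFinite _)
  have hlt : Submodule.span F ({a, b} : Set (ι → F)) ⊓ HypQuad.perp Q (Submodule.span F ({a, b} : Set (ι → F))) <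
      Submodule.span F ({a, b} : Set (ι → F)) := lt_of_le_of_ne inf_le_left fun he => hab <| by
    have hb : b ∈ Submodule.span F ({a, b} : Set (ι → F)) := Submodule.subset_span (by simp)
    exact (HypQuad.mem_perp Q).mp (he.ge hb).2 a (Submodule.subset_span (by simp))
  have h1 := Submodule.finrank_lt_finrank_of_lt hlt
  have h2 : Module.finrank F ↥(Submodule.span F ({a, b} : Set (ι → F))) ≤ 2 := by
    classical
    refine le_trans (finrank_span_le_card (R := F) ({a, b} : Set (ι → F))) ?_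
    simp only [Set.toFinset_insert, Set.toFinset_singleton]
    exact Finset.card_le_two
  omega

theorem finrank_pair_radical_zero {a b : ι → F} (ha : Q a = 0) (hb : Q b = 0)
    (hab : QuadraticMap.polar (⇑Q) a b ≠ 0) :
    Module.finrank F ↥(Submodule.span F ({a, b} : Set (ι → F)) ⊓
      HypQuad.perp Q (Submodule.span F ({a, b} : Set (ι → F)))) = 0 := by
  rw [Submodule.finrank_eq_zero, Submodule.eq_bot_iff]
  rintro v ⟨hv, hv'⟩
  obtain ⟨c, d, rfl⟩ := Submodule.mem_span_pair.mp hv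
  have h1 := (HypQuad.mem_perp Q).mp hv' a (Submodule.subset_span (by simp))
  have h2 := (HypQuad.mem_perp Q).mp hv' b (Submodule.subset_span (by simp))
  rw [QuadraticMap.polar_add_right, QuadraticMap.polar_smul_right, QuadraticMap.polar_smul_right,
    polar_self_two, ha] at h1
  rw [QuadraticMap.polar_add_right, QuadraticMap.polar_smul_right, QuadraticMap.polar_smul_right,
    polar_self_two, hb, QuadraticMap.polar_comm (⇑Q) b a] at h2
  simp [hab] at h1 h2
  simp [h1, h2]

include hQ in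
/-- A singular vector of a large non-degenerate subspace with prescribed product. -/
theorem exists_singular_partner [Finite F] {U : Submodule F (ι → F)}
    (hU : Cfsg.Geo.IsNondegenerateOn (QuadraticMap.polar (⇑Q)) U) (hd : 5 ≤ Module.finrank F U)
    {x : ι → F} (hx : x ∈ U) (hx0 : x ≠ 0) : ∃ u ∈ U, Q u = 0 ∧ QuadraticMap.polar (⇑Q) u x = 1 := by
  suffices h : ∃ u ∈ U, Q u = 0 ∧ QuadraticMap.polar (⇑Q) u x ≠ 0 by
    obtain ⟨u, hu, hQu, hux⟩ := h
    refine ⟨(QuadraticMap.polar (⇑Q) u x)⁻¹ • u, U.smul_mem _ hu, by rw [QuadraticMap.map_smul, hQu, smul_zero], ?_⟩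
    rw [QuadraticMap.polar_smul_left, smul_eq_mul, inv_mul_cancel₀ hux]
  obtain ⟨w, hw, hw0, hQw⟩ := exists_singular Q U (by omega)
  by_contra h
  push Not at h
  obtain ⟨-, r, hr, hwr⟩ := hU w hw hw0
  set c := QuadraticMap.polar (⇑Q) w r
  set w' := c⁻¹ • r + (-(c⁻¹ * c⁻¹ * Q r)) • w with hw'def
  have hQw' : Q w' = 0 := by
    rw [hw'def, QuadraticMap.map_add (f := Q), QuadraticMap.map_smul, QuadraticMap.map_smul, hQw,
      QuadraticMap.polar_smul_left, QuadraticMap.polar_smul_right, QuadraticMap.polar_comm (⇑Q) r w]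
    simp only [smul_eq_mul, mul_zero, add_zero]
    field_simp
    ring
  have hww' : QuadraticMap.polar (⇑Q) w w' = 1 := by
    rw [hw'def, QuadraticMap.polar_add_right, QuadraticMap.polar_smul_right, QuadraticMap.polar_smul_right,
      polar_self_two, hQw, mul_zero, smul_zero, add_zero, smul_eq_mul, inv_mul_cancel₀ hwr]
  have hw'U : w' ∈ U := add_mem (U.smul_mem _ hr) (U.smul_mem _ hw)
  obtain ⟨-, y, hy, hxy⟩ := hU x hx hx0
  have hwx := h w hw hQw
  have hw'x := h w' hw'U hQw'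
  set y' := y - QuadraticMap.polar (⇑Q) w' y • w - QuadraticMap.polar (⇑Q) w y • w' with hy'def
  have hy'U : y' ∈ U := sub_mem (sub_mem hy (U.smul_mem _ hw)) (U.smul_mem _ hw'U)
  have hwy' : QuadraticMap.polar (⇑Q) w y' = 0 := by
    rw [hy'def, QuadraticMap.polar_sub_right, QuadraticMap.polar_sub_right, QuadraticMap.polar_smul_right,
      QuadraticMap.polar_smul_right, polar_self_two, hQw, hww']
    simp
  have hw'y' : QuadraticMap.polar (⇑Q) w' y' = 0 := by
    rw [hy'def, QuadraticMap.polar_sub_right, QuadraticMap.polar_sub_right, QuadraticMap.polar_smul_right,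
      QuadraticMap.polar_smul_right, polar_self_two, hQw', QuadraticMap.polar_comm (⇑Q) w' w, hww']
    simp
  have hv := h (y' + (w + (-Q y') • w')) (add_mem hy'U (add_mem hw (U.smul_mem _ hw'U))) (by
    rw [QuadraticMap.map_add (f := Q), QuadraticMap.map_add (f := Q), QuadraticMap.map_smul, hQw, hQw',
      QuadraticMap.polar_smul_right, hww', QuadraticMap.polar_add_right, QuadraticMap.polar_smul_right,
      QuadraticMap.polar_comm (⇑Q) y' w, QuadraticMap.polar_comm (⇑Q) y' w', hwy', hw'y']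
    simp)
  have hy'x : QuadraticMap.polar (⇑Q) y' x = QuadraticMap.polar (⇑Q) x y := by
    rw [hy'def, QuadraticMap.polar_sub_left, QuadraticMap.polar_sub_left, QuadraticMap.polar_smul_left,
      QuadraticMap.polar_smul_left, hwx, hw'x, QuadraticMap.polar_comm (⇑Q) y x, smul_zero, smul_zero, sub_zero,
      sub_zero]
  rw [QuadraticMap.polar_add_left, QuadraticMap.polar_add_left, QuadraticMap.polar_smul_left, hwx, hw'x, hy'x,
    smul_zero, add_zero, add_zero] at hv
  exact hxy hv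

include hQ in
theorem refl_pair_mem_omega {w y : ι → F} (hw : Q w ≠ 0) (hy : Q y ≠ 0) (h : Q w = Q y) :
    refl Q y hy * refl Q w hw ∈ Cfsg.Omega F (⇑Q) := by
  obtain ⟨g, hg⟩ := exists_map Q hQ (a := w) (b := y) (fun h0 => hw (by rw [h0, QuadraticMap.map_zero]))
    (fun h0 => hy (by rw [h0, QuadraticMap.map_zero])) h
  have e : refl Q y hy * refl Q w hw = ⁅g, refl Q w hw⁆ := by
    rw [commutatorElement_def, inv_eq_of_mul_eq_one_left (refl_mul_self Q w hw), refl_conj]
    congr 1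
    exact refl_congr Q hy (by rw [(mem_iff Q).mp g.2]; exact hw) (t := 1) (by rw [hg, one_smul]) |>.symm
  rw [e]
  exact Subgroup.commutator_mem_commutator (Subgroup.mem_top _) (Subgroup.mem_top _)

theorem nonsingular_span {W : Submodule F (ι → F)}
    (hW : Cfsg.Geo.IsNondegenerateOn (QuadraticMap.polar (⇑Q)) W) [Fintype F]
    (hex : ¬ (Fintype.card F ≤ 3 ∧ Module.finrank F W = 2 ∧ ∃ s ∈ W, s ≠ 0 ∧ Q s = 0)) (N : Submodule F (ι → F))
    (hN : ∀ w ∈ W, Q w ≠ 0 → w ∈ N) : W ≤ N := by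
  classical
  by_contra hWN
  obtain ⟨a, ha, haN⟩ := SetLike.not_le_iff_exists.mp hWN
  have hsing : ∀ w ∈ W, w ∉ N → Q w = 0 := fun w hw h => by_contra fun h' => h (hN w hw h')
  have ha0 : a ≠ 0 := fun h => haN (h ▸ N.zero_mem)
  have hlin : ∀ b ∈ W, b ∉ N → ∀ n ∈ W, n ∈ N → Q n + QuadraticMap.polar (⇑Q) b n = 0 := by
    intro b hb hbN n hn hnN
    have h := hsing (b + n) (add_mem hb hn) (fun h => hbN (by simpa using sub_mem h hnN))
    rwa [QuadraticMap.map_add (f := Q), hsing b hb hbN, zero_add] at h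
  obtain ⟨x, hx, hQx⟩ : ∃ x ∈ W, Q x ≠ 0 := by
    by_contra h
    push Not at h
    obtain ⟨-, y, hy, hay⟩ := hW a ha ha0
    exact hay (HypQuad.polar_zero_of_singular Q h ha hy)
  have hxN := hN x hx hQx
  have hq2 : ∀ t : F, t = 0 ∨ t = 1 := by
    intro t
    have h1 := hlin a ha haN x hx hxN
    have h2 := hlin a ha haN (t • x) (W.smul_mem t hx) (N.smul_mem t hxN)
    rw [QuadraticMap.map_smul, QuadraticMap.polar_smul_right, smul_eq_mul, smul_eq_mul] at h2
    have h3 : t * (t - 1) * Q x = 0 := by linear_combination h2 - t * h1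
    rcases mul_eq_zero.mp h3 with h | h
    · exact (mul_eq_zero.mp h).imp id sub_eq_zero.mp
    · exact absurd h hQx
  have hcard : Fintype.card F ≤ 3 := by
    have h : (Finset.univ : Finset F) ⊆ {0, 1} := fun t _ => by simpa using hq2 t
    have := Finset.card_le_card h
    have h2 : ({0, 1} : Finset F).card ≤ 2 := Finset.card_le_two
    rw [Finset.card_univ] at this
    omega
  have honly : ∀ b ∈ W, b ∉ N → b - a ∈ N := by
    intro b hb hbN
    by_contra hd
    have e1 := hlin a ha haN x hx hxN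
    have e2 := hlin b hb hbN x hx hxN
    have e3 := hlin (b - a) (sub_mem hb ha) hd x hx hxN
    rw [QuadraticMap.polar_sub_left] at e3
    exact hQx (by linear_combination e3 - e2 + e1)
  have hrad : ∀ n ∈ W, n ∈ N → QuadraticMap.polar (⇑Q) a n = 0 → n = 0 := by
    intro n hn hnN han
    by_contra hn0
    have hNN : ∀ n' ∈ W, n' ∈ N → QuadraticMap.polar (⇑Q) n' n = 0 := fun n' hn' hn'N => by
      have e1 := hlin a ha haN n' hn' hn'N
      have e2 := hlin a ha haN n hn hnN
      have e3 := hlin a ha haN (n' + n) (add_mem hn' hn) (add_mem hn'N hnN)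
      rw [QuadraticMap.map_add (f := Q), QuadraticMap.polar_add_right] at e3
      linear_combination e3 - e1 - e2
    obtain ⟨⟨w, hw, hwn⟩, -⟩ := hW n hn hn0
    by_cases hwN : w ∈ N
    · exact hwn (hNN w hw hwN)
    · have h := hNN (w - a) (sub_mem hw ha) (honly w hw hwN)
      rw [QuadraticMap.polar_sub_left, han, sub_zero] at h
      exact hwn h
  apply hex
  refine ⟨hcard, ?_, a, ha, ha0, hsing a ha haN⟩
  have hpax : QuadraticMap.polar (⇑Q) a x ≠ 0 := fun h => hQx (by
    have := hlin a ha haN x hx hxN; rw [h, add_zero] at this; exact this)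
  have hspan : W = Submodule.span F {a, x} := by
    refine le_antisymm (fun w hw => ?_) (Submodule.span_le.mpr (by
      intro v hv
      rcases hv with rfl | rfl
      exacts [ha, hx]))
    obtain ⟨s, hs, hsN⟩ : ∃ s : F, w - s • a ∈ W ∧ w - s • a ∈ N := by
      by_cases hwN : w ∈ N
      · exact ⟨0, by simpa using hw, by simpa using hwN⟩
      · exact ⟨1, by simpa using sub_mem hw ha, by simpa using honly w hw hwN⟩
    set n := w - s • a with hn
    set t := QuadraticMap.polar (⇑Q) a n / QuadraticMap.polar (⇑Q) a x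
    have h0 := hrad (n - t • x) (sub_mem hs (W.smul_mem t hx)) (sub_mem hsN (N.smul_mem t hxN)) (by
      rw [QuadraticMap.polar_sub_right, QuadraticMap.polar_smul_right, smul_eq_mul, div_mul_cancel₀ _ hpax,
        sub_self])
    exact Submodule.mem_span_pair.mpr ⟨s, t, by rw [← sub_eq_zero.mp h0, hn, add_sub_cancel]⟩
  rw [hspan]
  have hli : LinearIndependent F ![a, x] := by
    refine LinearIndependent.pair_iff.mpr fun α β hab => ?_
    rcases eq_or_ne α 0 with rfl | hα
    · rw [zero_smul, zero_add, smul_eq_zero] at hab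
      exact ⟨rfl, hab.resolve_right fun h => hQx (by rw [h, QuadraticMap.map_zero])⟩
    · exfalso
      apply haN
      have : α • a = -(β • x) := eq_neg_of_add_eq_zero_left hab
      rw [← inv_smul_smul₀ hα a, this]
      exact N.smul_mem _ (neg_mem (N.smul_mem _ hxN))
  have := finrank_span_eq_card hli
  rwa [Fintype.card_fin, Matrix.range_cons, Matrix.range_cons, Matrix.range_empty, Set.union_empty,
    Set.singleton_union] at this

theorem invariant_subspace_eq [Fintype F] {W L : Submodule F (ι → F)}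
    (hW : Cfsg.Geo.IsNondegenerateOn (QuadraticMap.polar (⇑Q)) W)
    (hex : ¬ (Fintype.card F ≤ 3 ∧ Module.finrank F W = 2 ∧ ∃ s ∈ W, s ≠ 0 ∧ Q s = 0))
    (hLW : L ≤ W) (hL0 : L ≠ ⊥)
    (hrefl : ∀ w ∈ W, Q w ≠ 0 → ∀ z ∈ L, z - ((Q w)⁻¹ * QuadraticMap.polar (⇑Q) w z) • w ∈ L)
    (hsieg : ∀ s ∈ W, ∀ y ∈ W, Q s = 0 → QuadraticMap.polar (⇑Q) s y = 0 → ∀ z ∈ L, siegelMap Q s y z ∈ L) :
    L = W := by
  classical
  by_contra hne
  set M := W ⊓ HypQuad.perp Q L with hM
  have hLM : ∀ l ∈ L, ∀ m ∈ M, QuadraticMap.polar (⇑Q) l m = 0 := fun l hl m hm =>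
    (HypQuad.mem_perp Q).mp hm.2 l hl
  have hdich : ∀ w ∈ W, Q w ≠ 0 → w ∈ L ∨ w ∈ M := by
    intro w hw hQw
    by_cases h : ∀ z ∈ L, QuadraticMap.polar (⇑Q) z w = 0
    · exact Or.inr ⟨hw, (HypQuad.mem_perp Q).mpr h⟩
    push Not at h
    obtain ⟨z, hz, hzw⟩ := h
    have h1 := sub_mem hz (hrefl w hw hQw z hz)
    rw [sub_sub_cancel] at h1
    refine Or.inl ((L.smul_mem_iff ?_).mp h1)
    exact mul_ne_zero (inv_ne_zero hQw) (by rw [QuadraticMap.polar_comm]; exact hzw)
  obtain ⟨x, hxL, hxM, hQx⟩ : ∃ x, x ∈ L ∧ x ∉ M ∧ Q x ≠ 0 := by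
    by_contra hcon
    push Not at hcon
    have h := nonsingular_span Q hW hex M fun w hw hQw => (hdich w hw hQw).elim
      (fun h => by_contra fun h' => hQw (hcon w h h')) id
    obtain ⟨z, hz, hz0⟩ := L.exists_mem_ne_zero_of_ne_bot hL0
    obtain ⟨-, v, hv, hzv⟩ := hW z (hLW hz) hz0
    exact hzv (hLM z hz v (h hv))
  obtain ⟨y, hyM, hyL, hQy⟩ : ∃ y, y ∈ M ∧ y ∉ L ∧ Q y ≠ 0 := by
    by_contra hcon
    push Not at hcon
    exact hne (le_antisymm hLW (nonsingular_span Q hW hex L fun w hw hQw => (hdich w hw hQw).elim id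
      (fun h => by_contra fun h' => hQw (hcon w h h'))))
  have hxy := hLM x hxL y hyM
  have hcomb : ∀ t : F, t ≠ 0 → Q x + t * t * Q y = 0 := by
    intro t ht
    by_contra h
    have hQ : Q (x + t • y) ≠ 0 := by
      rw [QuadraticMap.map_add (f := Q), QuadraticMap.map_smul, QuadraticMap.polar_smul_right, hxy, smul_zero,
        add_zero, smul_eq_mul]
      exact h
    rcases hdich _ (add_mem (hLW hxL) (W.smul_mem t hyM.1)) hQ with h' | h'
    · exact hyL ((L.smul_mem_iff ht).mp (by simpa using sub_mem h' hxL))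
    · exact hxM (by simpa using sub_mem h' (M.smul_mem t hyM))
  have hxy0 : Q x + Q y = 0 := by simpa using hcomb 1 one_ne_zero
  have hsq : ∀ t : F, t ≠ 0 → t * t = 1 := by
    intro t ht
    have h : (t * t - 1) * Q y = 0 := by linear_combination hcomb t ht - hxy0
    exact sub_eq_zero.mp ((mul_eq_zero.mp h).resolve_right hQy)
  have hq : Fintype.card F ≤ 3 := by
    have h : (Finset.univ : Finset F) ⊆ {0, 1, -1} := fun t _ => by
      by_cases ht : t = 0
      · simp [ht]
      · rcases mul_self_eq_one_iff.mp (hsq t ht) with h | h <;> simp [h]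
    have := Finset.card_le_card h
    have h3 : ({0, 1, -1} : Finset F).card ≤ 3 := Finset.card_le_three
    rw [Finset.card_univ] at this
    omega
  set s := x + y with hs
  have hsW : s ∈ W := add_mem (hLW hxL) hyM.1
  have hs0 : s ≠ 0 := fun h => hxM (by rw [eq_neg_of_add_eq_zero_left h]; exact neg_mem hyM)
  have hQs : Q s = 0 := by rw [hs, QuadraticMap.map_add (f := Q), hxy, add_zero, hxy0]
  -- the radical of `L` vanishes
  have hLMsum : W ≤ L ⊔ M := nonsingular_span Q hW hex _ fun w hw hQw => (hdich w hw hQw).elim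
    (fun h => Submodule.mem_sup_left h) (fun h => Submodule.mem_sup_right h)
  have hR : ∀ z, z ∈ L → z ∈ M → z = 0 := by
    intro z hzL hzM
    by_contra hz0
    obtain ⟨-, v, hv, hzv⟩ := hW z (hLW hzL) hz0
    obtain ⟨l, hl, m, hm, rfl⟩ := Submodule.mem_sup.mp (hLMsum hv)
    rw [QuadraticMap.polar_add_right, hLM z hzL m hm, add_zero, QuadraticMap.polar_comm, hLM l hl z hzM] at hzv
    exact hzv rfl
  -- a Siegel element moving `L`
  obtain ⟨l, hl, hxl⟩ : ∃ l ∈ L, QuadraticMap.polar (⇑Q) x l ≠ 0 := by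
    by_contra h
    push Not at h
    exact hxM ⟨hLW hxL, (HypQuad.mem_perp Q).mpr fun l hl => by rw [QuadraticMap.polar_comm]; exact h l hl⟩
  by_cases hMy : ∃ m ∈ M, m ∉ Submodule.span F {y}
  · obtain ⟨m, hm, hmy⟩ := hMy
    set β := -QuadraticMap.polar (⇑Q) y m / QuadraticMap.polar (⇑Q) x l with hβ
    have hsw : QuadraticMap.polar (⇑Q) s (β • l + m) = 0 := by
      rw [hs, QuadraticMap.polar_add_left, QuadraticMap.polar_add_right, QuadraticMap.polar_add_right,
        QuadraticMap.polar_smul_right, QuadraticMap.polar_smul_right, hLM x hxL m hm,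
        QuadraticMap.polar_comm (⇑Q) y l, hLM l hl y hyM, smul_eq_mul, smul_eq_mul, hβ, div_mul_cancel₀ _ hxl]
      ring
    have h := hsieg s hsW (β • l + m) (add_mem (W.smul_mem _ (hLW hl)) hm.1) hQs hsw l hl
    rw [siegelMap] at h
    set a := QuadraticMap.polar (⇑Q) s l with ha
    set c := -QuadraticMap.polar (⇑Q) (β • l + m) l - Q (β • l + m) * a
    have ha0 : a ≠ 0 := by
      rw [ha, hs, QuadraticMap.polar_add_left, QuadraticMap.polar_comm (⇑Q) y l, hLM l hl y hyM, add_zero]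
      exact hxl
    have hmem : a • m + c • y ∈ L := by
      have e : a • m + c • y = l + a • (β • l + m) + c • s - (l + (a * β) • l + c • x) := by
        rw [hs, smul_add, smul_add, smul_smul]; abel
      rw [e]
      exact sub_mem h (add_mem (add_mem hl (L.smul_mem _ hl)) (L.smul_mem _ hxL))
    have h0 := hR _ hmem (add_mem (M.smul_mem _ hm) (M.smul_mem _ hyM))
    apply hmy
    refine Submodule.mem_span_singleton.mpr ⟨-(a⁻¹ * c), ?_⟩
    rw [neg_smul, ← smul_smul, neg_eq_iff_add_eq_zero, add_comm]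
    calc m + a⁻¹ • c • y = a⁻¹ • (a • m + c • y) := by rw [smul_add, smul_smul a⁻¹ a, inv_mul_cancel₀ ha0, one_smul]
      _ = 0 := by rw [h0, smul_zero]
  push Not at hMy
  by_cases h2 : (2 : F) = 0
  · refine hyL (absurd (hW y hyM.1 (fun h => hQy (by rw [h, QuadraticMap.map_zero]))).2 ?_)
    rintro ⟨v, hv, hyv⟩
    obtain ⟨l', hl', m', hm', rfl⟩ := Submodule.mem_sup.mp (hLMsum hv)
    obtain ⟨γ, rfl⟩ := Submodule.mem_span_singleton.mp (hMy m' hm')
    rw [QuadraticMap.polar_add_right, QuadraticMap.polar_smul_right, polar_self_two, h2, zero_mul, smul_zero,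
      add_zero, QuadraticMap.polar_comm, hLM l' hl' y hyM] at hyv
    exact hyv rfl
  have hxx : QuadraticMap.polar (⇑Q) x x ≠ 0 := by rw [polar_self_two]; exact mul_ne_zero h2 hQx
  obtain ⟨w, hw, hxw, hQw⟩ : ∃ w ∈ L, QuadraticMap.polar (⇑Q) x w = 0 ∧ Q w ≠ 0 := by
    by_contra h
    push Not at h
    -- then `W` is spanned by `x` and `y`
    have hL1 : ∀ w ∈ L, w ∈ Submodule.span F {x} := by
      intro w hw
      set t := QuadraticMap.polar (⇑Q) x w / QuadraticMap.polar (⇑Q) x x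
      have hproj : ∀ v ∈ L, QuadraticMap.polar (⇑Q) x
          (v - (QuadraticMap.polar (⇑Q) x v / QuadraticMap.polar (⇑Q) x x) • x) = 0 := fun v _ => by
        rw [QuadraticMap.polar_sub_right, QuadraticMap.polar_smul_right, smul_eq_mul, div_mul_cancel₀ _ hxx,
          sub_self]
      have hw' : w - t • x ∈ L := sub_mem hw (L.smul_mem _ hxL)
      have h0 : w - t • x = 0 := by
        refine hR _ hw' ⟨hLW hw', (HypQuad.mem_perp Q).mpr fun v hv => ?_⟩
        set v' := v - (QuadraticMap.polar (⇑Q) x v / QuadraticMap.polar (⇑Q) x x) • x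
        have hv' : v' ∈ L := sub_mem hv (L.smul_mem _ hxL)
        have e1 := h v' hv' (hproj v hv)
        have e2 := h _ hw' (hproj w hw)
        have e3 := h _ (add_mem hv' hw') (by rw [QuadraticMap.polar_add_right, hproj v hv, hproj w hw, add_zero])
        rw [QuadraticMap.map_add (f := Q), e1, e2, zero_add, zero_add] at e3
        rw [QuadraticMap.polar_sub_left, QuadraticMap.polar_smul_left] at e3
        rw [show QuadraticMap.polar (⇑Q) x (w - t • x) = 0 from hproj w hw, smul_zero, sub_zero] at e3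
        exact e3
      exact Submodule.mem_span_singleton.mpr ⟨t, (sub_eq_zero.mp h0).symm⟩
    apply hex
    refine ⟨hq, ?_, s, hsW, hs0, hQs⟩
    have hspan : W = Submodule.span F {x, y} := by
      refine le_antisymm (fun w hw => ?_) (Submodule.span_le.mpr (by
        intro v hv
        rcases hv with rfl | rfl
        exacts [hLW hxL, hyM.1]))
      obtain ⟨l', hl', m', hm', rfl⟩ := Submodule.mem_sup.mp (hLMsum hw)
      exact add_mem (Submodule.span_mono (by simp) (hL1 l' hl')) (Submodule.span_mono (by simp) (hMy m' hm'))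
    rw [hspan]
    have hli : LinearIndependent F ![x, y] := by
      refine LinearIndependent.pair_iff.mpr fun α β hab => ?_
      have e1 := congrArg (QuadraticMap.polar (⇑Q) x) hab
      rw [QuadraticMap.polar_add_right, QuadraticMap.polar_smul_right, QuadraticMap.polar_smul_right, hxy,
        smul_zero, add_zero, QuadraticMap.polar_zero_right, smul_eq_zero] at e1
      have hα := e1.resolve_right hxx
      rw [hα, zero_smul, zero_add, smul_eq_zero] at hab
      exact ⟨hα, hab.resolve_right fun h => hQy (by rw [h, QuadraticMap.map_zero])⟩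
    have := finrank_span_eq_card hli
    rwa [Fintype.card_fin, Matrix.range_cons, Matrix.range_cons, Matrix.range_empty, Set.union_empty,
      Set.singleton_union] at this
  have hsw : QuadraticMap.polar (⇑Q) s w = 0 := by
    rw [hs, QuadraticMap.polar_add_left, hxw, zero_add, QuadraticMap.polar_comm, hLM w hw y hyM]
  have h := hsieg s hsW w (hLW hw) hQs hsw x hxL
  rw [siegelMap, QuadraticMap.polar_comm (⇑Q) w x, hxw, neg_zero, zero_sub] at h
  set a := QuadraticMap.polar (⇑Q) s x with ha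
  have ha0 : a ≠ 0 := by
    rw [ha, hs, QuadraticMap.polar_add_left, QuadraticMap.polar_comm (⇑Q) y x, hxy, add_zero]; exact hxx
  have h1 : (-(Q w * a)) • y ∈ L := by
    have e : (-(Q w * a)) • y = x + a • w + (-(Q w * a)) • s - (x + a • w + (-(Q w * a)) • x) := by
      rw [hs, smul_add]; abel
    rw [e]
    exact sub_mem h (add_mem (add_mem hxL (L.smul_mem _ hw)) (L.smul_mem _ hxL))
  exact hyL ((L.smul_mem_iff (neg_ne_zero.mpr (mul_ne_zero hQw ha0))).mp h1)

include hQ in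
/-- Some conjugate of a local Siegel element moves `U`. -/
theorem exists_moving [Finite F] {W : Submodule F (ι → F)}
    (hW : Cfsg.Geo.IsNondegenerateOn (QuadraticMap.polar (⇑Q)) W)
    (hb : 5 ≤ Module.finrank F ↥(HypQuad.perp Q W)) (hab : Module.finrank F W ≤ Module.finrank F ↥(HypQuad.perp Q W))
    (hne : ∀ g : Cfsg.isometryGroup F (⇑Q), W.map (Matrix.toLin' (mat Q g)) ≠ HypQuad.perp Q W)
    (g : Cfsg.isometryGroup F (⇑Q)) (hg : (g : GL ι F) ∉ Cfsg.Geo.subspaceStabilizer W) :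
    ∃ u z, ∃ (hu : Q u = 0) (huz : QuadraticMap.polar (⇑Q) u z = 0),
      mat Q g⁻¹ *ᵥ u ∈ HypQuad.perp Q W ∧ mat Q g⁻¹ *ᵥ z ∈ HypQuad.perp Q W ∧
      ∃ x ∈ HypQuad.perp Q W, mat Q (siegelG Q hu huz) *ᵥ x ∉ HypQuad.perp Q W := by
  classical
  set U := HypQuad.perp Q W with hUdef
  obtain ⟨-, hU⟩ := nondeg_perp Q hQ hW
  have hUW' : ∀ u ∈ U, ∀ w ∈ W, QuadraticMap.polar (⇑Q) u w = 0 := fun u hu w hw => by
    rw [QuadraticMap.polar_comm]; exact (HypQuad.mem_perp Q).mp hu w hw
  have hmemW : ∀ x, (∀ u ∈ U, QuadraticMap.polar (⇑Q) u x = 0) → x ∈ W := fun x h => by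
    rw [← perp_perp Q hQ W]; exact (HypQuad.mem_perp Q).mpr h
  by_contra hcon
  push Not at hcon
  set U' := U.map (Matrix.toLin' (mat Q g)) with hU'
  have hin0 : ∀ v ∈ U', mat Q g⁻¹ *ᵥ v ∈ U := by
    rintro _ ⟨v, hv, rfl⟩
    rw [Matrix.toLin'_apply, mulVec_inv_cancel]
    exact hv
  have hfix : ∀ u z, u ∈ U' → z ∈ U' → ∀ (hu : Q u = 0) (huz : QuadraticMap.polar (⇑Q) u z = 0),
      ∀ x ∈ U, mat Q (siegelG Q hu huz) *ᵥ x ∈ U := fun u z hu' hz' hu huz x hx =>
    hcon u z hu huz (hin0 u hu') (hin0 z hz') x hx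
  have hU'd : Module.finrank F U' = Module.finrank F U :=
    LinearEquiv.finrank_map_eq (Matrix.toLinearEquiv' (mat Q g) (g : GL ι F).invertible) U
  have hU'n : Cfsg.Geo.IsNondegenerateOn (QuadraticMap.polar (⇑Q)) U' := by
    rintro _ ⟨v, hv, rfl⟩ h0
    obtain ⟨-, y, hy, hvy⟩ := hU v hv (fun h => h0 (by rw [h, map_zero]))
    refine ⟨⟨Matrix.toLin' (mat Q g) y, ⟨y, hy, rfl⟩, ?_⟩, Matrix.toLin' (mat Q g) y, ⟨y, hy, rfl⟩, ?_⟩
    · rw [Matrix.toLin'_apply, Matrix.toLin'_apply, polar_act, QuadraticMap.polar_comm]; exact hvy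
    · rw [Matrix.toLin'_apply, Matrix.toLin'_apply, polar_act]; exact hvy
  have hWd : Module.finrank F (W.map (Matrix.toLin' (mat Q g))) = Module.finrank F W :=
    LinearEquiv.finrank_map_eq (Matrix.toLinearEquiv' (mat Q g) (g : GL ι F).invertible) W
  have hkey : U' = U → False := fun h => by
    apply hg
    apply (mem_subspaceStabilizer_iff _ _).mpr
    refine Submodule.eq_of_le_of_finrank_eq ?_ hWd
    rintro _ ⟨w, hw, rfl⟩
    refine hmemW _ fun u hu => ?_
    rw [← h] at hu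
    obtain ⟨v, hv, rfl⟩ := hu
    rw [Matrix.toLin'_apply]
    change QuadraticMap.polar (⇑Q) (mat Q g *ᵥ v) (mat Q g *ᵥ w) = 0
    rw [polar_act]
    exact hUW' v hv w hw
  by_cases hperp : ∀ x ∈ U, ∀ v ∈ U', QuadraticMap.polar (⇑Q) v x = 0
  · -- then the two parts are exchanged
    have hle : U' ≤ W := fun v hv => hmemW v fun u hu => by rw [QuadraticMap.polar_comm]; exact hperp u hu v hv
    have heq : U' = W := Submodule.eq_of_le_of_finrank_le hle (by omega)
    have hd : Module.finrank F U = Module.finrank F W := by rw [← heq, hU'd]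
    apply hne g
    refine Submodule.eq_of_le_of_finrank_eq ?_ (hWd.trans hd.symm)
    rintro _ ⟨w, hw, rfl⟩
    refine (HypQuad.mem_perp Q).mpr fun v hv => ?_
    rw [← heq] at hv
    obtain ⟨v', hv', rfl⟩ := hv
    rw [Matrix.toLin'_apply]
    change QuadraticMap.polar (⇑Q) (mat Q g *ᵥ v') (mat Q g *ᵥ w) = 0
    rw [polar_act]
    exact hUW' v' hv' w hw
  push Not at hperp
  obtain ⟨x, hx, v, hv, hvx⟩ := hperp
  have hin : ∀ x ∈ U, ∀ u ∈ U', Q u = 0 → QuadraticMap.polar (⇑Q) u x ≠ 0 → u ∈ U ∧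
      ∀ z ∈ U', QuadraticMap.polar (⇑Q) u z = 0 → z ∈ U := by
    intro x hx u hu hQu hux
    have hstep : ∀ z ∈ U', ∀ (huz : QuadraticMap.polar (⇑Q) u z = 0), QuadraticMap.polar (⇑Q) u x • z +
        (-QuadraticMap.polar (⇑Q) z x - Q z * QuadraticMap.polar (⇑Q) u x) • u ∈ U := by
      intro z hz huz
      have h := hfix u z hu hz hQu huz x hx
      rw [mat_siegelG, siegelMap, add_assoc, U.add_mem_iff_right hx] at h
      exact h
    have hu0 : u ≠ 0 := fun h => hux (by rw [h, QuadraticMap.polar_zero_left])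
    obtain ⟨u2, hu2, hQu2, hu2u⟩ := exists_singular_partner Q hQ hU'n (by omega) hu hu0
    obtain ⟨a, -, haU, haS, haS'⟩ := exists_singular_in' Q hQ U' (Submodule.span F {u, u2})
      (by
        have := finrank_pair_le u u2
        have := finrank_pair_radical_zero Q hQu hQu2 (by rw [QuadraticMap.polar_comm, hu2u]; exact one_ne_zero)
        omega)
    have hua : QuadraticMap.polar (⇑Q) u a = 0 :=
      (HypQuad.mem_perp Q).mp haS u (Submodule.subset_span (by simp))
    have hau2 : QuadraticMap.polar (⇑Q) a u2 = 0 := by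
      rw [QuadraticMap.polar_comm]; exact (HypQuad.mem_perp Q).mp haS u2 (Submodule.subset_span (by simp))
    obtain ⟨-, r, hr, har⟩ := hU'n a haU (fun h => haS' (h ▸ Submodule.zero_mem _))
    set b := r - QuadraticMap.polar (⇑Q) u r • u2
    have hb' : b ∈ U' := sub_mem hr (U'.smul_mem _ hu2)
    have hub : QuadraticMap.polar (⇑Q) u b = 0 := by
      rw [QuadraticMap.polar_sub_right, QuadraticMap.polar_smul_right, QuadraticMap.polar_comm (⇑Q) u u2, hu2u,
        smul_eq_mul, mul_one, sub_self]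
    have hab' : QuadraticMap.polar (⇑Q) a b ≠ 0 := by
      rw [QuadraticMap.polar_sub_right, QuadraticMap.polar_smul_right, hau2, smul_zero, sub_zero]; exact har
    have h12 := hstep _ (add_mem haU hb') (by rw [QuadraticMap.polar_add_right, hua, hub, add_zero])
    have h := sub_mem h12 (add_mem (hstep _ haU hua) (hstep _ hb' hub))
    have e : QuadraticMap.polar (⇑Q) u x • (a + b) +
        (-QuadraticMap.polar (⇑Q) (a + b) x - Q (a + b) * QuadraticMap.polar (⇑Q) u x) • u -
        (QuadraticMap.polar (⇑Q) u x • a + (-QuadraticMap.polar (⇑Q) a x - Q a * QuadraticMap.polar (⇑Q) u x) • u +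
        (QuadraticMap.polar (⇑Q) u x • b +
          (-QuadraticMap.polar (⇑Q) b x - Q b * QuadraticMap.polar (⇑Q) u x) • u)) =
        (-(QuadraticMap.polar (⇑Q) a b * QuadraticMap.polar (⇑Q) u x)) • u := by
      rw [QuadraticMap.map_add (f := Q), QuadraticMap.polar_add_left]
      module
    rw [e] at h
    have huU : u ∈ U := (U.smul_mem_iff (neg_ne_zero.mpr (mul_ne_zero hab' hux))).mp h
    refine ⟨huU, fun z hz huz => ?_⟩
    have h := hstep z hz huz
    rw [U.add_mem_iff_left (U.smul_mem _ huU), U.smul_mem_iff hux] at h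
    exact h
  obtain ⟨u₁, hu₁, hQu₁, hu₁x⟩ : ∃ u ∈ U', Q u = 0 ∧ QuadraticMap.polar (⇑Q) u x ≠ 0 := by
    have hv0 : v ≠ 0 := fun h => hvx (by rw [h, QuadraticMap.polar_zero_left])
    by_contra hnone
    push Not at hnone
    obtain ⟨u2, hu2, hQu2, hu2v⟩ := exists_singular_partner Q hQ hU'n (by omega) hv hv0
    have h2 : QuadraticMap.polar (⇑Q) u2 x = 0 := hnone u2 hu2 hQu2
    have hQd : Q (v + (-Q v) • u2) = 0 := by
      rw [QuadraticMap.map_add (f := Q), QuadraticMap.map_smul, hQu2, QuadraticMap.polar_smul_right,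
        QuadraticMap.polar_comm (⇑Q) v u2, hu2v]
      simp
    have h3 := hnone _ (add_mem hv (U'.smul_mem _ hu2)) hQd
    rw [QuadraticMap.polar_add_left, QuadraticMap.polar_smul_left, h2, smul_zero, add_zero] at h3
    exact hvx h3
  obtain ⟨hu₁U, hperp1⟩ := hin x hx u₁ hu₁ hQu₁ hu₁x
  obtain ⟨u₂, hu₂, hQu₂, hu₂u⟩ := exists_singular_partner Q hQ hU'n (by omega) hu₁
    (fun h => hu₁x (by rw [h, QuadraticMap.polar_zero_left]))
  obtain ⟨hu₂U, -⟩ := hin u₁ hu₁U u₂ hu₂ hQu₂ (by rw [hu₂u]; exact one_ne_zero)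
  refine hkey (Submodule.eq_of_le_of_finrank_eq (fun w hw => ?_) hU'd)
  have h := hperp1 (w - QuadraticMap.polar (⇑Q) u₁ w • u₂) (sub_mem hw (U'.smul_mem _ hu₂)) (by
    rw [QuadraticMap.polar_sub_right, QuadraticMap.polar_smul_right, QuadraticMap.polar_comm (⇑Q) u₁ u₂, hu₂u,
      smul_eq_mul, mul_one, sub_self])
  simpa using add_mem h (U.smul_mem (QuadraticMap.polar (⇑Q) u₁ w) hu₂U)

include hQ in
theorem nondeg_sup [Fintype F] {W : Submodule F (ι → F)}
    (hW : Cfsg.Geo.IsNondegenerateOn (QuadraticMap.polar (⇑Q)) W)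
    (hb : 5 ≤ Module.finrank F ↥(HypQuad.perp Q W)) (hab : Module.finrank F W ≤ Module.finrank F ↥(HypQuad.perp Q W))
    (hne : ∀ g : Cfsg.isometryGroup F (⇑Q), W.map (Matrix.toLin' (mat Q g)) ≠ HypQuad.perp Q W)
    (hex : ¬ (Fintype.card F ≤ 3 ∧ Module.finrank F W = 2 ∧ ∃ s ∈ W, s ≠ 0 ∧ Q s = 0))
    (H : Subgroup (Cfsg.isometryGroup F (⇑Q)))
    (hH : ∀ g ∈ Cfsg.Omega F (⇑Q), (g : GL ι F) ∈ Cfsg.Geo.subspaceStabilizer W → g ∈ H)
    {g₀ : Cfsg.isometryGroup F (⇑Q)} (hg₀ : g₀ ∈ H) (hg₀W : (g₀ : GL ι F) ∉ Cfsg.Geo.subspaceStabilizer W) :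
    Cfsg.Omega F (⇑Q) ≤ H := by
  classical
  set U := HypQuad.perp Q W with hUdef
  obtain ⟨hc, hU⟩ := nondeg_perp Q hQ hW
  have hn5 : 5 ≤ Fintype.card ι := by
    have := Submodule.finrank_le U
    rw [Module.finrank_fintype_fun_eq_card] at this
    omega
  have hUW : ∀ u ∈ U, ∀ w ∈ W, QuadraticMap.polar (⇑Q) w u = 0 := fun u hu w hw => (HypQuad.mem_perp Q).mp hu w hw
  have hUW' : ∀ u ∈ U, ∀ w ∈ W, QuadraticMap.polar (⇑Q) u w = 0 := fun u hu w hw => by
    rw [QuadraticMap.polar_comm]; exact hUW u hu w hw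
  have hmemU : ∀ x, (∀ w ∈ W, QuadraticMap.polar (⇑Q) w x = 0) → x ∈ U := fun x h => (HypQuad.mem_perp Q).mpr h
  have hdec : ∀ x, ∃ w ∈ W, ∃ u ∈ U, w + u = x := fun x => Submodule.mem_sup.mp (hc.sup_eq_top ▸ Submodule.mem_top)
  have hdisj : ∀ x, x ∈ W → x ∈ U → x = 0 := fun x h h' => Submodule.disjoint_def.mp hc.disjoint x h h'
  have hlocU : ∀ u z (hu : Q u = 0) (huz : QuadraticMap.polar (⇑Q) u z = 0), u ∈ U → z ∈ U →
      siegelG Q hu huz ∈ H := fun u z hu huz hu' hz' => hH _ (siegelG_mem_omega Q hQ hn5 hu huz)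
    (siegel_fix_subspace _ _ fun w hw => by
      simp [hUW' u hu' w hw, hUW' z hz' w hw])
  have hlocW : ∀ u z (hu : Q u = 0) (huz : QuadraticMap.polar (⇑Q) u z = 0), u ∈ W → z ∈ W →
      siegelG Q hu huz ∈ H := fun u z hu huz hu' hz' => hH _ (siegelG_mem_omega Q hQ hn5 hu huz)
    (siegel_fix_subspace _ _ fun w hw => add_mem (W.smul_mem _ hz') (W.smul_mem _ hu'))
  have hback : ∀ (g : Cfsg.isometryGroup F (⇑Q)) (x : ι → F), mat Q g *ᵥ (mat Q g⁻¹ *ᵥ x) = x := fun g x => by
    rw [← mulVec_mul, mul_inv_cancel]; exact Matrix.one_mulVec x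
  have hconjU : ∀ g ∈ H, ∀ u z (hu : Q u = 0) (huz : QuadraticMap.polar (⇑Q) u z = 0),
      mat Q g⁻¹ *ᵥ u ∈ U → mat Q g⁻¹ *ᵥ z ∈ U → siegelG Q hu huz ∈ H := by
    intro g hg u z hu huz hu' hz'
    have p1 : QuadraticMap.polar (⇑Q) (mat Q g⁻¹ *ᵥ u) (mat Q g⁻¹ *ᵥ z) = 0 := by rw [polar_act, huz]
    have p0 : Q (mat Q g⁻¹ *ᵥ u) = 0 := by rw [(mem_iff Q).mp g⁻¹.2, hu]
    have h := H.mul_mem (H.mul_mem hg (hlocU _ _ p0 p1 hu' hz')) (H.inv_mem hg)
    rw [siegelG_conj] at h
    convert h using 2 <;> exact (hback g _).symm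
  -- `In u z`: the Siegel transformation of `u` and `z` lies in `H`
  set In : (ι → F) → (ι → F) → Prop := fun u z =>
    ∀ (hu : Q u = 0) (huz : QuadraticMap.polar (⇑Q) u z = 0), siegelG Q hu huz ∈ H with hIn
  have hInW : ∀ u ∈ U, Q u = 0 → ∀ z, QuadraticMap.polar (⇑Q) u z = 0 → In u z →
      ∀ zW ∈ W, ∀ zU ∈ U, zW + zU = z → In u zW := by
    intro u hu hQu z huz hz zW hzW zU hzU e hu' huzW
    have e1 : QuadraticMap.polar (⇑Q) u zU = 0 := by
      rw [← e, QuadraticMap.polar_add_right, huzW, zero_add] at huz; exact huz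
    have e2 : QuadraticMap.polar (⇑Q) u (-zU) = 0 := by rw [QuadraticMap.polar_neg_right, e1, neg_zero]
    have h := H.mul_mem (hz hQu huz) (hlocU u (-zU) hQu e2 hu (neg_mem hzU))
    rw [siegelG_mul] at h
    convert h using 2
    rw [← e]; abel
  -- one element mixing the parts
  obtain ⟨a₀, z₀, ha₀U, hQa₀, ha₀, hz₀W, hz₀0, hInz₀⟩ : ∃ a z, a ∈ U ∧ Q a = 0 ∧ a ≠ 0 ∧ z ∈ W ∧ z ≠ 0 ∧ In a z := by
    obtain ⟨u', z', hu', huz', h1, h2, x₀, hx₀, hmove⟩ := exists_moving Q hQ hW hb hab hne g₀ hg₀W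
    set t := siegelG Q hu' huz'
    have htH : t ∈ H := hconjU g₀ hg₀ u' z' hu' huz' h1 h2
    set U'' := U.map (Matrix.toLin' (mat Q t)) with hU''
    set y₀ := mat Q t *ᵥ x₀
    have hy₀ : y₀ ∈ U'' := ⟨x₀, hx₀, rfl⟩
    have hcod : ∀ x ∈ U, QuadraticMap.polar (⇑Q) u' x = 0 → QuadraticMap.polar (⇑Q) z' x = 0 → x ∈ U'' := by
      intro x hx e1 e2
      refine ⟨x, hx, ?_⟩
      rw [Matrix.toLin'_apply]
      change mat Q t *ᵥ x = x
      rw [mat_siegelG, siegelMap, e1, e2]
      simp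
    set X := U ⊓ HypQuad.perp Q (Submodule.span F {u', z'}) with hX
    have hXU'' : ∀ x ∈ X, x ∈ U'' := fun x hx => hcod x hx.1
      ((HypQuad.mem_perp Q).mp hx.2 u' (Submodule.subset_span (by simp)))
      ((HypQuad.mem_perp Q).mp hx.2 z' (Submodule.subset_span (by simp)))
    have hXd : Module.finrank F U ≤ Module.finrank F X + 2 := by
      have h1 := Submodule.finrank_sup_add_finrank_inf_eq U (HypQuad.perp Q (Submodule.span F {u', z'}))
      have h2 := Submodule.finrank_le (U ⊔ HypQuad.perp Q (Submodule.span F {u', z'}))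
      have h3 := HypQuad.finrank_perp Q hQ (Submodule.span F {u', z'})
      have h4 := finrank_pair_le u' z'
      rw [← hX] at h1
      rw [Module.finrank_fintype_fun_eq_card] at h2 h3
      omega
    have hU''n : ∀ c ∈ U'', (∀ w ∈ U'', QuadraticMap.polar (⇑Q) c w = 0) → c = 0 := by
      rintro _ ⟨c, hc, rfl⟩ h
      by_contra hc0
      obtain ⟨-, y, hy, hcy⟩ := hU c hc (fun h0 => hc0 (by rw [h0, map_zero]))
      have := h _ ⟨y, hy, rfl⟩
      rw [Matrix.toLin'_apply, Matrix.toLin'_apply, polar_act] at this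
      exact hcy this
    set Y := U ⊓ U'' with hYdef
    have hYd : 3 ≤ Module.finrank F Y :=
      le_trans (by omega) (Submodule.finrank_mono (show X ≤ Y from fun x hx => ⟨hx.1, hXU'' x hx⟩))
    obtain ⟨a, hQa, haX, haS, z, hzU'', hzU, haz⟩ : ∃ a, Q a = 0 ∧ a ∈ Y ∧ a ≠ 0 ∧
        ∃ z ∈ U'', z ∉ U ∧ QuadraticMap.polar (⇑Q) a z = 0 := by
      obtain ⟨a₁, ha₁, ha₁0, hQa₁⟩ := exists_singular Q Y (by omega)
      by_contra hnone
      push Not at hnone
      have hbad : ∀ a, Q a = 0 → a ∈ Y → a ≠ 0 →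
          QuadraticMap.polar (⇑Q) a y₀ ≠ 0 ∧ ∀ w ∈ Y, QuadraticMap.polar (⇑Q) a w = 0 := by
        intro a hQa ha ha0
        have h0 : QuadraticMap.polar (⇑Q) a y₀ ≠ 0 := hnone a hQa ha ha0 y₀ hy₀ hmove
        refine ⟨h0, fun w hw => ?_⟩
        by_contra hw0
        refine hnone a hQa ha ha0
          (y₀ - (QuadraticMap.polar (⇑Q) a y₀ / QuadraticMap.polar (⇑Q) a w) • w)
          (sub_mem hy₀ (U''.smul_mem _ hw.2)) (fun h => hmove (by
            have := add_mem h (U.smul_mem (QuadraticMap.polar (⇑Q) a y₀ / QuadraticMap.polar (⇑Q) a w) hw.1)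
            rwa [sub_add_cancel] at this)) ?_
        rw [QuadraticMap.polar_sub_right, QuadraticMap.polar_smul_right, smul_eq_mul, div_mul_cancel₀ _ hw0,
          sub_self]
      obtain ⟨k1, hk1⟩ := hbad a₁ hQa₁ ha₁ ha₁0
      have hsub : ∀ w ∈ U'', w - (QuadraticMap.polar (⇑Q) a₁ w / QuadraticMap.polar (⇑Q) a₁ y₀) • y₀ ∈ Y :=
        fun w hw => ⟨by
          by_contra hwU
          exact hnone a₁ hQa₁ ha₁ ha₁0 _ (sub_mem hw (U''.smul_mem _ hy₀)) hwU (by
            rw [QuadraticMap.polar_sub_right, QuadraticMap.polar_smul_right, smul_eq_mul, div_mul_cancel₀ _ k1,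
              sub_self]), sub_mem hw (U''.smul_mem _ hy₀)⟩
      have hY4 : 4 ≤ Module.finrank F Y := by
        have hd'' : Module.finrank F U'' = Module.finrank F U :=
          LinearEquiv.finrank_map_eq (Matrix.toLinearEquiv' (mat Q t) (t : GL ι F).invertible) U
        have hle : U'' ≤ Y ⊔ Submodule.span F {y₀} := fun w hw => by
          refine Submodule.mem_sup.mpr ⟨_, hsub w hw, _, Submodule.smul_mem _ _
            (Submodule.mem_span_singleton_self y₀), sub_add_cancel w _⟩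
        have h1 := Submodule.finrank_mono hle
        have h2 := Submodule.finrank_sup_add_finrank_inf_eq Y (Submodule.span F {y₀})
        have h3 : Module.finrank F ↥(Submodule.span F {y₀}) ≤ 1 :=
          (finrank_span_le_card ({y₀} : Set (ι → F))).trans (by simp)
        omega
      obtain ⟨C, hC⟩ := (Submodule.span F {a₁}).exists_isCompl
      obtain ⟨a₂, ha₂, ha₂0, hQa₂⟩ := exists_singular Q (Y ⊓ C) (by
        have h1 := Submodule.finrank_sup_add_finrank_inf_eq Y C
        have h2 := Submodule.finrank_le (Y ⊔ C)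
        have h3 := Submodule.finrank_add_eq_of_isCompl hC
        have h4 : Module.finrank F ↥(Submodule.span F {a₁}) = 1 := finrank_span_singleton ha₁0
        omega)
      obtain ⟨k2, hk2⟩ := hbad a₂ hQa₂ ha₂.1 ha₂0
      set c := QuadraticMap.polar (⇑Q) a₂ y₀ • a₁ - QuadraticMap.polar (⇑Q) a₁ y₀ • a₂ with hcdef
      have hc0 : c = 0 := hU''n c (sub_mem (U''.smul_mem _ ha₁.2) (U''.smul_mem _ ha₂.1.2)) fun w hw => by
        set k := QuadraticMap.polar (⇑Q) a₁ w / QuadraticMap.polar (⇑Q) a₁ y₀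
        have hwY : w - k • y₀ ∈ Y := by
          refine ⟨?_, sub_mem hw (U''.smul_mem _ hy₀)⟩
          by_contra hwU
          exact hnone a₁ hQa₁ ha₁ ha₁0 _ (sub_mem hw (U''.smul_mem _ hy₀)) hwU (by
            rw [QuadraticMap.polar_sub_right, QuadraticMap.polar_smul_right, smul_eq_mul, div_mul_cancel₀ _ k1,
              sub_self])
        have e1 := hk1 _ hwY
        have e2 := hk2 _ hwY
        rw [QuadraticMap.polar_sub_right, QuadraticMap.polar_smul_right, smul_eq_mul, sub_eq_zero] at e1 e2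
        rw [hcdef, sub_eq_add_neg, ← neg_smul, QuadraticMap.polar_add_left, QuadraticMap.polar_smul_left,
          QuadraticMap.polar_smul_left, e1, e2, smul_eq_mul, smul_eq_mul]
        ring
      refine ha₂0 (Submodule.disjoint_def.mp hC.disjoint a₂ (Submodule.mem_span_singleton.mpr
        ⟨QuadraticMap.polar (⇑Q) a₂ y₀ / QuadraticMap.polar (⇑Q) a₁ y₀, ?_⟩) ha₂.2)
      rw [hcdef, sub_eq_zero] at hc0
      rw [div_eq_inv_mul, mul_smul, hc0, smul_smul, inv_mul_cancel₀ k1, one_smul]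
    have hpre : ∀ y ∈ U'', mat Q t⁻¹ *ᵥ y ∈ U := by
      rintro _ ⟨y, hy, rfl⟩
      rw [Matrix.toLin'_apply, mulVec_inv_cancel]
      exact hy
    obtain ⟨zW, hzW, zU, hzU', e⟩ := hdec z
    refine ⟨a, zW, haX.1, hQa, haS, hzW, fun h0 => hzU (by rw [← e, h0, zero_add]; exact hzU'), ?_⟩
    exact hInW a haX.1 hQa z haz (fun hu huz => hconjU t htH a z hu huz (hpre a haX.2) (hpre z hzU''))
      zW hzW zU hzU' e
  -- whole lines for the perpendicular singular vectors
  have hline : ∀ a z, a ∈ U → Q a = 0 → a ≠ 0 → z ∈ W → In a z → ∀ u ∈ U, Q u = 0 →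
      QuadraticMap.polar (⇑Q) a u = 0 → a ∉ Submodule.span F {u} → ∀ s : F, In u (s • z) := by
    intro a z ha hQa ha0 hz haz u hu hQu hau hind s hu' husz
    have hazp : QuadraticMap.polar (⇑Q) a z = 0 := hUW' a ha z hz
    set t := siegelG Q hQa hazp
    obtain ⟨y, hy, huy, hay⟩ : ∃ y ∈ U, QuadraticMap.polar (⇑Q) u y = 0 ∧ QuadraticMap.polar (⇑Q) a y = s := by
      obtain ⟨y, hy, huy, hay⟩ : ∃ y ∈ U, QuadraticMap.polar (⇑Q) u y = 0 ∧ QuadraticMap.polar (⇑Q) a y ≠ 0 := by
        by_contra h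
        push Not at h
        apply hind
        rw [← perp_perp Q hQ (Submodule.span F {u}), HypQuad.mem_perp]
        intro y hy
        obtain ⟨yW, hyW, yU, hyU, rfl⟩ := hdec y
        have h1 := (HypQuad.mem_perp Q).mp hy u (Submodule.mem_span_singleton_self u)
        rw [QuadraticMap.polar_add_right, hUW' u hu yW hyW, zero_add] at h1
        rw [QuadraticMap.polar_add_left, hUW a ha yW hyW, zero_add, QuadraticMap.polar_comm]
        exact h yU hyU h1
      exact ⟨(s / QuadraticMap.polar (⇑Q) a y) • y, U.smul_mem _ hy, by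
        rw [QuadraticMap.polar_smul_right, huy, smul_zero], by
        rw [QuadraticMap.polar_smul_right, smul_eq_mul, div_mul_cancel₀ _ hay]⟩
    set y'' := s • z + y
    have huy'' : QuadraticMap.polar (⇑Q) u y'' = 0 := by
      rw [QuadraticMap.polar_add_right, huy, husz, add_zero]
    have htW : ∀ w ∈ W, mat Q t *ᵥ w = w + (-QuadraticMap.polar (⇑Q) z w) • a := fun w hw => by
      rw [mat_siegelG, siegelMap, hUW' a ha w hw, zero_smul, add_zero, mul_zero, sub_zero]
    have hpre : ∀ v, (∀ w ∈ W, QuadraticMap.polar (⇑Q) (mat Q t *ᵥ w) v = 0) → mat Q t⁻¹ *ᵥ v ∈ U := fun v hv =>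
      hmemU _ fun w hw => by rw [← polar_act Q t, hback]; exact hv w hw
    have h1 : mat Q t⁻¹ *ᵥ u ∈ U := hpre u fun w hw => by
      rw [htW w hw, QuadraticMap.polar_add_left, QuadraticMap.polar_smul_left, hUW u hu w hw, hau, smul_zero,
        add_zero]
    have h2 : mat Q t⁻¹ *ᵥ y'' ∈ U := hpre y'' fun w hw => by
      rw [htW w hw, QuadraticMap.polar_add_left, QuadraticMap.polar_smul_left, QuadraticMap.polar_add_right,
        QuadraticMap.polar_add_right, QuadraticMap.polar_smul_right, QuadraticMap.polar_smul_right, hUW y hy w hw,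
        hazp, hay, QuadraticMap.polar_comm (⇑Q) w z, smul_eq_mul, smul_eq_mul, smul_eq_mul]
      ring
    exact hInW u hu hQu y'' huy'' (fun hu hh => hconjU t (haz hQa hazp) u y'' hu hh h1 h2) (s • z)
      (W.smul_mem s hz) y hy rfl hu' husz
  obtain ⟨u₃, hQu₃, hu₃U, hu₃P, hu₃S⟩ := exists_singular_in Q hQ U (Submodule.span F {a₀})
    (by rw [finrank_span_singleton ha₀]; omega)
  have hu₃0 : u₃ ≠ 0 := fun h => hu₃S (h ▸ Submodule.zero_mem _)
  have ha₀u₃ : a₀ ∉ Submodule.span F {u₃} := fun h => by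
    obtain ⟨c, hc'⟩ := Submodule.mem_span_singleton.mp h
    have hc0 : c ≠ 0 := fun h0 => ha₀ (by rw [← hc', h0, zero_smul])
    exact hu₃S (Submodule.mem_span_singleton.mpr ⟨c⁻¹, by rw [← hc', smul_smul, inv_mul_cancel₀ hc0, one_smul]⟩)
  have hl₃ := hline a₀ z₀ ha₀U hQa₀ ha₀ hz₀W hInz₀ u₃ hu₃U hQu₃
    ((HypQuad.mem_perp Q).mp hu₃P a₀ (Submodule.mem_span_singleton_self a₀)) ha₀u₃
  -- the lines in W carried by u₃ form an invariant subspace
  let L : Submodule F (ι → F) :=
    { carrier := {z | z ∈ W ∧ ∀ s : F, In u₃ (s • z)}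
      zero_mem' := ⟨W.zero_mem, fun s hu huz => by
        have h0 : QuadraticMap.polar (⇑Q) u₃ 0 = 0 := QuadraticMap.polar_zero_right Q u₃
        rw [siegelG_congr Q hu huz hu h0 fun x => by rw [smul_zero]]
        exact hlocU u₃ 0 hu h0 hu₃U U.zero_mem⟩
      add_mem' := fun {p r} hp hr => ⟨W.add_mem hp.1 hr.1, fun s hu huz => by
        have e1 : QuadraticMap.polar (⇑Q) u₃ (s • p) = 0 := hUW' u₃ hu₃U _ (W.smul_mem s hp.1)
        have e2 : QuadraticMap.polar (⇑Q) u₃ (s • r) = 0 := hUW' u₃ hu₃U _ (W.smul_mem s hr.1)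
        have h := H.mul_mem (hp.2 s hu e1) (hr.2 s hu e2)
        rw [siegelG_mul] at h
        convert h using 2
        rw [smul_add]⟩
      smul_mem' := fun c p hp => ⟨W.smul_mem c hp.1, fun s => by rw [smul_smul]; exact hp.2 (s * c)⟩ }
  have hLinv : ∀ k ∈ H, mat Q k *ᵥ u₃ = u₃ → ∀ z ∈ L, mat Q k *ᵥ z ∈ W → mat Q k *ᵥ z ∈ L := by
    intro k hk hku z hz hkz
    refine ⟨hkz, fun s hu huz => ?_⟩
    have e1 : QuadraticMap.polar (⇑Q) u₃ (s • z) = 0 := hUW' u₃ hu₃U _ (W.smul_mem s hz.1)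
    have h := H.mul_mem (H.mul_mem hk (hz.2 s hu e1)) (H.inv_mem hk)
    rw [siegelG_conj] at h
    convert h using 2
    · exact hku.symm
    · rw [Matrix.mulVec_smul]
  have hL : L = W := invariant_subspace_eq Q hW hex (fun z hz => hz.1)
    (fun h => hz₀0 (by have : z₀ ∈ L := ⟨hz₀W, hl₃⟩; rwa [h, Submodule.mem_bot] at this))
    (fun w hw hQw z hz => by
      obtain ⟨u', hu', hQu', hu'u⟩ := exists_singular_partner Q hQ hU hb hu₃U hu₃0
      obtain ⟨a, hQa, haU, haS, haS'⟩ := exists_singular_in' Q hQ U (Submodule.span F {u₃, u'})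
        (by
          have := finrank_pair_le u₃ u'
          have := finrank_pair_radical_zero Q hQu₃ hQu' (by rw [QuadraticMap.polar_comm, hu'u]; exact one_ne_zero)
          omega)
      obtain ⟨b, hbU, hQb, hba⟩ := exists_singular_partner Q hQ hU hb haU (fun h => haS' (h ▸ Submodule.zero_mem _))
      set b' := b - QuadraticMap.polar (⇑Q) u₃ b • u'
      have hb'u : QuadraticMap.polar (⇑Q) u₃ b' = 0 := by
        rw [QuadraticMap.polar_sub_right, QuadraticMap.polar_smul_right, QuadraticMap.polar_comm (⇑Q) u₃ u', hu'u,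
          smul_eq_mul, mul_one, sub_self]
      have hab : QuadraticMap.polar (⇑Q) a b' = 1 := by
        rw [QuadraticMap.polar_sub_right, QuadraticMap.polar_smul_right, QuadraticMap.polar_comm (⇑Q) a b, hba,
          QuadraticMap.polar_comm (⇑Q) a u', (HypQuad.mem_perp Q).mp haS u' (Submodule.subset_span (by simp)),
          smul_zero, sub_zero]
      set y := b' + (Q w - Q b') • a
      have hQy : Q w = Q y := by
        rw [QuadraticMap.map_add (f := Q), QuadraticMap.map_smul, hQa, QuadraticMap.polar_smul_right,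
          QuadraticMap.polar_comm (⇑Q) b' a, hab]
        simp
      have hyU : y ∈ U := add_mem (sub_mem hbU (U.smul_mem _ hu')) (U.smul_mem _ haU)
      have hyu : QuadraticMap.polar (⇑Q) y u₃ = 0 := by
        rw [QuadraticMap.polar_comm, QuadraticMap.polar_add_right, QuadraticMap.polar_smul_right, hb'u,
          (HypQuad.mem_perp Q).mp haS u₃ (Submodule.subset_span (by simp)), smul_zero, add_zero]
      have hQy0 : Q y ≠ 0 := hQy ▸ hQw
      set k := refl Q y hQy0 * refl Q w hQw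
      have hk : ∀ x, mat Q k *ᵥ x = mat Q (refl Q y hQy0) *ᵥ (mat Q (refl Q w hQw) *ᵥ x) := fun x => mulVec_mul Q _ _ x
      have hr : ∀ (v : ι → F) (hv : Q v ≠ 0) x, mat Q (refl Q v hv) *ᵥ x =
          x - ((Q v)⁻¹ * QuadraticMap.polar (⇑Q) v x) • v := fun v hv x => mulVec_eq Q v x
      have hkW : ∀ x ∈ W, mat Q k *ᵥ x = x - ((Q w)⁻¹ * QuadraticMap.polar (⇑Q) w x) • w := fun x hx => by
        rw [hk, hr w hQw, hr y hQy0, QuadraticMap.polar_sub_right, QuadraticMap.polar_smul_right,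
          hUW' y hyU x hx, hUW' y hyU w hw]
        simp
      have hkH : k ∈ H := hH k (refl_pair_mem_omega Q hQ hQw hQy0 hQy) ((mem_subspaceStabilizer_iff _ _).mpr
        (Submodule.eq_of_le_of_finrank_eq (by
          rintro _ ⟨x, hx, rfl⟩
          rw [Matrix.toLin'_apply]
          change mat Q k *ᵥ x ∈ W
          rw [hkW x hx]
          exact sub_mem hx (W.smul_mem _ hw))
          (LinearEquiv.finrank_map_eq (Matrix.toLinearEquiv' (mat Q k) (k : GL ι F).invertible) W)))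
      have hkz : mat Q k *ᵥ z = z - ((Q w)⁻¹ * QuadraticMap.polar (⇑Q) w z) • w := hkW z hz.1
      rw [← hkz]
      refine hLinv k hkH ?_ z hz (by rw [hkz]; exact sub_mem hz.1 (W.smul_mem _ hw))
      rw [hk, hr w hQw, hUW u₃ hu₃U w hw, mul_zero, zero_smul, sub_zero, hr y hQy0, hyu, mul_zero, zero_smul,
        sub_zero])
    (fun p hp r hr hQp hpr z hz => by
      have himg : siegelMap Q p r z ∈ W :=
        add_mem (add_mem hz.1 (W.smul_mem _ hr)) (W.smul_mem _ hp)
      rw [← mat_siegelG Q hQp hpr] at himg ⊢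
      refine hLinv _ (hlocW p r hQp hpr hp hr) ?_ z hz himg
      rw [mat_siegelG, siegelMap, hUW u₃ hu₃U p hp, hUW u₃ hu₃U r hr]
      simp)
  have hfull3 : ∀ z ∈ W, In u₃ z := fun z hz => by
    have h : z ∈ L := hL.symm ▸ hz
    simpa using h.2 1
  have hfullU : ∀ u ∈ U, Q u = 0 → u ≠ 0 → ∀ z ∈ W, In u z := by
    intro u hu hQu hu0
    have hstep : ∀ p, p ∈ U → Q p = 0 → p ≠ 0 → (∀ z ∈ W, In p z) → ∀ v ∈ U, Q v = 0 →
        QuadraticMap.polar (⇑Q) p v = 0 → p ∉ Submodule.span F {v} → ∀ z ∈ W, In v z :=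
      fun p hp hQp hp0 hfp v hv hQv hpv hind z hz => by
        simpa using hline p z hp hQp hp0 hz (hfp z hz) v hv hQv hpv hind 1
    by_cases hdirect : QuadraticMap.polar (⇑Q) u₃ u = 0 ∧ u₃ ∉ Submodule.span F {u}
    · exact hstep u₃ hu₃U hQu₃ hu₃0 hfull3 u hu hQu hdirect.1 hdirect.2
    obtain ⟨u₅, hQu₅, hu₅U, hu₅P, hu₅S⟩ := exists_singular_in' Q hQ U (Submodule.span F {u₃, u}) (by
      rw [not_and_or, not_not] at hdirect
      rcases hdirect with h | h
      · have := finrank_pair_le u₃ u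
        have := finrank_pair_radical_zero Q hQu₃ hQu h
        omega
      · have e : Submodule.span F ({u₃, u} : Set (ι → F)) ≤ Submodule.span F {u} := by
          rw [Submodule.span_le, Set.insert_subset_iff, Set.singleton_subset_iff]
          exact ⟨h, Submodule.mem_span_singleton_self u⟩
        have h1 := Submodule.finrank_mono e
        rw [finrank_span_singleton hu0] at h1
        have h2 := Submodule.finrank_mono
          (inf_le_left : Submodule.span F ({u₃, u} : Set (ι → F)) ⊓ HypQuad.perp Q (Submodule.span F {u₃, u}) ≤ _)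
        omega)
    have hu₅0 : u₅ ≠ 0 := fun h => hu₅S (h ▸ Submodule.zero_mem _)
    have n1 : u₃ ∉ Submodule.span F {u₅} := fun h => by
      obtain ⟨c, hc'⟩ := Submodule.mem_span_singleton.mp h
      have hc0 : c ≠ 0 := fun h0 => hu₃0 (by rw [← hc', h0, zero_smul])
      apply hu₅S
      rw [show u₅ = c⁻¹ • u₃ by rw [← hc', smul_smul, inv_mul_cancel₀ hc0, one_smul]]
      exact Submodule.smul_mem _ _ (Submodule.subset_span (by simp))
    have n2 : u₅ ∉ Submodule.span F {u} := fun h => hu₅S (Submodule.span_mono (by simp) h)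
    exact hstep u₅ hu₅U hQu₅ hu₅0
      (hstep u₃ hu₃U hQu₃ hu₃0 hfull3 u₅ hu₅U hQu₅
        ((HypQuad.mem_perp Q).mp hu₅P u₃ (Submodule.subset_span (by simp))) n1)
      u hu hQu (by rw [QuadraticMap.polar_comm]; exact (HypQuad.mem_perp Q).mp hu₅P u (Submodule.subset_span (by simp)))
      n2
  have hCU : ∀ u ∈ U, Q u = 0 → u ≠ 0 → u ∈ sCentres Q H := fun u hu hQu hu0 => ⟨hQu, fun z huz => by
    obtain ⟨zW, hzW, zU, hzU, rfl⟩ := hdec z
    have e1 : QuadraticMap.polar (⇑Q) u zW = 0 := hUW' u hu zW hzW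
    have e2 : QuadraticMap.polar (⇑Q) u zU = 0 := by
      rw [QuadraticMap.polar_add_right, e1, zero_add] at huz; exact huz
    have h := H.mul_mem (hfullU u hu hQu hu0 zW hzW hQu e1) (hlocU u zU hQu e2 hu hzU)
    rw [siegelG_mul] at h
    exact h⟩
  have hCmix : ∀ v, Q v = 0 → v ∉ W → v ∈ sCentres Q H := by
    intro v hQv hvW
    obtain ⟨vW, hvW', vU, hvU, rfl⟩ := hdec v
    have hvU0 : vU ≠ 0 := fun h => hvW (by rw [h, add_zero]; exact hvW')
    obtain ⟨u', hu', hQu', hu'v⟩ := exists_singular_partner Q hQ hU hb hvU hvU0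
    have hu'0 : u' ≠ 0 := fun h => by rw [h, QuadraticMap.polar_zero_left] at hu'v; exact zero_ne_one hu'v
    set u := vU + Q vW • u'
    have hu'u' : QuadraticMap.polar (⇑Q) u' u' = 0 := by rw [polar_self_two, hQu', mul_zero]
    have hu'u : QuadraticMap.polar (⇑Q) u' u = 1 := by
      rw [QuadraticMap.polar_add_right, QuadraticMap.polar_smul_right, hu'u', hu'v, smul_zero, add_zero]
    have hsum : Q vW + Q vU = 0 := by
      rw [QuadraticMap.map_add (f := Q), hUW vU hvU vW hvW', add_zero] at hQv; exact hQv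
    have hQu : Q u = 0 := by
      rw [QuadraticMap.map_add (f := Q), QuadraticMap.map_smul, hQu', QuadraticMap.polar_smul_right,
        QuadraticMap.polar_comm (⇑Q) vU u', hu'v]
      simp
      linear_combination hsum
    have huU : u ∈ U := add_mem hvU (U.smul_mem _ hu')
    have hu0 : u ≠ 0 := fun h => by rw [h, QuadraticMap.polar_zero_right] at hu'u; exact zero_ne_one hu'u
    have e : QuadraticMap.polar (⇑Q) u' vW = 0 := hUW' u' hu' vW hvW'
    have himg : mat Q (siegelG Q hQu' e) *ᵥ u = vW + vU := by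
      rw [mat_siegelG, siegelMap, hu'u, hUW u huU vW hvW', one_smul]
      simp only [u, neg_zero, zero_sub, mul_one, neg_smul]
      abel
    rw [← himg]
    exact sCentres_map (hCU u huU hQu hu0) (hfullU u' hu' hQu' hu'0 vW hvW' hQu' e)
  rw [omega_eq_closure_all Q hQ hn5, Subgroup.closure_le]
  rintro g ⟨v, z, hv, hvz, rfl⟩
  by_cases hvW : v ∈ W
  swap
  · exact (hCmix v hv hvW).2 z hvz
  refine siegelG_mem_of_singular Q hQ H hn5 hv (fun w hvw hw => ?_) hvz
  by_cases hwW : w ∈ W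
  · exact hlocW v w hv hvw hvW hwW
  · rw [siegelG_swap hv hw hvw]
    exact (hCmix w hw hwW).2 _ _

include hQ in
theorem nondeg_maximal_core [Fintype F] {W : Submodule F (ι → F)}
    (hW : Cfsg.Geo.IsNondegenerateOn (QuadraticMap.polar (⇑Q)) W) (hW0 : W ≠ ⊥)
    (hb : 5 ≤ Module.finrank F ↥(HypQuad.perp Q W)) (hab : Module.finrank F W ≤ Module.finrank F ↥(HypQuad.perp Q W))
    (hne : ∀ g : Cfsg.isometryGroup F (⇑Q), W.map (Matrix.toLin' (mat Q g)) ≠ HypQuad.perp Q W)
    (hex : ¬ (Fintype.card F ≤ 3 ∧ Module.finrank F W = 2 ∧ ∃ s ∈ W, s ≠ 0 ∧ Q s = 0)) :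
    Cfsg.Geo.IsMaximalIn (Cfsg.Geo.omegaGL (⇑Q)) (Cfsg.Geo.subspaceStabilizer W ⊓ Cfsg.Geo.omegaGL (⇑Q)) := by
  classical
  obtain ⟨hc, hU⟩ := nondeg_perp Q hQ hW
  refine ⟨lt_of_le_of_ne inf_le_right fun heq => ?_, fun M hHM hMO => ?_⟩
  · obtain ⟨w, hw, hw0⟩ := W.exists_mem_ne_zero_of_ne_bot hW0
    obtain ⟨-, z, hz, hwz⟩ := hW w hw hw0
    obtain ⟨u, hQu, hu, -, hu0⟩ := exists_singular_in Q hQ (HypQuad.perp Q W) ⊥ (by rw [finrank_bot]; omega)
    have huw : ∀ w' ∈ W, QuadraticMap.polar (⇑Q) u w' = 0 := fun w' hw' => by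
      rw [QuadraticMap.polar_comm]; exact (HypQuad.mem_perp Q).mp hu w' hw'
    set t := siegelG Q hQu (huw z hz)
    have hn5 : 5 ≤ Fintype.card ι := by
      have := Submodule.finrank_le (HypQuad.perp Q W)
      rw [Module.finrank_fintype_fun_eq_card] at this
      omega
    have ht : (t : GL ι F) ∈ Cfsg.Geo.subspaceStabilizer W ⊓ Cfsg.Geo.omegaGL (⇑Q) :=
      heq.symm ▸ (mem_omegaGL Q _).mpr ⟨t, siegelG_mem_omega Q hQ hn5 hQu (huw z hz), rfl⟩
    have h2 : mat Q t *ᵥ w ∈ W := (ht.1 w).mp hw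
    rw [mat_siegelG, siegelMap, huw w hw, zero_smul, add_zero, mul_zero, sub_zero, W.add_mem_iff_right hw,
      W.smul_mem_iff (by rw [neg_ne_zero, QuadraticMap.polar_comm]; exact hwz)] at h2
    exact hu0 (by rw [Submodule.disjoint_def.mp hc.disjoint u h2 hu]; exact Submodule.zero_mem _)
  · by_cases hM : M ≤ Cfsg.Geo.subspaceStabilizer W
    · exact Or.inl (le_antisymm (le_inf hM hMO) hHM)
    right
    obtain ⟨g, hgM, hgW⟩ := SetLike.not_le_iff_exists.mp hM
    obtain ⟨g₀, -, rfl⟩ := (mem_omegaGL Q g).mp (hMO hgM)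
    have h := nondeg_sup Q hQ hW hb hab hne hex (M.comap (Cfsg.isometryGroup F (⇑Q)).subtype)
      (fun k hk hkW => hHM ⟨hkW, (mem_omegaGL Q _).mpr ⟨k, hk, rfl⟩⟩) (show g₀ ∈ _ from hgM) hgW
    refine le_antisymm hMO fun x hx => ?_
    obtain ⟨k, hk, rfl⟩ := (mem_omegaGL Q x).mp hx
    exact h hk

include hQ in
theorem stabilizer_perp (W : Submodule F (ι → F)) :
    Cfsg.Geo.subspaceStabilizer (HypQuad.perp Q W) ⊓ Cfsg.Geo.omegaGL (⇑Q) =
      Cfsg.Geo.subspaceStabilizer W ⊓ Cfsg.Geo.omegaGL (⇑Q) := by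
  have key : ∀ (X : Submodule F (ι → F)) (g : GL ι F), g ∈ Cfsg.Geo.subspaceStabilizer X ⊓ Cfsg.Geo.omegaGL (⇑Q) →
      g ∈ Cfsg.Geo.subspaceStabilizer (HypQuad.perp Q X) ⊓ Cfsg.Geo.omegaGL (⇑Q) := by
    rintro X g ⟨hX, hO⟩
    refine ⟨?_, hO⟩
    obtain ⟨h, -, rfl⟩ := (mem_omegaGL Q g).mp hO
    apply (mem_subspaceStabilizer_iff _ _).mpr
    refine Submodule.eq_of_le_of_finrank_eq ?_
      (LinearEquiv.finrank_map_eq (Matrix.toLinearEquiv' (mat Q h) (h : GL ι F).invertible) _)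
    rintro _ ⟨y, hy, rfl⟩
    refine (HypQuad.mem_perp Q).mpr fun x hx => ?_
    have hx' := ((mem_subspaceStabilizer_iff _ _).mp hX).symm ▸ hx
    obtain ⟨x', hx', rfl⟩ := hx'
    rw [Matrix.toLin'_apply]
    change QuadraticMap.polar (⇑Q) (mat Q h *ᵥ x') (mat Q h *ᵥ y) = 0
    rw [polar_act]
    exact (HypQuad.mem_perp Q).mp hy x' hx'
  refine le_antisymm (fun g hg => ?_) (key W)
  have h := key _ g hg
  rwa [perp_perp Q hQ] at h

include hQ in
theorem nondeg_maximal [Fintype F] (hn : 9 ≤ Fintype.card ι) {W : Submodule F (ι → F)}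
    (hW : Cfsg.Geo.IsNondegenerateOn (QuadraticMap.polar (⇑Q)) W) (hW0 : W ≠ ⊥) (hW1 : W ≠ ⊤)
    (hne : 2 * Module.finrank F W = Fintype.card ι →
      ∀ g : Cfsg.isometryGroup F (⇑Q), W.map (Matrix.toLin' (mat Q g)) ≠ HypQuad.perp Q W)
    (hex : ∀ X, (X = W ∨ X = HypQuad.perp Q W) →
      ¬ (Fintype.card F ≤ 3 ∧ Module.finrank F X = 2 ∧ ∃ s ∈ X, s ≠ 0 ∧ Q s = 0)) :
    Cfsg.Geo.IsMaximalIn (Cfsg.Geo.omegaGL (⇑Q)) (Cfsg.Geo.subspaceStabilizer W ⊓ Cfsg.Geo.omegaGL (⇑Q)) := by
  obtain ⟨hc, hU⟩ := nondeg_perp Q hQ hW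
  have h := Submodule.finrank_add_eq_of_isCompl hc
  rw [Module.finrank_fintype_fun_eq_card] at h
  have hmap : ∀ (X : Submodule F (ι → F)) (g : Cfsg.isometryGroup F (⇑Q)),
      Module.finrank F (X.map (Matrix.toLin' (mat Q g))) = Module.finrank F X := fun X g =>
    LinearEquiv.finrank_map_eq (Matrix.toLinearEquiv' (mat Q g) (g : GL ι F).invertible) X
  by_cases hle : Module.finrank F W ≤ Module.finrank F ↥(HypQuad.perp Q W)
  · refine nondeg_maximal_core Q hQ hW hW0 (by omega) hle (fun g hg => ?_) (hex W (Or.inl rfl))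
    by_cases hd : 2 * Module.finrank F W = Fintype.card ι
    · exact hne hd g hg
    · have := hmap W g
      rw [hg] at this
      omega
  · rw [← stabilizer_perp Q hQ W]
    refine nondeg_maximal_core Q hQ hU (fun h0 => hW1 ?_) (by rw [perp_perp Q hQ]; omega)
      (by rw [perp_perp Q hQ]; omega) (fun g hg => ?_) (hex _ (Or.inr rfl))
    · apply Submodule.eq_top_of_finrank_eq
      rw [h0, finrank_bot, add_zero] at h
      rw [Module.finrank_fintype_fun_eq_card]; exact h
    · rw [perp_perp Q hQ] at hg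
      have := hmap (HypQuad.perp Q W) g
      rw [hg] at this
      omega

end Cfsg.Lib.Classical.Refl
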