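import Mathlib
import Cfsg.Agent.Classical.Orth.NondegMax

/-! An even-dimensional subspace isometric to its orthogonal complement makes the space hyperbolic. -/

set_option autoImplicit false
set_option linter.unusedSimpArgs false
set_option linter.style.haveILetI false

namespace Cfsg.Lib.Classical.Refl

open Matrix

universe u

variable {F : Type u} [Field F] [Finite F] {ι : Type} [Fintype ι] [DecidableEq ι] (Q : QuadraticForm F (ι → F))
  (hQ : (QuadraticMap.polarBilin Q).Nondegenerate)

include hQ in
theorem half_plus {W : Submodule F (ι → F)} (hW : Cfsg.Geo.IsNondegenerateOn (QuadraticMap.polar (⇑Q)) W)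
    {r : ℕ} (hr : Module.finrank F W = 2 * r) (hn : Fintype.card ι = 2 * (2 * r))
    (g : Cfsg.isometryGroup F (⇑Q)) (hg : W.map (Matrix.toLin' (mat Q g)) = HypQuad.perp Q W) :
    Cfsg.Geo.IsPlusTypeOn (⇑Q) ⊤ := by
  classical
  obtain ⟨hc, -⟩ := nondeg_perp Q hQ hW
  have hgW : ∀ w ∈ W, mat Q g *ᵥ w ∈ HypQuad.perp Q W := fun w hw => by
    rw [← hg]; exact Submodule.mem_map_of_mem (f := Matrix.toLin' (mat Q g)) hw
  have hperp : ∀ a ∈ W, ∀ b ∈ W, QuadraticMap.polar (⇑Q) a (mat Q g *ᵥ b) = 0 := fun a ha b hb =>
    (HypQuad.mem_perp Q).mp (hgW b hb) a ha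
  have hQg : ∀ x, Q (mat Q g *ᵥ x) = Q x := fun x => (mem_iff Q).mp g.2 x
  have hinj : ∀ a ∈ W, ∀ b ∈ W, a + mat Q g *ᵥ b = 0 → a = 0 ∧ b = 0 := by
    intro a ha b hb h
    have h1 : a = 0 := Submodule.disjoint_def.mp hc.disjoint a ha (by
      rw [eq_neg_of_add_eq_zero_left h]; exact neg_mem (hgW b hb))
    refine ⟨h1, ?_⟩
    rw [h1, zero_add] at h
    rw [← mulVec_inv_cancel Q g b, h, Matrix.mulVec_zero]
  by_cases h2 : (2 : F) = 0
  · refine ⟨W.map (LinearMap.id + Matrix.toLin' (mat Q g)), le_top, ?_, ?_⟩
    · rintro _ ⟨w, hw, rfl⟩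
      rw [LinearMap.add_apply, LinearMap.id_apply, Matrix.toLin'_apply, QuadraticMap.map_add (f := Q), hQg,
        hperp w hw w hw, add_zero, ← two_mul, h2, zero_mul]
    · let f : W →ₗ[F] (ι → F) := (LinearMap.id + Matrix.toLin' (mat Q g)).comp W.subtype
      have hf : Function.Injective f := by
        rw [← LinearMap.ker_eq_bot, LinearMap.ker_eq_bot']
        rintro ⟨w, hw⟩ h
        exact Subtype.ext (hinj w hw w hw h).1
      have e : LinearMap.range f = W.map (LinearMap.id + Matrix.toLin' (mat Q g)) := by
        rw [LinearMap.range_comp, Submodule.range_subtype]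
      rw [← e, LinearMap.finrank_range_of_inj hf, finrank_top, Module.finrank_fintype_fun_eq_card, hr, hn]
  · haveI : Invertible (2 : F) := invertibleOfNonzero h2
    let B : LinearMap.BilinForm F W := LinearMap.BilinForm.restrict (QuadraticMap.polarBilin Q) W
    have hS : B.IsSymm := ⟨fun x y => QuadraticMap.polar_comm _ _ _⟩
    obtain ⟨b₀, hb₀⟩ := LinearMap.BilinForm.exists_orthogonal_basis (LinearMap.BilinForm.isSymm_iff.mp hS)
    let b := b₀.reindex (finCongr hr)
    let e : Fin (2 * r) → (ι → F) := fun i => (b i : ι → F)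
    have heW : ∀ i, e i ∈ W := fun i => Subtype.mem _
    have horth : ∀ i j, i ≠ j → QuadraticMap.polar (⇑Q) (e i) (e j) = 0 := fun i j h => by
      have h' := hb₀ (i := (finCongr hr).symm i) (j := (finCongr hr).symm j) (fun e' => h ((finCongr hr).symm.injective e'))
      simp only [e, b, Module.Basis.coe_reindex, Function.comp_apply]
      exact h'
    have hne : ∀ i, Q (e i) ≠ 0 := by
      intro i h0
      have hb0 : e i ≠ 0 := fun h => b.ne_zero i (Subtype.ext h)
      obtain ⟨-, y, hy, hiy⟩ := hW (e i) (heW i) hb0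
      apply hiy
      have hsum : y = ∑ j, b.repr ⟨y, hy⟩ j • e j := by
        refine (congrArg Subtype.val (b.sum_repr ⟨y, hy⟩)).symm.trans ?_
        rw [Submodule.coe_sum]
        rfl
      rw [hsum, ← QuadraticMap.polarBilin_apply_apply, map_sum]
      refine Finset.sum_eq_zero fun j _ => ?_
      rw [map_smul, QuadraticMap.polarBilin_apply_apply]
      by_cases hij : i = j
      · subst hij; rw [polar_self_two, h0, mul_zero, smul_zero]
      · rw [horth i j hij, smul_zero]
    let o : Fin r → Fin (2 * r) := fun j => ⟨2 * j.1, by omega⟩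
    let o' : Fin r → Fin (2 * r) := fun j => ⟨2 * j.1 + 1, by omega⟩
    choose x y hxy using fun j : Fin r => binary_universal h2 (hne (o j)) (hne (o j)) (-Q (e (o' j)))
    let G : (ι → F) →ₗ[F] (ι → F) := Matrix.toLin' (mat Q g)
    let p : Fin r → (ι → F) := fun j => (e (o' j) + x j • e (o j)) + G (y j • e (o j))
    let q : Fin r → (ι → F) := fun j => ((-y j) • e (o j)) + G (e (o' j) + x j • e (o j))
    let v : Fin r ⊕ Fin r → (ι → F) := Sum.elim p q
    have hoo : ∀ i j, o i ≠ o' j := fun i j h => by simp [o, o', Fin.ext_iff] at h; omega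
    have hoi : ∀ i j, i ≠ j → o i ≠ o j := fun i j h h' => h (Fin.ext (by simp [o, Fin.ext_iff] at h'; omega))
    have hoi' : ∀ i j, i ≠ j → o' i ≠ o' j := fun i j h h' => h (Fin.ext (by simp [o', Fin.ext_iff] at h'; omega))
    have hPG : ∀ a c, QuadraticMap.polar (⇑Q) (G a) (G c) = QuadraticMap.polar (⇑Q) a c := fun a c => by
      simp only [G, Matrix.toLin'_apply]; exact polar_act Q g a c
    have hPeG : ∀ i j, QuadraticMap.polar (⇑Q) (e i) (G (e j)) = 0 := fun i j => by
      simp only [G, Matrix.toLin'_apply]; exact hperp _ (heW i) _ (heW j)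
    have hPGe : ∀ i j, QuadraticMap.polar (⇑Q) (G (e i)) (e j) = 0 := fun i j => by
      rw [QuadraticMap.polar_comm]; exact hPeG j i
    have hpair : ∀ s t, QuadraticMap.polar (⇑Q) (v s) (v t) = 0 := by
      have hz : ∀ j, x j * x j * Q (e (o j)) + y j * y j * Q (e (o j)) = -Q (e (o' j)) := hxy
      rintro (i | i) (j | j) <;> rcases eq_or_ne i j with rfl | hij <;>
        simp only [v, Sum.elim_inl, Sum.elim_inr, p, q, map_add, map_smul, QuadraticMap.polar_add_left,
          QuadraticMap.polar_add_right, QuadraticMap.polar_smul_left, QuadraticMap.polar_smul_right, hPG, hPeG, hPGe,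
          polar_self_two, smul_eq_mul, mul_zero, add_zero, zero_add]
      · rw [horth _ _ (hoo i i), horth _ _ (hoo i i).symm]; linear_combination 2 * hz i
      · rw [horth _ _ (hoi i j hij), horth _ _ (hoi' i j hij), horth _ _ (hoo i j), horth _ _ (hoo j i).symm]; ring
      · rw [horth _ _ (hoo i i), horth _ _ (hoo i i).symm]; ring
      · rw [horth _ _ (hoi i j hij), horth _ _ (hoo i j), horth _ _ (hoo j i).symm]; ring
      · rw [horth _ _ (hoo i i), horth _ _ (hoo i i).symm]; ring
      · rw [horth _ _ (hoi i j hij), horth _ _ (hoo i j), horth _ _ (hoo j i).symm]; ring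
      · rw [horth _ _ (hoo i i), horth _ _ (hoo i i).symm]; linear_combination 2 * hz i
      · rw [horth _ _ (hoi i j hij), horth _ _ (hoi' i j hij), horth _ _ (hoo i j), horth _ _ (hoo j i).symm]; ring
    have hdot : ∀ (a : Fin r ⊕ Fin r → F) (z : ι → F),
        QuadraticMap.polar (⇑Q) z (∑ s, a s • v s) = ∑ s, a s * QuadraticMap.polar (⇑Q) z (v s) := by
      intro a i
      rw [← QuadraticMap.polarBilin_apply_apply, map_sum]
      simp [QuadraticMap.polar_smul_right]
    have hli : LinearIndependent F v := by
      rw [Fintype.linearIndependent_iff]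
      intro a ha
      have h1 : ∀ j, a (Sum.inl j) = 0 := fun j => by
        have h := hdot a (e (o' j))
        rw [ha, QuadraticMap.polar_zero_right, Fintype.sum_sum_type] at h
        simp only [v, Sum.elim_inl, Sum.elim_inr, p, q, map_add, map_smul, QuadraticMap.polar_add_right,
          QuadraticMap.polar_smul_right, hPeG, smul_eq_mul, mul_zero, add_zero] at h
        rw [Finset.sum_eq_zero (f := fun i => a (Sum.inr i) * _) (fun i _ => by
          rw [horth _ _ (hoo i j).symm, mul_zero, mul_zero])] at h
        rw [Finset.sum_eq_single j (fun i _ hij => by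
          rw [horth _ _ (hoi' j i (Ne.symm hij)), horth _ _ (hoo i j).symm]; ring) (by simp), horth _ _ (hoo j j).symm,
          polar_self_two] at h
        have h' : a (Sum.inl j) * (2 * Q (e (o' j))) = 0 := by linear_combination -h
        exact (mul_eq_zero.mp h').resolve_right (mul_ne_zero h2 (hne _))
      rintro (j | j)
      · exact h1 j
      · have h := hdot a (G (e (o' j)))
        rw [ha, QuadraticMap.polar_zero_right, Fintype.sum_sum_type] at h
        simp only [v, Sum.elim_inl, Sum.elim_inr, p, q, map_add, map_smul, QuadraticMap.polar_add_right,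
          QuadraticMap.polar_smul_right, hPGe, hPG, smul_eq_mul, mul_zero, zero_add, h1, zero_mul,
          Finset.sum_const_zero] at h
        rw [Finset.sum_eq_single j (fun i _ hij => by
          rw [horth _ _ (hoi' j i (Ne.symm hij)), horth _ _ (hoo i j).symm]; ring) (by simp), horth _ _ (hoo j j).symm,
          polar_self_two] at h
        have h' : a (Sum.inr j) * (2 * Q (e (o' j))) = 0 := by linear_combination -h
        exact (mul_eq_zero.mp h').resolve_right (mul_ne_zero h2 (hne _))
    refine ⟨Submodule.span F (Set.range v), le_top, fun z hz => ?_, ?_⟩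
    · obtain ⟨a, rfl⟩ := (Submodule.mem_span_range_iff_exists_fun F).mp hz
      have h0 : QuadraticMap.polar (⇑Q) (∑ s, a s • v s) (∑ s, a s • v s) = 0 := by
        rw [← QuadraticMap.polarBilin_apply_apply, map_sum]
        simp only [LinearMap.coe_sum, Finset.sum_apply, map_sum, map_smul, LinearMap.smul_apply,
          QuadraticMap.polarBilin_apply_apply, hpair, smul_zero, Finset.sum_const_zero]
      rw [polar_self_two] at h0
      exact (mul_eq_zero.mp h0).resolve_left h2
    · rw [finrank_span_eq_card hli, Fintype.card_sum, Fintype.card_fin, finrank_top,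
        Module.finrank_fintype_fun_eq_card, hn]
      ring

end Cfsg.Lib.Classical.Refl
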