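import Mathlib

set_option autoImplicit false
set_option linter.unusedVariables false
set_option linter.unusedSimpArgs false
set_option linter.style.haveILetI false

/-! Symmetric bilinear forms over finite fields of odd characteristic: singular vectors and pairs. -/

namespace Cfsg.Lib.Classical

universe u v

variable {F : Type u} [Field F] {V : Type v} [AddCommGroup V] [Module F V]

/-- A nondegenerate symmetric bilinear form, in characteristic different from two. -/
structure SymSpace (B : LinearMap.BilinForm F V) : Prop where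
  symm : ∀ u v, B u v = B v u
  nondeg : ∀ u, (∀ v, B u v = 0) → u = 0
  two : (2 : F) ≠ 0

namespace SymSpace

variable {B : LinearMap.BilinForm F V} (S : SymSpace B)

include S

theorem isRefl : B.IsRefl := fun u v h => by rw [S.symm]; exact h

theorem nondegenerate : B.Nondegenerate :=
  (LinearMap.IsRefl.nondegenerate_iff_separatingLeft S.isRefl).mpr S.nondeg

theorem exists_nonorth {v : V} (hv : v ≠ 0) : ∃ w, B w v ≠ 0 := by
  by_contra hc
  push Not at hc
  exact hv (S.nondeg v fun w => by rw [S.symm, hc])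

theorem exists_one {v : V} (hv : v ≠ 0) : ∃ w, B w v = 1 := by
  obtain ⟨w, hw⟩ := S.exists_nonorth hv
  exact ⟨(B w v)⁻¹ • w, by rw [map_smul, LinearMap.smul_apply, smul_eq_mul, inv_mul_cancel₀ hw]⟩

theorem exists_rep [FiniteDimensional F V] (φ : Module.Dual F V) : ∃ e, ∀ z, B z e = φ z :=
  ⟨(LinearMap.BilinForm.toDual B S.nondegenerate).symm φ, fun z => by
    rw [S.symm]; exact LinearMap.BilinForm.apply_toDual_symm_apply φ z⟩

theorem pair_ne_zero {v w : V} (h : B v w = 1) : v ≠ 0 ∧ w ≠ 0 :=
  ⟨fun e => by rw [e, map_zero, LinearMap.zero_apply] at h; exact zero_ne_one h,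
    fun e => by rw [e, map_zero] at h; exact zero_ne_one h⟩

/-- A singular vector in every three-dimensional subspace. -/
theorem exists_singular_mem [Finite F] [FiniteDimensional F V] (W : Submodule F V)
    (hW : 3 ≤ Module.finrank F W) : ∃ v ∈ W, v ≠ 0 ∧ B v v = 0 := by
  have cut : ∀ (W' : Submodule F V) (a : V), Module.finrank F W' ≤
      Module.finrank F (W' ⊓ LinearMap.ker (B a) : Submodule F V) + 1 := by
    intro W' a
    have h := LinearMap.finrank_range_add_finrank_ker ((B a).comp W'.subtype)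
    have h1 := Submodule.finrank_le (LinearMap.range ((B a).comp W'.subtype))
    rw [Module.finrank_self] at h1
    have h2 : (LinearMap.ker ((B a).comp W'.subtype)).map W'.subtype = W' ⊓ LinearMap.ker (B a) := by
      rw [LinearMap.ker_comp, Submodule.map_comap_subtype]
    rw [← h2, Submodule.finrank_map_subtype_eq]
    omega
  have get : ∀ W' : Submodule F V, 1 ≤ Module.finrank F W' → ∃ a ∈ W', a ≠ 0 := fun W' h =>
    Submodule.exists_mem_ne_zero_of_ne_bot (Submodule.one_le_finrank_iff.mp h)
  by_contra hc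
  push Not at hc
  obtain ⟨a, ha, ha0⟩ := get W (by omega)
  set W₁ := W ⊓ LinearMap.ker (B a)
  have hW₁ : Module.finrank F W ≤ Module.finrank F W₁ + 1 := cut W a
  obtain ⟨b, hb, hb0⟩ := get W₁ (by omega)
  set W₂ := W₁ ⊓ LinearMap.ker (B b)
  have hW₂ : Module.finrank F W₁ ≤ Module.finrank F W₂ + 1 := cut W₁ b
  obtain ⟨c, hc', hc0⟩ := get W₂ (by omega)
  have hab : B a b = 0 := hb.2
  have hac : B a c = 0 := hc'.1.2
  have hbc : B b c = 0 := hc'.2
  have hA := hc a ha ha0
  have hB := hc b hb.1 hb0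
  have hC := hc c hc'.1.1 hc0
  haveI : Fintype F := Fintype.ofFinite _
  classical
  have hodd : Fintype.card F % 2 = 1 := by
    refine FiniteField.odd_card_of_char_ne_two (fun h => ?_)
    haveI : CharP F 2 := h ▸ ringChar.charP F
    exact S.two (CharTwo.two_eq_zero)
  obtain ⟨p, q, hpq⟩ := FiniteField.exists_root_sum_quadratic
    (f := Polynomial.C (B a a) * Polynomial.X ^ 2)
    (g := Polynomial.C (B b b) * Polynomial.X ^ 2 + Polynomial.C (B c c))
    (Polynomial.degree_C_mul_X_pow 2 hA)
    (by rw [Polynomial.degree_add_C (by rw [Polynomial.degree_C_mul_X_pow 2 hB]; decide),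
      Polynomial.degree_C_mul_X_pow 2 hB]; rfl) hodd
  simp only [Polynomial.eval_mul, Polynomial.eval_add, Polynomial.eval_C, Polynomial.eval_pow,
    Polynomial.eval_X] at hpq
  refine hc (p • a + q • b + c) (W.add_mem (W.add_mem (W.smul_mem _ ha) (W.smul_mem _ hb.1)) hc'.1.1) (fun h => ?_) ?_
  · have h1 := congrArg (B c) h
    simp only [map_add, map_smul, map_zero, S.symm c a, S.symm c b, hac, hbc, smul_zero, zero_add] at h1
    exact hC h1
  · simp only [map_add, map_smul, LinearMap.add_apply, LinearMap.smul_apply, smul_eq_mul, hab, hac, hbc,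
      S.symm c a, S.symm c b, S.symm b a]
    linear_combination hpq

theorem exists_singular_partner {v w₁ : V} (hv : B v v = 0) (h : B v w₁ = 1) :
    B (w₁ - (B w₁ w₁ / 2) • v) (w₁ - (B w₁ w₁ / 2) • v) = 0 ∧ B v (w₁ - (B w₁ w₁ / 2) • v) = 1 := by
  have h2 := S.two
  have h' : B w₁ v = 1 := by rw [S.symm, h]
  constructor
  · rw [map_sub, map_sub, LinearMap.sub_apply, LinearMap.sub_apply, map_smul, map_smul, LinearMap.smul_apply,
      LinearMap.smul_apply, h, h', map_smul, hv]
    simp only [smul_eq_mul, mul_zero, sub_zero, mul_one]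
    field_simp
    ring
  · rw [map_sub, map_smul, hv, smul_zero, sub_zero, h]

theorem exists_partner {v : V} (hv0 : v ≠ 0) (hv : B v v = 0) : ∃ u, B u u = 0 ∧ B v u = 1 := by
  obtain ⟨w, hw⟩ := S.exists_one hv0
  exact ⟨_, S.exists_singular_partner hv (w₁ := w) (by rw [S.symm, hw])⟩

/-- A hyperbolic pair orthogonal to given vectors. -/
theorem exists_pair [Finite F] [FiniteDimensional F V] {k : ℕ} (f : Fin k → V)
    (hk : 2 * k + 3 ≤ Module.finrank F V) :
    ∃ v w, (∀ i, B v (f i) = 0) ∧ (∀ i, B w (f i) = 0) ∧ B v v = 0 ∧ B w w = 0 ∧ B v w = 1 := by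
  set U := Submodule.span F (Set.range f)
  set W := LinearMap.BilinForm.orthogonal B U
  set R := W ⊓ LinearMap.BilinForm.orthogonal B W
  have hU : Module.finrank F U ≤ k := (finrank_range_le_card f).trans_eq (Fintype.card_fin k)
  have hoo : LinearMap.BilinForm.orthogonal B W = U :=
    LinearMap.BilinForm.orthogonal_orthogonal S.nondegenerate S.isRefl U
  obtain ⟨C, hC⟩ := Submodule.exists_isCompl R
  have hd : 3 ≤ Module.finrank F (W ⊓ C : Submodule F V) := by
    have h1 := Submodule.finrank_sup_add_finrank_inf_eq W C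
    have h2 := Submodule.finrank_le (W ⊔ C)
    have h3 := Submodule.finrank_add_eq_of_isCompl hC
    have h4 : Module.finrank F R ≤ Module.finrank F U :=
      Submodule.finrank_mono (hoo ▸ inf_le_right : R ≤ U)
    have h5 : Module.finrank F V - Module.finrank F U = Module.finrank F W :=
      (LinearMap.BilinForm.finrank_orthogonal S.nondegenerate U).symm
    omega
  obtain ⟨v, ⟨hvW, hvC⟩, hv0, hvv⟩ := S.exists_singular_mem _ hd
  have hvR : v ∉ R := fun h => hv0 ((Submodule.disjoint_def.mp hC.disjoint) v h hvC)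
  obtain ⟨w, hw, hwv⟩ : ∃ w ∈ W, B v w ≠ 0 := by
    by_contra hc
    push Not at hc
    exact hvR ⟨hvW, fun w hw => S.isRefl _ _ (hc w hw)⟩
  have hWf : ∀ x ∈ W, ∀ i, B x (f i) = 0 := fun x hx i =>
    S.isRefl _ _ (hx (f i) (Submodule.subset_span ⟨i, rfl⟩))
  obtain ⟨w₁, hw₁W, hw₁⟩ : ∃ w₁ ∈ W, B v w₁ = 1 :=
    ⟨(B v w)⁻¹ • w, W.smul_mem _ hw, by rw [map_smul, smul_eq_mul, inv_mul_cancel₀ hwv]⟩
  exact ⟨v, _, hWf v hvW, hWf _ (W.sub_mem hw₁W (W.smul_mem _ hvW)), hvv, S.exists_singular_partner hvv hw₁⟩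

/-- Two vectors seeing each other orthogonal to few given vectors. -/
theorem exists_nonorth_pair [FiniteDimensional F V] {k : ℕ} (f : Fin k → V)
    (hk : 2 * k < Module.finrank F V) :
    ∃ v w, (∀ i, B v (f i) = 0) ∧ (∀ i, B w (f i) = 0) ∧ B v w = 1 := by
  set U := Submodule.span F (Set.range f)
  set W := LinearMap.BilinForm.orthogonal B U
  have hU : Module.finrank F U ≤ k := (finrank_range_le_card f).trans_eq (Fintype.card_fin k)
  have h5 : Module.finrank F V - Module.finrank F U = Module.finrank F W :=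
    (LinearMap.BilinForm.finrank_orthogonal S.nondegenerate U).symm
  obtain ⟨v, hv, w, hw, hvw⟩ : ∃ v ∈ W, ∃ w ∈ W, B v w ≠ 0 := by
    by_contra hc
    push Not at hc
    have hle : W ≤ LinearMap.BilinForm.orthogonal B W := fun w hw v hv => hc v hv w hw
    rw [LinearMap.BilinForm.orthogonal_orthogonal S.nondegenerate S.isRefl U] at hle
    have := Submodule.finrank_mono hle
    omega
  have hWf : ∀ x ∈ W, ∀ i, B x (f i) = 0 := fun x hx i =>
    S.isRefl _ _ (hx (f i) (Submodule.subset_span ⟨i, rfl⟩))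
  exact ⟨v, (B v w)⁻¹ • w, hWf v hv, hWf _ (W.smul_mem _ hw),
    by rw [map_smul, smul_eq_mul, inv_mul_cancel₀ hvw]⟩

/-- A hyperbolic pair orthogonal to given vectors, two of which span a non-degenerate plane. -/
theorem exists_pair_of_plane [Finite F] [FiniteDimensional F V] {k : ℕ} (f : Fin k → V) (i j : Fin k)
    (hii : B (f i) (f i) = 0) (hij : B (f i) (f j) ≠ 0) (hk : 2 * k + 1 ≤ Module.finrank F V) :
    ∃ v w, (∀ i, B v (f i) = 0) ∧ (∀ i, B w (f i) = 0) ∧ B v v = 0 ∧ B w w = 0 ∧ B v w = 1 := by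
  set U := Submodule.span F (Set.range f)
  set W := LinearMap.BilinForm.orthogonal B U
  set R := W ⊓ LinearMap.BilinForm.orthogonal B W
  have hU : Module.finrank F U ≤ k := (finrank_range_le_card f).trans_eq (Fintype.card_fin k)
  have hoo : LinearMap.BilinForm.orthogonal B W = U :=
    LinearMap.BilinForm.orthogonal_orthogonal S.nondegenerate S.isRefl U
  have hWf : ∀ x ∈ W, ∀ i, B x (f i) = 0 := fun x hx i =>
    S.isRefl _ _ (hx (f i) (Submodule.subset_span ⟨i, rfl⟩))
  have hzero : ∀ s t : F, s • f i + t • f j ∈ R → s = 0 ∧ t = 0 := by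
    intro s t h
    have a1 := hWf _ h.1 i
    have a2 := hWf _ h.1 j
    simp only [map_add, map_smul, LinearMap.add_apply, LinearMap.smul_apply, smul_eq_mul, hii, mul_zero,
      zero_add] at a1 a2
    have ht : t = 0 := (mul_eq_zero.mp a1).resolve_right (by rwa [S.symm])
    rw [ht, zero_mul, add_zero] at a2
    exact ⟨(mul_eq_zero.mp a2).resolve_right hij, ht⟩
  have h4 : Module.finrank F R + 2 ≤ Module.finrank F U := by
    set P := Submodule.span F (Set.range ![f i, f j])
    have hP : Module.finrank F P = 2 := by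
      rw [finrank_span_eq_card (LinearIndependent.pair_iff.mpr fun s t h => hzero s t (h ▸ R.zero_mem))]
      rfl
    have hPU : P ≤ U := Submodule.span_le.mpr fun x hx => by
      simp only [Matrix.range_cons, Matrix.range_empty, Set.union_empty, Set.mem_union, Set.mem_singleton_iff] at hx
      rcases hx with rfl | rfl <;> exact Submodule.subset_span ⟨_, rfl⟩
    have hbot : R ⊓ P = ⊥ := (Submodule.eq_bot_iff _).mpr fun x hx => by
      obtain ⟨hxR, hxP⟩ := hx
      rw [SetLike.mem_coe, show P = Submodule.span F {f i, f j} by simp only [P, Matrix.range_cons, Matrix.range_empty, Set.union_empty, Set.singleton_union]] at hxP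
      obtain ⟨s, t, rfl⟩ := Submodule.mem_span_pair.mp hxP
      obtain ⟨rfl, rfl⟩ := hzero s t hxR
      simp
    have h := Submodule.finrank_sup_add_finrank_inf_eq R P
    have := Submodule.finrank_mono (sup_le (hoo ▸ inf_le_right : R ≤ U) hPU)
    rw [hbot, finrank_bot, hP] at h
    omega
  obtain ⟨C, hC⟩ := Submodule.exists_isCompl R
  have hd : 3 ≤ Module.finrank F (W ⊓ C : Submodule F V) := by
    have h1 := Submodule.finrank_sup_add_finrank_inf_eq W C
    have h2 := Submodule.finrank_le (W ⊔ C)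
    have h3 := Submodule.finrank_add_eq_of_isCompl hC
    have h5 : Module.finrank F V - Module.finrank F U = Module.finrank F W :=
      (LinearMap.BilinForm.finrank_orthogonal S.nondegenerate U).symm
    omega
  obtain ⟨v, ⟨hvW, hvC⟩, hv0, hvv⟩ := S.exists_singular_mem _ hd
  have hvR : v ∉ R := fun h => hv0 ((Submodule.disjoint_def.mp hC.disjoint) v h hvC)
  obtain ⟨w, hw, hwv⟩ : ∃ w ∈ W, B v w ≠ 0 := by
    by_contra hc
    push Not at hc
    exact hvR ⟨hvW, fun w hw => S.isRefl _ _ (hc w hw)⟩
  obtain ⟨w₁, hw₁W, hw₁⟩ : ∃ w₁ ∈ W, B v w₁ = 1 :=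
    ⟨(B v w)⁻¹ • w, W.smul_mem _ hw, by rw [map_smul, smul_eq_mul, inv_mul_cancel₀ hwv]⟩
  exact ⟨v, _, hWf v hvW, hWf _ (W.sub_mem hw₁W (W.smul_mem _ hvW)), hvv, S.exists_singular_partner hvv hw₁⟩

/-- A subspace cut out by two vectors, containing with each singular vector off `a^⊥` all of it, is all of it. -/
theorem mem_of_singular_off {z a b : V} (haa : B a a = 0) (hbb : B b b = 0) (hab : B a b = 1) {A : Submodule F V}
    (ha : a ∈ A) (hb : b ∈ A)
    (h : ∀ x, B x x = 0 → B x a ≠ 0 → x - (z - B z b • a - B z a • b) ∈ Submodule.span F ({a, b} : Set V) → x ∈ A) :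
    z ∈ A := by
  have h2 := S.two
  set z' := z - B z b • a - B z a • b with hz'
  have hba : B b a = 1 := by rw [S.symm, hab]
  have hz'a : B z' a = 0 := by simp [hz', haa, hba]
  have hz'b : B z' b = 0 := by simp [hz', hbb, hab]
  set l := -(B z' z' / 2)
  have hy : B (z' + b + l • a) (z' + b + l • a) = 0 := by
    simp only [map_add, map_smul, LinearMap.add_apply, LinearMap.smul_apply, smul_eq_mul, haa, hbb, hab, hba,
      hz'a, hz'b, S.symm a z', S.symm b z', l]
    field_simp
    ring
  have h1 := h _ hy (by simp [hz'a, hba, haa]) (by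
    rw [show z' + b + l • a - z' = l • a + (1 : F) • b by module]
    exact Submodule.add_mem _ (Submodule.smul_mem _ _ (Submodule.subset_span (by simp)))
      (Submodule.smul_mem _ _ (Submodule.subset_span (by simp))))
  rw [show z = (z' + b + l • a) + (B z b - l) • a + (B z a - 1) • b by rw [hz']; module]
  exact A.add_mem (A.add_mem h1 (A.smul_mem _ ha)) (A.smul_mem _ hb)

/-- Singular vectors orthogonal to a few vectors span their common orthogonal. -/
theorem mem_span_singular [Finite F] [FiniteDimensional F V] {k : ℕ} (f : Fin k → V)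
    (hk : 2 * k + 3 ≤ Module.finrank F V) {z : V} (hz : ∀ i, B z (f i) = 0) :
    z ∈ Submodule.span F {y : V | B y y = 0 ∧ ∀ i, B y (f i) = 0} := by
  obtain ⟨a, b, ha, hb, haa, hbb, hab⟩ := S.exists_pair f hk
  refine S.mem_of_singular_off haa hbb hab (Submodule.subset_span ⟨haa, ha⟩) (Submodule.subset_span ⟨hbb, hb⟩)
    fun x hx _ hsp => Submodule.subset_span ⟨hx, fun i => ?_⟩
  obtain ⟨s, t, hst⟩ := Submodule.mem_span_pair.mp hsp
  rw [← sub_add_cancel x (z - B z b • a - B z a • b), ← hst]
  simp [hz i, ha i, hb i]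

end SymSpace

end Cfsg.Lib.Classical
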