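import Mathlib
import Cfsg.Agent.Classical.Orth.Basic
import Cfsg.Agent.Classical.Symp.Decomp

/-! Plus and minus type of tensor products of forms, through the discriminant. -/

set_option autoImplicit false
set_option linter.unusedSimpArgs false
set_option linter.unusedSectionVars false
set_option linter.style.haveILetI false

namespace Cfsg.Lib.Classical.TensorType

open Matrix TensorProduct Kronecker

universe u v w

variable {F : Type u} [Field F]

/-- The Gram matrix of a form in a basis. -/
noncomputable def gram {V : Type v} [AddCommGroup V] [Module F V] {κ : Type*} [Fintype κ] [DecidableEq κ]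
    (B : LinearMap.BilinForm F V) (b : Module.Basis κ F V) : Matrix κ κ F := fun i j => B (b i) (b j)

theorem gram_eq_toMatrix {V : Type v} [AddCommGroup V] [Module F V] {κ : Type*} [Fintype κ] [DecidableEq κ]
    (B : LinearMap.BilinForm F V) (b : Module.Basis κ F V) : gram B b = LinearMap.BilinForm.toMatrix b B := by
  ext i j
  rw [LinearMap.BilinForm.toMatrix_apply, gram]

theorem gram_change {V : Type v} [AddCommGroup V] [Module F V] {κ κ' : Type*} [Fintype κ] [DecidableEq κ]
    [Fintype κ'] [DecidableEq κ'] (B : LinearMap.BilinForm F V) (b : Module.Basis κ F V) (b' : Module.Basis κ' F V) :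
    ∃ d : F, d ≠ 0 ∧ (gram B b').det = d ^ 2 * (gram B b).det := by
  let eκ := b.indexEquiv b'
  let e' := b.reindex eκ
  have h3 := congrArg Matrix.det (LinearMap.BilinForm.toMatrix_mul_basis_toMatrix e' (B := B) b')
  rw [Matrix.det_mul, Matrix.det_mul, Matrix.det_transpose] at h3
  set d := (e'.toMatrix ⇑b').det
  have hd : d ≠ 0 := by
    have := congrArg Matrix.det (Module.Basis.toMatrix_mul_toMatrix_flip e' b')
    rw [Matrix.det_mul, Matrix.det_one] at this
    exact left_ne_zero_of_mul (this ▸ one_ne_zero)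
  have h0 : (LinearMap.BilinForm.toMatrix e' B).det = (gram B b).det := by
    rw [← Matrix.det_submatrix_equiv_self eκ]
    congr 1
    ext i j
    simp [e', gram, LinearMap.BilinForm.toMatrix_apply]
  refine ⟨d, hd, ?_⟩
  rw [gram_eq_toMatrix B b', ← h3, h0]
  ring

theorem square_change {V : Type v} [AddCommGroup V] [Module F V] {κ κ' : Type*} [Fintype κ] [DecidableEq κ]
    [Fintype κ'] [DecidableEq κ'] (B : LinearMap.BilinForm F V) (b : Module.Basis κ F V) (b' : Module.Basis κ' F V)
    (s : F) (h : IsSquare (s * (gram B b).det)) : IsSquare (s * (gram B b').det) := by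
  obtain ⟨d, -, hd⟩ := gram_change B b b'
  obtain ⟨r, hr⟩ := h
  exact ⟨d * r, by rw [hd]; linear_combination d ^ 2 * hr⟩

theorem gram_tensor {U : Type v} {W : Type w} [AddCommGroup U] [Module F U] [AddCommGroup W] [Module F W]
    {κ μ : Type*} [Fintype κ] [DecidableEq κ] [Fintype μ] [DecidableEq μ] (B₁ : LinearMap.BilinForm F U)
    (B₂ : LinearMap.BilinForm F W) (b : Module.Basis κ F U) (c : Module.Basis μ F W) :
    gram (B₁.tmul B₂) (b.tensorProduct c) = gram B₁ b ⊗ₖ gram B₂ c := by
  ext ⟨i, j⟩ ⟨i', j'⟩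
  simp [gram, Matrix.kroneckerMap_apply, Module.Basis.tensorProduct_apply, mul_comm]

theorem det_ne_zero {V : Type v} [AddCommGroup V] [Module F V] {κ : Type*} [Fintype κ] [DecidableEq κ]
    {B : LinearMap.BilinForm F V} (hB : B.Nondegenerate) (b : Module.Basis κ F V) : (gram B b).det ≠ 0 := by
  rw [gram_eq_toMatrix]
  exact (LinearMap.BilinForm.nondegenerate_iff_det_ne_zero b).mp hB

theorem tensor_nondegenerate {U : Type v} {W : Type w} [AddCommGroup U] [Module F U] [FiniteDimensional F U]
    [AddCommGroup W] [Module F W] [FiniteDimensional F W] {B₁ : LinearMap.BilinForm F U}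
    {B₂ : LinearMap.BilinForm F W} (h₁ : B₁.Nondegenerate) (h₂ : B₂.Nondegenerate) :
    (B₁.tmul B₂).Nondegenerate := by
  classical
  set b := Module.finBasis F U
  set c := Module.finBasis F W
  refine (LinearMap.BilinForm.nondegenerate_iff_det_ne_zero (b.tensorProduct c)).mpr ?_
  rw [← gram_eq_toMatrix, gram_tensor, Matrix.det_kronecker]
  exact mul_ne_zero (pow_ne_zero _ (det_ne_zero h₁ b)) (pow_ne_zero _ (det_ne_zero h₂ c))

theorem tensor_symm {U : Type v} {W : Type w} [AddCommGroup U] [Module F U] [FiniteDimensional F U]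
    [AddCommGroup W] [Module F W] [FiniteDimensional F W] {B₁ : LinearMap.BilinForm F U}
    {B₂ : LinearMap.BilinForm F W} (ε : F) (hε : ε * ε = 1) (h₁ : ∀ x y, B₁ x y = ε * B₁ y x)
    (h₂ : ∀ x y, B₂ x y = ε * B₂ y x) (x y : U ⊗[F] W) : (B₁.tmul B₂) x y = (B₁.tmul B₂) y x := by
  let bb := (Module.finBasis F U).tensorProduct (Module.finBasis F W)
  have he : (B₁.tmul B₂) = LinearMap.flip (B₁.tmul B₂) := LinearMap.BilinForm.ext_basis bb fun i j => by
    simp only [bb, Module.Basis.tensorProduct_apply', LinearMap.flip_apply, LinearMap.BilinForm.tensorDistrib_tmul,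
      smul_eq_mul]
    rw [h₁, h₂]
    linear_combination (B₁ (Module.finBasis F U j.1) (Module.finBasis F U i.1) *
      B₂ (Module.finBasis F W j.2) (Module.finBasis F W i.2)) * hε
  exact LinearMap.congr_fun₂ he x y

/-- A totally isotropic subspace of half the dimension fixes the discriminant. -/
theorem square_of_half {V : Type v} [AddCommGroup V] [Module F V] [FiniteDimensional F V]
    {B : LinearMap.BilinForm F V} (hS : ∀ x y, B x y = B y x) {k : ℕ} (hd : Module.finrank F V = 2 * k)
    {X : Submodule F V} (hX : Module.finrank F X = k) (hiso : ∀ x ∈ X, ∀ y ∈ X, B x y = 0) {κ : Type*} [Fintype κ]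
    [DecidableEq κ] (b : Module.Basis κ F V) : IsSquare ((-1) ^ k * (gram B b).det) := by
  classical
  obtain ⟨C, hC⟩ := X.exists_isCompl
  have hCd : Module.finrank F C = k := by
    have := Submodule.finrank_add_eq_of_isCompl hC
    omega
  let bX := Module.finBasisOfFinrankEq F X hX
  let bC := Module.finBasisOfFinrankEq F C hCd
  let b' := (bX.prod bC).map (Submodule.prodEquivOfIsCompl X C hC)
  refine square_change B b' b _ ?_
  let A : Matrix (Fin k) (Fin k) F := Matrix.of fun i j => B (bX i : V) (bC j : V)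
  let D : Matrix (Fin k) (Fin k) F := Matrix.of fun i j => B (bC i : V) (bC j : V)
  have hG : gram B b' = Matrix.fromBlocks 0 A Aᵀ D := by
    ext i j
    rcases i with i | i <;> rcases j with j | j <;>
      simp [gram, b', A, D, Module.Basis.prod_apply, Submodule.coe_prodEquivOfIsCompl]
    · exact hiso _ (bX i).2 _ (bX j).2
    · exact hS _ _
  let M : Matrix (Fin k ⊕ Fin k) (Fin k ⊕ Fin k) F := Matrix.fromBlocks 0 1 (-1) 0
  have hM : M.det = 1 := by
    have he : M = Matrix.fromBlocks 1 1 0 1 * Matrix.fromBlocks 1 0 (-1) 1 * Matrix.fromBlocks 1 1 0 1 := by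
      simp [M, Matrix.fromBlocks_multiply]
    rw [he, Matrix.det_mul, Matrix.det_mul, Matrix.det_fromBlocks_zero₂₁, Matrix.det_fromBlocks_zero₁₂,
      Matrix.det_one, mul_one, mul_one, mul_one]
  have h1 : Matrix.fromBlocks 0 A Aᵀ D * M = Matrix.fromBlocks (-A) 0 (-D) Aᵀ := by
    simp [M, Matrix.fromBlocks_multiply]
  have h2 := congrArg Matrix.det h1
  rw [Matrix.det_mul, hM, mul_one, Matrix.det_fromBlocks_zero₁₂, Matrix.det_neg, Matrix.det_transpose,
    Fintype.card_fin] at h2
  refine ⟨A.det, ?_⟩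
  rw [hG, h2, ← mul_assoc, ← mul_assoc, ← mul_pow, neg_one_mul, neg_neg, one_pow, one_mul]

/-- The discriminant criterion for plus type. -/
theorem half_of_square [Finite F] : ∀ (k : ℕ) {V : Type v} [AddCommGroup V] [Module F V] [FiniteDimensional F V]
    {B : LinearMap.BilinForm F V}, SymSpace B → Module.finrank F V = 2 * k →
    ∀ {κ : Type v} [Fintype κ] [DecidableEq κ] (b : Module.Basis κ F V),
    IsSquare ((-1) ^ k * (gram B b).det) →
    ∃ X : Submodule F V, Module.finrank F X = k ∧ ∀ x ∈ X, ∀ y ∈ X, B x y = 0 := by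
  intro k
  induction k with
  | zero =>
    intro V _ _ _ B _ _ κ _ _ b _
    exact ⟨⊥, finrank_bot F V, fun x hx y _ => by
      rw [(Submodule.mem_bot F).mp hx, map_zero, LinearMap.zero_apply]⟩
  | succ k ih =>
    intro V _ _ _ B S hd κ _ _ b hb
    classical
    haveI : Invertible (2 : F) := invertibleOfNonzero S.two
    obtain ⟨v, hv0, hv⟩ : ∃ v, v ≠ 0 ∧ B v v = 0 := by
      rcases Nat.eq_zero_or_pos k with rfl | hk
      · obtain ⟨e, he⟩ := LinearMap.BilinForm.exists_orthogonal_basis (B := B) ⟨fun x y => S.symm x y⟩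
        let e₂ : Module.Basis (Fin 2) F V := e.reindex (finCongr (by omega))
        have hoff : ∀ i j, i ≠ j → B (e₂ i) (e₂ j) = 0 := fun i j h => by
          simp only [e₂, Module.Basis.reindex_apply]
          exact he (fun h' => h ((finCongr _).symm.injective h'))
        obtain ⟨r, hr⟩ := square_change B b e₂ _ hb
        have hdet : (gram B e₂).det = B (e₂ 0) (e₂ 0) * B (e₂ 1) (e₂ 1) := by
          rw [Matrix.det_fin_two]
          simp [gram, hoff 0 1 (by decide)]
        rw [hdet] at hr
        have ha : B (e₂ 0) (e₂ 0) ≠ 0 := fun h => by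
          have := det_ne_zero S.nondegenerate e₂
          rw [hdet, h, zero_mul] at this
          exact this rfl
        refine ⟨r • e₂ 0 + B (e₂ 0) (e₂ 0) • e₂ 1, fun h => ?_, ?_⟩
        · have := congrArg (fun z => e₂.repr z 1) h
          simp at this
          exact ha this
        · simp only [map_add, map_smul, LinearMap.add_apply, LinearMap.smul_apply, smul_eq_mul,
            hoff 0 1 (by decide), hoff 1 0 (by decide)]
          linear_combination -(B (e₂ 0) (e₂ 0)) * hr
      · obtain ⟨v, -, hv0, hv⟩ := S.exists_singular_mem ⊤ (by rw [finrank_top]; omega)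
        exact ⟨v, hv0, hv⟩
    obtain ⟨w, hw, hvw⟩ := S.exists_partner hv0 hv
    have hwv : B w v = 1 := by rw [S.symm, hvw]
    let V' := LinearMap.ker (B v) ⊓ LinearMap.ker (B w)
    have hmem : ∀ z, z - (B w z • v + B v z • w) ∈ V' := fun z => by
      refine ⟨?_, ?_⟩ <;> simp [hv, hw, hvw, hwv]
    let L : V ≃ₗ[F] (Fin 2 → F) × V' :=
      { toFun := fun z => (![B w z, B v z], ⟨_, hmem z⟩)
        map_add' := fun x y => by
          refine Prod.ext (by simp) (Subtype.ext ?_)
          simp only [map_add, add_smul, Prod.snd_add, Submodule.coe_add]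
          abel
        map_smul' := fun c x => by
          refine Prod.ext (by simp) (Subtype.ext ?_)
          simp only [map_smul, smul_eq_mul, mul_smul, RingHom.id_apply, Prod.smul_snd, Submodule.coe_smul,
            smul_sub, smul_add]
        invFun := fun p => p.1 0 • v + p.1 1 • w + p.2
        left_inv := fun z => by simp
        right_inv := fun p => by
          have hp1 : B v (p.2 : V) = 0 := p.2.2.1
          have hp2 : B w (p.2 : V) = 0 := p.2.2.2
          refine Prod.ext (funext fun i => by fin_cases i <;> simp [hv, hw, hvw, hwv, hp1, hp2]) (Subtype.ext ?_)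
          simp [hv, hw, hvw, hwv, hp1, hp2] }
    have hd' : Module.finrank F V' = 2 * k := by
      have := L.finrank_eq
      rw [Module.finrank_prod, Module.finrank_fintype_fun_eq_card, Fintype.card_fin] at this
      omega
    let B' : LinearMap.BilinForm F V' := B.restrict V'
    have S' : SymSpace B' := by
      refine ⟨fun x y => S.symm _ _, fun x hx => ?_, S.two⟩
      refine Subtype.ext (S.nondeg _ fun z => ?_)
      have h1 : B v (x : V) = 0 := x.2.1
      have h2 : B w (x : V) = 0 := x.2.2
      have := hx ⟨_, hmem z⟩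
      change B (x : V) (z - (B w z • v + B v z • w)) = 0 at this
      rw [map_sub, map_add, map_smul, map_smul, S.symm _ v, S.symm _ w, h1, h2, smul_zero, smul_zero, add_zero,
        sub_zero] at this
      exact this
    let b₀ := Module.finBasisOfFinrankEq F V' hd'
    let b' : Module.Basis (Fin 2 ⊕ Fin (2 * k)) F V := ((Pi.basisFun F (Fin 2)).prod b₀).map L.symm
    have hG : gram B b' = Matrix.fromBlocks !![0, 1; 1, 0] 0 0 (gram B' b₀) := by
      have hb0 : ∀ i, B v (b₀ i : V) = 0 ∧ B w (b₀ i : V) = 0 := fun i => (b₀ i).2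
      ext i j
      rcases i with i | i <;> rcases j with j | j
      · fin_cases i <;> fin_cases j <;> simp [gram, b', L, Module.Basis.prod_apply, hv, hw, hvw, hwv]
      · fin_cases i <;> simp [gram, b', L, Module.Basis.prod_apply, (hb0 j).1, (hb0 j).2]
      · fin_cases j <;> simp [gram, b', L, Module.Basis.prod_apply, S.symm (b₀ i : V), (hb0 i).1, (hb0 i).2]
      · simp [gram, b', L, B', Module.Basis.prod_apply]
    have hb' := square_change B b b' _ hb
    rw [hG, Matrix.det_fromBlocks_zero₂₁, Matrix.det_fin_two_of] at hb'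
    let f₀ : Module.Basis (ULift.{v} (Fin (2 * k))) F V' := b₀.reindex Equiv.ulift.symm
    obtain ⟨X, hX, hXi⟩ := ih S' hd' f₀ (square_change B' b₀ f₀ _ (by
      convert hb' using 1
      rw [pow_succ]
      ring))
    refine ⟨Submodule.span F {v} ⊔ X.map V'.subtype, ?_, ?_⟩
    · have hdis : Submodule.span F {v} ⊓ X.map V'.subtype = ⊥ := by
        rw [Submodule.eq_bot_iff]
        rintro z ⟨hz, x, -, rfl⟩
        obtain ⟨c, hc⟩ := Submodule.mem_span_singleton.mp hz
        have h2 : B w (x : V) = 0 := x.2.2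
        rw [show (x : V) = c • v from hc.symm, map_smul, hwv, smul_eq_mul, mul_one] at h2
        rw [← hc, h2, zero_smul]
      have h := Submodule.finrank_sup_add_finrank_inf_eq (Submodule.span F {v}) (X.map V'.subtype)
      rw [hdis, finrank_bot, finrank_span_singleton hv0, Submodule.finrank_map_subtype_eq, hX] at h
      omega
    · intro x hx y hy
      obtain ⟨x1, hx1, x2, ⟨x', hx', rfl⟩, rfl⟩ := Submodule.mem_sup.mp hx
      obtain ⟨y1, hy1, y2, ⟨y', hy', rfl⟩, rfl⟩ := Submodule.mem_sup.mp hy
      obtain ⟨a, rfl⟩ := Submodule.mem_span_singleton.mp hx1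
      obtain ⟨c, rfl⟩ := Submodule.mem_span_singleton.mp hy1
      have h1 : B v (x' : V) = 0 := x'.2.1
      have h2 : B v (y' : V) = 0 := y'.2.1
      have h3 : B (x' : V) (y' : V) = 0 := hXi x' hx' y' hy'
      simp [hv, h2, h3, S.symm (x' : V) v, h1]

variable {U : Type v} {W : Type w} [AddCommGroup U] [Module F U] [FiniteDimensional F U] [AddCommGroup W]
  [Module F W] [FiniteDimensional F W] {B₁ : LinearMap.BilinForm F U} {B₂ : LinearMap.BilinForm F W}

theorem tensor_alt (h₁ : B₁.Nondegenerate) (h₂ : B₂.Nondegenerate) (hA₁ : B₁.IsAlt) (hA₂ : B₂.IsAlt) (k l : ℕ)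
    (hU : Module.finrank F U = 2 * k) (hW : Module.finrank F W = 2 * l) :
    (B₁.tmul B₂).IsSymm ∧ (B₁.tmul B₂).Nondegenerate ∧ (∃ X : Submodule F (U ⊗[F] W),
      Module.finrank F X = 2 * k * l ∧ ∀ x ∈ X, ∀ y ∈ X, (B₁.tmul B₂) x y = 0) := by
  classical
  refine ⟨?_, tensor_nondegenerate h₁ h₂, ?_⟩
  · exact ⟨tensor_symm (-1) (by ring) (fun x y => by rw [← hA₁.neg_eq]; ring) (fun x y => by rw [← hA₂.neg_eq]; ring)⟩
  · obtain ⟨m, b, hm, -, hll, -⟩ := exists_symplectic_basis_nondegenerate hA₁ h₁
    let c := Module.finBasisOfFinrankEq F W hW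
    let bb := b.tensorProduct c
    let g : Fin m × Fin (2 * l) → U ⊗[F] W := fun p => bb (Sum.inl p.1, p.2)
    refine ⟨Submodule.span F (Set.range g), ?_, ?_⟩
    · have hinj : Function.Injective fun p : Fin m × Fin (2 * l) => ((Sum.inl p.1 : Fin m ⊕ Fin m), p.2) :=
        fun p q h => by simpa [Prod.ext_iff] using h
      have hg : LinearIndependent F g := bb.linearIndependent.comp _ hinj
      rw [finrank_span_eq_card hg, Fintype.card_prod, Fintype.card_fin, Fintype.card_fin]
      have : m = k := by omega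
      subst this
      ring
    · intro x hx y hy
      induction hx, hy using Submodule.span_induction₂ with
      | mem_mem x y hx hy =>
        obtain ⟨p, rfl⟩ := hx
        obtain ⟨q, rfl⟩ := hy
        simp [g, bb, Module.Basis.tensorProduct_apply, hll]
      | zero_left => simp
      | zero_right => simp
      | add_left _ _ _ _ _ _ h1 h2 => simp only [map_add, LinearMap.add_apply, h1, h2, add_zero]
      | add_right _ _ _ _ _ _ h1 h2 => simp only [map_add, h1, h2, add_zero]
      | smul_left _ _ _ _ _ h1 => simp only [map_smul, LinearMap.smul_apply, h1, smul_zero]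
      | smul_right _ _ _ _ _ h1 => simp only [map_smul, h1, smul_zero]

theorem tensor_minus_minus [Finite F] (h2 : (2 : F) ≠ 0) (h₁ : B₁.Nondegenerate) (h₂ : B₂.Nondegenerate)
    (hS₁ : B₁.IsSymm) (hS₂ : B₂.IsSymm) (k l : ℕ) (hU : Module.finrank F U = 2 * k)
    (hW : Module.finrank F W = 2 * l) :
    ∃ X : Submodule F (U ⊗[F] W), Module.finrank F X = 2 * k * l ∧ ∀ x ∈ X, ∀ y ∈ X, (B₁.tmul B₂) x y = 0 := by
  classical
  have hd : Module.finrank F (U ⊗[F] W) = 2 * (2 * k * l) := by
    rw [Module.finrank_tensorProduct, hU, hW]; ring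
  have hs : ∀ x y, (B₁.tmul B₂) x y = (B₁.tmul B₂) y x :=
    tensor_symm 1 (one_mul 1) (fun x y => by rw [one_mul]; exact hS₁.eq x y) (fun x y => by rw [one_mul]; exact hS₂.eq x y)
  have S : SymSpace (B₁.tmul B₂) := ⟨hs, fun u hu => (tensor_nondegenerate h₁ h₂).1 u hu, h2⟩
  let b := (Module.finBasisOfFinrankEq F U hU).tensorProduct (Module.finBasisOfFinrankEq F W hW)
  let b' := b.reindex Equiv.ulift.symm
  refine half_of_square _ S hd b' (square_change _ b b' _ ?_)
  rw [gram_tensor, Matrix.det_kronecker, Fintype.card_fin, Fintype.card_fin, mul_assoc 2 k l, pow_mul, neg_one_sq,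
    one_pow, one_mul]
  exact ⟨(gram B₁ (Module.finBasisOfFinrankEq F U hU)).det ^ l * (gram B₂ (Module.finBasisOfFinrankEq F W hW)).det ^ k,
    by ring⟩

theorem tensor_minus_odd [Finite F] (h2 : (2 : F) ≠ 0) (h₁ : B₁.Nondegenerate) (h₂ : B₂.Nondegenerate)
    (hS₁ : B₁.IsSymm) (hS₂ : B₂.IsSymm) (k l : ℕ) (hU : Module.finrank F U = 2 * k)
    (hW : Module.finrank F W = 2 * l + 1)
    (hm₁ : ¬ ∃ X : Submodule F U, Module.finrank F X = k ∧ ∀ x ∈ X, ∀ y ∈ X, B₁ x y = 0) :
    ¬ ∃ X : Submodule F (U ⊗[F] W), Module.finrank F X = k * (2 * l + 1) ∧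
      ∀ x ∈ X, ∀ y ∈ X, (B₁.tmul B₂) x y = 0 := by
  classical
  rintro ⟨X, hX, hXi⟩
  have hd : Module.finrank F (U ⊗[F] W) = 2 * (k * (2 * l + 1)) := by
    rw [Module.finrank_tensorProduct, hU, hW]; ring
  have hs : ∀ x y, (B₁.tmul B₂) x y = (B₁.tmul B₂) y x :=
    tensor_symm 1 (one_mul 1) (fun x y => by rw [one_mul]; exact hS₁.eq x y) (fun x y => by rw [one_mul]; exact hS₂.eq x y)
  let bU := Module.finBasisOfFinrankEq F U hU
  let bW := Module.finBasisOfFinrankEq F W hW
  have h := square_of_half hs hd hX hXi (bU.tensorProduct bW)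
  rw [gram_tensor, Matrix.det_kronecker, Fintype.card_fin, Fintype.card_fin] at h
  obtain ⟨r, hr⟩ := h
  refine hm₁ ?_
  let bU' := bU.reindex Equiv.ulift.symm
  refine half_of_square k (B := B₁) ⟨fun x y => hS₁.eq x y, fun u hu => h₁.1 u hu, h2⟩ hU bU'
    (square_change _ bU bU' _ ?_)
  set s : F := (-1) ^ k * (gram B₁ bU).det
  have hs0 : s ≠ 0 := mul_ne_zero (pow_ne_zero _ (neg_ne_zero.mpr one_ne_zero)) (det_ne_zero h₁ _)
  have hw0 := det_ne_zero h₂ bW
  refine ⟨r / (s ^ l * (gram B₂ bW).det ^ k), ?_⟩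
  have hsk : s ^ (2 * l + 1) * ((gram B₂ bW).det ^ k) ^ 2 = r * r := by
    rw [← hr]
    simp only [s, mul_pow, ← pow_mul]
    ring
  rw [div_mul_div_comm, ← hsk, eq_div_iff (mul_ne_zero (mul_ne_zero (pow_ne_zero _ hs0) (pow_ne_zero _ hw0))
    (mul_ne_zero (pow_ne_zero _ hs0) (pow_ne_zero _ hw0)))]
  ring

end Cfsg.Lib.Classical.TensorType
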