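import Mathlib
import Cfsg.Agent.Classical.Orth.Basic
import Cfsg.Agent.Classical.Transv.Basic
import Cfsg.Agent.Classical.Unitary.InSL

set_option autoImplicit false
set_option linter.unusedVariables false
set_option linter.unusedSimpArgs false
set_option linter.style.haveILetI false

/-! Root groups inside overgroups of the orthogonal group in the special linear group. -/

namespace Cfsg.Lib.Classical

universe u v

variable {F : Type u} [Field F] {V : Type v} [AddCommGroup V] [Module F V] {B : LinearMap.BilinForm F V}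

/-- Transformations `z ↦ z + B(z,e) y + (B(z,f) + a B(z,e)) x` in `K`, for all multiples of `(y, f)`. -/
def OrthAxes (B : LinearMap.BilinForm F V) (K : Subgroup (slGroup F V)) (x e y f : V) : Prop :=
  B x e = 0 ∧ B y e = 0 ∧ B x f = 0 ∧ ∀ l : F, ∃ a : F, ∃ g ∈ K, ∀ z,
    (g : V ≃ₗ[F] V) z = z + B z e • (l • y) + (l * B z f + a * B z e) • x

/-- All transvections `z ↦ z + c B(z,e) x` lie in `K`. -/
def OrthRoot (B : LinearMap.BilinForm F V) (K : Subgroup (slGroup F V)) (x e : V) : Prop :=
  ∀ c : F, ∃ g ∈ K, ∀ z, (g : V ≃ₗ[F] V) z = z + (c * B z e) • x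

variable {K : Subgroup (slGroup F V)}

theorem OrthAxes.add {x e y f y' f' : V} (h : OrthAxes B K x e y f) (h' : OrthAxes B K x e y' f') :
    OrthAxes B K x e (y + y') (f + f') := by
  obtain ⟨h1, h2, h3, h⟩ := h
  obtain ⟨-, h2', h3', h'⟩ := h'
  refine ⟨h1, by rw [map_add, LinearMap.add_apply, h2, h2', add_zero], by rw [map_add, h3, h3', add_zero],
    fun l => ?_⟩
  obtain ⟨a, g, hg, hga⟩ := h l
  obtain ⟨a', g', hg', hga'⟩ := h' l
  refine ⟨a + a' + l * (l * B y' f), g * g', K.mul_mem hg hg', fun z => ?_⟩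
  rw [slGroup.mul_apply', hga, hga']
  simp only [map_add, map_smul, LinearMap.add_apply, LinearMap.smul_apply, smul_eq_mul, h1, h2', h3, mul_zero,
    add_zero]
  module

theorem OrthAxes.smul {x e y f : V} (h : OrthAxes B K x e y f) (k : F) : OrthAxes B K x e (k • y) (k • f) := by
  obtain ⟨h1, h2, h3, h⟩ := h
  refine ⟨h1, by rw [map_smul, LinearMap.smul_apply, h2, smul_zero], by rw [map_smul, h3, smul_zero], fun l => ?_⟩
  obtain ⟨a, g, hg, hga⟩ := h (l * k)
  refine ⟨a, g, hg, fun z => ?_⟩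
  rw [hga, map_smul, smul_smul l k, smul_eq_mul, mul_assoc]

theorem OrthAxes.sub {x e y f y' f' : V} (h : OrthAxes B K x e y f) (h' : OrthAxes B K x e y' f') :
    OrthAxes B K x e (y - y') (f - f') := by
  have := h.add (h'.smul (-1))
  rwa [neg_one_smul, neg_one_smul, ← sub_eq_add_neg, ← sub_eq_add_neg] at this

theorem OrthAxes.map {x e y f e' f' : V} (h : OrthAxes B K x e y f) {g : slGroup F V} (hg : g ∈ K)
    (he : ∀ z, B ((g : V ≃ₗ[F] V) z) e' = B z e) (hf : ∀ z, B ((g : V ≃ₗ[F] V) z) f' = B z f) :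
    OrthAxes B K ((g : V ≃ₗ[F] V) x) e' ((g : V ≃ₗ[F] V) y) f' := by
  obtain ⟨h1, h2, h3, h⟩ := h
  refine ⟨by rw [he, h1], by rw [he, h2], by rw [hf, h3], fun l => ?_⟩
  obtain ⟨a, k, hk, hka⟩ := h l
  refine ⟨a, g * k * g⁻¹, K.mul_mem (K.mul_mem hg hk) (K.inv_mem hg), fun z => ?_⟩
  have e1 : z = (g : V ≃ₗ[F] V) (((g⁻¹ : slGroup F V) : V ≃ₗ[F] V) z) := (slGroup.apply_inv_self g z).symm
  rw [slGroup.mul_apply', slGroup.mul_apply', hka, map_add, map_add, map_smul, map_smul, map_smul, ← he, ← hf,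
    ← e1]

/-- Two axes that do not commute give a root group. -/
theorem OrthAxes.root {x e y f y' f' : V} (h : OrthAxes B K x e y f) (h' : OrthAxes B K x e y' f')
    (hne : B y' f - B y f' ≠ 0) : OrthRoot B K x e := by
  intro c
  obtain ⟨h1, h2, h3, h⟩ := h
  obtain ⟨-, h2', h3', h'⟩ := h'
  obtain ⟨a, g, hg, hga⟩ := h (c / (B y' f - B y f'))
  obtain ⟨a', g', hg', hga'⟩ := h' 1
  refine ⟨(g' * g)⁻¹ * (g * g'), K.mul_mem (K.inv_mem (K.mul_mem hg' hg)) (K.mul_mem hg hg'), fun z => ?_⟩
  apply (g' * g : slGroup F V).1.injective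
  rw [slGroup.mul_apply' (g' * g)⁻¹, slGroup.apply_inv_self]
  have hc : c = c / (B y' f - B y f') * (B y' f - B y f') := (div_mul_cancel₀ c hne).symm
  simp only [slGroup.mul_apply', hga, hga', map_add, map_smul, LinearMap.add_apply, LinearMap.smul_apply,
    smul_eq_mul, h1, h2, h2', h3, h3', mul_zero, add_zero, one_smul]
  linear_combination (norm := module) -(hc • B z e • x)

theorem OrthRoot.smul_centre {x e : V} (h : OrthRoot B K x e) (k : F) : OrthRoot B K (k • x) e := fun c => by
  obtain ⟨g, hg, hga⟩ := h (c * k)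
  exact ⟨g, hg, fun z => by rw [hga, smul_smul, mul_assoc, mul_comm k, ← mul_assoc]⟩

namespace SymSpace

variable (S : SymSpace B) (hM : ∀ g : slGroup F V, (∀ a b, B ((g : V ≃ₗ[F] V) a) ((g : V ≃ₗ[F] V) b) = B a b) → g ∈ K)

include S

/-- The orthogonal Siegel element. -/
theorem exists_siegel {v w : V} (hv : B v v = 0) (hw : B w v = 0) :
    ∃ g : slGroup F V, (∀ a b, B ((g : V ≃ₗ[F] V) a) ((g : V ≃ₗ[F] V) b) = B a b) ∧
      ∀ z, (g : V ≃ₗ[F] V) z = z + B z v • w - (B z w + B w w / 2 * B z v) • v := by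
  have hvw : B v w = 0 := by rw [S.symm, hw]
  have h1 : (B.flip v) (w + (-(B w w / 2)) • v) = 0 := by simp [LinearMap.BilinForm.flip_apply, hw, hv]
  have h2 : (-B.flip w) v = 0 := by simp [LinearMap.BilinForm.flip_apply, hvw]
  set g := slT (B.flip v) (w + (-(B w w / 2)) • v) h1 * slT (-B.flip w) v h2
  have hg : ∀ z, (g : V ≃ₗ[F] V) z = z + B z v • w - (B z w + B w w / 2 * B z v) • v := fun z => by
    simp only [g, slGroup.mul_apply', slT_apply, LinearMap.BilinForm.flip_apply, LinearMap.neg_apply, map_add, map_smul,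
      map_neg, LinearMap.add_apply, LinearMap.smul_apply, smul_eq_mul, hv]
    module
  refine ⟨g, fun a b => ?_, hg⟩
  have := S.two
  rw [hg, hg]
  simp only [map_add, map_sub, map_smul, LinearMap.add_apply, LinearMap.sub_apply, LinearMap.smul_apply,
    smul_eq_mul, hv, hw, hvw, S.symm w b, S.symm v b]
  field_simp
  ring

include hM

theorem axes_base {v w : V} (hv : B v v = 0) (hw : B w v = 0) : OrthAxes B K v v w (-w) := by
  refine ⟨hv, hw, by rw [map_neg, S.symm, hw, neg_zero], fun l => ?_⟩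
  obtain ⟨g, hg, hga⟩ := S.exists_siegel hv (w := l • w) (by rw [map_smul, LinearMap.smul_apply, hw, smul_zero])
  refine ⟨-(B (l • w) (l • w) / 2), g, hM g hg, fun z => ?_⟩
  rw [hga, map_smul (B z) l w, map_neg, smul_eq_mul]
  module

/-- A transvection spreads to orthogonal singular vectors. -/
theorem root_step [FiniteDimensional F V] {a p : V} (hap : B a p = 0) (hR : OrthRoot B K a p) {v u : V}
    (hv : B v v = 0) (hvu : B v u = 1) (hva : B v a = 0) (hvp : B v p = 0) (hua : B u a = 0) (hup : B u p = 0)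
    (ha0 : a ≠ 0) (hp0 : p ≠ 0) : OrthRoot B K v v := by
  obtain ⟨T, hT, hTa⟩ := hR 1
  have key : ∀ w, B w v = 0 → OrthAxes B K v v (w + B w p • a) (-w + B a w • p) := by
    intro w hw
    have h := (S.axes_base hM hv hw).map hT (e' := v) (f' := -w + B a w • p)
      (fun z => by rw [hTa, map_add, LinearMap.add_apply, map_smul, LinearMap.smul_apply, S.symm a v, hva,
        smul_zero, add_zero])
      (fun z => by
        rw [hTa, one_mul]
        simp only [map_add, map_smul, map_neg, LinearMap.add_apply, LinearMap.smul_apply, smul_eq_mul, hap]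
        ring)
    rwa [hTa, hTa, hvp, mul_zero, zero_smul, add_zero, one_mul] at h
  have hfun : ∀ c : V, c ≠ 0 → B v c = 0 → B u c = 0 → ∃ w, B w v = 0 ∧ B c w ≠ 0 := by
    intro c hc hvc huc
    obtain ⟨w, hw⟩ := S.exists_nonorth hc
    refine ⟨w - B w v • u, ?_, ?_⟩
    · rw [map_sub, map_smul, LinearMap.sub_apply, LinearMap.smul_apply, S.symm u v, hvu, smul_eq_mul, mul_one, sub_self]
    · rw [map_sub, map_smul, S.symm c u, huc, smul_zero, sub_zero, S.symm]; exact hw
  obtain ⟨w, hw, hwa, hwp⟩ : ∃ w, B w v = 0 ∧ B a w ≠ 0 ∧ B p w ≠ 0 := by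
    obtain ⟨w₁, h1, h1'⟩ := hfun a ha0 hva hua
    obtain ⟨w₂, h2, h2'⟩ := hfun p hp0 hvp hup
    by_cases e1 : B p w₁ = 0
    · by_cases e2 : B a w₂ = 0
      · exact ⟨w₁ + w₂, by rw [map_add, LinearMap.add_apply, h1, h2, add_zero],
          by rwa [map_add, e2, add_zero], by rwa [map_add, e1, zero_add]⟩
      · exact ⟨w₂, h2, e2, h2'⟩
    · exact ⟨w₁, h1, h1', e1⟩
  refine (key w hw).root (S.axes_base hM hv hw) ?_
  simp only [map_add, map_smul, map_neg, LinearMap.add_apply, LinearMap.smul_apply, smul_eq_mul]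
  intro h
  refine mul_ne_zero S.two (mul_ne_zero hwa hwp) ?_
  rw [S.symm p w]
  linear_combination h

/-- One root group gives the whole special linear group. -/
theorem top_of_root [Finite F] [FiniteDimensional F V] (hd : 9 ≤ Module.finrank F V) {a p : V} (ha : a ≠ 0)
    (hp : p ≠ 0) (hap : B a p = 0) (hR : OrthRoot B K a p) : K = ⊤ := by
  obtain ⟨v₀, u₀, h1, h2, hv₀, hu₀, hvu₀⟩ := S.exists_pair ![a, p] (by omega)
  have hR₀ := S.root_step hM hap hR hv₀ hvu₀ (h1 0) (h1 1) (h2 0) (h2 1) ha hp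
  have hstep : ∀ v₀ v u : V, v₀ ≠ 0 → B v₀ v₀ = 0 → OrthRoot B K v₀ v₀ → B v v = 0 → B v v₀ = 0 →
      B v u = 1 → B u v₀ = 0 → OrthRoot B K v v := fun v₀ v u h0 hv₀ hR hv hvv hvu huv =>
    S.root_step hM hv₀ hR hv hvu hvv hvv huv huv h0 h0
  have hall : ∀ v, v ≠ 0 → B v v = 0 → OrthRoot B K v v := by
    intro v hv0 hv
    obtain ⟨z, z', hz, hz', hzz, hzz', hzw⟩ := S.exists_pair ![v₀, v] (by omega)
    have hzR := hstep v₀ z z' (S.pair_ne_zero hvu₀).1 hv₀ hR₀ hzz (hz 0) hzw (hz' 0)
    obtain ⟨u, hu⟩ := S.exists_one hv0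
    refine hstep z v (u - B u z • z') (S.pair_ne_zero hzw).1 hzz hzR hv (by rw [S.symm]; exact hz 1) ?_ ?_
    · rw [map_sub, map_smul, S.symm v u, hu, S.symm v z', show B z' v = 0 from hz' 1, smul_zero, sub_zero]
    · rw [map_sub, map_smul, LinearMap.sub_apply, LinearMap.smul_apply, S.symm z' z, hzw, smul_eq_mul, mul_one,
        sub_self]
  -- all singular vectors are centres
  have hcen : ∀ v, B v v = 0 → v ∈ slCentres K := by
    intro v hv φ hφ
    rcases eq_or_ne v 0 with rfl | hv0
    · exact slCentres_zero K φ hφ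
    let A : Submodule F V :=
      { carrier := {w | OrthRoot B K v w}
        zero_mem' := fun c => ⟨1, K.one_mem, fun z => by simp⟩
        smul_mem' := fun k w hw c => by
          obtain ⟨g, hg, hga⟩ := hw (c * k)
          exact ⟨g, hg, fun z => by rw [hga, map_smul, smul_eq_mul, mul_assoc]⟩
        add_mem' := fun {w w'} hw hw' c => by
          obtain ⟨g, hg, hga⟩ := hw c
          obtain ⟨g', hg', hga'⟩ := hw' c
          by_cases hwv : B v w = 0
          · refine ⟨g * g', K.mul_mem hg hg', fun z => ?_⟩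
            rw [slGroup.mul_apply', hga, hga']
            simp only [map_add, map_smul, LinearMap.add_apply, LinearMap.smul_apply, smul_eq_mul, hwv, mul_zero,
              add_zero]
            module
          · exfalso
            -- the centre lies on every axis of a determinant-one transvection
            have hT : LinearMap.det (LinearMap.transvection (B.flip w) v) = 1 := by
              obtain ⟨g₁, hg₁, hga₁⟩ := hw 1
              rw [show LinearMap.transvection (B.flip w) v = (g₁ : V ≃ₗ[F] V).toLinearMap from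
                LinearMap.ext fun z => by
                  rw [LinearMap.transvection.apply, LinearEquiv.coe_coe, hga₁, LinearMap.BilinForm.flip_apply, one_mul]]
              rw [← LinearEquiv.coe_det, show LinearEquiv.det (g₁ : V ≃ₗ[F] V) = 1 from g₁.2, Units.val_one]
            rw [LinearMap.transvection.det, add_eq_left, LinearMap.BilinForm.flip_apply] at hT
            exact hwv hT }
    have hA : ∀ w, B w v = 0 → w ∈ A := by
      intro w hw
      have hsp := S.mem_span_singular ![v] (by omega) (z := w) (fun i => by rw [Matrix.cons_val_fin_one]; exact hw)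
      refine Submodule.span_le.mpr (fun y hy => ?_) hsp
      obtain ⟨hyy, hyv'⟩ := hy
      have hyv : B y v = 0 := hyv' 0
      have hvy : B v y = 0 := by rw [S.symm, hyv]
      rcases eq_or_ne y 0 with rfl | hy0
      · exact A.zero_mem
      intro c
      rcases eq_or_ne (v + y) 0 with hsum | hsum
      · obtain ⟨g, hg, hga⟩ := hall v hv0 hv (-c)
        refine ⟨g, hg, fun z => ?_⟩
        rw [hga, eq_neg_of_add_eq_zero_right hsum, map_neg]
        module
      obtain ⟨g₁, hg₁, hga₁⟩ := hall (v + y) hsum (by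
        simp only [map_add, LinearMap.add_apply, hv, hyy, hyv, hvy, add_zero]) (c / 2)
      obtain ⟨g₂, hg₂, hga₂⟩ := hall v hv0 hv (-(c / 2))
      obtain ⟨g₃, hg₃, hga₃⟩ := hall y hy0 hyy (-(c / 2))
      obtain ⟨g₄, hg₄, hga₄⟩ := S.exists_siegel hv (w := (-(c / 2)) • y)
        (by rw [map_smul, LinearMap.smul_apply, hyv, smul_zero])
      refine ⟨g₁ * g₂ * g₃ * g₄, K.mul_mem (K.mul_mem (K.mul_mem hg₁ hg₂) hg₃) (hM _ hg₄), fun z => ?_⟩
      have h2 := S.two
      simp only [slGroup.mul_apply', hga₁, hga₂, hga₃, hga₄, map_add, map_sub, map_smul, LinearMap.add_apply,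
        LinearMap.sub_apply, LinearMap.smul_apply, smul_eq_mul, hv, hyy, hyv, hvy, mul_zero, zero_mul,
        add_zero, sub_zero, zero_div]
      match_scalars <;> field_simp <;> ring
    obtain ⟨w, hw⟩ := S.exists_rep φ
    obtain ⟨g, hg, hga⟩ := hA w (by rw [S.symm, hw, hφ]) 1
    convert hg using 1
    exact slGroup.ext' fun z => by rw [slT_apply, hga, hw, one_mul]
  refine slGroup_eq_top_of_transvections fun y => ?_
  have hy := S.mem_span_singular ![] (by omega) (z := y) (fun i => i.elim0)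
  exact (Submodule.span_le (p := slCentreSpace K)).mpr (fun x hx => hcen x hx.1) hy

end SymSpace

end Cfsg.Lib.Classical
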