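import Mathlib
import Cfsg.Agent.Classical.Orth.InSLCentres

set_option autoImplicit false
set_option linter.unusedVariables false
set_option linter.unusedSimpArgs false
set_option linter.style.haveILetI false

/-! The orthogonal similitudes form a maximal subgroup of the special linear group. -/

namespace Cfsg.Lib.Classical

universe u v

variable {F : Type u} [Field F] {V : Type v} [AddCommGroup V] [Module F V] {B : LinearMap.BilinForm F V}
  {K : Subgroup (slGroup F V)}

namespace SymSpace

variable (S : SymSpace B) (hM : ∀ g : slGroup F V, (∀ a b, B ((g : V ≃ₗ[F] V) a) ((g : V ≃ₗ[F] V) b) = B a b) → g ∈ K)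

include S hM

theorem axes_transfer {x e y f : V} (h : OrthAxes B K x e y f) {v w : V} (hv : B v v = 0) (hw : B w v = 0)
    (hww : B w w = 0) (hxv : B x v = 0) (hxw : B x w = 0) (hev : B e v = 0) (hew : B e w = 0) :
    OrthAxes B K x e (B y v • w - B y w • v) (B f v • w - B f w • v) := by
  obtain ⟨g, hg, hga⟩ := S.exists_siegel hv hw
  have key : ∀ z, (g : V ≃ₗ[F] V) z = z + (B z v • w - B z w • v) := fun z => by
    rw [hga, hww, zero_div, zero_mul, add_zero]; module
  have h1 := h.map (hM g hg) (e' := (g : V ≃ₗ[F] V) e) (f' := (g : V ≃ₗ[F] V) f) (fun z => hg z e) (fun z => hg z f)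
  rw [key x, key e, hxv, hxw, hev, hew] at h1
  simp only [zero_smul, sub_zero, add_zero] at h1
  have h2 := h1.sub h
  rwa [key, key, add_sub_cancel_left, add_sub_cancel_left] at h2

/-- A point whose image is not singular: the pulled back form is a multiple of the form on the orthogonal. -/
theorem proportional_at [Finite F] [FiniteDimensional F V] (hd : 9 ≤ Module.finrank F V)
    (hno : ∀ a p, a ≠ 0 → p ≠ 0 → B a p = 0 → ¬ OrthRoot B K a p) {g : slGroup F V} (hg : g ∈ K) {v : V}
    (hv : B v v = 0) (hv0 : v ≠ 0) (hQ : B ((g : V ≃ₗ[F] V) v) ((g : V ≃ₗ[F] V) v) ≠ 0) :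
    ∃ c : F, ∀ z, B z v = 0 → B ((g : V ≃ₗ[F] V) z) ((g : V ≃ₗ[F] V) v) = 0 → ∀ w, B w v = 0 →
      B ((g : V ≃ₗ[F] V) w) ((g : V ≃ₗ[F] V) z) = c * B w z := by
  set G : V ≃ₗ[F] V := (g : V ≃ₗ[F] V) with hG
  set x := G v with hx
  have rep : ∀ w, ∃ f, ∀ z, B (G z) f = B z w := fun w => by
    obtain ⟨f, hf⟩ := S.exists_rep ((B.flip w) ∘ₗ G.symm.toLinearMap)
    exact ⟨f, fun z => by
      rw [hf, LinearMap.comp_apply, LinearEquiv.coe_coe, G.symm_apply_apply, LinearMap.BilinForm.flip_apply]⟩
  obtain ⟨e, he⟩ := rep v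
  have hxe : B x e = 0 := (he v).trans hv
  have he0 : e ≠ 0 := fun h => by
    obtain ⟨y, hy⟩ := S.exists_one hv0
    rw [← he, h, map_zero] at hy
    exact zero_ne_one hy
  have hx0 : x ≠ 0 := fun h => hQ (by simp [h])
  have hnr := hno x e hx0 he0 hxe
  have hU : ∀ z, B z v = 0 → B (G z) x = 0 → B x (G z) = 0 ∧ B e (G z) = 0 := fun z h1 h2 =>
    ⟨by rw [S.symm, h2], by rw [S.symm, he, h1]⟩
  have loc : ∀ u, B u u = 0 → B x u = 0 → B e u = 0 → ∃ c, ∀ w, B w v = 0 → B (G w) u = c * B w (G.symm u) := by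
    intro u huu hxu heu
    by_cases hne : ∀ w, B w v = 0 → B (G w) u = 0
    · exact ⟨0, fun w hw => by rw [hne w hw, zero_mul]⟩
    push Not at hne
    obtain ⟨w₀, hw₀, hw₀u⟩ := hne
    obtain ⟨f₀, hf₀⟩ := rep (-w₀)
    have hA₀ : OrthAxes B K x e (G w₀) f₀ := (S.axes_base hM hv hw₀).map hg he hf₀
    obtain ⟨w', b, hw', hb, hw'w', hbb, hw'b⟩ := S.exists_pair ![x, e, u] (by omega)
    have hw'x : B x w' = 0 := by rw [S.symm]; exact hw' 0
    have hw'e : B e w' = 0 := by rw [S.symm]; exact hw' 1
    have hw'u : B w' u = 0 := hw' 2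
    have hbx : B x b = 0 := by rw [S.symm]; exact hb 0
    have hbe : B e b = 0 := by rw [S.symm]; exact hb 1
    have hbu : B b u = 0 := hb 2
    have h1 := S.axes_transfer hM hA₀ huu hw'u hw'w' hxu hw'x heu hw'e
    have h2 := (S.axes_transfer hM h1 huu hbu hbb hxu hbx heu hbe).smul (-1)
    set μ := B (G w₀) u
    set μ' := B f₀ u
    have hsimp : ∀ (m n : F), (-1 : F) • (B (m • w' - n • u) u • b - B (m • w' - n • u) b • u) = m • u := by
      intro m n
      simp only [map_sub, map_smul, LinearMap.sub_apply, LinearMap.smul_apply, hw'u, huu, hw'b, S.symm u b, hbu,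
        smul_eq_mul, mul_zero, mul_one, sub_zero]
      module
    rw [hsimp, hsimp] at h2
    have hrel : ∀ w, B w v = 0 → μ' * B (G w) u + μ * B w (G.symm u) = 0 := by
      intro w hw
      obtain ⟨f, hf⟩ := rep (-w)
      by_contra hne'
      refine hnr (h2.root ((S.axes_base hM hv hw).map hg he hf) ?_)
      have e1 : B u f = -B w (G.symm u) := by
        have h' := hf (G.symm u)
        rw [G.apply_symm_apply, map_neg, S.symm _ w] at h'
        exact h'
      simp only [map_smul, LinearMap.smul_apply, smul_eq_mul, e1]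
      intro h3
      exact hne' (by linear_combination h3)
    have hμ' : μ' ≠ 0 := by
      intro h0
      refine hQ ?_
      obtain ⟨y, hy⟩ := S.exists_one hv0
      have hz : ∀ w, B w v = 0 → B w (G.symm u) = 0 := fun w hw => by
        have h := hrel w hw
        rw [h0, zero_mul, zero_add] at h
        exact (mul_eq_zero.mp h).resolve_left hw₀u
      have hzv : G.symm u = B y (G.symm u) • v := by
        refine sub_eq_zero.mp (S.nondeg _ fun q => ?_)
        have h := hz (q - B q v • y) (by
          rw [map_sub, map_smul, LinearMap.sub_apply, LinearMap.smul_apply, hy, smul_eq_mul, mul_one, sub_self])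
        rw [map_sub, map_smul, LinearMap.sub_apply, LinearMap.smul_apply, smul_eq_mul, sub_eq_zero] at h
        rw [S.symm, map_sub, map_smul, smul_eq_mul, h]
        ring
      have hu : u = B y (G.symm u) • x := by
        have h := congrArg G hzv
        rw [G.apply_symm_apply, map_smul] at h
        exact h
      have hu0 : B y (G.symm u) ≠ 0 := fun h => hw₀u (by
        change B (G w₀) u = 0
        rw [hu, h, zero_smul, map_zero])
      rw [hu] at huu
      simp only [map_smul, LinearMap.smul_apply, smul_eq_mul, mul_eq_zero] at huu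
      exact (huu.resolve_left hu0).resolve_left hu0
    refine ⟨-μ / μ', fun w hw => ?_⟩
    field_simp
    linear_combination hrel w hw
  -- one constant
  obtain ⟨u₀, u₁, h0, h1, hu₀, hu₁, hu01⟩ := S.exists_pair ![x, e] (by omega)
  have hxu₀ : B x u₀ = 0 := by rw [S.symm]; exact h0 0
  have heu₀ : B e u₀ = 0 := by rw [S.symm]; exact h0 1
  have hxu₁ : B x u₁ = 0 := by rw [S.symm]; exact h1 0
  have heu₁ : B e u₁ = 0 := by rw [S.symm]; exact h1 1
  obtain ⟨c, hc⟩ := loc u₀ hu₀ hxu₀ heu₀
  have hGv : ∀ u, B e u = 0 → B (G.symm u) v = 0 := fun u hu => by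
    rw [← he, G.apply_symm_apply, S.symm]; exact hu
  have nb : ∀ u u' : V, ∀ k k' : F, B e u = 0 → B e u' = 0 → B u' u ≠ 0 →
      (∀ w, B w v = 0 → B (G w) u = k * B w (G.symm u)) → (∀ w, B w v = 0 → B (G w) u' = k' * B w (G.symm u')) →
      k' = k := by
    intro u u' k k' hu hu' hne hk hk'
    have a1 := hk _ (hGv u' hu')
    have a2 := hk' _ (hGv u hu)
    rw [G.apply_symm_apply] at a1 a2
    rw [S.symm u u', S.symm (G.symm u)] at a2
    have hB : B (G.symm u') (G.symm u) ≠ 0 := fun h => hne (by rw [a1, h, mul_zero])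
    exact mul_right_cancel₀ hB (a2.symm.trans a1)
  let A : Submodule F V :=
    { carrier := {y | ∀ w, B w v = 0 → B (G w) y = c * B w (G.symm y)}
      zero_mem' := fun w _ => by simp
      add_mem' := fun {y y'} h h' w hw => by rw [map_add, map_add, map_add, h w hw, h' w hw, mul_add]
      smul_mem' := fun k y h w hw => by
        rw [map_smul, map_smul, map_smul, h w hw, smul_eq_mul, smul_eq_mul]; ring }
  have hu₁A : u₁ ∈ A := by
    obtain ⟨k, hk⟩ := loc u₁ hu₁ hxu₁ heu₁
    have := nb u₀ u₁ c k heu₀ heu₁ (by rw [S.symm, hu01]; exact one_ne_zero) hc hk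
    subst this
    exact hk
  refine ⟨c, fun z hzv hzx w hw => ?_⟩
  obtain ⟨hxz, hez⟩ := hU z hzv hzx
  have hz : G z ∈ A := by
    refine S.mem_of_singular_off hu₀ hu₁ hu01 (fun w hw => hc w hw) hu₁A fun y hy hya hsp => ?_
    obtain ⟨s, t, hst⟩ := Submodule.mem_span_pair.mp hsp
    have hy' : y = (G z - B (G z) u₁ • u₀ - B (G z) u₀ • u₁) + (s • u₀ + t • u₁) := by rw [hst]; abel
    have hxy : B x y = 0 := by rw [hy']; simp [hxz, hxu₀, hxu₁]
    have hey : B e y = 0 := by rw [hy']; simp [hez, heu₀, heu₁]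
    obtain ⟨k, hk⟩ := loc y hy hxy hey
    have := nb u₀ y c k heu₀ hey hya hc hk
    subst this
    exact hk
  have h := hz w hw
  rwa [G.symm_apply_apply] at h

/-- The pulled back form is a multiple of the form up to rank one. -/
theorem rank_one [Finite F] [FiniteDimensional F V] (hd : 9 ≤ Module.finrank F V)
    (hno : ∀ a p, a ≠ 0 → p ≠ 0 → B a p = 0 → ¬ OrthRoot B K a p) {g : slGroup F V} (hg : g ∈ K) :
    ∃ (c k : F) (l : V), ∀ a b,
      B ((g : V ≃ₗ[F] V) a) ((g : V ≃ₗ[F] V) b) = c * B a b + k * (B a l * B b l) := by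
  set G : V ≃ₗ[F] V := (g : V ≃ₗ[F] V) with hG
  have h2 := S.two
  by_cases hall : ∀ v, B v v = 0 → B (G v) (G v) = 0
  · -- the singular vectors stay singular
    obtain ⟨u₀, u₁, -, -, hu₀, hu₁, hu01⟩ := S.exists_pair (k := 0) ![] (by omega)
    refine ⟨B (G u₀) (G u₁), 0, 0, ?_⟩
    set c := B (G u₀) (G u₁)
    set D : LinearMap.BilinForm F V := B.compl₁₂ G.toLinearMap G.toLinearMap - c • B with hD
    have hDab : ∀ a b, D a b = B (G a) (G b) - c * B a b := fun a b => by simp [hD]
    have hDs : ∀ a b, D a b = D b a := fun a b => by rw [hDab, hDab, S.symm (G a), S.symm a]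
    have hD0 : ∀ a, B a a = 0 → D a a = 0 := fun a ha => by rw [hDab, hall a ha, ha, mul_zero, sub_zero]
    have hD01 : D u₀ u₁ = 0 := by rw [hDab, hu01, mul_one, sub_self]
    have hu10 : B u₁ u₀ = 1 := by rw [S.symm, hu01]
    have hperp : ∀ z, B z z = 0 → B z u₀ = 0 → B z u₁ = 0 → D z u₀ = 0 ∧ D z u₁ = 0 := by
      intro z hz h0 h1
      have a0 := hD0 (z + u₀) (by simp [hz, h0, hu₀, S.symm u₀ z])
      have a1 := hD0 (z + u₁) (by simp [hz, h1, hu₁, S.symm u₁ z])
      simp only [map_add, LinearMap.add_apply, hD0 z hz, hD0 u₀ hu₀, hD0 u₁ hu₁, hDs u₀ z, hDs u₁ z] at a0 a1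
      constructor
      · exact (mul_eq_zero.mp (show (2 : F) * D z u₀ = 0 by linear_combination a0)).resolve_left h2
      · exact (mul_eq_zero.mp (show (2 : F) * D z u₁ = 0 by linear_combination a1)).resolve_left h2
    have hperp' : ∀ z, B z u₀ = 0 → B z u₁ = 0 → D z u₀ = 0 ∧ D z u₁ = 0 := by
      intro z h0 h1
      have hz := S.mem_span_singular ![u₀, u₁] (by omega) (z := z) (fun i => by fin_cases i <;> assumption)
      clear h0 h1
      induction hz using Submodule.span_induction with
      | mem y hy => exact hperp y hy.1 (hy.2 0) (hy.2 1)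
      | zero => simp
      | add p q _ _ hp hq =>
        exact ⟨by rw [map_add, LinearMap.add_apply, hp.1, hq.1, add_zero],
          by rw [map_add, LinearMap.add_apply, hp.2, hq.2, add_zero]⟩
      | smul r p _ hp =>
        exact ⟨by rw [map_smul, LinearMap.smul_apply, hp.1, smul_zero],
          by rw [map_smul, LinearMap.smul_apply, hp.2, smul_zero]⟩
    have hdiag : ∀ a, D a a = 0 := by
      intro a
      obtain ⟨z, hz⟩ : ∃ z, z = a - B a u₁ • u₀ - B a u₀ • u₁ := ⟨_, rfl⟩
      have h0 : B z u₀ = 0 := by simp [hz, hu₀, hu10]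
      have h1 : B z u₁ = 0 := by simp [hz, hu₁, hu01]
      obtain ⟨hz0, hz1⟩ := hperp' z h0 h1
      set s := -(B z z / 2)
      have hy : B (z + u₀ + s • u₁) (z + u₀ + s • u₁) = 0 := by
        simp only [map_add, map_smul, LinearMap.add_apply, LinearMap.smul_apply, smul_eq_mul, h0, h1, S.symm u₀ z,
          S.symm u₁ z, hu₀, hu₁, hu01, hu10, s]
        field_simp
        ring
      have h3 := hD0 _ hy
      simp only [map_add, map_smul, LinearMap.add_apply, LinearMap.smul_apply, smul_eq_mul, hz0, hz1, hDs u₀ z,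
        hDs u₁ z, hD01, hDs u₁ u₀, hD0 u₀ hu₀, hD0 u₁ hu₁, mul_zero, add_zero] at h3
      rw [show a = z + B a u₁ • u₀ + B a u₀ • u₁ by rw [hz]; abel]
      simp only [map_add, map_smul, LinearMap.add_apply, LinearMap.smul_apply, smul_eq_mul, hz0, hz1, hDs u₀ z,
        hDs u₁ z, hD01, hDs u₁ u₀, hD0 u₀ hu₀, hD0 u₁ hu₁, h3, mul_zero, add_zero]
    intro a b
    have h := hdiag (a + b)
    simp only [map_add, LinearMap.add_apply, hdiag, hDs b a, zero_add, add_zero] at h
    have h' : D a b = 0 := (mul_eq_zero.mp (show (2 : F) * D a b = 0 by linear_combination h)).resolve_left h2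
    rw [hDab, sub_eq_zero] at h'
    rw [h', zero_mul, add_zero]
  push Not at hall
  obtain ⟨v, hv, hQ⟩ := hall
  have hv0 : v ≠ 0 := fun h => hQ (by simp [h])
  obtain ⟨c, hc⟩ := S.proportional_at hM hd hno hg hv hv0 hQ
  set D : LinearMap.BilinForm F V := B.compl₁₂ G.toLinearMap G.toLinearMap - c • B with hD
  have hDab : ∀ a b, D a b = B (G a) (G b) - c * B a b := fun a b => by simp [hD]
  have hDs : ∀ a b, D a b = D b a := fun a b => by rw [hDab, hDab, S.symm (G a), S.symm a]
  set d := D v v with hd'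
  have hdv : d = B (G v) (G v) := by rw [hd', hDab, hv, mul_zero, sub_zero]
  have hd0 : d ≠ 0 := hdv ▸ hQ
  obtain ⟨l, hl⟩ := S.exists_rep (D.flip v)
  have hl' : ∀ a, B a l = D a v := fun a => by rw [hl, LinearMap.BilinForm.flip_apply]
  have hW : ∀ z, B z v = 0 → D z v = 0 → ∀ w, B w v = 0 → D w z = 0 := fun z hz hz' w hw => by
    have hz'' : B (G z) (G v) = 0 := by rwa [hDab, hz, mul_zero, sub_zero] at hz'
    rw [hDab, hc z hz hz'' w hw, sub_self]
  -- the constant is the same at every point
  have hother : ∀ v', B v' v' = 0 → B (G v') (G v') ≠ 0 → ∀ z, B z v' = 0 → B (G z) (G v') = 0 →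
      ∀ w, B w v' = 0 → D w z = 0 := by
    intro v' hv' hQ' z hz hz' w hw
    have hv0' : v' ≠ 0 := fun h => hQ' (by simp [h])
    obtain ⟨c', hc'⟩ := S.proportional_at hM hd hno hg hv' hv0' hQ'
    obtain ⟨e₁, he₁⟩ := S.exists_rep ((B.compl₁₂ G.toLinearMap G.toLinearMap).flip v)
    obtain ⟨e₂, he₂⟩ := S.exists_rep ((B.compl₁₂ G.toLinearMap G.toLinearMap).flip v')
    obtain ⟨p, q, hp, hq, hpq⟩ := S.exists_nonorth_pair ![v, v', e₁, e₂] (by omega)
    have e1' : ∀ y, B y e₁ = B (G y) (G v) := fun y => by simp [he₁]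
    have e2' : ∀ y, B y e₂ = B (G y) (G v') := fun y => by simp [he₂]
    have a1 := hc q (hq 0) (by rw [← e1']; exact hq 2) p (hp 0)
    have a2 := hc' q (hq 1) (by rw [← e2']; exact hq 3) p (hp 1)
    rw [hpq, mul_one] at a1 a2
    rw [hDab, hc' z hz hz' w hw, ← a1, ← a2, sub_self]
  -- `D` kills `W`
  have hkill : ∀ z, B z v = 0 → D z v = 0 → ∀ y, D y z = 0 := by
    have main : ∀ y, B y v ≠ 0 → y ∉ Submodule.span F ({v, l} : Set V) → ∀ z, B z v = 0 → D z v = 0 → D y z = 0 := by
      intro y hy hyn z hz hz'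
      obtain ⟨q, hqq, hqv, hql, hyq⟩ : ∃ q, B q q = 0 ∧ B q v = 0 ∧ B q l = 0 ∧ B y q ≠ 0 := by
        by_contra hc'
        push Not at hc'
        refine hyn ?_
        have hoo : LinearMap.BilinForm.orthogonal B (LinearMap.BilinForm.orthogonal B
            (Submodule.span F ({v, l} : Set V))) = Submodule.span F ({v, l} : Set V) :=
          LinearMap.BilinForm.orthogonal_orthogonal S.nondegenerate S.isRefl _
        rw [← hoo]
        intro t ht
        have t1 : B t v = 0 := S.isRefl _ _ (ht v (Submodule.subset_span (by simp)))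
        have t2 : B t l = 0 := S.isRefl _ _ (ht l (Submodule.subset_span (by simp)))
        have ht' := S.mem_span_singular ![v, l] (by omega) (z := t) (fun i => by fin_cases i <;> assumption)
        clear ht t1 t2
        induction ht' using Submodule.span_induction with
        | mem a ha =>
          change B a y = 0
          rw [S.symm]; exact hc' a ha.1 (ha.2 0) (ha.2 1)
        | zero => simp [LinearMap.BilinForm.IsOrtho]
        | add a b _ _ ha hb =>
          change B (a + b) y = 0
          rw [map_add, LinearMap.add_apply, ha, hb, add_zero]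
        | smul r a _ ha =>
          change B (r • a) y = 0
          rw [map_smul, LinearMap.smul_apply, ha, smul_zero]
      set r := -(B y v / B y q) • q with hr
      have hrr : B r r = 0 := by simp [hr, hqq]
      have hrv : B r v = 0 := by simp [hr, hqv]
      have hrl : D r v = 0 := by rw [← hl']; simp [hr, hql]
      have hyr : B y (v + r) = 0 := by
        simp only [hr, map_add, map_smul, smul_eq_mul]
        field_simp
        ring
      have hvl : B v l ≠ 0 := by rw [hl' v, ← hd']; exact hd0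
      obtain ⟨p, p', hp, hp', hpp, hpp', hpp''⟩ :=
        S.exists_pair_of_plane ![v, l, y, r] 0 1 (by simpa using hv) (by simpa using hvl) (by omega)
      have hpv : B p v = 0 := hp 0
      have hpl : D p v = 0 := by rw [← hl']; exact hp 1
      have hpy : B p y = 0 := hp 2
      have hpr : B p r = 0 := hp 3
      have hp'v : B p' v = 0 := hp' 0
      have hp'l : D p' v = 0 := by rw [← hl']; exact hp' 1
      have hp'r : B p' r = 0 := hp' 3
      have step : ∀ r', B r' r' = 0 → B r' v = 0 → D r' v = 0 → B y (v + r') = 0 →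
          ∀ z, B z v = 0 → D z v = 0 → B z r' = 0 → D y z = 0 := by
        intro r' h1 h1' h1'' h1''' z hz hz' hzr
        have hs : B (v + r') (v + r') = 0 := by simp [hv, h1, h1', S.symm v r']
        have hDs' : D (v + r') (v + r') = d := by
          simp only [map_add, LinearMap.add_apply, h1'', hDs v r', hW r' h1' h1'' r' h1', ← hd', add_zero]
        refine hother (v + r') hs ?_ z (by rw [map_add, hz, hzr, add_zero]) ?_ y h1'''
        · rw [hDab, hs, mul_zero, sub_zero] at hDs'
          rw [hDs']; exact hd0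
        · have h5 : D z (v + r') = 0 := by rw [map_add, hz', hW r' h1' h1'' z hz, add_zero]
          rwa [hDab, show B z (v + r') = 0 by rw [map_add, hz, hzr, add_zero], mul_zero, sub_zero] at h5
      have hy' : D y p' = 0 := step r hrr hrv hrl hyr p' hp'v hp'l hp'r
      set α := B z (r + p)
      have h6 := step (r + p) (by simp [hrr, hpp, hpr, S.symm r p]) (by simp [hrv, hpv])
        (by rw [map_add, LinearMap.add_apply, hrl, hpl, add_zero])
        (by rw [← add_assoc, map_add, hyr, S.symm y p, hpy, add_zero])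
        (z - α • p') (by simp [hz, hp'v]) (by simp [hz', hp'l])
        (by
          have : B p' (r + p) = 1 := by rw [map_add, hp'r, S.symm p' p, hpp'', zero_add]
          rw [map_sub, map_smul, LinearMap.sub_apply, LinearMap.smul_apply, this, smul_eq_mul, mul_one, sub_self])
      rwa [map_sub, map_smul, hy', smul_zero, sub_zero] at h6
    intro z hz hz' y
    by_cases hy : B y v = 0
    · exact hW z hz hz' y hy
    by_cases hyn : y ∈ Submodule.span F ({v, l} : Set V)
    swap
    · exact main y hy hyn z hz hz'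
    obtain ⟨p, p', hp, -, -, -, hpp⟩ := S.exists_pair ![v, l] (by omega)
    have hpW : B p v = 0 := hp 0
    have hpn : y + p' ∉ Submodule.span F ({v, l} : Set V) := fun h => by
      have h' := Submodule.sub_mem _ h hyn
      rw [add_sub_cancel_left] at h'
      obtain ⟨s, t, hst⟩ := Submodule.mem_span_pair.mp h'
      rw [← hst, map_add, map_smul, map_smul, hpW, show B p l = 0 from hp 1, smul_zero, smul_zero, add_zero] at hpp
      exact zero_ne_one hpp
    by_cases hyp : B (y + p') v = 0
    · have h1 := hW z hz hz' (y + p') hyp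
      by_cases hp'v : B p' v = 0
      · rw [map_add, LinearMap.add_apply, hp'v, add_zero] at hyp; exact absurd hyp hy
      · have hp'n : p' ∉ Submodule.span F ({v, l} : Set V) := fun h => hpn (Submodule.add_mem _ hyn h)
        rwa [map_add, LinearMap.add_apply, main p' hp'v hp'n z hz hz', add_zero] at h1
    · have h1 := main _ hyp hpn z hz hz'
      by_cases hp'v : B p' v = 0
      · rwa [map_add, LinearMap.add_apply, hW z hz hz' p' hp'v, add_zero] at h1
      · have hp'n : p' ∉ Submodule.span F ({v, l} : Set V) := fun h => hpn (Submodule.add_mem _ hyn h)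
        rwa [map_add, LinearMap.add_apply, main p' hp'v hp'n z hz hz', add_zero] at h1
  -- the rank one formula
  set E : V → V → F := fun a b => D a b - d⁻¹ * (D a v * D b v) with hE
  have hEv : ∀ a b, B a v = 0 → E a b = 0 := by
    intro a b ha
    set k := D a v / d
    have h := hkill (a - k • v) (by simp [ha, hv])
      (by rw [map_sub, map_smul, LinearMap.sub_apply, LinearMap.smul_apply, smul_eq_mul, ← hd',
        div_mul_cancel₀ _ hd0, sub_self]) b
    rw [map_sub, map_smul, hDs b a, smul_eq_mul, sub_eq_zero] at h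
    simp only [hE, h, k]
    field_simp
    ring
  have hEy : ∀ y, y ∉ Submodule.span F ({v, l} : Set V) → E y y = 0 := by
    intro y hyn
    by_cases hy : B y v = 0
    · exact hEv y y hy
    obtain ⟨q, hqq, hqv, hql, hyq⟩ : ∃ q, B q q = 0 ∧ B q v = 0 ∧ B q l = 0 ∧ B y q ≠ 0 := by
      by_contra hc'
      push Not at hc'
      refine hyn ?_
      have hoo : LinearMap.BilinForm.orthogonal B (LinearMap.BilinForm.orthogonal B
          (Submodule.span F ({v, l} : Set V))) = Submodule.span F ({v, l} : Set V) :=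
        LinearMap.BilinForm.orthogonal_orthogonal S.nondegenerate S.isRefl _
      rw [← hoo]
      intro t ht
      have t1 : B t v = 0 := S.isRefl _ _ (ht v (Submodule.subset_span (by simp)))
      have t2 : B t l = 0 := S.isRefl _ _ (ht l (Submodule.subset_span (by simp)))
      have ht' := S.mem_span_singular ![v, l] (by omega) (z := t) (fun i => by fin_cases i <;> assumption)
      clear ht t1 t2
      induction ht' using Submodule.span_induction with
      | mem a ha =>
        change B a y = 0
        rw [S.symm]; exact hc' a ha.1 (ha.2 0) (ha.2 1)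
      | zero => simp [LinearMap.BilinForm.IsOrtho]
      | add a b _ _ ha hb =>
        change B (a + b) y = 0
        rw [map_add, LinearMap.add_apply, ha, hb, add_zero]
      | smul r a _ ha =>
        change B (r • a) y = 0
        rw [map_smul, LinearMap.smul_apply, ha, smul_zero]
    set r := -(B y v / B y q) • q with hr
    have hrr : B r r = 0 := by simp [hr, hqq]
    have hrv : B r v = 0 := by simp [hr, hqv]
    have hrl : D r v = 0 := by rw [← hl']; simp [hr, hql]
    have hs : B (v + r) (v + r) = 0 := by simp [hv, hrr, hrv, S.symm v r]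
    have hvs : ∀ a, D a (v + r) = D a v := fun a => by rw [map_add, hkill r hrv hrl a, add_zero]
    have hQ' : B (G (v + r)) (G (v + r)) = d := by
      have h : D (v + r) (v + r) = d := by rw [hvs, map_add, LinearMap.add_apply, hrl, add_zero]
      rwa [hDab, hs, mul_zero, sub_zero] at h
    have hyr : B y (v + r) = 0 := by
      simp only [hr, map_add, map_smul, smul_eq_mul]
      field_simp
      ring
    set k := D y v / d
    have hz : B (y - k • (v + r)) (v + r) = 0 := by
      rw [map_sub, map_smul, LinearMap.sub_apply, LinearMap.smul_apply, hyr, hs, smul_zero, sub_zero]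
    have hz2 : D (y - k • (v + r)) (v + r) = 0 := by
      rw [hvs, map_sub, map_smul, LinearMap.sub_apply, LinearMap.smul_apply, map_add, LinearMap.add_apply, hrl,
        add_zero, smul_eq_mul, ← hd', div_mul_cancel₀ _ hd0, sub_self]
    have hz3 : B (G (y - k • (v + r))) (G (v + r)) = 0 := by rwa [hDab, hz, mul_zero, sub_zero] at hz2
    have h := hother _ hs (hQ'.symm ▸ hd0) _ hz hz3 y hyr
    rw [map_sub, map_smul, hvs, smul_eq_mul, sub_eq_zero] at h
    simp only [hE, h, k]
    field_simp
    ring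
  have hEd : ∀ y, E y y = 0 := by
    intro y
    by_cases hyn : y ∈ Submodule.span F ({v, l} : Set V)
    swap
    · exact hEy y hyn
    obtain ⟨p, p', hp, -, -, -, hpp⟩ := S.exists_pair ![v, l] (by omega)
    have hp'n : p' ∉ Submodule.span F ({v, l} : Set V) := fun h => by
      obtain ⟨s, t, hst⟩ := Submodule.mem_span_pair.mp h
      rw [← hst, map_add, map_smul, map_smul, show B p v = 0 from hp 0, show B p l = 0 from hp 1, smul_zero,
        smul_zero, add_zero] at hpp
      exact zero_ne_one hpp
    have a1 := hEy (y + p') fun h => hp'n (by simpa using Submodule.sub_mem _ h hyn)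
    have a2 := hEy (y - p') fun h => hp'n (by simpa using Submodule.sub_mem _ hyn h)
    have a3 := hEy p' hp'n
    simp only [hE, map_add, map_sub, LinearMap.add_apply, LinearMap.sub_apply] at a1 a2 a3 ⊢
    exact (mul_eq_zero.mp (show (2 : F) * (D y y - d⁻¹ * (D y v * D y v)) = 0 by
      linear_combination a1 + a2 - 2 * a3)).resolve_left h2
  refine ⟨c, d⁻¹, l, fun a b => ?_⟩
  have h := hEd (a + b)
  have ha := hEd a
  have hb := hEd b
  simp only [hE, map_add, LinearMap.add_apply, hDs b a] at h ha hb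
  have h' : D a b - d⁻¹ * (D a v * D b v) = 0 :=
    (mul_eq_zero.mp (show (2 : F) * (D a b - d⁻¹ * (D a v * D b v)) = 0 by
      linear_combination h - ha - hb)).resolve_left h2
  rw [hl', hl']
  linear_combination h' - hDab a b

/-- Without root groups everything is a similitude. -/
theorem similitude_of_no_root [Finite F] [FiniteDimensional F V] (hd : 9 ≤ Module.finrank F V)
    (hno : ∀ a p, a ≠ 0 → p ≠ 0 → B a p = 0 → ¬ OrthRoot B K a p) {g : slGroup F V} (hg : g ∈ K) :
    ∃ c : F, c ≠ 0 ∧ ∀ a b, B ((g : V ≃ₗ[F] V) a) ((g : V ≃ₗ[F] V) b) = c * B a b := by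
  set G : V ≃ₗ[F] V := (g : V ≃ₗ[F] V) with hG
  obtain ⟨c, k, l, h⟩ := S.rank_one hM hd hno hg
  have hc : c ≠ 0 := by
    rintro rfl
    obtain ⟨p, q, hp, -, -, -, hpq⟩ := S.exists_pair ![l] (by omega)
    have hp0 := (S.pair_ne_zero hpq).1
    refine hp0 (G.map_eq_zero_iff.mp (S.nondeg _ fun z => ?_))
    rw [← G.apply_symm_apply z]
    have := h p (G.symm z)
    rw [show B p l = 0 from hp 0, zero_mul, zero_mul, mul_zero, add_zero] at this
    exact this
  refine ⟨c, hc, fun a b => ?_⟩
  by_cases hkl : k * (B a l * B b l) = 0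
  · rw [h, hkl, add_zero]
  exfalso
  have hk : k ≠ 0 := left_ne_zero_of_mul hkl
  have hl0 : l ≠ 0 := fun e => hkl (by rw [e, map_zero, zero_mul, mul_zero])
  -- a singular vector not orthogonal to `l` and one orthogonal to both
  obtain ⟨u, hu, hlu⟩ : ∃ u, B u u = 0 ∧ B l u ≠ 0 := by
    by_contra hc'
    push Not at hc'
    refine hl0 (S.nondeg l fun z => ?_)
    have hz := S.mem_span_singular ![] (by omega) (z := z) (fun i => i.elim0)
    induction hz using Submodule.span_induction with
    | mem y hy => exact hc' y hy.1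
    | zero => simp
    | add p q _ _ hp hq => rw [map_add, hp, hq, add_zero]
    | smul r p _ hp => rw [map_smul, hp, smul_zero]
  obtain ⟨w, w', hw, hw', hww, -, hww'⟩ := S.exists_pair ![u, l] (by omega)
  have hwu : B w u = 0 := hw 0
  have hwl : B w l = 0 := hw 1
  have hw'l : B w' l = 0 := hw' 1
  have hw'u : B w' u = 0 := hw' 0
  obtain ⟨m, hm, hma⟩ := S.exists_siegel hu hwu
  have hmK : g * m * g⁻¹ ∈ K := K.mul_mem (K.mul_mem hg (hM m hm)) (K.inv_mem hg)
  obtain ⟨c', k', l', h'⟩ := S.rank_one hM hd hno hmK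
  have hh : ∀ a b, k * (B ((m : V ≃ₗ[F] V) a) l * B ((m : V ≃ₗ[F] V) b) l - B a l * B b l) =
      (c' - 1) * B (G a) (G b) + k' * (B (G a) l' * B (G b) l') := by
    intro a b
    have e1 := h' (G a) (G b)
    simp only [slGroup.mul_apply', hG, slGroup.inv_apply_self] at e1
    rw [h, hm, h] at e1
    rw [h]
    linear_combination e1
  have hml : ∀ z, B ((m : V ≃ₗ[F] V) z) l = B z l - B z w * B u l := fun z => by
    rw [hma, hww]; simp [hwl]
  have hul : B u l ≠ 0 := by rwa [S.symm]
  obtain ⟨μv, hμv⟩ := S.exists_rep ((B.flip l') ∘ₗ G.toLinearMap)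
  have hμ : ∀ z, B z μv = B (G z) l' := fun z => by simp [hμv]
  have hc1 : c' = 1 := by
    obtain ⟨p, q, hp, hq, -, -, hpq⟩ := S.exists_pair ![l, w, μv] (by omega)
    have e := hh p q
    rw [hml, hml, show B p l = 0 from hp 0, show B p w = 0 from hp 1, ← hμ, show B p μv = 0 from hp 2,
      show B q l = 0 from hq 0, h, hpq, show B p l = 0 from hp 0] at e
    simp only [zero_mul, mul_zero, sub_zero, add_zero, mul_one] at e
    exact sub_eq_zero.mp ((mul_eq_zero.mp e.symm).resolve_right hc)
  -- two test vectors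
  obtain ⟨a₀, ha₀⟩ := S.exists_nonorth hl0
  obtain ⟨s, hs⟩ : ∃ s : F, B a₀ l = (B a₀ w + s) * B u l :=
    ⟨B a₀ l / B u l - B a₀ w, by field_simp; ring⟩
  have hw'w : B w' w = 1 := by rw [S.symm, hww']
  have A1 : B (a₀ + s • w') l = B a₀ l ∧ B ((m : V ≃ₗ[F] V) (a₀ + s • w')) l = 0 := by
    constructor
    · simp [hw'l]
    · rw [hml]; simp [hw'l, hw'w]; linear_combination hs
  have A2 : B w' l = 0 ∧ B ((m : V ≃ₗ[F] V) w') l = -B u l := ⟨hw'l, by rw [hml, hw'l, hw'w]; ring⟩
  have p1 := hh (a₀ + s • w') (a₀ + s • w')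
  have p2 := hh w' w'
  have p3 := hh (a₀ + s • w') w'
  rw [A1.2, A1.1, hc1] at p1
  rw [A2.2, A2.1, hc1] at p2
  rw [A1.2, A1.1, A2.2, A2.1, hc1] at p3
  simp only [sub_self, zero_mul, mul_zero, zero_add, sub_zero, zero_sub] at p1 p2 p3
  rcases mul_eq_zero.mp p3.symm with e | e
  · rw [e, zero_mul, mul_neg, neg_eq_zero] at p1
    exact mul_ne_zero hk (mul_ne_zero ha₀ ha₀) p1
  rcases mul_eq_zero.mp e with e | e
  · rw [e, zero_mul, mul_zero, mul_neg, neg_eq_zero] at p1
    exact mul_ne_zero hk (mul_ne_zero ha₀ ha₀) p1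
  · rw [e, zero_mul, mul_zero] at p2
    exact mul_ne_zero hk (mul_ne_zero (neg_ne_zero.mpr hul) (neg_ne_zero.mpr hul)) p2

omit hM in
theorem isCoatom_similitudes [Finite F] [FiniteDimensional F V] (hd : 9 ≤ Module.finrank F V)
    {M : Subgroup (slGroup F V)}
    (hM : ∀ g : slGroup F V, g ∈ M ↔
      ∃ c : F, c ≠ 0 ∧ ∀ a b, B ((g : V ≃ₗ[F] V) a) ((g : V ≃ₗ[F] V) b) = c * B a b) : IsCoatom M := by
  refine ⟨fun htop => ?_, fun K hlt => ?_⟩
  · obtain ⟨a, b, -, -, ha, hb, hab⟩ := S.exists_pair (k := 0) ![] (by omega)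
    obtain ⟨p, q, hp, hq, hpp, -, hpq⟩ := S.exists_pair ![a, b] (by omega)
    have h0 : (B.flip a) a = 0 := by rw [LinearMap.BilinForm.flip_apply, ha]
    obtain ⟨c, -, hc⟩ := (hM _).mp (htop ▸ Subgroup.mem_top (slT (B.flip a) a h0))
    have e1 := hc p q
    have e2 := hc b b
    simp only [slT_apply, LinearMap.BilinForm.flip_apply, show B p a = 0 from hp 0, show B q a = 0 from hq 0,
      zero_smul, add_zero, hpq, mul_one, S.symm b a, hab, one_smul] at e1 e2
    simp only [map_add, LinearMap.add_apply, hb, ha, hab, S.symm b a, ← e1, one_mul, zero_add, add_zero] at e2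
    exact S.two (by linear_combination e2)
  have hK : ∀ g : slGroup F V, (∀ a b, B ((g : V ≃ₗ[F] V) a) ((g : V ≃ₗ[F] V) b) = B a b) → g ∈ K :=
    fun g hg => hlt.le ((hM g).mpr ⟨1, one_ne_zero, fun a b => by rw [one_mul]; exact hg a b⟩)
  by_cases hno : ∀ a p, a ≠ 0 → p ≠ 0 → B a p = 0 → ¬ OrthRoot B K a p
  swap
  · push Not at hno
    obtain ⟨a, p, ha, hp, hap, hR⟩ := hno
    exact S.top_of_root hK (by omega) ha hp hap hR
  exfalso
  obtain ⟨g, hg, hgM⟩ := SetLike.exists_of_lt hlt
  exact hgM ((hM g).mpr (S.similitude_of_no_root hK hd hno hg))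

end SymSpace

end Cfsg.Lib.Classical
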