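import Mathlib
import Cfsg.Agent.Classical.Orth.InSLCentres

set_option autoImplicit false
set_option linter.unusedVariables false
set_option linter.unusedSimpArgs false
set_option linter.style.haveILetI false

/-! The orthogonal similitudes form a maximal subgroup of the special linear group in dimension at least four.

An element outside the similitudes sends a singular vector `v` to a non-singular vector `x`. The conjugate of the
root group of `v` and the isometries fixing `x` then give a transvection with centre `x`. -/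

namespace Cfsg.Lib.Classical

universe u v

variable {F : Type u} [Field F] {V : Type v} [AddCommGroup V] [Module F V] {B : LinearMap.BilinForm F V}
  {K : Subgroup (slGroup F V)}

namespace SymSpace

variable (S : SymSpace B)

include S

theorem exists_perp [FiniteDimensional F V] {k : ℕ} (f : Fin k → V) (hk : k < Module.finrank F V) :
    ∃ t, t ≠ 0 ∧ ∀ i, B t (f i) = 0 := by
  set U := Submodule.span F (Set.range f)
  have hU : Module.finrank F U ≤ k := (finrank_range_le_card f).trans_eq (Fintype.card_fin k)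
  have h5 : Module.finrank F V - Module.finrank F U = Module.finrank F (LinearMap.BilinForm.orthogonal B U) :=
    (LinearMap.BilinForm.finrank_orthogonal S.nondegenerate U).symm
  obtain ⟨t, ht, ht0⟩ := Submodule.exists_mem_ne_zero_of_ne_bot
    (p := LinearMap.BilinForm.orthogonal B U) (Submodule.one_le_finrank_iff.mp (by omega))
  exact ⟨t, ht0, fun i => S.isRefl _ _ (ht (f i) (Submodule.subset_span ⟨i, rfl⟩))⟩

/-- A vector orthogonal to mutually orthogonal anisotropic vectors sees an anisotropic such vector. -/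
theorem exists_aniso {k : ℕ} (f : Fin k → V) (hf : ∀ i, B (f i) (f i) ≠ 0)
    (ho : ∀ i j, i ≠ j → B (f i) (f j) = 0) {t : V} (ht : ∀ i, B t (f i) = 0) (ht0 : t ≠ 0) :
    ∃ r, B r r ≠ 0 ∧ (∀ i, B r (f i) = 0) ∧ B t r ≠ 0 := by
  obtain ⟨z, hz⟩ := S.exists_nonorth ht0
  rw [S.symm] at hz
  set z' := z - ∑ i, (B z (f i) / B (f i) (f i)) • f i
  have hz' : ∀ j, B z' (f j) = 0 := fun j => by
    simp only [z', map_sub, map_sum, map_smul, LinearMap.sub_apply, LinearMap.sum_apply, LinearMap.smul_apply,
      smul_eq_mul]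
    rw [Finset.sum_eq_single j (fun i _ hij => by rw [ho i j hij, mul_zero]) (by simp),
      div_mul_cancel₀ _ (hf j), sub_self]
  have htz : B t z' = B t z := by simp [z', ht]
  by_cases h1 : B z' z' = 0
  swap
  · exact ⟨z', h1, hz', by rwa [htz]⟩
  by_cases h2 : B t t = 0
  swap
  · exact ⟨t, h2, ht, h2⟩
  refine ⟨z' + t, ?_, fun i => by rw [map_add, LinearMap.add_apply, hz', ht, add_zero], ?_⟩
  · simp only [map_add, LinearMap.add_apply, h1, h2, S.symm z' t, htz, zero_add, add_zero]
    rw [← two_mul]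
    exact mul_ne_zero S.two hz
  · rwa [map_add, h2, add_zero, htz]

/-- The product of two reflections in orthogonal anisotropic vectors. -/
theorem exists_pair_refl [FiniteDimensional F V] {a b : V} (ha : B a a ≠ 0) (hb : B b b ≠ 0) (hab : B a b = 0) :
    ∃ s : slGroup F V, (∀ p q, B ((s : V ≃ₗ[F] V) p) ((s : V ≃ₗ[F] V) q) = B p q) ∧
      ∀ z, (s : V ≃ₗ[F] V) z = z + ((-2 * B z a / B a a) • a + (-2 * B z b / B b b) • b) := by
  set f : V →ₗ[F] V := LinearMap.transvection ((-2 / B a a) • B.flip a) a ∘ₗ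
    LinearMap.transvection ((-2 / B b b) • B.flip b) b
  have hba : B b a = 0 := by rw [S.symm, hab]
  have hf : ∀ z, f z = z + ((-2 * B z a / B a a) • a + (-2 * B z b / B b b) • b) := fun z => by
    simp only [f, LinearMap.comp_apply, LinearMap.transvection.apply, LinearMap.smul_apply,
      LinearMap.BilinForm.flip_apply, map_add, map_smul, smul_eq_mul, hba, mul_zero, add_zero]
    module
  have hdet : LinearMap.det f = 1 := by
    rw [LinearMap.det_comp, LinearMap.transvection.det, LinearMap.transvection.det]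
    simp only [LinearMap.smul_apply, LinearMap.BilinForm.flip_apply, smul_eq_mul, div_mul_cancel₀ _ ha,
      div_mul_cancel₀ _ hb]
    ring
  let e : V ≃ₗ[F] V := f.equivOfDetNeZero (by rw [hdet]; exact one_ne_zero)
  have he : ∀ z, e z = f z := fun z => rfl
  refine ⟨⟨e, ?_⟩, fun p q => ?_, fun z => (he z).trans (hf z)⟩
  · rw [slGroup, MonoidHom.mem_ker]
    apply Units.ext
    rw [LinearEquiv.coe_det, Units.val_one, show e.toLinearMap = f from LinearMap.ext he, hdet]
  · change B (e p) (e q) = _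
    rw [he, he, hf, hf]
    simp only [map_add, map_smul, LinearMap.add_apply, LinearMap.smul_apply, smul_eq_mul, hab, hba,
      S.symm a q, S.symm b q]
    field_simp
    ring

theorem exists_pair_perp [Finite F] [FiniteDimensional F V] (hd : 4 ≤ Module.finrank F V) {x : V} (hx : B x x ≠ 0) :
    ∃ v w, B v x = 0 ∧ B w x = 0 ∧ B v v = 0 ∧ B w w = 0 ∧ B v w = 1 := by
  obtain ⟨v, hv, hv0, hvv⟩ := S.exists_singular_mem
    (LinearMap.BilinForm.orthogonal B (Submodule.span F ({x} : Set V))) (by
      rw [LinearMap.BilinForm.finrank_orthogonal S.nondegenerate,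
        finrank_span_singleton (fun e => hx (by simp [e]))]
      omega)
  have hxv : B x v = 0 := hv x (Submodule.mem_span_singleton_self x)
  have hvx : B v x = 0 := by rw [S.symm, hxv]
  obtain ⟨p, hp⟩ := S.exists_one hv0
  set p' := p - (B p x / B x x) • x
  have hvp : B v p' = 1 := by simp [p', S.symm v p, hp, hvx]
  obtain ⟨e1, e2⟩ := S.exists_singular_partner hvv hvp
  refine ⟨v, _, hvx, ?_, hvv, e1, e2⟩
  simp [p', hvx, div_mul_cancel₀ _ hx]

theorem mem_span_singular_perp [Finite F] [FiniteDimensional F V] (hd : 4 ≤ Module.finrank F V) {x z : V}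
    (hx : B x x ≠ 0) (hz : B z x = 0) : z ∈ Submodule.span F {y : V | B y y = 0 ∧ B y x = 0} := by
  obtain ⟨a, b, ha, hb, haa, hbb, hab⟩ := S.exists_pair_perp hd hx
  refine S.mem_of_singular_off haa hbb hab (Submodule.subset_span ⟨haa, ha⟩) (Submodule.subset_span ⟨hbb, hb⟩)
    fun y hy _ hsp => Submodule.subset_span ⟨hy, ?_⟩
  obtain ⟨s, t, hst⟩ := Submodule.mem_span_pair.mp hsp
  rw [← sub_add_cancel y (z - B z b • a - B z a • b), ← hst]
  simp [ha, hb, hz]

variable (hM : ∀ g : slGroup F V, (∀ a b, B ((g : V ≃ₗ[F] V) a) ((g : V ≃ₗ[F] V) b) = B a b) → g ∈ K)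

include hM

/-- A singular vector with non-singular image gives a transvection with non-singular centre. -/
theorem exists_transvection [FiniteDimensional F V] (hd : 3 ≤ Module.finrank F V) {g : slGroup F V} (hg : g ∈ K)
    {v : V} (hv : B v v = 0) (hv0 : v ≠ 0) (hQ : B ((g : V ≃ₗ[F] V) v) ((g : V ≃ₗ[F] V) v) ≠ 0) :
    ∃ (x h : V) (e : (B.flip h) x = 0), B x x ≠ 0 ∧ h ≠ 0 ∧ slT (B.flip h) x e ∈ K := by
  set G : V ≃ₗ[F] V := (g : V ≃ₗ[F] V) with hG
  set x := G v with hx
  have rep : ∀ w, ∃ f, ∀ z, B (G z) f = B z w := fun w => by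
    obtain ⟨f, hf⟩ := S.exists_rep ((B.flip w) ∘ₗ G.symm.toLinearMap)
    exact ⟨f, fun z => by
      rw [hf, LinearMap.comp_apply, LinearEquiv.coe_coe, G.symm_apply_apply, LinearMap.BilinForm.flip_apply]⟩
  obtain ⟨e, he⟩ := rep v
  have hxe : B x e = 0 := (he v).trans hv
  have he0 : e ≠ 0 := fun h => by
    obtain ⟨y, hy⟩ := S.exists_one hv0
    rw [← he, h, map_zero] at hy
    exact zero_ne_one hy
  have h2 := S.two
  choose F' hF' using rep
  set z₀ := G.symm e with hz₀
  have hGz₀ : G z₀ = e := G.apply_symm_apply e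
  -- the conjugates of Siegel elements along `v`
  have key : ∀ y, y ≠ 0 → B x y = 0 → B y e = 0 → ∃ (h : V) (T : slGroup F V), h ≠ 0 ∧ B x h = 0 ∧
      B y h = -B (G.symm y) (G.symm y) ∧
      B e h = -B z₀ (G.symm y) - B (G.symm y) (G.symm y) / 2 * B e e ∧ T ∈ K ∧
      ∀ z, (T : V ≃ₗ[F] V) z = z + B z e • y + B z h • x := by
    intro y hy0 hxy hye
    set w := G.symm y
    have hGw : G w = y := G.apply_symm_apply y
    have hwv : B w v = 0 := by rw [← he, hGw, hye]
    have hf := hF' w
    set f := F' w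
    have hxf : B x f = 0 := (hf v).trans (by rw [S.symm, hwv])
    set h := -f - (B w w / 2) • e with hh
    have hxh : B x h = 0 := by simp [h, hxf, hxe]
    have hyh : B y h = -B w w := by
      have := hf w
      rw [hGw] at this
      simp [h, this, hye]
    have heh : B e h = -B z₀ w - B w w / 2 * B e e := by
      have := hf z₀
      rw [hGz₀] at this
      simp [h, this]
    have hh0 : h ≠ 0 := by
      intro h0
      have h1 : ∀ z, B z w + B w w / 2 * B z v = 0 := fun z => by
        have := congrArg (B (G z)) h0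
        simp only [h, map_sub, map_neg, map_smul, map_zero, smul_eq_mul, hf, he] at this
        linear_combination -this
      have h2 : w + (B w w / 2) • v = 0 := S.nondeg _ fun z => by
        rw [S.symm, map_add, map_smul, smul_eq_mul, h1]
      have h3 := congrArg G h2
      rw [map_add, map_smul, map_zero, hGw, ← hx] at h3
      have h4 := congrArg (B · x) h3
      simp only [map_add, map_smul, LinearMap.add_apply, LinearMap.smul_apply, smul_eq_mul, S.symm y x, hxy,
        zero_add, map_zero, LinearMap.zero_apply] at h4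
      rw [(mul_eq_zero.mp h4).resolve_right hQ, zero_smul, add_zero] at h3
      exact hy0 h3
    obtain ⟨m, hm, hma⟩ := S.exists_siegel hv hwv
    refine ⟨h, g * m * g⁻¹, hh0, hxh, hyh, heh, K.mul_mem (K.mul_mem hg (hM m hm)) (K.inv_mem hg), fun z => ?_⟩
    obtain ⟨u, rfl⟩ : ∃ u, G u = z := ⟨_, G.apply_symm_apply z⟩
    simp only [slGroup.mul_apply', hG, slGroup.inv_apply_self, hma, map_add, map_sub, map_smul]
    rw [← hG, he, hGw, ← hx, hh]
    simp only [map_sub, map_neg, map_smul, smul_eq_mul, hf, he]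
    module
  -- an isometry scaling `e` and `y` by the same sign and moving `h`
  have finish' : ∀ (y h : V) (T s : slGroup F V) (ε : F), B x h = 0 → T ∈ K →
      (∀ z, (T : V ≃ₗ[F] V) z = z + B z e • y + B z h • x) →
      (∀ a b, B ((s : V ≃ₗ[F] V) a) ((s : V ≃ₗ[F] V) b) = B a b) → (s : V ≃ₗ[F] V) x = x →
      (s : V ≃ₗ[F] V) e = ε • e → (s : V ≃ₗ[F] V) y = ε • y → ε * ε = 1 → (s : V ≃ₗ[F] V) h ≠ h →
      ∃ (x h : V) (e : (B.flip h) x = 0), B x x ≠ 0 ∧ h ≠ 0 ∧ slT (B.flip h) x e ∈ K := by
    intro y h T s ε hxh hTK hT hs hsx hse hsy hε hsh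
    have hsK := hM s hs
    have hsB : ∀ z p, B (((s⁻¹ : slGroup F V) : V ≃ₗ[F] V) z) p = B z ((s : V ≃ₗ[F] V) p) := fun z p => by
      rw [← hs, slGroup.apply_inv_self]
    have e0 : (B.flip ((s : V ≃ₗ[F] V) h - h)) x = 0 := by
      rw [LinearMap.BilinForm.flip_apply, map_sub, hxh, sub_zero]
      conv_lhs => rw [← hsx]
      rw [hs, hxh]
    refine ⟨x, (s : V ≃ₗ[F] V) h - h, e0, hQ, sub_ne_zero.mpr hsh, ?_⟩
    convert K.mul_mem (K.inv_mem hTK) (K.mul_mem (K.mul_mem hsK hTK) (K.inv_mem hsK)) using 1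
    refine slGroup.ext' fun z => ?_
    rw [slT_apply, LinearMap.BilinForm.flip_apply, map_sub, slGroup.mul_apply']
    apply (T : V ≃ₗ[F] V).injective
    have hTx : (T : V ≃ₗ[F] V) x = x := by rw [hT, hxe, hxh]; simp
    rw [slGroup.apply_inv_self, map_add, map_smul, hTx, hT z]
    simp only [slGroup.mul_apply', hT (((s⁻¹ : slGroup F V) : V ≃ₗ[F] V) z), map_add, map_smul,
      slGroup.apply_inv_self, hsB, hse, hsy, hsx, smul_eq_mul]
    rw [smul_smul, mul_right_comm, hε, one_mul]
    module
  have hex : B e x = 0 := by rw [S.symm, hxe]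
  by_cases hee : B e e = 0
  · obtain ⟨h, T, hh0, hxh, -, -, hTK, hT⟩ := key e he0 hxe hee
    obtain ⟨u, hu⟩ := S.exists_one he0
    set u₁ := u - (B u x / B x x) • x
    have hu₁ : B e u₁ = 1 := by simp [u₁, hex, S.symm e u, hu]
    have hu₁x : B u₁ x = 0 := by simp [u₁, div_mul_cancel₀ _ hQ]
    obtain ⟨hf, hef⟩ := S.exists_singular_partner hee hu₁
    set f := u₁ - (B u₁ u₁ / 2) • e
    have hxf : B x f = 0 := by simp [f, S.symm x u₁, hu₁x, hxe]
    have hfe : B f e = 1 := by rw [S.symm, hef]
    by_cases hpl : B h e = 0 ∧ B h f = 0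
    · -- a Siegel element fixing `x` and `e`
      obtain ⟨z, hz⟩ := S.exists_nonorth hh0
      rw [S.symm] at hz
      set w' := z - (B z x / B x x) • x - B z e • f
      have hw'e : B w' e = 0 := by simp [w', hxe, hfe]
      have hw'x : B x w' = 0 := by
        simp [w', S.symm x z, div_mul_cancel₀ _ hQ, hxf]
      have hhw : B h w' = B h z := by simp [w', S.symm h x, hxh, hpl.2]
      obtain ⟨s, hs, hsz⟩ := S.exists_siegel hee hw'e
      refine finish' e h T s 1 hxh hTK hT hs (by rw [hsz, hxe, hw'x]; simp)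
        (by rw [hsz, hee, S.symm e w', hw'e]; simp) (by rw [hsz, hee, S.symm e w', hw'e]; simp) (one_mul 1)
        fun hfx => hz ?_
      rw [hsz, hpl.1, hhw, zero_smul, add_zero, mul_zero, add_zero, sub_eq_self, smul_eq_zero] at hfx
      rw [S.symm]
      first | exact hfx.resolve_right he0 | (rw [S.symm]; exact hfx.resolve_right he0)
    · have ha : B (e + f) (e + f) ≠ 0 := by
        simp only [map_add, LinearMap.add_apply, hee, hf, hef, hfe, zero_add, add_zero, one_add_one_eq_two]; exact h2
      have hb : B (e - f) (e - f) ≠ 0 := by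
        simp only [map_sub, LinearMap.sub_apply, hee, hf, hef, hfe, zero_sub, sub_zero]
        intro h; exact h2 (by linear_combination -h)
      have hab : B (e + f) (e - f) = 0 := by simp [hee, hf, hef, hfe]
      obtain ⟨s, hs, hsz₀⟩ := S.exists_pair_refl ha hb hab
      have haa : B (e + f) (e + f) = 2 := by
        simp only [map_add, LinearMap.add_apply, hee, hf, hef, hfe]; ring
      have hbb : B (e - f) (e - f) = -2 := by
        simp only [map_sub, LinearMap.sub_apply, hee, hf, hef, hfe]; ring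
      have hsz : ∀ z, (s : V ≃ₗ[F] V) z = z + ((-2 * B z f) • e + (-2 * B z e) • f) := fun z => by
        rw [hsz₀, haa, hbb, show -2 * B z (e + f) / 2 = -B z (e + f) by field_simp,
          show -2 * B z (e - f) / -2 = B z (e - f) from mul_div_cancel_left₀ _ (neg_ne_zero.mpr h2),
          (B z).map_add e f, (B z).map_sub e f]
        clear_value f
        module
      have hsx : (s : V ≃ₗ[F] V) x = x := by rw [hsz]; simp [hxe, hxf]
      have hse : (s : V ≃ₗ[F] V) e = (-1 : F) • e := by
        rw [hsz, hee, hef]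
        module
      refine finish' e h T s (-1) hxh hTK hT hs hsx hse hse (by ring) fun hfx => hpl ?_
      rw [hsz, add_eq_left] at hfx
      have a1 := congrArg (B · e) hfx
      have a2 := congrArg (B · f) hfx
      simp only [map_add, map_smul, LinearMap.add_apply, LinearMap.smul_apply, smul_eq_mul, hee, hf, hef, hfe,
        mul_zero, zero_add, add_zero, map_zero, LinearMap.zero_apply, mul_one, mul_eq_zero, neg_eq_zero, h2,
        false_or] at a1 a2
      exact ⟨a1, a2⟩
  -- some vector orthogonal to `x` and `e` comes from a non-singular one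
  obtain ⟨y, hxy, hye, hww⟩ : ∃ y, B x y = 0 ∧ B y e = 0 ∧ B (G.symm y) (G.symm y) ≠ 0 := by
    by_contra hc
    push Not at hc
    have hall : ∀ z, B z e = 0 → B (G.symm z) (G.symm z) = 0 := by
      intro z hz
      set c := B z x / B x x
      have h1 : B x (z - c • x) = 0 := by simp [c, S.symm x z, div_mul_cancel₀ _ hQ]
      have h2 : B (z - c • x) e = 0 := by simp [hz, hxe]
      have h3 := hc _ h1 h2
      have h4 : B (G.symm (z - c • x)) v = 0 := by rw [← he, G.apply_symm_apply, h2]
      have hvx : G.symm x = v := G.symm_apply_apply v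
      rw [show z = (z - c • x) + c • x by abel, map_add G.symm, map_smul G.symm, hvx]
      simp only [map_add, map_smul, LinearMap.add_apply, LinearMap.smul_apply, smul_eq_mul, h3, h4,
        S.symm v (G.symm (z - c • x)), hv]
      ring
    set U := (LinearMap.BilinForm.orthogonal B (Submodule.span F ({e} : Set V))).map G.symm.toLinearMap
    have hU : Module.finrank F U + 1 = Module.finrank F V := by
      rw [show U = _ from rfl, LinearEquiv.finrank_map_eq, LinearMap.BilinForm.finrank_orthogonal S.nondegenerate,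
        finrank_span_singleton he0]
      omega
    have hle : U ≤ LinearMap.BilinForm.orthogonal B U := by
      rintro _ ⟨a, ha, rfl⟩ _ ⟨b, hb, rfl⟩
      have hz : ∀ q ∈ LinearMap.BilinForm.orthogonal B (Submodule.span F ({e} : Set V)), B q e = 0 := fun q hq => by
        rw [S.symm]; exact hq e (Submodule.mem_span_singleton_self e)
      have h1 := hall (a + b) (hz _ (add_mem ha hb))
      rw [map_add G.symm, map_add, map_add, LinearMap.add_apply, LinearMap.add_apply, hall a (hz a ha),
        hall b (hz b hb), S.symm (G.symm b) (G.symm a)] at h1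
      show B (G.symm b) (G.symm a) = 0
      rw [S.symm]
      exact (mul_eq_zero.mp (show (2 : F) * B (G.symm a) (G.symm b) = 0 by linear_combination h1)).resolve_left h2
    have := Submodule.finrank_mono hle
    rw [LinearMap.BilinForm.finrank_orthogonal S.nondegenerate] at this
    omega
  have hy0 : y ≠ 0 := fun h => hww (by simp [h])
  by_cases hyy : B y y = 0
  · -- commutator with a Siegel element at `(y, e)`
    obtain ⟨h, T, hh0, hxh, hyh, -, hTK, hT⟩ := key y hy0 hxy hye
    have hey : B e y = 0 := by rw [S.symm, hye]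
    have hyx : B y x = 0 := by rw [S.symm, hxy]
    obtain ⟨s, hs, hsz⟩ := S.exists_siegel hyy hey
    have hsx : (s : V ≃ₗ[F] V) x = x := by rw [hsz, hxy, hxe]; simp
    have hsy : (s : V ≃ₗ[F] V) y = y := by rw [hsz, hyy, hye]; simp
    have hse : (s : V ≃ₗ[F] V) e = e - B e e • y := by rw [hsz, hey]; simp
    have hsK := hM s hs
    have hsB : ∀ z p, B (((s⁻¹ : slGroup F V) : V ≃ₗ[F] V) z) p = B z ((s : V ≃ₗ[F] V) p) := fun z p => by
      rw [← hs, slGroup.apply_inv_self]
    have hysh : B y ((s : V ≃ₗ[F] V) h) = B y h := by conv_lhs => rw [← hsy, hs]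
    have hxsh : B x ((s : V ≃ₗ[F] V) h) = 0 := by conv_lhs => rw [← hsx, hs, hxh]
    set c := B (G.symm y) (G.symm y) * B e e
    have e0 : (B.flip (c • y)) x = 0 := by simp [hxy]
    refine ⟨x, c • y, e0, hQ, smul_ne_zero (mul_ne_zero hww hee) hy0, ?_⟩
    have hS := K.mul_mem (K.mul_mem hsK hTK) (K.inv_mem hsK)
    convert K.mul_mem (K.mul_mem hTK hS) (K.inv_mem (K.mul_mem hS hTK)) using 1
    rw [eq_mul_inv_iff_mul_eq]
    refine slGroup.ext' fun z => ?_
    have hS' : ∀ z, ((s * T * s⁻¹ : slGroup F V) : V ≃ₗ[F] V) z =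
        z + B z ((s : V ≃ₗ[F] V) e) • y + B z ((s : V ≃ₗ[F] V) h) • x := fun z => by
      simp only [slGroup.mul_apply', hT, map_add, map_smul, slGroup.apply_inv_self, hsy, hsx, hsB]
    simp only [slGroup.mul_apply', slT_apply, LinearMap.BilinForm.flip_apply, hT, hS', map_add, map_smul,
      LinearMap.add_apply, LinearMap.smul_apply, smul_eq_mul, hse, map_sub, hysh, hxsh, hxh, hxe, hye, hyy, hxy,
      hyx, hyh, c]
    module
  · -- `h` or its companion for `-y` is not orthogonal to `e`
    obtain ⟨h, T, hh0, hxh, hyh, heh, hTK, hT⟩ := key y hy0 hxy hye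
    obtain ⟨h', T', hh0', hxh', -, heh', hTK', hT'⟩ := key (-y) (neg_ne_zero.mpr hy0) (by simp [hxy])
      (by simp [hye])
    have hab : B e y = 0 := by rw [S.symm, hye]
    obtain ⟨s, hs, hsz⟩ := S.exists_pair_refl hee hyy hab
    have hsx : (s : V ≃ₗ[F] V) x = x := by rw [hsz, hxe, hxy]; simp
    have hse : (s : V ≃ₗ[F] V) e = (-1 : F) • e := by
      rw [hsz, hab]
      match_scalars <;> field_simp <;> ring
    have hsy : (s : V ≃ₗ[F] V) y = (-1 : F) • y := by
      rw [hsz, hye]
      match_scalars <;> field_simp <;> ring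
    have hmoves : ∀ p, (s : V ≃ₗ[F] V) p = p → B e p = 0 := by
      intro p hp
      rw [hsz, add_eq_left] at hp
      have a1 := congrArg (B · e) hp
      simp only [map_add, map_smul, LinearMap.add_apply, LinearMap.smul_apply, smul_eq_mul, hye, mul_zero, add_zero,
        map_zero, LinearMap.zero_apply, div_mul_cancel₀ _ hee, mul_eq_zero, neg_eq_zero, h2, false_or] at a1
      rw [S.symm]; exact a1
    by_cases hh : B e h = 0
    · refine finish' (-y) h' T' s (-1) hxh' hTK' hT' hs hsx hse (by rw [map_neg, hsy, smul_neg]) (by ring)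
        fun hfx => ?_
      have h1 := hmoves h' hfx
      rw [heh] at hh
      rw [heh'] at h1
      simp only [map_neg, LinearMap.neg_apply, neg_neg] at h1
      exact mul_ne_zero hww hee (by linear_combination (norm := (field_simp; ring)) -hh - h1)
    · exact finish' y h T s (-1) hxh hTK hT hs hsx hse hsy (by ring) fun hfx => hh (hmoves h hfx)

/-- A transvection with non-singular centre generates everything. -/
theorem top_of_transvection [Finite F] [FiniteDimensional F V] (hd : 4 ≤ Module.finrank F V) {x h₀ : V}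
    (hx : B x x ≠ 0) (h0 : h₀ ≠ 0) (e₀ : (B.flip h₀) x = 0) (hK : slT (B.flip h₀) x e₀ ∈ K) : K = ⊤ := by
  have h2 := S.two
  let L : AddSubgroup V :=
    { carrier := {h | ∃ e : (B.flip h) x = 0, slT (B.flip h) x e ∈ K}
      zero_mem' := ⟨by simp, by
        convert K.one_mem
        exact slGroup.ext' fun z => by rw [slT_apply]; simp⟩
      add_mem' := fun {p q} ⟨ep, hp⟩ ⟨eq, hq⟩ => by
        refine ⟨by simp only [LinearMap.BilinForm.flip_apply] at ep eq ⊢; simp [ep, eq], ?_⟩
        convert K.mul_mem hp hq using 1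
        rw [← slT_mul]
        exact slT_congr fun z => by simp
      neg_mem' := fun {p} ⟨ep, hp⟩ => by
        refine ⟨by simp only [LinearMap.BilinForm.flip_apply] at ep ⊢; simp [ep], ?_⟩
        convert K.inv_mem hp using 1
        refine eq_inv_of_mul_eq_one_left ?_
        rw [← slT_mul]
        exact slGroup.ext' fun z => by rw [slT_apply]; simp }
  have hmap : ∀ (s : slGroup F V), (∀ p q, B ((s : V ≃ₗ[F] V) p) ((s : V ≃ₗ[F] V) q) = B p q) →
      (s : V ≃ₗ[F] V) x = x → ∀ h ∈ L, (s : V ≃ₗ[F] V) h ∈ L := by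
    rintro s hs hsx h ⟨e, hh⟩
    refine ⟨?_, ?_⟩
    · rw [LinearMap.BilinForm.flip_apply] at e ⊢
      conv_lhs => rw [← hsx]
      rw [hs, e]
    have := K.mul_mem (K.mul_mem (hM s hs) hh) (K.inv_mem (hM s hs))
    rw [slT_conj] at this
    convert this using 1
    refine slT_congr fun z => ?_
    simp only [LinearMap.comp_apply, LinearEquiv.coe_coe, LinearMap.BilinForm.flip_apply, hsx]
    rw [← hs (((s⁻¹ : slGroup F V) : V ≃ₗ[F] V) z) h, slGroup.apply_inv_self]
  have hsie : ∀ u w, B u u = 0 → B x u = 0 → B w u = 0 → B x w = 0 → ∀ h ∈ L,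
      B h u • w - (B h w + B w w / 2 * B h u) • u ∈ L := by
    intro u w hu hxu hwu hxw h hh
    obtain ⟨m, hm, hma⟩ := S.exists_siegel hu hwu
    have h1 := L.sub_mem (hmap m hm (by rw [hma, hxu, hxw]; simp) h hh) hh
    rwa [hma, add_sub_assoc, add_sub_cancel_left] at h1
  -- a singular `u` orthogonal to a member and independent of it
  have ruleA : ∀ h ∈ L, ∀ u, u ≠ 0 → B u u = 0 → B x u = 0 → B h u = 0 →
      h ∉ Submodule.span F ({u} : Set V) → ∀ c : F, c • u ∈ L := by
    intro h hh u hu0 hu hxu hhu hind c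
    have hxh : B x h = 0 := hh.1
    obtain ⟨p, hp⟩ := S.exists_one hu0
    set p' := p - (B p x / B x x) • x
    have hp'u : B p' u = 1 := by simp [p', hp, hxu]
    have hp'x : B p' x = 0 := by simp [p', div_mul_cancel₀ _ hx]
    set h' := h - B h p' • u
    have hh' : h' ≠ 0 := fun e => hind (by rw [sub_eq_zero.mp e]; exact Submodule.smul_mem _ _ (Submodule.mem_span_singleton_self u))
    obtain ⟨z, hz⟩ := S.exists_nonorth hh'
    rw [S.symm] at hz
    set z' := z - (B z x / B x x) • x - B z u • p'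
    have hz'x : B x z' = 0 := by simp [z', S.symm x p', hp'x, S.symm x z, div_mul_cancel₀ _ hx]
    have hz'u : B z' u = 0 := by simp [z', hxu, hp'u]
    have hhz : B h z' ≠ 0 := by
      have e2 : B h z' = B h' z := by
        simp only [z', h', map_sub, map_smul, LinearMap.sub_apply, LinearMap.smul_apply, smul_eq_mul,
          S.symm h x, hxh, S.symm u z]
        ring
      rwa [e2]
    have := hsie u ((-c / B h z') • z') hu hxu (by simp [hz'u]) (by simp [hz'x]) h hh
    convert this using 1
    simp only [hhu, map_smul, smul_eq_mul, zero_smul, mul_zero, add_zero, zero_sub, div_mul_cancel₀ _ hhz]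
    module
  -- a singular `u` not orthogonal to a member
  have ruleB : ∀ h ∈ L, ∀ u, u ≠ 0 → B u u = 0 → B x u = 0 → B h u ≠ 0 → ∀ c : F, c • u ∈ L := by
    intro h hh u hu0 hu hxu hhu c
    have hxh : B x h = 0 := hh.1
    obtain ⟨q₀, hq₀⟩ := S.exists_one hu0
    set q' := q₀ - (B q₀ x / B x x) • x
    have hq'u : B u q' = 1 := by simp [q', S.symm u q₀, hq₀, S.symm u x, hxu]
    obtain ⟨hqq, huq⟩ := S.exists_singular_partner hu hq'u
    set q := q' - (B q' q' / 2) • u with hq
    have hxq : B x q = 0 := by simp [q, q', S.symm x q₀, hxu, div_mul_cancel₀ _ hx]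
    have hqu : B q u = 1 := by rw [S.symm, huq]
    have hf : ∀ i, B (![x, q + u, q - u] i) (![x, q + u, q - u] i) ≠ 0 := fun i => by
      fin_cases i
      · exact hx
      · change B (q + u) (q + u) ≠ 0
        simp only [map_add, LinearMap.add_apply, hqq, hu, S.symm u q, hqu,
          zero_add, add_zero, ← two_mul, mul_one]
        exact h2
      · change B (q - u) (q - u) ≠ 0
        simp only [map_sub, LinearMap.sub_apply, hqq, hu, S.symm u q, hqu, zero_sub, sub_zero]
        intro e; exact h2 (by linear_combination -e)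
    obtain ⟨t, ht0, ht⟩ := S.exists_perp ![x, q + u, q - u] (by omega)
    obtain ⟨w, hw, hwf, -⟩ := S.exists_aniso ![x, q + u, q - u] hf (fun i j hij => by
      fin_cases i <;> fin_cases j <;> first | exact absurd rfl hij |
        simp [hxq, hxu, hqq, hu, S.symm u q, S.symm q x, S.symm u x]) ht ht0
    have hxw : B x w = 0 := by rw [S.symm]; exact hwf 0
    have w1 : B w q + B w u = 0 := by rw [← map_add]; exact hwf 1
    have w2 : B w q - B w u = 0 := by rw [← map_sub]; exact hwf 2
    have hwq : B w q = 0 := (mul_eq_zero.mp (show (2 : F) * B w q = 0 by linear_combination w1 + w2)).resolve_left h2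
    have hwu : B w u = 0 := by linear_combination w1 - hwq
    have hsq : ∀ d : F, (d * d * (B w w * B h u)) • u ∈ L := fun d => by
      have a1 := hsie u (d • w) hu hxu (by simp [hwu]) (by simp [hxw]) h hh
      have a2 := hsie u (-d • w) hu hxu (by simp [hwu]) (by simp [hxw]) h hh
      convert L.neg_mem (L.add_mem a1 a2) using 1
      simp only [map_smul, map_neg, LinearMap.smul_apply, LinearMap.neg_apply, smul_eq_mul]
      match_scalars <;> field_simp <;> ring
    set c' := c / (B w w * B h u)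
    convert L.sub_mem (hsq ((c' + 1) / 2)) (hsq ((c' - 1) / 2)) using 1
    rw [← sub_smul]
    congr 1
    rw [← sub_mul, show (c' + 1) / 2 * ((c' + 1) / 2) - (c' - 1) / 2 * ((c' - 1) / 2) = c' by field_simp; ring,
      div_mul_cancel₀ _ (mul_ne_zero hw hhu)]
  have partner : ∀ u, u ≠ 0 → B u u = 0 → B x u = 0 → ∃ p, B p p = 0 ∧ B x p = 0 ∧ B u p = 1 := by
    intro u hu0 hu hxu
    obtain ⟨p, hp⟩ := S.exists_one hu0
    set p' := p - (B p x / B x x) • x
    have hp'u : B u p' = 1 := by simp [p', S.symm u p, hp, S.symm u x, hxu]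
    obtain ⟨e1, e2⟩ := S.exists_singular_partner hu hp'u
    exact ⟨_, e1, by simp [p', S.symm x p, hxu, div_mul_cancel₀ _ hx], e2⟩
  obtain ⟨u₁, hu₁0, hu₁, hxu₁, hu₁L⟩ : ∃ u, u ≠ 0 ∧ B u u = 0 ∧ B x u = 0 ∧ ∀ c : F, c • u ∈ L := by
    have hh₀ : h₀ ∈ L := ⟨e₀, hK⟩
    have hxh : B x h₀ = 0 := e₀
    obtain ⟨u, huu, hxu, hhu⟩ : ∃ u, B u u = 0 ∧ B x u = 0 ∧ B h₀ u ≠ 0 := by
      by_contra hc
      push Not at hc
      refine h0 (S.nondeg _ fun z => ?_)
      have hsp := S.mem_span_singular_perp hd hx (z := z - (B z x / B x x) • x) (by simp [div_mul_cancel₀ _ hx])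
      have := (Submodule.span_le (p := LinearMap.ker (B h₀))).mpr
        (fun y hy => hc y hy.1 (by rw [S.symm]; exact hy.2)) hsp
      rw [LinearMap.mem_ker, map_sub, map_smul, S.symm h₀ x, hxh, smul_zero, sub_zero] at this
      exact this
    have hu0 : u ≠ 0 := fun e => hhu (by simp [e])
    exact ⟨u, hu0, huu, hxu, ruleB h₀ hh₀ u hu0 huu hxu hhu⟩
  have hu₁' : u₁ ∈ L := by simpa using hu₁L 1
  have hall : ∀ u, B u u = 0 → B x u = 0 → ∀ c : F, c • u ∈ L := by
    intro u hu hxu c
    rcases eq_or_ne u 0 with rfl | hu0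
    · rw [smul_zero]; exact L.zero_mem
    by_cases hor : B u₁ u = 0
    swap
    · exact ruleB u₁ hu₁' u hu0 hu hxu hor c
    by_cases hind : u₁ ∈ Submodule.span F ({u} : Set V)
    · obtain ⟨a, rfl⟩ := Submodule.mem_span_singleton.mp hind
      have ha : a ≠ 0 := fun e => hu₁0 (by rw [e, zero_smul])
      have := hu₁L (c * a⁻¹)
      rwa [smul_smul, inv_mul_cancel_right₀ ha] at this
    · exact ruleA u₁ hu₁' u hu0 hu hxu hor hind c
  let L' : Submodule F V :=
    { carrier := {h | ∀ c : F, c • h ∈ L}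
      add_mem' := fun {p q} hp hq c => by rw [smul_add]; exact L.add_mem (hp c) (hq c)
      zero_mem' := fun c => by rw [smul_zero]; exact L.zero_mem
      smul_mem' := fun b p hp c => by rw [smul_smul]; exact hp _ }
  have hfull : ∀ h, B x h = 0 → h ∈ L := fun h hxh => by
    have hsp := S.mem_span_singular_perp hd hx (z := h) (by rw [S.symm, hxh])
    simpa using (Submodule.span_le (p := L')).mpr (fun y hy => hall y hy.1 (by rw [S.symm]; exact hy.2)) hsp 1
  have hcen : x ∈ slCentreSpace K := fun φ hφ => by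
    obtain ⟨w, hw⟩ := S.exists_rep φ
    obtain ⟨e, he⟩ := hfull w (by rw [hw, hφ])
    convert he using 1
    exact slT_congr fun z => by rw [LinearMap.BilinForm.flip_apply, hw]
  -- the isometries spread the centre
  have hmem : ∀ s : slGroup F V, (∀ p q, B ((s : V ≃ₗ[F] V) p) ((s : V ≃ₗ[F] V) q) = B p q) → ∀ z ∈ slCentreSpace K,
      (s : V ≃ₗ[F] V) z ∈ slCentreSpace K := fun s hs z hz => slCentres_map hz (hM s hs)
  have hperp : ∀ z, B x z = 0 → z ∈ slCentreSpace K := by
    intro z hxz
    have hsp := S.mem_span_singular_perp hd hx (z := z) (by rw [S.symm, hxz])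
    refine (Submodule.span_le (p := slCentreSpace K)).mpr (fun u hu => ?_) hsp
    obtain ⟨huu, hxu'⟩ := hu
    have hxu : B x u = 0 := by rw [S.symm]; exact hxu'
    rcases eq_or_ne u 0 with rfl | hu0
    · exact Submodule.zero_mem _
    obtain ⟨p, hp, hxp, hup⟩ := partner u hu0 huu hxu
    -- a singular vector seeing `x` and orthogonal to `u`
    set v := x + u - (B x x / 2) • p with hv
    have hpu : B p u = 1 := by rw [S.symm, hup]
    have hvv : B v v = 0 := by
      simp only [hv, map_add, map_sub, map_smul, LinearMap.add_apply, LinearMap.sub_apply, LinearMap.smul_apply,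
        smul_eq_mul, huu, hp, hxu, hxp, hup, hpu, S.symm u x, S.symm p x]
      field_simp
      ring
    have hvx : B x v = B x x := by simp [hv, hxu, hxp]
    set w := u + (B x x / 2) • p
    have hwv : B w v = 0 := by
      simp only [w, hv, map_add, map_sub, map_smul, LinearMap.add_apply, LinearMap.sub_apply, LinearMap.smul_apply,
        smul_eq_mul, huu, hp, hxu, hxp, hup, hpu, S.symm u x, S.symm p x]
      ring
    have hwx : B x w = 0 := by simp [w, hxu, hxp]
    have hw0 : B w w ≠ 0 := by
      have : B w w = B x x := by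
        simp only [w, map_add, map_smul, LinearMap.add_apply, LinearMap.smul_apply, smul_eq_mul, huu, hp, hup, hpu]
        field_simp
        ring
      rwa [this]
    obtain ⟨m₁, hm₁, hma₁⟩ := S.exists_siegel hvv hwv
    obtain ⟨m₂, hm₂, hma₂⟩ := S.exists_siegel hvv (w := -w) (by simp [hwv])
    have b1 := Submodule.sub_mem _ (hmem m₁ hm₁ x hcen) (hmem m₂ hm₂ x hcen)
    have b2 := Submodule.sub_mem _ (hmem m₁ hm₁ x hcen) hcen
    rw [hma₁, hma₂, hvx, hwx] at b1
    rw [hma₁, hvx, hwx] at b2
    simp only [map_neg, LinearMap.neg_apply, hwx, neg_zero, neg_neg, zero_add] at b1 b2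
    have hwW : w ∈ slCentreSpace K := by
      have := Submodule.smul_mem _ (2 * B x x)⁻¹ b1
      convert this using 1
      match_scalars <;> field_simp <;> ring
    have hvW : v ∈ slCentreSpace K := by
      have := Submodule.smul_mem _ (-(B w w / 2 * B x x))⁻¹
        (Submodule.sub_mem _ b2 (Submodule.smul_mem _ (B x x) hwW))
      convert this using 1
      match_scalars <;> field_simp <;> ring
    have := Submodule.smul_mem _ (2 : F)⁻¹ (Submodule.add_mem _ (Submodule.sub_mem _ hvW hcen) hwW)
    rw [SetLike.mem_coe]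
    convert this using 1
    simp only [hv, w]
    match_scalars <;> field_simp <;> ring
  refine slGroup_eq_top_of_transvections fun y => ?_
  have := Submodule.add_mem _ (hperp (y - (B x y / B x x) • x) (by simp [div_mul_cancel₀ _ hx]))
    (Submodule.smul_mem _ (B x y / B x x) hcen)
  rwa [sub_add_cancel] at this

omit hM in
/-- An element keeping the singular vectors singular is a similitude. -/
theorem similitude_of_singular [Finite F] [FiniteDimensional F V] (hd : 4 ≤ Module.finrank F V)
    {g : slGroup F V} (hall : ∀ v, B v v = 0 → B ((g : V ≃ₗ[F] V) v) ((g : V ≃ₗ[F] V) v) = 0) :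
    ∃ c : F, c ≠ 0 ∧ ∀ a b, B ((g : V ≃ₗ[F] V) a) ((g : V ≃ₗ[F] V) b) = c * B a b := by
  set G : V ≃ₗ[F] V := (g : V ≃ₗ[F] V) with hG
  have h2 := S.two
  obtain ⟨u₀, u₁, -, -, hu₀, hu₁, hu01⟩ := S.exists_pair (k := 0) ![] (by omega)
  set c := B (G u₀) (G u₁)
  set D : LinearMap.BilinForm F V := B.compl₁₂ G.toLinearMap G.toLinearMap - c • B with hD
  have hDab : ∀ a b, D a b = B (G a) (G b) - c * B a b := fun a b => by simp [hD]
  have hDs : ∀ a b, D a b = D b a := fun a b => by rw [hDab, hDab, S.symm (G a), S.symm a]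
  have hD0 : ∀ a, B a a = 0 → D a a = 0 := fun a ha => by rw [hDab, hall a ha, ha, mul_zero, sub_zero]
  have hD01 : D u₀ u₁ = 0 := by rw [hDab, hu01, mul_one, sub_self]
  have hu10 : B u₁ u₀ = 1 := by rw [S.symm, hu01]
  -- vectors orthogonal to the plane
  have hrel : ∀ z, B z u₀ = 0 → B z u₁ = 0 →
      D z u₀ - B z z / 2 * D z u₁ = 0 ∧ D z u₁ - B z z / 2 * D z u₀ = 0 := by
    intro z h0 h1
    set t := -(B z z / 2) with ht
    have hs : ∀ c : F, c = 1 ∨ c = -1 →
        B (c • z + u₀ + t • u₁) (c • z + u₀ + t • u₁) = 0 ∧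
        B (c • z + t • u₀ + u₁) (c • z + t • u₀ + u₁) = 0 := by
      intro c hc
      constructor <;>
      · simp only [map_add, map_smul, LinearMap.add_apply, LinearMap.smul_apply, smul_eq_mul, h0, h1, S.symm u₀ z,
          S.symm u₁ z, hu₀, hu₁, hu01, hu10, ht]
        rcases hc with rfl | rfl <;> field_simp <;> ring
    have a1 := hD0 _ (hs 1 (Or.inl rfl)).1
    have a2 := hD0 _ (hs (-1) (Or.inr rfl)).1
    have b1 := hD0 _ (hs 1 (Or.inl rfl)).2
    have b2 := hD0 _ (hs (-1) (Or.inr rfl)).2
    simp only [map_add, map_smul, LinearMap.add_apply, LinearMap.smul_apply, smul_eq_mul, hDs u₀ z, hDs u₁ z,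
      hD01, hDs u₁ u₀, hD0 u₀ hu₀, hD0 u₁ hu₁] at a1 a2 b1 b2
    have h4 : (4 : F) ≠ 0 := by
      rw [show (4 : F) = 2 * 2 by norm_num]; exact mul_ne_zero h2 h2
    constructor
    · exact (mul_eq_zero.mp (show (4 : F) * (D z u₀ - B z z / 2 * D z u₁) = 0 by
        linear_combination a1 - a2)).resolve_left h4
    · exact (mul_eq_zero.mp (show (4 : F) * (D z u₁ - B z z / 2 * D z u₀) = 0 by
        linear_combination b1 - b2)).resolve_left h4
  have hperp : ∀ z, B z u₀ = 0 → B z u₁ = 0 → D z u₀ = 0 ∧ D z u₁ = 0 := by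
    intro z h0 h1
    obtain ⟨r0, r1⟩ := hrel z h0 h1
    by_cases hzz : B z z = 0
    · rw [hzz, zero_div, zero_mul, sub_zero] at r0 r1
      exact ⟨r0, r1⟩
    have hf : ∀ i, B (![z, u₀ + u₁, u₀ - u₁] i) (![z, u₀ + u₁, u₀ - u₁] i) ≠ 0 := fun i => by
      fin_cases i
      · exact hzz
      · change B (u₀ + u₁) (u₀ + u₁) ≠ 0
        simp only [map_add, LinearMap.add_apply, hu₀, hu₁, hu01, hu10, zero_add, add_zero, one_add_one_eq_two]
        exact h2
      · change B (u₀ - u₁) (u₀ - u₁) ≠ 0
        simp only [map_sub, LinearMap.sub_apply, hu₀, hu₁, hu01, hu10, zero_sub, sub_zero]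
        intro e; exact h2 (by linear_combination -e)
    obtain ⟨t, ht0, ht⟩ := S.exists_perp ![z, u₀ + u₁, u₀ - u₁] (by omega)
    obtain ⟨w, hw, hwf, -⟩ := S.exists_aniso ![z, u₀ + u₁, u₀ - u₁] hf (fun i j hij => by
      fin_cases i <;> fin_cases j <;> first | exact absurd rfl hij |
        simp [h0, h1, S.symm u₀ z, S.symm u₁ z, hu₀, hu₁, hu01, hu10]) ht ht0
    have hwz : B w z = 0 := hwf 0
    have w1 : B w u₀ + B w u₁ = 0 := by rw [← map_add]; exact hwf 1
    have w2 : B w u₀ - B w u₁ = 0 := by rw [← map_sub]; exact hwf 2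
    have hw0 : B w u₀ = 0 := (mul_eq_zero.mp (show (2 : F) * B w u₀ = 0 by linear_combination w1 + w2)).resolve_left h2
    have hw1 : B w u₁ = 0 := by linear_combination w1 - hw0
    obtain ⟨p0, -⟩ := hrel (z + w) (by simp [h0, hw0]) (by simp [h1, hw1])
    obtain ⟨m0, -⟩ := hrel (z - w) (by simp [h0, hw0]) (by simp [h1, hw1])
    simp only [map_add, map_sub, LinearMap.add_apply, LinearMap.sub_apply, hwz, S.symm z w, add_zero, sub_zero,
      zero_add, zero_sub, sub_neg_eq_add] at p0 m0
    have key : B w w * D z u₁ = 0 := by linear_combination (norm := (field_simp; ring)) 2 * r0 - p0 - m0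
    have hz1 : D z u₁ = 0 := (mul_eq_zero.mp key).resolve_left hw
    rw [hz1, mul_zero, sub_zero] at r0
    exact ⟨r0, hz1⟩
  have hdiag : ∀ a, D a a = 0 := by
    intro a
    obtain ⟨z, hz⟩ : ∃ z, z = a - B a u₁ • u₀ - B a u₀ • u₁ := ⟨_, rfl⟩
    have h0 : B z u₀ = 0 := by simp [hz, hu₀, hu10]
    have h1 : B z u₁ = 0 := by simp [hz, hu₁, hu01]
    obtain ⟨hz0, hz1⟩ := hperp z h0 h1
    set s := -(B z z / 2)
    have hy : B (z + u₀ + s • u₁) (z + u₀ + s • u₁) = 0 := by
      simp only [map_add, map_smul, LinearMap.add_apply, LinearMap.smul_apply, smul_eq_mul, h0, h1, S.symm u₀ z,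
        S.symm u₁ z, hu₀, hu₁, hu01, hu10, s]
      field_simp
      ring
    have h3 := hD0 _ hy
    simp only [map_add, map_smul, LinearMap.add_apply, LinearMap.smul_apply, smul_eq_mul, hz0, hz1, hDs u₀ z,
      hDs u₁ z, hD01, hDs u₁ u₀, hD0 u₀ hu₀, hD0 u₁ hu₁, mul_zero, add_zero] at h3
    rw [show a = z + B a u₁ • u₀ + B a u₀ • u₁ by rw [hz]; abel]
    simp only [map_add, map_smul, LinearMap.add_apply, LinearMap.smul_apply, smul_eq_mul, hz0, hz1, hDs u₀ z,
      hDs u₁ z, hD01, hDs u₁ u₀, hD0 u₀ hu₀, hD0 u₁ hu₁, h3, mul_zero, add_zero]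
  have heq : ∀ a b, B (G a) (G b) = c * B a b := fun a b => by
    have h := hdiag (a + b)
    simp only [map_add, LinearMap.add_apply, hdiag, hDs b a, zero_add, add_zero] at h
    have h' : D a b = 0 := (mul_eq_zero.mp (show (2 : F) * D a b = 0 by linear_combination h)).resolve_left h2
    rwa [hDab, sub_eq_zero] at h'
  refine ⟨c, fun hc => ?_, heq⟩
  refine (S.pair_ne_zero hu01).1 (G.map_eq_zero_iff.mp (S.nondeg _ fun z => ?_))
  rw [← G.apply_symm_apply z, heq, hc, zero_mul]

omit hM in
theorem isCoatom_similitudes_five [Finite F] [FiniteDimensional F V] (hd : 4 ≤ Module.finrank F V)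
    {M : Subgroup (slGroup F V)}
    (hM : ∀ g : slGroup F V, g ∈ M ↔
      ∃ c : F, c ≠ 0 ∧ ∀ a b, B ((g : V ≃ₗ[F] V) a) ((g : V ≃ₗ[F] V) b) = c * B a b) : IsCoatom M := by
  refine ⟨fun htop => ?_, fun K hlt => ?_⟩
  · obtain ⟨a, b, -, -, ha, hb, hab⟩ := S.exists_pair (k := 0) ![] (by omega)
    have h2 := S.two
    have hba : B b a = 1 := by rw [S.symm, hab]
    have hf : ∀ i, B (![a + b, a - b] i) (![a + b, a - b] i) ≠ 0 := fun i => by
      fin_cases i
      · change B (a + b) (a + b) ≠ 0
        simp only [map_add, LinearMap.add_apply, ha, hb, hab, hba, zero_add, add_zero, one_add_one_eq_two]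
        exact h2
      · change B (a - b) (a - b) ≠ 0
        simp only [map_sub, LinearMap.sub_apply, ha, hb, hab, hba, zero_sub, sub_zero]
        intro e; exact h2 (by linear_combination -e)
    obtain ⟨t, ht0, ht⟩ := S.exists_perp ![a + b, a - b] (by omega)
    obtain ⟨p, hp, hpf, -⟩ := S.exists_aniso ![a + b, a - b] hf (fun i j hij => by
      fin_cases i <;> fin_cases j <;> first | exact absurd rfl hij | simp [ha, hb, hab, hba]) ht ht0
    have w1 : B p a + B p b = 0 := by rw [← map_add]; exact hpf 0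
    have w2 : B p a - B p b = 0 := by rw [← map_sub]; exact hpf 1
    have hpa : B p a = 0 := (mul_eq_zero.mp (show (2 : F) * B p a = 0 by linear_combination w1 + w2)).resolve_left h2
    have h0 : (B.flip a) a = 0 := by rw [LinearMap.BilinForm.flip_apply, ha]
    obtain ⟨c, -, hc⟩ := (hM _).mp (htop ▸ Subgroup.mem_top (slT (B.flip a) a h0))
    have e1 := hc p p
    have e2 := hc b b
    simp only [slT_apply, LinearMap.BilinForm.flip_apply, hpa, hba, zero_smul, add_zero, one_smul] at e1 e2
    rw [eq_comm, mul_eq_right₀ hp] at e1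
    simp only [map_add, LinearMap.add_apply, hb, ha, hab, hba, e1, one_mul, zero_add, add_zero] at e2
    exact h2 (by linear_combination e2)
  have hK : ∀ g : slGroup F V, (∀ a b, B ((g : V ≃ₗ[F] V) a) ((g : V ≃ₗ[F] V) b) = B a b) → g ∈ K :=
    fun g hg => hlt.le ((hM g).mpr ⟨1, one_ne_zero, fun a b => by rw [one_mul]; exact hg a b⟩)
  obtain ⟨g, hg, hgM⟩ := SetLike.exists_of_lt hlt
  by_cases hall : ∀ v, B v v = 0 → B ((g : V ≃ₗ[F] V) v) ((g : V ≃ₗ[F] V) v) = 0
  · exact absurd ((hM g).mpr (S.similitude_of_singular hd hall)) hgM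
  push Not at hall
  obtain ⟨v, hv, hQ⟩ := hall
  obtain ⟨x, h, e, hx, hh, hT⟩ := S.exists_transvection hK (by omega) hg hv (fun h => hQ (by simp [h])) hQ
  exact S.top_of_transvection hK hd hx hh e hT

end SymSpace

end Cfsg.Lib.Classical
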