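import Mathlib
import Cfsg.Agent.Classical.Orth.ParabolicMax
import Cfsg.Agent.Classical.Orth.NondegMax
import Cfsg.Agent.Classical.Transv.Basic

/-! The stabiliser of two complementary maximal singular subspaces of even dimension is maximal in `Ω`. -/

set_option autoImplicit false
set_option linter.unusedSimpArgs false
set_option linter.unusedSectionVars false
set_option linter.style.haveILetI false
set_option linter.flexible false

namespace Cfsg.Lib.Classical.Refl

open Matrix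

universe u

variable {F : Type u} [Field F] {ι : Type} [Fintype ι] [DecidableEq ι]

/-- Two complementary singular subspaces of equal dimension. -/
structure SPair (Q : QuadraticForm F (ι → F)) (W₁ W₂ : Submodule F (ι → F)) (k : ℕ) : Prop where
  nondeg : (QuadraticMap.polarBilin Q).Nondegenerate
  compl : IsCompl W₁ W₂
  sing₁ : ∀ x ∈ W₁, Q x = 0
  sing₂ : ∀ x ∈ W₂, Q x = 0
  dim₁ : Module.finrank F W₁ = k
  dim₂ : Module.finrank F W₂ = k
  big : 5 ≤ k

variable (Q : QuadraticForm F (ι → F))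

/-- The vectors `z` with all the Siegel elements of `u` along `z` in `K`. -/
def zset (K : Subgroup (Cfsg.isometryGroup F (⇑Q))) (u : ι → F) : Submodule F (ι → F) where
  carrier := {z | QuadraticMap.polar (⇑Q) u z = 0 ∧
    ∀ (hu : Q u = 0) (c : F) (h : QuadraticMap.polar (⇑Q) u (c • z) = 0), siegelG Q hu h ∈ K}
  add_mem' := by
    rintro a b ⟨ha, ha'⟩ ⟨hb, hb'⟩
    refine ⟨by rw [QuadraticMap.polar_add_right, ha, hb, add_zero], fun hu c h => ?_⟩
    have hca : QuadraticMap.polar (⇑Q) u (c • a) = 0 := by rw [QuadraticMap.polar_smul_right, ha, smul_zero]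
    have hcb : QuadraticMap.polar (⇑Q) u (c • b) = 0 := by rw [QuadraticMap.polar_smul_right, hb, smul_zero]
    have e := K.mul_mem (ha' hu c hca) (hb' hu c hcb)
    rw [siegelG_mul] at e
    convert e using 2
    rw [smul_add]
  zero_mem' := by
    refine ⟨by simp, fun hu c h => ?_⟩
    convert K.one_mem
    refine ext_mulVec Q fun x => ?_
    rw [mat_siegelG, smul_zero, siegel_zero]
    exact (Matrix.one_mulVec x).symm
  smul_mem' := by
    rintro a z ⟨hz, hz'⟩
    refine ⟨by rw [QuadraticMap.polar_smul_right, hz, smul_zero], fun hu c h => ?_⟩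
    have := hz' hu (c * a) (by rw [QuadraticMap.polar_smul_right, hz, smul_zero])
    convert this using 2
    rw [mul_smul]

variable {Q} {K : Subgroup (Cfsg.isometryGroup F (⇑Q))}

theorem mem_zset {u z : ι → F} : z ∈ zset Q K u ↔ QuadraticMap.polar (⇑Q) u z = 0 ∧
    ∀ (hu : Q u = 0) (c : F) (h : QuadraticMap.polar (⇑Q) u (c • z) = 0), siegelG Q hu h ∈ K := Iff.rfl

theorem zset_swap {u z : ι → F} (hu : Q u = 0) (hz : Q z = 0) (h : z ∈ zset Q K u) : u ∈ zset Q K z := by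
  have h0 : QuadraticMap.polar (⇑Q) z u = 0 := by rw [QuadraticMap.polar_comm]; exact h.1
  refine ⟨h0, fun hz' c hc => ?_⟩
  have := h.2 hu (-c) (by rw [QuadraticMap.polar_smul_right, h.1, smul_zero])
  convert this using 1
  refine siegelG_congr Q _ _ _ _ fun x => ?_
  funext i
  simp only [siegelMap, QuadraticMap.map_smul, hu, hz, QuadraticMap.polar_smul_left, Pi.add_apply, Pi.smul_apply,
    smul_eq_mul]
  ring

theorem zset_map {u z : ι → F} (h : z ∈ zset Q K u) {g : Cfsg.isometryGroup F (⇑Q)} (hg : g ∈ K) :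
    mat Q g *ᵥ z ∈ zset Q K (mat Q g *ᵥ u) := by
  refine ⟨by rw [polar_act, h.1], fun hu c hc => ?_⟩
  have hu' : Q u = 0 := by rw [← (mem_iff Q).mp g.2 u]; exact hu
  have e := K.mul_mem (K.mul_mem hg (h.2 hu' c (by rw [QuadraticMap.polar_smul_right, h.1, smul_zero])))
    (K.inv_mem hg)
  rw [siegelG_conj] at e
  convert e using 2
  exact (Matrix.mulVec_smul _ _ _).symm

theorem sCentres_of_zset {u : ι → F} (hu : Q u = 0)
    (h : ∀ z, QuadraticMap.polar (⇑Q) u z = 0 → z ∈ zset Q K u) : u ∈ sCentres Q K := by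
  refine ⟨hu, fun z hz => ?_⟩
  have := (h z hz).2 hu 1 (by rw [one_smul]; exact hz)
  convert this using 2
  exact (one_smul F z).symm

theorem zset_of_sCentres {u z : ι → F} (h : u ∈ sCentres Q K) (hz : QuadraticMap.polar (⇑Q) u z = 0) :
    z ∈ zset Q K u := ⟨hz, fun _ c hc => h.2 _ hc⟩

namespace SPair

variable {W₁ W₂ : Submodule F (ι → F)} {k : ℕ} (S : SPair Q W₁ W₂ k)
include S

theorem symm : SPair Q W₂ W₁ k :=
  ⟨S.nondeg, S.compl.symm, S.sing₂, S.sing₁, S.dim₂, S.dim₁, S.big⟩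

theorem split (x : ι → F) : ∃ a ∈ W₁, ∃ b ∈ W₂, x = a + b := by
  obtain ⟨a, ha, b, hb, e⟩ := Submodule.mem_sup.mp (S.compl.sup_eq_top ▸ Submodule.mem_top : x ∈ W₁ ⊔ W₂)
  exact ⟨a, ha, b, hb, e.symm⟩

theorem polar₁ {a b : ι → F} (ha : a ∈ W₁) (hb : b ∈ W₁) : QuadraticMap.polar (⇑Q) a b = 0 :=
  HypQuad.polar_zero_of_singular Q S.sing₁ ha hb

theorem exists_test (U : Submodule F (ι → F)) {v : ι → F} (hv : v ∈ W₁) (hvU : v ∉ U) (hU : U ≤ W₁) :
    ∃ w ∈ W₂, QuadraticMap.polar (⇑Q) v w = 1 ∧ ∀ s ∈ U, QuadraticMap.polar (⇑Q) s w = 0 := by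
  obtain ⟨φ, hφv, hφU⟩ := exists_dual_vanish hvU
  obtain ⟨y, hy⟩ := WittQuad.exists_partner_vec Q S.nondeg φ
  obtain ⟨p, hp, q, hq, rfl⟩ := S.split y
  have hq' : ∀ x ∈ W₁, QuadraticMap.polar (⇑Q) x q = φ x := fun x hx => by
    rw [← hy x, QuadraticMap.polar_add_right, S.polar₁ hx hp, zero_add]
  exact ⟨q, hq, by rw [hq' v hv, hφv], fun s hs => by rw [hq' s (hU hs), hφU s hs]⟩

theorem exists_pick (p q r a : ι → F) : ∃ v ∈ W₁, v ∉ Submodule.span F {a} ∧ QuadraticMap.polar (⇑Q) v p = 0 ∧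
    QuadraticMap.polar (⇑Q) v q = 0 ∧ QuadraticMap.polar (⇑Q) v r = 0 := by
  classical
  set T := Submodule.span F (({p, q, r} : Finset (ι → F)) : Set (ι → F))
  have hT : Module.finrank F T ≤ 3 := (finrank_span_finset_le_card _).trans Finset.card_le_three
  have hle : ¬ W₁ ⊓ HypQuad.perp Q T ≤ Submodule.span F {a} := fun h => by
    have h1 := (Submodule.finrank_mono h).trans (finrank_span_le_card ({a} : Set (ι → F)))
    have h2 := Submodule.finrank_sup_add_finrank_inf_eq W₁ (HypQuad.perp Q T)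
    have h3 := Submodule.finrank_le (W₁ ⊔ HypQuad.perp Q T)
    have h4 := HypQuad.finrank_perp Q S.nondeg T
    have := S.big
    have := S.dim₁
    simp at h1
    omega
  obtain ⟨v, ⟨hv, hvT⟩, hva⟩ := SetLike.not_le_iff_exists.mp hle
  have h := (HypQuad.mem_perp Q).mp hvT
  exact ⟨v, hv, hva, by rw [QuadraticMap.polar_comm]; exact h p (Submodule.subset_span (by simp)),
    by rw [QuadraticMap.polar_comm]; exact h q (Submodule.subset_span (by simp)),
    by rw [QuadraticMap.polar_comm]; exact h r (Submodule.subset_span (by simp))⟩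

variable (hR : ∀ u ∈ W₁, ∀ w ∈ W₂, QuadraticMap.polar (⇑Q) u w = 0 → w ∈ zset Q K u)
include hR

theorem root_symm : ∀ u ∈ W₂, ∀ w ∈ W₁, QuadraticMap.polar (⇑Q) u w = 0 → w ∈ zset Q K u :=
  fun u hu w hw h => zset_swap (S.sing₁ w hw) (S.sing₂ u hu) (hR w hw u hu (by rw [QuadraticMap.polar_comm]; exact h))

theorem move_mem {v w : ι → F} (hv : v ∈ W₁) (hw : w ∈ W₂) (hvw : QuadraticMap.polar (⇑Q) v w = 0) :
    ∃ m ∈ K, ∀ x, mat Q m *ᵥ x = x + QuadraticMap.polar (⇑Q) v x • w - QuadraticMap.polar (⇑Q) w x • v := by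
  refine ⟨_, (hR v hv w hw hvw).2 (S.sing₁ v hv) 1 (by rw [one_smul]; exact hvw), fun x => ?_⟩
  rw [mat_siegelG]
  simp only [siegelMap, one_smul, S.sing₂ w hw, zero_mul, sub_zero, neg_smul]
  abel

theorem pair_extend {a v a' : ι → F} (ha : a ∈ W₁) (hv : v ∈ W₁) (hva : v ∉ Submodule.span F {a})
    (hP : v ∈ zset Q K a) (ha' : a' ∈ W₁) : a' ∈ zset Q K a := by
  have haa : a ∈ zset Q K a := by
    refine ⟨S.polar₁ ha ha, fun hu c hc => ?_⟩
    convert K.one_mem
    refine ext_mulVec Q fun x => ?_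
    rw [mat_siegelG]
    refine Eq.trans ?_ (Matrix.one_mulVec x).symm
    funext i
    simp only [siegelMap, QuadraticMap.map_smul, hu, QuadraticMap.polar_smul_left, Pi.add_apply, Pi.smul_apply,
      smul_eq_mul]
    ring
  by_cases hmem : v ∈ Submodule.span F ({a', a} : Set (ι → F))
  · have h1 := mem_span_insert_exchange hmem hva
    refine (Submodule.span_le.mpr ?_) h1
    rintro x (rfl | rfl)
    exacts [hP, haa]
  obtain ⟨w, hw, hwv, hwU⟩ := S.exists_test _ hv hmem (Submodule.span_le.mpr (by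
    rintro x (rfl | rfl)
    exacts [ha', ha]))
  have hwa : QuadraticMap.polar (⇑Q) w a = 0 := by
    rw [QuadraticMap.polar_comm]; exact hwU a (Submodule.subset_span (by simp))
  obtain ⟨m, hm, hmx⟩ := S.move_mem hR ha' hw (hwU a' (Submodule.subset_span (by simp)))
  have e1 : mat Q m *ᵥ a = a := by rw [hmx, S.polar₁ ha' ha, hwa]; simp
  have e2 : mat Q m *ᵥ v = v - a' := by
    rw [hmx, S.polar₁ ha' hv, QuadraticMap.polar_comm (⇑Q) w v, hwv]; simp
  have := zset_map hP hm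
  rw [e1, e2] at this
  simpa using sub_mem hP this

theorem centre_of_pair {a v : ι → F} (ha : a ∈ W₁) (hv : v ∈ W₁) (hva : v ∉ Submodule.span F {a})
    (hP : v ∈ zset Q K a) : a ∈ sCentres Q K := by
  refine sCentres_of_zset (S.sing₁ a ha) fun z hz => ?_
  obtain ⟨p, hp, q, hq, rfl⟩ := S.split z
  refine add_mem (S.pair_extend hR ha hv hva hP hp) (hR a ha q hq ?_)
  rwa [QuadraticMap.polar_add_right, S.polar₁ ha hp, zero_add] at hz

theorem centres_of_pair {a v : ι → F} (ha : a ∈ W₁) (ha0 : a ≠ 0) (hv : v ∈ W₁) (hva : v ∉ Submodule.span F {a})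
    (hP : v ∈ zset Q K a) : ∀ u ∈ W₁, u ∈ sCentres Q K := by
  intro u hu
  have hC := S.centre_of_pair hR ha hv hva hP
  by_cases hua : u ∈ Submodule.span F {a}
  · obtain ⟨c, rfl⟩ := Submodule.mem_span_singleton.mp hua
    exact sCentres_smul hC c
  have hau : a ∉ Submodule.span F {u} := fun h => by
    obtain ⟨c, rfl⟩ := Submodule.mem_span_singleton.mp h
    have hc : c ≠ 0 := fun h => ha0 (by rw [h, zero_smul])
    exact hua (Submodule.mem_span_singleton.mpr ⟨c⁻¹, by rw [smul_smul, inv_mul_cancel₀ hc, one_smul]⟩)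
  exact S.centre_of_pair hR hu ha hau (zset_swap (S.sing₁ a ha) (S.sing₁ u hu) (S.pair_extend hR ha hv hva hP hu))

theorem centres_of_split {a b v : ι → F} (ha : a ∈ W₁) (hb : b ∈ W₂) (hx : Q (a + b) = 0) (ha0 : a ≠ 0)
    (hv : v ∈ W₁) (hva : v ∉ Submodule.span F {a}) (hP : v ∈ zset Q K (a + b)) :
    ∀ u ∈ W₁, u ∈ sCentres Q K := by
  have h1 := zset_swap hx (S.sing₁ v hv) hP
  have hvb : QuadraticMap.polar (⇑Q) v b = 0 := by
    have := h1.1
    rwa [QuadraticMap.polar_add_right, S.polar₁ hv ha, zero_add] at this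
  have h2 : a ∈ zset Q K v := by simpa using sub_mem h1 (hR v hv b hb hvb)
  exact S.centres_of_pair hR ha ha0 hv hva (zset_swap (S.sing₁ v hv) (S.sing₁ a ha) h2)

theorem orth_of_none (hno : ¬ ∀ u ∈ W₁, u ∈ sCentres Q K) {a b y w : ι → F} (ha : a ∈ W₁) (hb : b ∈ W₂)
    (hx : Q (a + b) = 0) (ha0 : a ≠ 0) (hy : y ∈ zset Q K (a + b)) (hw : w ∈ W₂)
    (hwa : QuadraticMap.polar (⇑Q) a w = 0) : QuadraticMap.polar (⇑Q) w y = 0 := by
  by_contra hne
  obtain ⟨v, hv, hva, hvb, hvw, hvy⟩ := S.exists_pick b w y a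
  obtain ⟨m, hm, hmx⟩ := S.move_mem hR hv hw hvw
  have e1 : mat Q m *ᵥ (a + b) = a + b := by
    rw [hmx, QuadraticMap.polar_add_right, S.polar₁ hv ha, hvb, QuadraticMap.polar_add_right,
      QuadraticMap.polar_comm (⇑Q) w a, hwa, HypQuad.polar_zero_of_singular Q S.sing₂ hw hb]
    simp
  have e2 : mat Q m *ᵥ y = y - QuadraticMap.polar (⇑Q) w y • v := by rw [hmx, hvy]; simp
  have := zset_map hy hm
  rw [e1, e2] at this
  have h1 : QuadraticMap.polar (⇑Q) w y • v ∈ zset Q K (a + b) := by simpa using sub_mem hy this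
  rw [Submodule.smul_mem_iff _ hne] at h1
  exact hno (S.centres_of_split hR ha hb hx ha0 hv hva h1)

theorem comp_mem_span (hno : ¬ ∀ u ∈ W₁, u ∈ sCentres Q K) {a b p q : ι → F} (ha : a ∈ W₁) (hb : b ∈ W₂)
    (hx : Q (a + b) = 0) (ha0 : a ≠ 0) (hp : p ∈ W₁) (hq : q ∈ W₂) (hy : p + q ∈ zset Q K (a + b)) :
    p ∈ Submodule.span F {a} := by
  by_contra hpa
  obtain ⟨w, hw, hwp, hwa⟩ := S.exists_test _ hp hpa (Submodule.span_le.mpr (by simpa using ha))
  have h := S.orth_of_none hR hno ha hb hx ha0 hy hw (hwa a (Submodule.mem_span_singleton_self a))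
  rw [QuadraticMap.polar_add_right, HypQuad.polar_zero_of_singular Q S.sing₂ hw hq, QuadraticMap.polar_comm (⇑Q) w p,
    hwp, add_zero] at h
  exact one_ne_zero h

theorem point {g : Cfsg.isometryGroup F (⇑Q)} (hg : g ∈ K) (hno₁ : ¬ ∀ u ∈ W₁, u ∈ sCentres Q K)
    (hno₂ : ¬ ∀ u ∈ W₂, u ∈ sCentres Q K) {u : ι → F} (hu : u ∈ W₁) :
    mat Q g *ᵥ u ∈ W₁ ∨ mat Q g *ᵥ u ∈ W₂ := by
  classical
  obtain ⟨a, ha, b, hb, e⟩ := S.split (mat Q g *ᵥ u)
  by_cases ha0 : a = 0
  · right; rw [e, ha0, zero_add]; exact hb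
  by_cases hb0 : b = 0
  · left; rw [e, hb0, add_zero]; exact ha
  exfalso
  have hx : Q (a + b) = 0 := by rw [← e, (mem_iff Q).mp g.2, S.sing₁ u hu]
  have hx' : Q (b + a) = 0 := by rw [add_comm]; exact hx
  set Y := W₂ ⊓ HypQuad.perp Q (Submodule.span F {u})
  have hY : Y.map (Matrix.toLin' (mat Q g)) ≤ Submodule.span F (({a, b} : Finset (ι → F)) : Set (ι → F)) := by
    rintro _ ⟨w, ⟨hw, hwu⟩, rfl⟩
    rw [Matrix.toLin'_apply]
    have hm := zset_map (hR u hu w hw ((HypQuad.mem_perp Q).mp hwu u (Submodule.mem_span_singleton_self u))) hg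
    rw [e] at hm
    obtain ⟨p, hp, q, hq, ey⟩ := S.split (mat Q g *ᵥ w)
    rw [ey] at hm ⊢
    have h1 := S.comp_mem_span hR hno₁ ha hb hx ha0 hp hq hm
    have h2 := S.symm.comp_mem_span (S.root_symm hR) hno₂ hb ha hx' hb0 hq hp (by rwa [add_comm b a, add_comm q p])
    exact add_mem (Submodule.span_mono (by simp) h1) (Submodule.span_mono (by simp) h2)
  have h1 : Module.finrank F (Y.map (Matrix.toLin' (mat Q g))) ≤ 2 :=
    (Submodule.finrank_mono hY).trans ((finrank_span_finset_le_card _).trans Finset.card_le_two)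
  rw [show Module.finrank F (Y.map (Matrix.toLin' (mat Q g))) = Module.finrank F Y from
    LinearEquiv.finrank_map_eq (Matrix.toLinearEquiv' (mat Q g) (g : GL ι F).invertible) Y] at h1
  have h2 := Submodule.finrank_sup_add_finrank_inf_eq W₂ (HypQuad.perp Q (Submodule.span F {u}))
  have h3 := Submodule.finrank_le (W₂ ⊔ HypQuad.perp Q (Submodule.span F {u}))
  have h4 := HypQuad.finrank_perp Q S.nondeg (Submodule.span F {u})
  have h5 : Module.finrank F (Submodule.span F ({u} : Set (ι → F))) ≤ 1 := by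
    simpa using finrank_span_le_card (R := F) ({u} : Set (ι → F))
  have := S.big
  have := S.dim₂
  have hY' : Module.finrank F Y = Module.finrank F ↥(W₂ ⊓ HypQuad.perp Q (Submodule.span F {u})) := rfl
  omega

omit hR

theorem omega_le_of_centres (h₁ : ∀ u ∈ W₁, u ∈ sCentres Q K) (h₂ : ∀ u ∈ W₂, u ∈ sCentres Q K)
    [Finite F] (hn : 5 ≤ Fintype.card ι) : Cfsg.Omega F (⇑Q) ≤ K := by
  have hall : ∀ x, Q x = 0 → x ∈ sCentres Q K := by
    intro x hx
    obtain ⟨a, ha, b, hb, rfl⟩ := S.split x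
    by_cases ha0 : a = 0
    · rw [ha0, zero_add]; exact h₂ b hb
    by_cases hb0 : b = 0
    · rw [hb0, add_zero]; exact h₁ a ha
    have hab : QuadraticMap.polar (⇑Q) a b = 0 := by
      rw [QuadraticMap.map_add (f := Q), S.sing₁ a ha, S.sing₂ b hb, zero_add, zero_add] at hx; exact hx
    obtain ⟨v, hv, hvb, -⟩ := S.symm.exists_test ⊥ hb (by simpa using hb0) bot_le
    have hza : QuadraticMap.polar (⇑Q) a (-v) = 0 := S.polar₁ ha (neg_mem hv)
    have := sCentres_map (h₂ b hb) ((h₁ a ha).2 (-v) hza)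
    convert this using 1
    rw [mat_siegelG, siegelMap, hab, S.sing₁ _ (neg_mem hv), QuadraticMap.polar_neg_left,
      QuadraticMap.polar_comm (⇑Q) v b, hvb]
    simp [add_comm]
  rw [omega_eq_closure_all Q S.nondeg hn, Subgroup.closure_le]
  rintro _ ⟨u, z, hu, huz, rfl⟩
  exact (hall u hu).2 z huz

/-- An element of `Ω` interchanging the two subspaces. -/
theorem exists_swap [Fintype F] (hk : Even k) : ∃ s ∈ Cfsg.Omega F (⇑Q),
    (∀ x ∈ W₁, mat Q s *ᵥ x ∈ W₂) ∧ ∀ x ∈ W₂, mat Q s *ᵥ x ∈ W₁ := by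
  classical
  let e := Module.finBasisOfFinrankEq F W₁ S.dim₁
  have hf : ∀ i, ∃ w ∈ W₂, ∀ j, QuadraticMap.polar (⇑Q) (e j : ι → F) w = if j = i then 1 else 0 := fun i => by
    obtain ⟨w, hw, h1, h2⟩ := S.exists_test ((Submodule.span F (e '' {j | j ≠ i})).map W₁.subtype) (e i).2
      (fun h => by
        obtain ⟨y, hy, hye⟩ := h
        rw [show y = e i from Subtype.ext hye] at hy
        exact e.linearIndependent.notMem_span_image (by simp) hy) (Submodule.map_subtype_le _ _)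
    refine ⟨w, hw, fun j => ?_⟩
    split_ifs with hji
    · rw [hji, h1]
    · exact h2 _ ⟨e j, Submodule.subset_span ⟨j, hji, rfl⟩, rfl⟩
  choose f hf₂ hfd using hf
  have hQd : ∀ i, Q ((e i : ι → F) - f i) = -1 := fun i => by
    rw [sub_eq_add_neg, QuadraticMap.map_add (f := Q), QuadraticMap.map_neg, QuadraticMap.polar_neg_right,
      S.sing₁ _ (e i).2, S.sing₂ _ (hf₂ i), hfd i i]
    simp
  have hne : ∀ i, Q ((e i : ι → F) - f i) ≠ 0 := fun i => by rw [hQd]; simp
  let r := fun i => refl Q _ (hne i)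
  have hre : ∀ i j, mat Q (r i) *ᵥ (e j : ι → F) = if j = i then f j else (e j : ι → F) := by
    intro i j
    show mat Q (refl Q _ (hne i)) *ᵥ _ = _
    rw [mat, coe_refl, mulVec_eq, hQd, QuadraticMap.polar_sub_left, S.polar₁ (e i).2 (e j).2,
      QuadraticMap.polar_comm (⇑Q) (f i), hfd i j]
    split_ifs with h
    · subst h; simp
    · simp
  have hrf : ∀ i j, mat Q (r i) *ᵥ f j = if j = i then (e j : ι → F) else f j := by
    intro i j
    show mat Q (refl Q _ (hne i)) *ᵥ _ = _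
    rw [mat, coe_refl, mulVec_eq, hQd, QuadraticMap.polar_sub_left,
      HypQuad.polar_zero_of_singular Q S.sing₂ (hf₂ i) (hf₂ j), hfd j i]
    by_cases h : j = i
    · subst h; simp
    · rw [if_neg h, if_neg (Ne.symm h)]; simp
  have hone : ∀ x, mat Q 1 *ᵥ x = x := fun x => Matrix.one_mulVec x
  suffices hprod : ∀ (n : ℕ) (l : List (Fin k)), l.length = n → l.Nodup → Even l.length → ∃ s ∈ Cfsg.Omega F (⇑Q),
      (∀ j, mat Q s *ᵥ (e j : ι → F) = if j ∈ l then f j else (e j : ι → F)) ∧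
      ∀ j, mat Q s *ᵥ f j = if j ∈ l then (e j : ι → F) else f j by
    obtain ⟨s, hs, hse, hsf⟩ := hprod _ (List.finRange k) rfl (List.nodup_finRange k) (by simpa using hk)
    have hmap₁ : ∀ x ∈ W₁, mat Q s *ᵥ x ∈ W₂ := by
      intro x hx
      have hle : W₁ ≤ W₂.comap (Matrix.toLin' (mat Q s)) := by
        calc W₁ = (Submodule.span F (Set.range e)).map W₁.subtype := by
              rw [e.span_eq, Submodule.map_top, Submodule.range_subtype]
          _ ≤ _ := by
              rw [Submodule.map_span, Submodule.span_le]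
              rintro _ ⟨_, ⟨j, rfl⟩, rfl⟩
              show mat Q s *ᵥ (e j : ι → F) ∈ W₂
              rw [hse, if_pos (List.mem_finRange j)]
              exact hf₂ j
      exact hle hx
    refine ⟨s, hs, hmap₁, ?_⟩
    have hinv : ∀ x ∈ W₁, mat Q s *ᵥ (mat Q s *ᵥ x) = x := by
      intro x hx
      have hle : W₁ ≤ LinearMap.eqLocus ((Matrix.toLin' (mat Q s)).comp (Matrix.toLin' (mat Q s))) LinearMap.id := by
        calc W₁ = (Submodule.span F (Set.range e)).map W₁.subtype := by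
              rw [e.span_eq, Submodule.map_top, Submodule.range_subtype]
          _ ≤ _ := by
              rw [Submodule.map_span, Submodule.span_le]
              rintro _ ⟨_, ⟨j, rfl⟩, rfl⟩
              show mat Q s *ᵥ (mat Q s *ᵥ (e j : ι → F)) = (e j : ι → F)
              rw [hse, if_pos (List.mem_finRange j), hsf, if_pos (List.mem_finRange j)]
      exact hle hx
    have heq : W₁.map (Matrix.toLin' (mat Q s)) = W₂ :=
      Submodule.eq_of_le_of_finrank_le (by rintro _ ⟨x, hx, rfl⟩; exact hmap₁ x hx) (by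
        rw [show Module.finrank F (W₁.map (Matrix.toLin' (mat Q s))) = Module.finrank F W₁ from
          LinearEquiv.finrank_map_eq (Matrix.toLinearEquiv' (mat Q s) (s : GL ι F).invertible) W₁, S.dim₁, S.dim₂])
    intro x hx
    rw [← heq] at hx
    obtain ⟨y, hy, rfl⟩ := hx
    rw [Matrix.toLin'_apply, hinv y hy]
    exact hy
  intro n
  induction n using Nat.strong_induction_on with
  | _ n ih =>
    intro l hl hnd hev
    match l, hl, hnd, hev with
    | [], _, _, _ => exact ⟨1, one_mem _, fun j => by simp [hone], fun j => by simp [hone]⟩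
    | [a], _, _, h => exact absurd h (by simp)
    | a :: a' :: l, hl, hnd, hev =>
        simp only [List.nodup_cons, List.mem_cons, not_or] at hnd
        obtain ⟨⟨haa', hal⟩, ha'l, hnd⟩ := hnd
        obtain ⟨s, hs, hse, hsf⟩ := ih l.length (by simp at hl; omega) l rfl hnd (by simpa [Nat.even_add_one] using hev)
        refine ⟨r a * r a' * s, mul_mem (refl_pair_mem_omega Q S.nondeg _ _ (by rw [hQd, hQd])) hs,
          fun j => ?_, fun j => ?_⟩
        · rw [mat, mulVec_mul, mulVec_mul]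
          change mat Q (r a) *ᵥ (mat Q (r a') *ᵥ (mat Q s *ᵥ (e j : ι → F))) = _
          rw [hse]
          by_cases hjl : j ∈ l
          · rw [if_pos hjl, hrf, if_neg (fun h : j = a' => ha'l (h ▸ hjl)), hrf,
              if_neg (fun h : j = a => hal (h ▸ hjl)), if_pos (by simp [hjl])]
          · rw [if_neg hjl, hre]
            by_cases hj' : j = a'
            · rw [if_pos hj', hrf, if_neg (fun h : j = a => haa' (by rw [← h, hj'])), if_pos (by simp [hj'])]
            · rw [if_neg hj', hre]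
              by_cases hj : j = a
              · rw [if_pos hj, if_pos (by simp [hj])]
              · rw [if_neg hj, if_neg (by simp [hj, hj', hjl])]
        · rw [mat, mulVec_mul, mulVec_mul]
          change mat Q (r a) *ᵥ (mat Q (r a') *ᵥ (mat Q s *ᵥ f j)) = _
          rw [hsf]
          by_cases hjl : j ∈ l
          · rw [if_pos hjl, hre, if_neg (fun h : j = a' => ha'l (h ▸ hjl)), hre,
              if_neg (fun h : j = a => hal (h ▸ hjl)), if_pos (by simp [hjl])]
          · rw [if_neg hjl, hrf]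
            by_cases hj' : j = a'
            · rw [if_pos hj', hre, if_neg (fun h : j = a => haa' (by rw [← h, hj'])), if_pos (by simp [hj'])]
            · rw [if_neg hj', hrf]
              by_cases hj : j = a
              · rw [if_pos hj, if_pos (by simp [hj])]
              · rw [if_neg hj, if_neg (by simp [hj, hj', hjl])]

/-- The main step: an overgroup not preserving the pair contains `Ω`. -/
theorem omega_le [Fintype F] (hk : Even k)
    (hH : ∀ g ∈ Cfsg.Omega F (⇑Q), ((∀ x ∈ W₁, mat Q g *ᵥ x ∈ W₁) ∧ (∀ x ∈ W₂, mat Q g *ᵥ x ∈ W₂)) ∨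
      ((∀ x ∈ W₁, mat Q g *ᵥ x ∈ W₂) ∧ ∀ x ∈ W₂, mat Q g *ᵥ x ∈ W₁) → g ∈ K)
    {g₀ : Cfsg.isometryGroup F (⇑Q)} (hg₀ : g₀ ∈ K)
    (hbad : ¬ (((∀ x ∈ W₁, mat Q g₀ *ᵥ x ∈ W₁) ∧ (∀ x ∈ W₂, mat Q g₀ *ᵥ x ∈ W₂)) ∨
      ((∀ x ∈ W₁, mat Q g₀ *ᵥ x ∈ W₂) ∧ ∀ x ∈ W₂, mat Q g₀ *ᵥ x ∈ W₁))) : Cfsg.Omega F (⇑Q) ≤ K := by
  classical
  have hn : 5 ≤ Fintype.card ι := by
    have := Submodule.finrank_le W₁
    rw [Module.finrank_fintype_fun_eq_card, S.dim₁] at this
    have := S.big
    omega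
  have hR : ∀ u ∈ W₁, ∀ w ∈ W₂, QuadraticMap.polar (⇑Q) u w = 0 → w ∈ zset Q K u := by
    intro u hu w hw huw
    refine ⟨huw, fun hu' c hc => hH _ (siegelG_mem_omega Q S.nondeg hn hu' hc) (Or.inl ⟨fun x hx => ?_, fun x hx => ?_⟩)⟩
    · rw [mat_siegelG, siegelMap, S.polar₁ hu hx, zero_smul, add_zero]
      exact W₁.add_mem hx (W₁.smul_mem _ hu)
    · rw [mat_siegelG, siegelMap, S.sing₂ _ (W₂.smul_mem c hw), zero_mul, sub_zero,
        HypQuad.polar_zero_of_singular Q S.sing₂ (W₂.smul_mem c hw) hx, neg_zero, zero_smul, add_zero]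
      exact W₂.add_mem hx (W₂.smul_mem _ (W₂.smul_mem c hw))
  obtain ⟨s, hs, hs₁, hs₂⟩ := S.exists_swap hk
  have hsK : s ∈ K := hH s hs (Or.inr ⟨hs₁, hs₂⟩)
  have hmapeq : ∀ (g : Cfsg.isometryGroup F (⇑Q)) (A B : Submodule F (ι → F)),
      Module.finrank F B = Module.finrank F A → (∀ x ∈ A, mat Q g *ᵥ x ∈ B) → ∀ y ∈ B, ∃ x ∈ A, mat Q g *ᵥ x = y :=
    fun g A B hd h y hy => by
      have heq : A.map (Matrix.toLin' (mat Q g)) = B :=
        Submodule.eq_of_le_of_finrank_le (by rintro _ ⟨x, hx, rfl⟩; exact h x hx) (by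
          rw [show Module.finrank F (A.map (Matrix.toLin' (mat Q g))) = Module.finrank F A from
            LinearEquiv.finrank_map_eq (Matrix.toLinearEquiv' (mat Q g) (g : GL ι F).invertible) A, hd])
      rw [← heq] at hy
      obtain ⟨x, hx, rfl⟩ := hy
      exact ⟨x, hx, rfl⟩
  by_cases h₁ : ∀ u ∈ W₁, u ∈ sCentres Q K
  · refine S.omega_le_of_centres h₁ (fun u hu => ?_) hn
    obtain ⟨x, hx, rfl⟩ := hmapeq s W₁ W₂ (by rw [S.dim₁, S.dim₂]) hs₁ u hu
    exact sCentres_map (h₁ x hx) hsK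
  by_cases h₂ : ∀ u ∈ W₂, u ∈ sCentres Q K
  · refine absurd (fun u hu => ?_) h₁
    obtain ⟨x, hx, rfl⟩ := hmapeq s W₂ W₁ (by rw [S.dim₁, S.dim₂]) hs₂ u hu
    exact sCentres_map (h₂ x hx) hsK
  exfalso
  have key : ∀ A : Submodule F (ι → F), (∀ x ∈ A, mat Q g₀ *ᵥ x ∈ W₁ ∨ mat Q g₀ *ᵥ x ∈ W₂) →
      (∀ x ∈ A, mat Q g₀ *ᵥ x ∈ W₁) ∨ (∀ x ∈ A, mat Q g₀ *ᵥ x ∈ W₂) := by
    intro A h
    by_cases h1 : ∀ x ∈ A, mat Q g₀ *ᵥ x ∈ W₁
    · exact Or.inl h1
    refine Or.inr fun x hx => ?_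
    push Not at h1
    obtain ⟨y, hy, hy1⟩ := h1
    have hy2 := (h y hy).resolve_left hy1
    rcases h x hx with hx1 | hx2
    swap
    · exact hx2
    rcases h (x + y) (A.add_mem hx hy) with h' | h' <;> rw [Matrix.mulVec_add] at h'
    · exact absurd ((Submodule.add_mem_iff_right _ hx1).mp h') hy1
    · exact (Submodule.add_mem_iff_left _ hy2).mp h'
  have k1 := key W₁ fun x hx => S.point hR hg₀ h₁ h₂ hx
  have k2 := key W₂ fun x hx => (S.symm.point (S.root_symm hR) hg₀ h₂ h₁ hx).symm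
  have hW : ∀ W : Submodule F (ι → F), (∀ x ∈ W₁, mat Q g₀ *ᵥ x ∈ W) → (∀ x ∈ W₂, mat Q g₀ *ᵥ x ∈ W) →
      Module.finrank F W = k → False := by
    intro W a b hWd
    have hall : ∀ x, mat Q g₀ *ᵥ x ∈ W := fun x => by
      obtain ⟨p, hp, q, hq, rfl⟩ := S.split x
      rw [Matrix.mulVec_add]; exact W.add_mem (a p hp) (b q hq)
    have htop : W = ⊤ := eq_top_iff.mpr fun y _ => by
      have := hall (mat Q g₀⁻¹ *ᵥ y)
      rwa [← mulVec_mul, mul_inv_cancel, show mat Q 1 *ᵥ y = y from Matrix.one_mulVec y] at this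
    have := Submodule.finrank_add_eq_of_isCompl S.compl
    rw [htop, finrank_top] at hWd
    have := S.big
    have := S.dim₁
    have := S.dim₂
    omega
  rcases k1 with k1 | k1 <;> rcases k2 with k2 | k2
  · exact hW W₁ k1 k2 S.dim₁
  · exact hbad (Or.inl ⟨k1, k2⟩)
  · exact hbad (Or.inr ⟨k1, k2⟩)
  · exact hW W₂ k1 k2 S.dim₂

end SPair

end Cfsg.Lib.Classical.Refl
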