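import Mathlib
import Cfsg.Prelude.Def_GeometricClasses
import Cfsg.Agent.Classical.Orth.SingPairMax

/-! The normaliser of a unitary overfield of degree two is maximal in `Ω`. -/

set_option autoImplicit false
set_option linter.unusedSimpArgs false
set_option linter.unusedSectionVars false
set_option linter.style.haveILetI false
set_option linter.flexible false

namespace Cfsg.Lib.Classical.Refl

open Matrix

universe u

variable {F : Type u} [Field F] [Fintype F] {ι : Type} [Fintype ι] [DecidableEq ι]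

/-- A structure of a hermitian space over the quadratic extension. -/
structure OJ (Q : QuadraticForm F (ι → F)) (J : (ι → F) →ₗ[F] (ι → F)) (a b : F) : Prop where
  nondeg : (QuadraticMap.polarBilin Q).Nondegenerate
  sq : ∀ x, J (J x) = a • J x + b • x
  adj : ∀ x y, QuadraticMap.polar (⇑Q) (J x) y = a * QuadraticMap.polar (⇑Q) x y - QuadraticMap.polar (⇑Q) x (J y)
  scale : ∀ x, Q (J x) = -b * Q x
  diag : ∀ x, QuadraticMap.polar (⇑Q) x (J x) = a * Q x
  noroot : ∀ r : F, r * r - a * r - b ≠ 0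
  big : 10 ≤ Fintype.card ι

variable {Q : QuadraticForm F (ι → F)} {K : Subgroup (Cfsg.isometryGroup F (⇑Q))}

/-- Singular vectors with prescribed products. -/
theorem singular_with_nd (hnd : (QuadraticMap.polarBilin Q).Nondegenerate) {r : ℕ} (s : Fin r → (ι → F)) (hli : LinearIndependent F s) (val : Fin r → F)
    (h : Module.finrank F ↥(Submodule.span F (Set.range s) ⊓ HypQuad.perp Q (Submodule.span F (Set.range s))) + r + 2 ≤
      Fintype.card ι) :
    ∃ v, Q v = 0 ∧ ∀ i, QuadraticMap.polar (⇑Q) v (s i) = val i := by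
  set T := Submodule.span F (Set.range s) with hT
  let bs := Module.Basis.span hli
  obtain ⟨φ, hφ⟩ := (bs.constr F val).exists_extend
  have hφs : ∀ i, φ (s i) = val i := fun i => by
    have e : (bs i : ι → F) = s i := congrArg Subtype.val (Module.Basis.span_apply hli i)
    rw [← e, ← bs.constr_basis F val i]
    exact LinearMap.congr_fun hφ (bs i)
  obtain ⟨v₀, hv₀⟩ := WittQuad.exists_partner_vec Q hnd φ
  have hdT : Module.finrank F T = r := (finrank_span_eq_card hli).trans (Fintype.card_fin r)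
  obtain ⟨C, hC⟩ := (T ⊓ HypQuad.perp Q T).exists_isCompl
  have h1 := HypQuad.finrank_perp Q hnd T
  have h2 := Submodule.finrank_add_eq_of_isCompl hC
  have h3 := Submodule.finrank_sup_add_finrank_inf_eq (HypQuad.perp Q T) C
  have h4 := Submodule.finrank_le (HypQuad.perp Q T ⊔ C)
  rw [Module.finrank_fintype_fun_eq_card] at h1 h2 h4
  set C' := HypQuad.perp Q T ⊓ C with hC'
  have hval : ∀ w ∈ HypQuad.perp Q T, ∀ i, QuadraticMap.polar (⇑Q) w (s i) = 0 := fun w hw i => by
    rw [QuadraticMap.polar_comm]; exact (HypQuad.mem_perp Q).mp hw _ (Submodule.subset_span ⟨i, rfl⟩)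
  by_cases hv₀C : v₀ ∈ C'
  · refine ⟨0, QuadraticMap.map_zero Q, fun i => ?_⟩
    rw [QuadraticMap.polar_zero_left, ← hφs, ← hv₀, QuadraticMap.polar_comm]
    exact (hval v₀ hv₀C.1 i).symm
  have h5 : 3 ≤ Module.finrank F ↥(Submodule.span F {v₀} ⊔ C') := by
    have e1 := Submodule.finrank_sup_add_finrank_inf_eq (Submodule.span F {v₀}) C'
    have hv₀0 : v₀ ≠ 0 := fun e => hv₀C (by rw [e]; exact Submodule.zero_mem _)
    have e2 : Submodule.span F {v₀} ⊓ C' = ⊥ := ((Submodule.disjoint_span_singleton' hv₀0).mpr hv₀C).symm.eq_bot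
    rw [e2, finrank_bot, finrank_span_singleton hv₀0] at e1
    omega
  obtain ⟨w, hw, hw0, hQw⟩ := exists_singular Q _ h5
  obtain ⟨_, hsv, p, hp, rfl⟩ := Submodule.mem_sup.mp hw
  obtain ⟨c, rfl⟩ := Submodule.mem_span_singleton.mp hsv
  by_cases hc : c ≠ 0
  · refine ⟨v₀ + c⁻¹ • p, ?_, fun i => ?_⟩
    · rw [show v₀ + c⁻¹ • p = c⁻¹ • (c • v₀ + p) by rw [smul_add, smul_smul, inv_mul_cancel₀ hc, one_smul],
        QuadraticMap.map_smul, hQw, smul_zero]
    · rw [QuadraticMap.polar_add_left, QuadraticMap.polar_smul_left, hval p hp.1 i, smul_zero, add_zero,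
        QuadraticMap.polar_comm (⇑Q) v₀, hv₀, hφs]
  push Not at hc
  subst hc
  rw [zero_smul, zero_add] at hw0 hQw
  have hQp := hQw
  have hp0 := hw0
  obtain ⟨q, hq, hpq⟩ : ∃ q ∈ HypQuad.perp Q T, QuadraticMap.polar (⇑Q) p q ≠ 0 := by
    by_contra hh
    push Not at hh
    have hpp : p ∈ HypQuad.perp Q (HypQuad.perp Q T) := (HypQuad.mem_perp Q).mpr fun y hy => by
      rw [QuadraticMap.polar_comm]; exact hh y hy
    rw [perp_perp Q hnd] at hpp
    exact hp0 (Submodule.disjoint_def.mp hC.disjoint p ⟨hpp, hp.1⟩ hp.2)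
  obtain ⟨q', hq', hv1⟩ : ∃ q' ∈ HypQuad.perp Q T, QuadraticMap.polar (⇑Q) (v₀ + q') p ≠ 0 := by
    by_cases hv : QuadraticMap.polar (⇑Q) v₀ p = 0
    · exact ⟨q, hq, by rw [QuadraticMap.polar_add_left, hv, zero_add, QuadraticMap.polar_comm]; exact hpq⟩
    · exact ⟨0, Submodule.zero_mem _, by rwa [add_zero]⟩
  set v₁ := v₀ + q'
  refine ⟨v₁ + (-(Q v₁) / QuadraticMap.polar (⇑Q) v₁ p) • p, ?_, fun i => ?_⟩
  · rw [WittQuad.val_smul_add, hQp]
    field_simp
    ring
  · have hs : s i ∈ T := Submodule.subset_span ⟨i, rfl⟩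
    rw [QuadraticMap.polar_add_left, QuadraticMap.polar_add_left, QuadraticMap.polar_smul_left,
      QuadraticMap.polar_comm (⇑Q) q', (HypQuad.mem_perp Q).mp hq' _ hs, QuadraticMap.polar_comm (⇑Q) p,
      (HypQuad.mem_perp Q).mp hp.1 _ hs, QuadraticMap.polar_comm (⇑Q) v₀, hv₀, hφs]
    simp

/-- A prescribed functional that does not vanish on the radical is realised by a singular vector. -/
theorem singular_with_rad_nd (hnd : (QuadraticMap.polarBilin Q).Nondegenerate) {r : ℕ} (s : Fin r → (ι → F)) (hli : LinearIndependent F s) (val : Fin r → F) (i₀ : Fin r)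
    (hi : ∀ i, QuadraticMap.polar (⇑Q) (s i₀) (s i) = 0) (hQi : Q (s i₀) = 0) (hval : val i₀ ≠ 0) :
    ∃ v, Q v = 0 ∧ ∀ i, QuadraticMap.polar (⇑Q) v (s i) = val i := by
  let bs := Module.Basis.span hli
  obtain ⟨φ, hφ⟩ := (bs.constr F val).exists_extend
  have hφs : ∀ i, φ (s i) = val i := fun i => by
    have e : (bs i : ι → F) = s i := congrArg Subtype.val (Module.Basis.span_apply hli i)
    rw [← e, ← bs.constr_basis F val i]
    exact LinearMap.congr_fun hφ (bs i)
  obtain ⟨v₀, hv₀⟩ := WittQuad.exists_partner_vec Q hnd φ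
  have hv : ∀ i, QuadraticMap.polar (⇑Q) v₀ (s i) = val i := fun i => by
    rw [QuadraticMap.polar_comm, hv₀, hφs]
  refine ⟨v₀ + (-Q v₀ / val i₀) • s i₀, ?_, fun i => ?_⟩
  · rw [WittQuad.val_smul_add, hQi, hv i₀]
    field_simp
    ring
  · rw [QuadraticMap.polar_add_left, QuadraticMap.polar_smul_left, hi, smul_zero, add_zero, hv]

namespace OJ

variable {J : (ι → F) →ₗ[F] (ι → F)} {a b : F} (S : OJ Q J a b)
include S

theorem JJ (x y : ι → F) : QuadraticMap.polar (⇑Q) (J x) (J y) = -b * QuadraticMap.polar (⇑Q) x y := by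
  rw [S.adj, S.sq, QuadraticMap.polar_add_right, QuadraticMap.polar_smul_right, QuadraticMap.polar_smul_right,
    smul_eq_mul, smul_eq_mul]
  ring

theorem norm_ne {P R : F} (h : ¬ (P = 0 ∧ R = 0)) : R * R - a * P * R - b * (P * P) ≠ 0 := by
  intro e
  by_cases hP : P = 0
  · subst hP
    exact h ⟨rfl, mul_self_eq_zero.mp (by simpa using e)⟩
  · apply S.noroot (R / P)
    field_simp
    linear_combination e

/-- The `F(J)`-line. -/
def line (_S : OJ Q J a b) (x : ι → F) : Submodule F (ι → F) := Submodule.span F {x, J x}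

theorem self_mem_line (x : ι → F) : x ∈ S.line x := Submodule.subset_span (by simp)

theorem J_self_mem (x : ι → F) : J x ∈ S.line x := Submodule.subset_span (by simp)

theorem line_J {x y : ι → F} (h : y ∈ S.line x) : J y ∈ S.line x := by
  obtain ⟨c, d, rfl⟩ := Submodule.mem_span_pair.mp h
  rw [map_add, map_smul, map_smul, S.sq, smul_add, smul_smul, smul_smul]
  exact add_mem (Submodule.smul_mem _ _ (S.J_self_mem x))
    (add_mem (Submodule.smul_mem _ _ (S.J_self_mem x)) (Submodule.smul_mem _ _ (S.self_mem_line x)))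

/-- A subspace stable under `J`. -/
theorem pair_mem {T : Submodule F (ι → F)} (hT : ∀ z ∈ T, J z ∈ T) {y : ι → F} {c d : F}
    (h : c • y + d • J y ∈ T) (hy : y ∉ T) : c = 0 ∧ d = 0 := by
  by_contra hcd
  apply hy
  have h1 : (c + d * a) • (c • y + d • J y) - d • J (c • y + d • J y) ∈ T :=
    T.sub_mem (T.smul_mem _ h) (T.smul_mem _ (hT _ h))
  have e : (c + d * a) • (c • y + d • J y) - d • J (c • y + d • J y) = (c * c + a * c * d - b * (d * d)) • y := by
    rw [map_add, map_smul, map_smul, S.sq]; module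
  rw [e, Submodule.smul_mem_iff] at h1
  · exact h1
  · have := S.norm_ne (P := d) (R := -c) (fun e => hcd ⟨neg_eq_zero.mp e.2, e.1⟩)
    intro e; apply this; linear_combination e

theorem line_symm {x y : ι → F} (hx : x ≠ 0) (hxy : x ∈ S.line y) : y ∈ S.line x := by
  by_contra hy
  obtain ⟨c, d, hcd⟩ := Submodule.mem_span_pair.mp hxy
  obtain ⟨rfl, rfl⟩ := S.pair_mem (T := S.line x) (fun z hz => S.line_J hz) (c := c) (d := d)
    (by rw [hcd]; exact S.self_mem_line x) hy
  exact hx (by rw [← hcd]; simp)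

/-- Singular vectors with prescribed products. -/
theorem singular_with {r : ℕ} (s : Fin r → (ι → F)) (hli : LinearIndependent F s) (val : Fin r → F)
    (h : Module.finrank F ↥(Submodule.span F (Set.range s) ⊓ HypQuad.perp Q (Submodule.span F (Set.range s))) + r + 2 ≤
      Fintype.card ι) :
    ∃ v, Q v = 0 ∧ ∀ i, QuadraticMap.polar (⇑Q) v (s i) = val i :=
  singular_with_nd S.nondeg s hli val h

theorem rad_le {r : ℕ} (s : Fin r → (ι → F)) :
    Module.finrank F ↥(Submodule.span F (Set.range s) ⊓ HypQuad.perp Q (Submodule.span F (Set.range s))) ≤ r :=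
  (Submodule.finrank_mono inf_le_left).trans ((finrank_range_le_card s).trans (Fintype.card_fin r).le)

theorem rad_lt {r : ℕ} (s : Fin r → (ι → F)) (hli : LinearIndependent F s) {i j : Fin r}
    (h : QuadraticMap.polar (⇑Q) (s i) (s j) ≠ 0) :
    Module.finrank F ↥(Submodule.span F (Set.range s) ⊓ HypQuad.perp Q (Submodule.span F (Set.range s))) < r := by
  have := Submodule.finrank_lt_finrank_of_lt (s := Submodule.span F (Set.range s) ⊓ HypQuad.perp Q (Submodule.span F (Set.range s)))
    (t := Submodule.span F (Set.range s)) (lt_of_le_not_ge inf_le_left fun hle =>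
      h ((HypQuad.mem_perp Q).mp (hle (Submodule.subset_span ⟨j, rfl⟩)).2 _ (Submodule.subset_span ⟨i, rfl⟩)))
  rwa [finrank_span_eq_card hli, Fintype.card_fin] at this

theorem rad_add_le {r : ℕ} (s : Fin r → (ι → F)) (W : Submodule F (ι → F)) (hW : W ≤ Submodule.span F (Set.range s))
    (hd : ∀ w ∈ W, w ∈ HypQuad.perp Q (Submodule.span F (Set.range s)) → w = 0) :
    Module.finrank F ↥(Submodule.span F (Set.range s) ⊓ HypQuad.perp Q (Submodule.span F (Set.range s))) +
      Module.finrank F W ≤ r := by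
  set T := Submodule.span F (Set.range s)
  have h1 := Submodule.finrank_sup_add_finrank_inf_eq (T ⊓ HypQuad.perp Q T) W
  have h2 : (T ⊓ HypQuad.perp Q T) ⊓ W = ⊥ := eq_bot_iff.mpr fun w hw => (Submodule.mem_bot F).mpr (hd w hw.2 hw.1.2)
  have h3 := Submodule.finrank_mono (show (T ⊓ HypQuad.perp Q T) ⊔ W ≤ T from sup_le inf_le_left hW)
  have h4 : Module.finrank F T ≤ r := (finrank_range_le_card s).trans (Fintype.card_fin r).le
  rw [h2, finrank_bot] at h1
  omega

/-- A prescribed functional that does not vanish on the radical is realised by a singular vector. -/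
theorem singular_with_rad {r : ℕ} (s : Fin r → (ι → F)) (hli : LinearIndependent F s) (val : Fin r → F) (i₀ : Fin r)
    (hi : ∀ i, QuadraticMap.polar (⇑Q) (s i₀) (s i) = 0) (hQi : Q (s i₀) = 0) (hval : val i₀ ≠ 0) :
    ∃ v, Q v = 0 ∧ ∀ i, QuadraticMap.polar (⇑Q) v (s i) = val i :=
  singular_with_rad_nd S.nondeg s hli val i₀ hi hQi hval

theorem rad_six {x y z : ι → F} (hli : LinearIndependent F ![x, J x, y, J y, z, J z]) (hz : Q z = 0)
    (hne : ¬ (QuadraticMap.polar (⇑Q) z y = 0 ∧ QuadraticMap.polar (⇑Q) z (J y) = 0)) :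
    Module.finrank F ↥(Submodule.span F (Set.range ![x, J x, y, J y, z, J z]) ⊓
      HypQuad.perp Q (Submodule.span F (Set.range ![x, J x, y, J y, z, J z]))) ≤ 2 := by
  have hli4 : LinearIndependent F ![y, J y, z, J z] := by
    have := hli.comp ![2, 3, 4, 5] (by decide)
    convert this using 1
    funext i
    fin_cases i <;> rfl
  have hle := S.rad_add_le ![x, J x, y, J y, z, J z] (Submodule.span F (Set.range ![y, J y, z, J z]))
    (Submodule.span_mono (by
      rintro _ ⟨i, rfl⟩
      fin_cases i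
      exacts [⟨2, rfl⟩, ⟨3, rfl⟩, ⟨4, rfl⟩, ⟨5, rfl⟩])) ?_
  · rw [(finrank_span_eq_card hli4).trans (Fintype.card_fin 4)] at hle
    omega
  intro w hw hwp
  obtain ⟨g, rfl⟩ := (Submodule.mem_span_range_iff_exists_fun F).mp hw
  have hmem : ∀ i, (![x, J x, y, J y, z, J z] i) ∈ Submodule.span F (Set.range ![x, J x, y, J y, z, J z]) :=
    fun i => Submodule.subset_span ⟨i, rfl⟩
  set P := QuadraticMap.polar (⇑Q) z y with hP
  set R := QuadraticMap.polar (⇑Q) z (J y) with hR
  have hyz : QuadraticMap.polar (⇑Q) y z = P := by rw [hP, QuadraticMap.polar_comm]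
  have hJyz : QuadraticMap.polar (⇑Q) (J y) z = R := by rw [hR, QuadraticMap.polar_comm]
  have hyJz : QuadraticMap.polar (⇑Q) y (J z) = a * P - R := by
    rw [QuadraticMap.polar_comm, S.adj]
  have hJyJz : QuadraticMap.polar (⇑Q) (J y) (J z) = -b * P := by rw [S.JJ, hyz]
  have hzz : QuadraticMap.polar (⇑Q) z z = 0 := by rw [QuadraticMap.polar_self, hz, smul_zero]
  have hzJz : QuadraticMap.polar (⇑Q) z (J z) = 0 := by rw [S.diag, hz, mul_zero]
  have hJzz : QuadraticMap.polar (⇑Q) (J z) z = 0 := by rw [QuadraticMap.polar_comm, hzJz]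
  have hJzJz : QuadraticMap.polar (⇑Q) (J z) (J z) = 0 := by rw [S.JJ, hzz, mul_zero]
  have e5 := (HypQuad.mem_perp Q).mp hwp _ (hmem 4)
  have e6 := (HypQuad.mem_perp Q).mp hwp _ (hmem 5)
  have e3 := (HypQuad.mem_perp Q).mp hwp _ (hmem 2)
  have e4 := (HypQuad.mem_perp Q).mp hwp _ (hmem 3)
  simp only [Fin.sum_univ_four, Matrix.cons_val, QuadraticMap.polar_add_right, QuadraticMap.polar_smul_right,
    smul_eq_mul, QuadraticMap.polar_comm (⇑Q) z y, QuadraticMap.polar_comm (⇑Q) z (J y),
    QuadraticMap.polar_comm (⇑Q) (J z) y, QuadraticMap.polar_comm (⇑Q) (J z) (J y), hyz, hJyz, hyJz, hJyJz, hzz, hzJz,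
    hJzz, hJzJz, mul_zero, add_zero] at e5 e6 e3 e4
  have hD := S.norm_ne hne
  have k0 : g 0 = 0 := (mul_eq_zero.mp (show (R * R - a * P * R - b * (P * P)) * g 0 = 0 by
    linear_combination (-b * P) * e5 - R * e6)).resolve_left hD
  have k1 : g 1 = 0 := (mul_eq_zero.mp (show (R * R - a * P * R - b * (P * P)) * g 1 = 0 by
    linear_combination (-(a * P - R)) * e5 + P * e6)).resolve_left hD
  rw [k0, k1, zero_mul, zero_mul, zero_add, zero_add] at e3 e4
  have k2 : g 2 = 0 := (mul_eq_zero.mp (show (R * R - a * P * R - b * (P * P)) * g 2 = 0 by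
    linear_combination (-b * P) * e3 - (a * P - R) * e4)).resolve_left hD
  have k3 : g 3 = 0 := (mul_eq_zero.mp (show (R * R - a * P * R - b * (P * P)) * g 3 = 0 by
    linear_combination (-R) * e3 + P * e4)).resolve_left hD
  simp [Fin.sum_univ_four, k0, k1, k2, k3]

theorem li_two {x : ι → F} (hx : x ≠ 0) : LinearIndependent F ![x, J x] :=
  LinearIndependent.pair_iff.mpr fun c d h => S.pair_mem (T := ⊥) (y := x) (by simp) (by simp [h]) (by simpa using hx)

theorem line_eq (x : ι → F) : Submodule.span F (Set.range ![x, J x]) = S.line x := by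
  rw [Matrix.range_cons_cons_empty]; rfl

theorem li_four {x y : ι → F} (hx : x ≠ 0) (hy : y ∉ S.line x) :
    LinearIndependent F ![x, J x, y, J y] := by
  rw [Fintype.linearIndependent_iff]
  intro g hg
  simp [Fin.sum_univ_four] at hg
  have h1 : g 2 • y + g 3 • J y ∈ S.line x := by
    rw [show g 2 • y + g 3 • J y = -(g 0 • x + g 1 • J x) by linear_combination (norm := module) hg]
    exact neg_mem (add_mem (Submodule.smul_mem _ _ (S.self_mem_line x)) (Submodule.smul_mem _ _ (S.J_self_mem x)))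
  obtain ⟨e2, e3⟩ := S.pair_mem (fun z hz => S.line_J hz) h1 hy
  rw [e2, e3, zero_smul, zero_smul, add_zero, add_zero] at hg
  obtain ⟨e0, e1⟩ := LinearIndependent.pair_iff.mp (S.li_two hx) _ _ hg
  intro i
  fin_cases i <;> assumption

theorem li_six {x y u : ι → F} (hx : x ≠ 0) (hy : y ∉ S.line x)
    (hu : u ∉ Submodule.span F (Set.range ![x, J x, y, J y])) :
    LinearIndependent F ![x, J x, y, J y, u, J u] := by
  rw [Fintype.linearIndependent_iff]
  intro g hg
  simp [Fin.sum_univ_six] at hg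
  set T := Submodule.span F (Set.range ![x, J x, y, J y]) with hTdef
  have hT : ∀ z ∈ T, J z ∈ T := fun z hz => by
    have hsup : T = S.line x ⊔ S.line y := by
      rw [hTdef, OJ.line, OJ.line, ← Submodule.span_union]
      congr 1
      ext w
      simp [Fin.exists_fin_succ]
      tauto
    rw [hsup] at hz ⊢
    obtain ⟨p, hp, q, hq, rfl⟩ := Submodule.mem_sup.mp hz
    rw [map_add]
    exact add_mem (Submodule.mem_sup_left (S.line_J hp)) (Submodule.mem_sup_right (S.line_J hq))
  have h1 : g 4 • u + g 5 • J u ∈ T := by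
    rw [show g 4 • u + g 5 • J u = -(g 0 • x + g 1 • J x + g 2 • y + g 3 • J y) by linear_combination (norm := module) hg]
    refine neg_mem (add_mem (add_mem (add_mem ?_ ?_) ?_) ?_) <;> refine Submodule.smul_mem _ _ (Submodule.subset_span ?_)
    exacts [⟨0, rfl⟩, ⟨1, rfl⟩, ⟨2, rfl⟩, ⟨3, rfl⟩]
  obtain ⟨e4, e5⟩ := S.pair_mem hT h1 hu
  rw [e4, e5, zero_smul, zero_smul, add_zero, add_zero] at hg
  have := Fintype.linearIndependent_iff.mp (S.li_four hx hy) ![g 0, g 1, g 2, g 3] (by simp [Fin.sum_univ_four]; exact hg)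
  intro i
  fin_cases i
  exacts [this 0, this 1, this 2, this 3, e4, e5]

variable (hR : ∀ v, Q v = 0 → J v ∈ zset Q K v)
include hR

theorem J_self_zset {x : ι → F} (hx : Q x = 0) : J x ∈ zset Q K x := hR x hx

theorem diff {x y v : ι → F} (hy : y ∈ zset Q K x) (hv : Q v = 0) (h1 : QuadraticMap.polar (⇑Q) v x = 0)
    (h2 : QuadraticMap.polar (⇑Q) (J v) x = 0) :
    QuadraticMap.polar (⇑Q) v y • J v + (-QuadraticMap.polar (⇑Q) (J v) y) • v ∈ zset Q K x := by
  have hJ : Q (J v) = 0 := by rw [S.scale, hv, mul_zero]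
  have hh := (hR v hv).2 hv 1 (by rw [one_smul]; exact (hR v hv).1)
  have h := zset_map hy hh
  rw [mat_siegelG, mat_siegelG] at h
  simp only [siegelMap, one_smul, h1, h2, hJ, zero_smul, neg_zero, zero_mul, sub_zero, add_zero] at h
  have := sub_mem h hy
  rwa [show y + QuadraticMap.polar (⇑Q) v y • J v + (-QuadraticMap.polar (⇑Q) (J v) y) • v - y =
    QuadraticMap.polar (⇑Q) v y • J v + (-QuadraticMap.polar (⇑Q) (J v) y) • v by abel] at this

/-- Phase one. -/
theorem exists_line {x y : ι → F} (hx : Q x = 0) (hx0 : x ≠ 0) (hy : y ∈ zset Q K x) (hyx : y ∉ S.line x) :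
    ∃ v, Q v = 0 ∧ v ∉ S.line x ∧ QuadraticMap.polar (⇑Q) v x = 0 ∧ QuadraticMap.polar (⇑Q) (J v) x = 0 ∧
      v ∈ zset Q K x ∧ J v ∈ zset Q K x := by
  classical
  set T := Submodule.span F (Set.range ![x, J x, y, J y]) with hT
  have hli := S.li_four hx0 hyx
  obtain ⟨u₀, hu₀, hu₀v⟩ := S.singular_with _ hli ![0, 0, 1, a] (by
    have := S.rad_le ![x, J x, y, J y]; have := S.big; omega)
  have hu : ∃ u, Q u = 0 ∧ u ∉ T ∧ ∀ i, QuadraticMap.polar (⇑Q) u (![x, J x, y, J y] i) = (![0, 0, 1, a] : Fin 4 → F) i := by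
    by_cases hmem : u₀ ∈ T
    · obtain ⟨w, hQw, -, hwp, hwT⟩ := exists_singular_in' Q S.nondeg ⊤ T (by
        rw [finrank_top, Module.finrank_fintype_fun_eq_card]
        have h4 : Module.finrank F T = 4 := (finrank_span_eq_card hli).trans (Fintype.card_fin 4)
        have hlt := Submodule.finrank_lt_finrank_of_lt (s := T ⊓ HypQuad.perp Q T) (t := T)
          (lt_of_le_not_ge inf_le_left fun hle => by
            have hy2 : y ∈ T ⊓ HypQuad.perp Q T := hle (Submodule.subset_span ⟨2, rfl⟩)
            have e : QuadraticMap.polar (⇑Q) u₀ y = 1 := hu₀v 2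
            exact one_ne_zero (e.symm.trans ((HypQuad.mem_perp Q).mp hy2.2 u₀ hmem)))
        have := S.big; omega)
      refine ⟨u₀ + w, ?_, fun h => hwT ((Submodule.add_mem_iff_right _ hmem).mp h), fun i => ?_⟩
      · rw [QuadraticMap.map_add (f := Q), hu₀, hQw, (HypQuad.mem_perp Q).mp hwp u₀ hmem]; simp
      · rw [QuadraticMap.polar_add_left, hu₀v, QuadraticMap.polar_comm (⇑Q) w,
          (HypQuad.mem_perp Q).mp hwp _ (Submodule.subset_span ⟨i, rfl⟩), add_zero]
    · exact ⟨u₀, hu₀, hmem, hu₀v⟩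
  obtain ⟨u, hu, huT, huv⟩ := hu
  have ux : QuadraticMap.polar (⇑Q) u x = 0 := huv 0
  have uJx : QuadraticMap.polar (⇑Q) u (J x) = 0 := huv 1
  have uy : QuadraticMap.polar (⇑Q) u y = 1 := huv 2
  have uJy : QuadraticMap.polar (⇑Q) u (J y) = a := huv 3
  have Jux : QuadraticMap.polar (⇑Q) (J u) x = 0 := by rw [S.adj, ux, uJx]; ring
  have Juy : QuadraticMap.polar (⇑Q) (J u) y = 0 := by rw [S.adj, uy, uJy]; ring
  have hz : J u ∈ zset Q K x := by
    have := S.diff hR hy hu ux Jux
    rwa [uy, Juy, one_smul, neg_zero, zero_smul, add_zero] at this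
  have hJuT : J u ∉ T := by
    intro h
    apply huT
    have hTJ : ∀ z ∈ T, J z ∈ T := by
      intro z hz
      have hle : T ≤ T.comap J := Submodule.span_le.mpr (by
        rintro _ ⟨i, rfl⟩
        fin_cases i <;> show J _ ∈ T
        · exact Submodule.subset_span ⟨1, rfl⟩
        · show J (J x) ∈ T
          rw [S.sq]; exact add_mem (T.smul_mem _ (Submodule.subset_span ⟨1, rfl⟩)) (T.smul_mem _ (Submodule.subset_span ⟨0, rfl⟩))
        · exact Submodule.subset_span ⟨3, rfl⟩
        · show J (J y) ∈ T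
          rw [S.sq]; exact add_mem (T.smul_mem _ (Submodule.subset_span ⟨3, rfl⟩)) (T.smul_mem _ (Submodule.subset_span ⟨2, rfl⟩)))
      exact hle hz
    by_contra hu'
    exact one_ne_zero (S.pair_mem hTJ (c := 0) (d := 1) (by simpa using h) hu').2
  have hli6 := S.li_six hx0 hyx hJuT
  have hne : QuadraticMap.polar (⇑Q) (![x, J x, y, J y, J u, J (J u)] 3) (![x, J x, y, J y, J u, J (J u)] 4) ≠ 0 := by
    show QuadraticMap.polar (⇑Q) (J y) (J u) ≠ 0
    rw [S.JJ, QuadraticMap.polar_comm (⇑Q) y u, uy, mul_one, neg_ne_zero]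
    intro hb; apply S.noroot 0; rw [hb]; ring
  obtain ⟨v, hv, hvv⟩ := S.singular_with _ hli6 ![0, 0, 1, a, 0, 1] (by
    have := S.rad_six hli6 (by rw [S.scale, hu, mul_zero]) fun h => hne (by
      show QuadraticMap.polar (⇑Q) (J y) (J u) = 0
      rw [QuadraticMap.polar_comm]; exact h.2)
    have := S.big; omega)
  have vx : QuadraticMap.polar (⇑Q) v x = 0 := hvv 0
  have vJx : QuadraticMap.polar (⇑Q) v (J x) = 0 := hvv 1
  have vy : QuadraticMap.polar (⇑Q) v y = 1 := hvv 2
  have vJy : QuadraticMap.polar (⇑Q) v (J y) = a := hvv 3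
  have vz : QuadraticMap.polar (⇑Q) v (J u) = 0 := hvv 4
  have vJz : QuadraticMap.polar (⇑Q) v (J (J u)) = 1 := hvv 5
  have Jvx : QuadraticMap.polar (⇑Q) (J v) x = 0 := by rw [S.adj, vx, vJx]; ring
  have h1 := S.diff hR hy hv vx Jvx
  rw [vy, S.adj, vy, vJy, mul_one, sub_self, neg_zero, one_smul, zero_smul, add_zero] at h1
  have h2 := S.diff hR hz hv vx Jvx
  rw [vz, S.adj, vz, vJz, zero_smul, zero_add, mul_zero, zero_sub, neg_neg, one_smul] at h2
  refine ⟨v, hv, fun hmem => ?_, vx, Jvx, h2, h1⟩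
  obtain ⟨c, d, rfl⟩ := Submodule.mem_span_pair.mp hmem
  have xJu : QuadraticMap.polar (⇑Q) x (J u) = 0 := by rw [QuadraticMap.polar_comm]; exact Jux
  have JxJu : QuadraticMap.polar (⇑Q) (J x) (J u) = 0 := by rw [S.JJ, QuadraticMap.polar_comm, ux, mul_zero]
  rw [S.sq, QuadraticMap.polar_add_right, QuadraticMap.polar_smul_right, QuadraticMap.polar_smul_right] at vJz
  simp only [QuadraticMap.polar_add_left, QuadraticMap.polar_smul_left, xJu, JxJu, QuadraticMap.polar_comm (⇑Q) x u,
    QuadraticMap.polar_comm (⇑Q) (J x) u, ux, uJx, smul_zero, add_zero] at vJz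
  exact zero_ne_one vJz

/-- The hermitian orthogonal complement lies in the zero set. -/
theorem horth_mem {x y : ι → F} (hx : Q x = 0) (hx0 : x ≠ 0) (hy : y ∈ zset Q K x) (hyx : y ∉ S.line x)
    {z : ι → F} (hz1 : QuadraticMap.polar (⇑Q) x z = 0) (hz2 : QuadraticMap.polar (⇑Q) (J x) z = 0) :
    z ∈ zset Q K x := by
  classical
  obtain ⟨v, hv, hvx, vx, Jvx, hvZ, hJvZ⟩ := S.exists_line hR hx hx0 hy hyx
  have hline : S.line x ≤ zset Q K x := Submodule.span_le.mpr (by
    rintro w (rfl | rfl)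
    · refine ⟨by rw [QuadraticMap.polar_self, hx, smul_zero], fun hu c hc => ?_⟩
      convert K.one_mem
      refine ext_mulVec Q fun y => ?_
      rw [mat_siegelG]
      refine Eq.trans ?_ (Matrix.one_mulVec y).symm
      funext i
      simp only [siegelMap, QuadraticMap.map_smul, hu, QuadraticMap.polar_smul_left, Pi.add_apply, Pi.smul_apply,
        smul_eq_mul]
      ring
    · exact hR x hx)
  -- singular vectors that see `v`
  have hsee : ∀ w, Q w = 0 → QuadraticMap.polar (⇑Q) x w = 0 → QuadraticMap.polar (⇑Q) (J x) w = 0 →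
      ∀ p ∈ zset Q K x, J p ∈ zset Q K x →
      ¬ (QuadraticMap.polar (⇑Q) w p = 0 ∧ QuadraticMap.polar (⇑Q) (J w) p = 0) →
      w ∈ zset Q K x ∧ J w ∈ zset Q K x := by
    intro w hw h1 h2 p hp hJp hne
    have wx : QuadraticMap.polar (⇑Q) w x = 0 := by rw [QuadraticMap.polar_comm]; exact h1
    have Jwx : QuadraticMap.polar (⇑Q) (J w) x = 0 := by
      rw [S.adj, wx, QuadraticMap.polar_comm (⇑Q) w (J x), h2]; ring
    set P := QuadraticMap.polar (⇑Q) w p with hP
    set R := QuadraticMap.polar (⇑Q) (J w) p with hR'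
    have hD := S.norm_ne hne
    have d1 := S.diff hR hp hw wx Jwx
    have d2 := S.diff hR hJp hw wx Jwx
    rw [S.JJ, show QuadraticMap.polar (⇑Q) w (J p) = a * P - R by rw [hR', S.adj]; ring, ← hP] at d2
    rw [← hP, ← hR'] at d1
    constructor
    · have := (zset Q K x).smul_mem (R * R - a * P * R - b * (P * P))⁻¹
        (sub_mem ((zset Q K x).smul_mem (a * P - R) d1) ((zset Q K x).smul_mem P d2))
      convert this using 1
      have e : (a * P - R) • (P • J w + (-R) • w) - P • ((a * P - R) • J w + (- (-b * P)) • w) =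
          (R * R - a * P * R - b * (P * P)) • w := by module
      rw [e, smul_smul, inv_mul_cancel₀ hD, one_smul]
    · have := (zset Q K x).smul_mem (R * R - a * P * R - b * (P * P))⁻¹
        (sub_mem ((zset Q K x).smul_mem (-(b * P)) d1) ((zset Q K x).smul_mem R d2))
      convert this using 1
      have e : (-(b * P)) • (P • J w + (-R) • w) - R • ((a * P - R) • J w + (- (-b * P)) • w) =
          (R * R - a * P * R - b * (P * P)) • J w := by module
      rw [e, smul_smul, inv_mul_cancel₀ hD, one_smul]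
  have hsing : ∀ w, Q w = 0 → QuadraticMap.polar (⇑Q) x w = 0 → QuadraticMap.polar (⇑Q) (J x) w = 0 →
      w ∈ zset Q K x := by
    intro w hw h1 h2
    by_cases hne : QuadraticMap.polar (⇑Q) w v = 0 ∧ QuadraticMap.polar (⇑Q) (J w) v = 0
    swap
    · exact (hsee w hw h1 h2 v hvZ hJvZ hne).1
    by_cases hmem : w ∈ Submodule.span F (Set.range ![x, J x, v])
    · refine (Submodule.span_le.mpr ?_ : Submodule.span F (Set.range ![x, J x, v]) ≤ zset Q K x) hmem
      rintro _ ⟨i, rfl⟩
      fin_cases i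
      exacts [hline (S.self_mem_line x), hline (S.J_self_mem x), hvZ]
    have hli : LinearIndependent F ![x, J x, v, w] := by
      rw [Fintype.linearIndependent_iff]
      intro g hg
      simp [Fin.sum_univ_four] at hg
      have e3 : g 3 = 0 := by
        by_contra hne3
        apply hmem
        rw [show w = (g 3)⁻¹ • (-(g 0 • x + g 1 • J x + g 2 • v)) by
          rw [show -(g 0 • x + g 1 • J x + g 2 • v) = g 3 • w by linear_combination (norm := module) -hg, smul_smul,
            inv_mul_cancel₀ hne3, one_smul]]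
        refine Submodule.smul_mem _ _ (neg_mem (add_mem (add_mem ?_ ?_) ?_)) <;>
          refine Submodule.smul_mem _ _ (Submodule.subset_span ?_)
        exacts [⟨0, rfl⟩, ⟨1, rfl⟩, ⟨2, rfl⟩]
      have := Fintype.linearIndependent_iff.mp (S.li_four hx0 hvx) ![g 0, g 1, g 2, 0]
        (by simp [Fin.sum_univ_four]; rw [e3, zero_smul, add_zero] at hg; exact hg)
      intro i
      fin_cases i
      exacts [this 0, this 1, this 2, e3]
    obtain ⟨w', hw', hw'v⟩ := S.singular_with _ hli ![0, 0, 1, 1] (by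
      have := S.rad_le ![x, J x, v, w]; have := S.big; omega)
    have e1 : QuadraticMap.polar (⇑Q) x w' = 0 := by rw [QuadraticMap.polar_comm]; exact hw'v 0
    have e2 : QuadraticMap.polar (⇑Q) (J x) w' = 0 := by rw [QuadraticMap.polar_comm]; exact hw'v 1
    have e3 : QuadraticMap.polar (⇑Q) w' v = 1 := hw'v 2
    have e4 : QuadraticMap.polar (⇑Q) w' w = 1 := hw'v 3
    obtain ⟨hw'Z, hJw'Z⟩ := hsee w' hw' e1 e2 v hvZ hJvZ (fun h => one_ne_zero (e3.symm.trans h.1))
    exact (hsee w hw h1 h2 w' hw'Z hJw'Z (fun h => by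
      rw [QuadraticMap.polar_comm, e4] at h; exact one_ne_zero h.1)).1
  by_cases hzx : z ∈ S.line x
  · exact hline hzx
  have hli : LinearIndependent F ![x, J x, z] := by
    rw [Fintype.linearIndependent_iff]
    intro g hg
    simp [Fin.sum_univ_three] at hg
    have := Fintype.linearIndependent_iff.mp (S.li_four hx0 hzx) ![g 0, g 1, g 2, 0] (by simp [Fin.sum_univ_four]; exact hg)
    intro i
    fin_cases i
    exacts [this 0, this 1, this 2]
  obtain ⟨w, hw, hwv⟩ := S.singular_with _ hli ![0, 0, Q z] (by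
    have := S.rad_le ![x, J x, z]; have := S.big; omega)
  have e1 : QuadraticMap.polar (⇑Q) x w = 0 := by rw [QuadraticMap.polar_comm]; exact hwv 0
  have e2 : QuadraticMap.polar (⇑Q) (J x) w = 0 := by rw [QuadraticMap.polar_comm]; exact hwv 1
  have e3 : QuadraticMap.polar (⇑Q) w z = Q z := hwv 2
  have hrest := hsing (z - w) (by
      rw [sub_eq_add_neg, QuadraticMap.map_add (f := Q), QuadraticMap.map_neg, hw, QuadraticMap.polar_neg_right,
        QuadraticMap.polar_comm, e3]; simp)
    (by rw [QuadraticMap.polar_sub_right, hz1, e1, sub_self]) (by rw [QuadraticMap.polar_sub_right, hz2, e2, sub_self])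
  simpa using add_mem hrest (hsing w hw e1 e2)

/-- A good vector is a centre. -/
theorem centre {x y : ι → F} (hx : Q x = 0) (hx0 : x ≠ 0) (hy : y ∈ zset Q K x) (hyx : y ∉ S.line x) :
    x ∈ sCentres Q K := by
  classical
  have hW : ∀ z, QuadraticMap.polar (⇑Q) x z = 0 → QuadraticMap.polar (⇑Q) (J x) z = 0 → z ∈ zset Q K x :=
    fun z => S.horth_mem hR hx hx0 hy hyx
  obtain ⟨w, hQw, -, hwp, hwL⟩ := exists_singular_in Q S.nondeg ⊤ (S.line x) (by
    rw [finrank_top, Module.finrank_fintype_fun_eq_card, ← S.line_eq,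
      (finrank_span_eq_card (S.li_two hx0)).trans (Fintype.card_fin 2)]
    have := S.big; omega)
  have hw0 : w ≠ 0 := fun h => hwL (by rw [h]; exact Submodule.zero_mem _)
  have xw : QuadraticMap.polar (⇑Q) x w = 0 := (HypQuad.mem_perp Q).mp hwp x (S.self_mem_line x)
  have Jxw : QuadraticMap.polar (⇑Q) (J x) w = 0 := (HypQuad.mem_perp Q).mp hwp _ (S.J_self_mem x)
  have hwZ := zset_swap hx hQw (hW w xw Jxw)
  have hxw : x ∉ S.line w := fun h => hwL (S.line_symm hx0 h)
  obtain ⟨p, hQp, hpv⟩ := S.singular_with _ (S.li_four hx0 hwL) ![0, 1, 0, 0] (by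
    have := S.rad_le ![x, J x, w, J w]; have := S.big; omega)
  have px : QuadraticMap.polar (⇑Q) p x = 0 := hpv 0
  have pJx : QuadraticMap.polar (⇑Q) p (J x) = 1 := hpv 1
  have pw : QuadraticMap.polar (⇑Q) p w = 0 := hpv 2
  have pJw : QuadraticMap.polar (⇑Q) p (J w) = 0 := hpv 3
  have hp0 : p ≠ 0 := fun h => by rw [h, QuadraticMap.polar_zero_left] at pJx; exact zero_ne_one pJx
  have hpZ : w ∈ zset Q K p := zset_swap hQw hQp (S.horth_mem hR hQw hw0 hwZ hxw
    (by rw [QuadraticMap.polar_comm]; exact pw) (by rw [QuadraticMap.polar_comm]; exact pJw))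
  have hwp' : w ∉ S.line p := fun h => by
    have hpl := S.line_symm hw0 h
    obtain ⟨c, d, e⟩ := Submodule.mem_span_pair.mp hpl
    rw [← e, QuadraticMap.polar_add_left, QuadraticMap.polar_smul_left, QuadraticMap.polar_smul_left,
      QuadraticMap.polar_comm (⇑Q) w (J x), Jxw, S.JJ, QuadraticMap.polar_comm (⇑Q) w x, xw] at pJx
    simp at pJx
  have hpW := fun z => S.horth_mem hR hQp hp0 hpZ hwp' (z := z)
  have hli : LinearIndependent F ![x, J x, p, J p] := S.li_four hx0 (fun h => by
    obtain ⟨c, d, e⟩ := Submodule.mem_span_pair.mp h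
    rw [← e, QuadraticMap.polar_add_left, QuadraticMap.polar_smul_left, QuadraticMap.polar_smul_left, S.JJ,
      QuadraticMap.polar_self, hx, S.diag, hx] at pJx
    simp at pJx)
  obtain ⟨r, hQr, -, hrp, hrT⟩ := exists_singular_in' Q S.nondeg ⊤ (Submodule.span F (Set.range ![x, J x, p, J p])) (by
    rw [finrank_top, Module.finrank_fintype_fun_eq_card, (finrank_span_eq_card hli).trans (Fintype.card_fin 4)]
    have := S.rad_lt _ hli (i := 1) (j := 2) (by
      show QuadraticMap.polar (⇑Q) (J x) p ≠ 0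
      rw [QuadraticMap.polar_comm, pJx]; exact one_ne_zero)
    have := S.big; omega)
  have xr : QuadraticMap.polar (⇑Q) x r = 0 := (HypQuad.mem_perp Q).mp hrp _ (Submodule.subset_span ⟨0, rfl⟩)
  have Jxr : QuadraticMap.polar (⇑Q) (J x) r = 0 := (HypQuad.mem_perp Q).mp hrp _ (Submodule.subset_span ⟨1, rfl⟩)
  have pr : QuadraticMap.polar (⇑Q) p r = 0 := (HypQuad.mem_perp Q).mp hrp _ (Submodule.subset_span ⟨2, rfl⟩)
  have Jpr : QuadraticMap.polar (⇑Q) (J p) r = 0 := (HypQuad.mem_perp Q).mp hrp _ (Submodule.subset_span ⟨3, rfl⟩)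
  have hrL : r ∉ S.line x := fun h => hrT (by
    obtain ⟨c, d, rfl⟩ := Submodule.mem_span_pair.mp h
    exact add_mem (Submodule.smul_mem _ _ (Submodule.subset_span ⟨0, rfl⟩)) (Submodule.smul_mem _ _ (Submodule.subset_span ⟨1, rfl⟩)))
  have hli3 : LinearIndependent F ![x, J x, r] := by
    rw [Fintype.linearIndependent_iff]
    intro g hg
    simp [Fin.sum_univ_three] at hg
    have := Fintype.linearIndependent_iff.mp (S.li_four hx0 hrL) ![g 0, g 1, g 2, 0] (by simp [Fin.sum_univ_four]; exact hg)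
    intro i
    fin_cases i
    exacts [this 0, this 1, this 2]
  obtain ⟨q, hQq, hqv⟩ := S.singular_with _ hli3 ![0, 0, 1] (by
    have := S.rad_le ![x, J x, r]; have := S.big; omega)
  have xq : QuadraticMap.polar (⇑Q) x q = 0 := by rw [QuadraticMap.polar_comm]; exact hqv 0
  have Jxq : QuadraticMap.polar (⇑Q) (J x) q = 0 := by rw [QuadraticMap.polar_comm]; exact hqv 1
  have rq : QuadraticMap.polar (⇑Q) r q = 1 := by rw [QuadraticMap.polar_comm]; exact hqv 2
  have hm := (hpW r pr Jpr).2 hQp 1 (by rw [one_smul]; exact pr)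
  have h := zset_map (hW q xq Jxq) hm
  rw [mat_siegelG, mat_siegelG] at h
  simp only [siegelMap, one_smul, px, QuadraticMap.polar_comm (⇑Q) r x, xr, hQr, rq, zero_smul, neg_zero,
    zero_mul, sub_zero, add_zero] at h
  set z₀ := q + QuadraticMap.polar (⇑Q) p q • r + (-1 : F) • p with hz₀
  have e0 : QuadraticMap.polar (⇑Q) (J x) z₀ = -1 := by
    rw [hz₀, QuadraticMap.polar_add_right, QuadraticMap.polar_add_right, QuadraticMap.polar_smul_right,
      QuadraticMap.polar_smul_right, Jxq, Jxr, QuadraticMap.polar_comm (⇑Q) (J x) p, pJx]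
    simp
  refine sCentres_of_zset hx fun z hz => ?_
  have h1 := hW (z + QuadraticMap.polar (⇑Q) (J x) z • z₀)
    (by rw [QuadraticMap.polar_add_right, QuadraticMap.polar_smul_right, hz, h.1, smul_zero, add_zero])
    (by rw [QuadraticMap.polar_add_right, QuadraticMap.polar_smul_right, e0, smul_eq_mul]; ring)
  simpa using sub_mem h1 ((zset Q K x).smul_mem (QuadraticMap.polar (⇑Q) (J x) z) h)

omit hR

/-- A singular vector orthogonal to two given ones and outside their lines. -/
theorem exists_link {x y : ι → F} (hx : Q x = 0) (hy : Q y = 0) :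
    ∃ z, Q z = 0 ∧ z ≠ 0 ∧ QuadraticMap.polar (⇑Q) x z = 0 ∧
    QuadraticMap.polar (⇑Q) y z = 0 ∧ z ∉ S.line x ∧ z ∉ S.line y := by
  set T := S.line x ⊔ S.line y with hTdef
  by_cases hiso : Module.finrank F ↥(T ⊓ HypQuad.perp Q T) = 4
  · have hTp : T ≤ HypQuad.perp Q T := by
      have h1 := Submodule.finrank_sup_add_finrank_inf_eq (S.line x) (S.line y)
      have h2 : Module.finrank F (S.line x) ≤ 2 := by
        rw [← S.line_eq]; exact (finrank_range_le_card _).trans (Fintype.card_fin 2).le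
      have h3 : Module.finrank F (S.line y) ≤ 2 := by
        rw [← S.line_eq]; exact (finrank_range_le_card _).trans (Fintype.card_fin 2).le
      have hT : Module.finrank F T = Module.finrank F ↥(S.line x ⊔ S.line y) := rfl
      exact inf_eq_left.mp (Submodule.eq_of_le_of_finrank_le inf_le_left (by omega))
    have hyx : y ∉ S.line x := fun h => by
      have hle : T ≤ S.line x := sup_le le_rfl (Submodule.span_le.mpr (by
        rintro _ (rfl | rfl)
        exacts [h, S.line_J h]))
      have h4 := Submodule.finrank_mono ((inf_le_left : T ⊓ HypQuad.perp Q T ≤ T).trans hle)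
      have h2 : Module.finrank F (S.line x) ≤ 2 := by
        rw [← S.line_eq]; exact (finrank_range_le_card _).trans (Fintype.card_fin 2).le
      omega
    have hxy : x ∉ S.line y := fun h => by
      have hle : T ≤ S.line y := sup_le (Submodule.span_le.mpr (by
        rintro _ (rfl | rfl)
        exacts [h, S.line_J h])) le_rfl
      have h4 := Submodule.finrank_mono ((inf_le_left : T ⊓ HypQuad.perp Q T ≤ T).trans hle)
      have h2 : Module.finrank F (S.line y) ≤ 2 := by
        rw [← S.line_eq]; exact (finrank_range_le_card _).trans (Fintype.card_fin 2).le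
      omega
    have hxT : x ∈ T := Submodule.mem_sup_left (S.self_mem_line x)
    have hyT : y ∈ T := Submodule.mem_sup_right (S.self_mem_line y)
    have exy : QuadraticMap.polar (⇑Q) x y = 0 := (HypQuad.mem_perp Q).mp (hTp hyT) x hxT
    refine ⟨x + y, by rw [QuadraticMap.map_add (f := Q), hx, hy, exy]; simp, fun h => hyx ?_, ?_, ?_,
      fun h => hyx (by simpa using sub_mem h (S.self_mem_line x)),
      fun h => hxy (by simpa using sub_mem h (S.self_mem_line y))⟩
    · rw [eq_neg_of_add_eq_zero_right h]; exact neg_mem (S.self_mem_line x)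
    · exact (HypQuad.mem_perp Q).mp (add_mem (hTp hxT) (hTp hyT)) x hxT
    · exact (HypQuad.mem_perp Q).mp (add_mem (hTp hxT) (hTp hyT)) y hyT
  obtain ⟨z, hQz, -, hzp, hzT⟩ := exists_singular_in' Q S.nondeg ⊤ T (by
    rw [finrank_top, Module.finrank_fintype_fun_eq_card]
    have h1 := Submodule.finrank_sup_add_finrank_inf_eq (S.line x) (S.line y)
    have h2 : Module.finrank F (S.line x) ≤ 2 := by
      rw [← S.line_eq]; exact (finrank_range_le_card _).trans (Fintype.card_fin 2).le
    have h3 : Module.finrank F (S.line y) ≤ 2 := by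
      rw [← S.line_eq]; exact (finrank_range_le_card _).trans (Fintype.card_fin 2).le
    have := S.big
    have hT : Module.finrank F T = Module.finrank F ↥(S.line x ⊔ S.line y) := rfl
    have hr := Submodule.finrank_mono (inf_le_left : T ⊓ HypQuad.perp Q T ≤ T)
    omega)
  exact ⟨z, hQz, fun h => hzT (by rw [h]; exact Submodule.zero_mem _),
    (HypQuad.mem_perp Q).mp hzp x (Submodule.mem_sup_left (S.self_mem_line x)),
    (HypQuad.mem_perp Q).mp hzp y (Submodule.mem_sup_right (S.self_mem_line y)),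
    fun h => hzT (Submodule.mem_sup_left h), fun h => hzT (Submodule.mem_sup_right h)⟩

include hR in
theorem omega_le_of_good {x y : ι → F} (hx : Q x = 0) (hx0 : x ≠ 0) (hy : y ∈ zset Q K x) (hyx : y ∉ S.line x) :
    Cfsg.Omega F (⇑Q) ≤ K := by
  have hnear : ∀ x, (∃ y, y ∈ zset Q K x ∧ y ∉ S.line x) → Q x = 0 → x ≠ 0 → ∀ z, Q z = 0 → z ≠ 0 →
      QuadraticMap.polar (⇑Q) x z = 0 → z ∉ S.line x → ∃ y, y ∈ zset Q K z ∧ y ∉ S.line z := by
    rintro x ⟨y, hy, hyx⟩ hx hx0 z hz hz0 hxz hzx
    exact ⟨x, zset_swap hx hz (zset_of_sCentres (S.centre hR hx hx0 hy hyx) hxz), fun h => hzx (S.line_symm hx0 h)⟩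
  rw [omega_eq_closure_all Q S.nondeg (by have := S.big; omega), Subgroup.closure_le]
  rintro _ ⟨u, z, hu, huz, rfl⟩
  by_cases hu0 : u = 0
  · subst hu0
    have : siegelG Q hu huz = 1 := ext_mulVec Q fun w => by
      rw [mat_siegelG, show mat Q 1 = 1 from rfl, Matrix.one_mulVec]
      simp [siegelMap]
    rw [this]; exact K.one_mem
  obtain ⟨w, hQw, hw0, hxw, huw, hwx, hwu⟩ := S.exists_link hx hu
  obtain ⟨y', hy', hy'u⟩ := hnear w (hnear x ⟨y, hy, hyx⟩ hx hx0 w hQw hw0 hxw hwx) hQw hw0 u hu hu0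
    (by rw [QuadraticMap.polar_comm]; exact huw) (fun h => hwu (S.line_symm hu0 h))
  exact (S.centre hR hu hu0 hy' hy'u).2 z huz

/-- A linear map preserving every singular line of the structure is in the field. -/
theorem scalar_of_lines (J' : (ι → F) →ₗ[F] (ι → F)) (h : ∀ v, Q v = 0 → J' v ∈ S.line v) :
    ∃ c d : F, ∀ v, J' v = c • v + d • J v := by
  classical
  choose c d hcd using fun v (hv : Q v = 0) => Submodule.mem_span_pair.mp (h v hv)
  obtain ⟨x, -, hx0, hQx⟩ : ∃ x ∈ (⊤ : Submodule F (ι → F)), x ≠ 0 ∧ Q x = 0 := by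
    obtain ⟨x, hx, hx0, hQx⟩ := exists_singular Q (⊤ : Submodule F (ι → F))
      (by rw [finrank_top, Module.finrank_fintype_fun_eq_card]; have := S.big; omega)
    exact ⟨x, hx, hx0, hQx⟩
  have hadj : ∀ x y (hx : Q x = 0) (hy : Q y = 0), x ≠ 0 → y ∉ S.line x → QuadraticMap.polar (⇑Q) x y = 0 →
      c x hx = c y hy ∧ d x hx = d y hy := by
    intro x y hx hy hx0 hyx hxy
    have hs : Q (x + y) = 0 := by rw [QuadraticMap.map_add (f := Q), hx, hy, hxy]; simp
    have h3 := hcd _ hs
    rw [map_add, map_add, ← hcd x hx, ← hcd y hy] at h3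
    have := Fintype.linearIndependent_iff.mp (S.li_four hx0 hyx)
      ![c _ hs - c x hx, d _ hs - d x hx, c _ hs - c y hy, d _ hs - d y hy]
      (by simp [Fin.sum_univ_four]; linear_combination (norm := module) h3)
    exact ⟨(sub_eq_zero.mp (this 0)).symm.trans (sub_eq_zero.mp (this 2)),
      (sub_eq_zero.mp (this 1)).symm.trans (sub_eq_zero.mp (this 3))⟩
  refine ⟨c x hQx, d x hQx, fun v => ?_⟩
  have hsing : ∀ v, Q v = 0 → J' v = c x hQx • v + d x hQx • J v := by
    intro v hv
    by_cases hv0 : v = 0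
    · subst hv0; simp
    obtain ⟨z, hQz, hz0, hxz, hvz, hzx, hzv⟩ := S.exists_link hQx hv
    obtain ⟨e1, e2⟩ := hadj x z hQx hQz hx0 hzx hxz
    obtain ⟨e3, e4⟩ := hadj v z hv hQz hv0 hzv hvz
    rw [e1, e2, ← e3, ← e4, hcd v hv]
  by_cases hv0 : v = 0
  · subst hv0; simp
  obtain ⟨w, hw, hwv⟩ := S.singular_with ![v] (LinearIndependent.of_subsingleton 0 (by simpa using hv0)) ![Q v] (by
    have := S.rad_le ![v]; have := S.big; omega)
  have e : QuadraticMap.polar (⇑Q) w v = Q v := hwv 0
  have h1 := hsing (v - w) (by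
    rw [sub_eq_add_neg, QuadraticMap.map_add (f := Q), QuadraticMap.map_neg, hw, QuadraticMap.polar_neg_right,
      QuadraticMap.polar_comm, e]; simp)
  have h2 := hsing w hw
  rw [map_sub, h2, map_sub] at h1
  linear_combination (norm := module) h1

/-- Root elements on the lines commute with the structure. -/
theorem root_commutes {v : ι → F} (hv : Q v = 0) (t : F) (h : QuadraticMap.polar (⇑Q) v (t • J v) = 0) (x : ι → F) :
    mat Q (siegelG Q hv h) *ᵥ J x = J (mat Q (siegelG Q hv h) *ᵥ x) := by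
  rw [mat_siegelG, mat_siegelG]
  simp only [siegelMap, QuadraticMap.map_smul, S.scale, hv, mul_zero, smul_zero, zero_mul, sub_zero,
    QuadraticMap.polar_smul_left, map_add, map_smul, S.sq, S.JJ, smul_eq_mul,
    show QuadraticMap.polar (⇑Q) v (J x) = a * QuadraticMap.polar (⇑Q) v x - QuadraticMap.polar (⇑Q) (J v) x by
      rw [S.adj]; ring]
  module

end OJ

theorem two_gens {V : Type*} [AddCommGroup V] [Module F V] {K : Submodule F V} (hK : Module.finrank F K = 2) {e : V}
    (he : e ∈ K) (he0 : e ≠ 0) :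
    ∃ k ∈ K, LinearIndependent F ![e, k] ∧ ∀ x ∈ K, ∃ c d : F, x = c • e + d • k := by
  haveI : Module.Finite F K := Module.finite_of_finrank_pos (by omega)
  obtain ⟨k, hk, hke⟩ : ∃ k ∈ K, k ∉ Submodule.span F {e} := by
    by_contra h
    push Not at h
    have := Submodule.finrank_mono (show K ≤ Submodule.span F {e} from h)
    rw [finrank_span_singleton he0] at this
    omega
  have hli : LinearIndependent F ![e, k] := LinearIndependent.pair_iff.mpr fun c d h => by
    by_cases hd : d = 0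
    · subst hd
      rw [zero_smul, add_zero, smul_eq_zero] at h
      exact ⟨h.resolve_right he0, rfl⟩
    · refine absurd (Submodule.mem_span_singleton.mpr ⟨-c / d, ?_⟩) hke
      have : k = d⁻¹ • (-(c • e)) := by
        rw [show -(c • e) = d • k by linear_combination (norm := module) -h, smul_smul, inv_mul_cancel₀ hd, one_smul]
      rw [this]
      module
  refine ⟨k, hk, hli, fun x hx => ?_⟩
  have heq : Submodule.span F (Set.range ![e, k]) = K :=
    Submodule.eq_of_le_of_finrank_le (Submodule.span_le.mpr (by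
      rintro _ ⟨i, rfl⟩; fin_cases i; exacts [he, hk]))
      (by rw [finrank_span_eq_card hli, Fintype.card_fin, hK])
  rw [← heq, Matrix.range_cons_cons_empty] at hx
  obtain ⟨c, d, h⟩ := Submodule.mem_span_pair.mp hx
  exact ⟨c, d, h.symm⟩

/-- The structure carried by the overfield. -/
theorem exists_OJ (hQ : (QuadraticMap.polarBilin Q).Nondegenerate) (hn : 10 ≤ Fintype.card ι)
    (A : Subalgebra F (Matrix ι ι F)) (hA : Cfsg.Geo.IsFieldSubalgebra 2 A)
    (hac : Cfsg.Geo.IsAdjointClosedFor (QuadraticMap.polar (⇑Q)) A)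
    (hnsa : ¬ Cfsg.Geo.IsSelfAdjointFor (QuadraticMap.polar (⇑Q)) A)
    (hsc : ∀ k ∈ A, ∃ c : F, ∀ v, Q (k *ᵥ v) = c * Q v) :
    ∃ (k : Matrix ι ι F) (a b : F), k ∈ A ∧ LinearIndependent F ![1, k] ∧
      (∀ x ∈ A, ∃ c d : F, x = c • (1 : Matrix ι ι F) + d • k) ∧ OJ Q k.mulVecLin a b := by
  classical
  haveI : Nonempty ι := Fintype.card_pos_iff.mp (by omega)
  obtain ⟨k, hk, hli, hgen⟩ := two_gens (K := Subalgebra.toSubmodule A) hA.finrank_eq (e := 1) A.one_mem one_ne_zero
  have hne : ∀ c : F, k - c • 1 ≠ 0 := fun c h =>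
    one_ne_zero (LinearIndependent.pair_iff.mp hli (-c) 1 (by rw [← h]; module)).2
  obtain ⟨b, a, hab⟩ := hgen (k * k) (A.mul_mem hk hk)
  have hroot : ∀ r : F, r * r - a * r - b ≠ 0 := by
    intro r hr
    have hmem : ∀ c : F, k - c • 1 ∈ A := fun c => A.sub_mem hk (A.smul_mem A.one_mem c)
    obtain ⟨y, -, hy⟩ := hA.inv _ (hmem r) (hne r)
    have e : (k - (a - r) • 1) * (k - r • 1) = 0 := by
      have : (k - (a - r) • 1) * (k - r • 1) = k * k - a • k + ((a - r) * r) • 1 := by
        simp only [sub_mul, mul_sub, smul_mul_assoc, mul_smul_comm, one_mul, mul_one, smul_sub, smul_smul]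
        module
      rw [this, hab, show b = r * r - a * r by linear_combination -hr]
      module
    apply hne (a - r)
    have e' : k - (a - r) • 1 = (k - (a - r) • 1) * ((k - r • 1) * y) := by rw [hy, mul_one]
    rw [e', ← mul_assoc, e, zero_mul]
  obtain ⟨x₀, y₀, hxy⟩ : ∃ x y, QuadraticMap.polar (⇑Q) x y ≠ 0 := by
    obtain ⟨x, hx⟩ := exists_ne (0 : ι → F)
    by_contra h
    push Not at h
    exact hx (hQ.1 x (h x))
  obtain ⟨k', hk', hk'a⟩ := hac k hk
  obtain ⟨c, d, rfl⟩ := hgen k' hk'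
  have hk'a' : ∀ u v, QuadraticMap.polar (⇑Q) (k *ᵥ u) v =
      c * QuadraticMap.polar (⇑Q) u v + d * QuadraticMap.polar (⇑Q) u (k *ᵥ v) := fun u v => by
    rw [hk'a, Matrix.add_mulVec, Matrix.smul_mulVec, Matrix.smul_mulVec, Matrix.one_mulVec,
      QuadraticMap.polar_add_right, QuadraticMap.polar_smul_right, QuadraticMap.polar_smul_right, smul_eq_mul, smul_eq_mul]
  have hinj : ∀ M N : Matrix ι ι F, (∀ u v, QuadraticMap.polar (⇑Q) u (M *ᵥ v) = QuadraticMap.polar (⇑Q) u (N *ᵥ v)) →
      M = N := by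
    intro M N h
    refine Matrix.toLin'.injective (LinearMap.ext fun v => sub_eq_zero.mp (hQ.2 _ fun u => ?_))
    simp only [Matrix.toLin'_apply]
    show QuadraticMap.polar (⇑Q) u (M *ᵥ v - N *ᵥ v) = 0
    rw [QuadraticMap.polar_sub_right, h, sub_self]
  -- the adjoint is an involution
  have h2 : (c + d * c) • (1 : Matrix ι ι F) + (d * d) • k = k := by
    refine hinj _ _ fun u v => ?_
    rw [Matrix.add_mulVec, Matrix.smul_mulVec, Matrix.smul_mulVec, Matrix.one_mulVec, QuadraticMap.polar_add_right,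
      QuadraticMap.polar_smul_right, QuadraticMap.polar_smul_right, smul_eq_mul, smul_eq_mul]
    have e1 := hk'a' v u
    rw [QuadraticMap.polar_comm (⇑Q) (k *ᵥ v), QuadraticMap.polar_comm (⇑Q) v u, QuadraticMap.polar_comm (⇑Q) v (k *ᵥ u),
      hk'a'] at e1
    linear_combination -e1
  obtain ⟨h3, h4⟩ := LinearIndependent.pair_iff.mp hli (c + d * c) (d * d - 1) (by linear_combination (norm := module) h2)
  -- it satisfies the same equation
  have h5 : (c * c - a * c + d * d * b - b) • (1 : Matrix ι ι F) + (2 * c * d + a * (d * d) - a * d) • k = 0 := by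
    refine hinj _ _ fun u v => ?_
    have hk2 : ∀ x, k *ᵥ (k *ᵥ x) = b • x + a • (k *ᵥ x) := fun x => by
      rw [Matrix.mulVec_mulVec, hab, Matrix.add_mulVec, Matrix.smul_mulVec, Matrix.smul_mulVec, Matrix.one_mulVec]
    have e1 := hk'a' (k *ᵥ u) v
    rw [hk'a' u (k *ᵥ v), hk2, hk2, QuadraticMap.polar_add_left, QuadraticMap.polar_smul_left,
      QuadraticMap.polar_smul_left, QuadraticMap.polar_add_right, QuadraticMap.polar_smul_right,
      QuadraticMap.polar_smul_right, hk'a' u v] at e1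
    simp only [smul_eq_mul] at e1
    rw [Matrix.zero_mulVec, QuadraticMap.polar_zero_right, Matrix.add_mulVec, Matrix.smul_mulVec, Matrix.smul_mulVec,
      Matrix.one_mulVec, QuadraticMap.polar_add_right, QuadraticMap.polar_smul_right, QuadraticMap.polar_smul_right,
      smul_eq_mul, smul_eq_mul]
    linear_combination -e1
  obtain ⟨h6, h7⟩ := LinearIndependent.pair_iff.mp hli _ _ h5
  obtain ⟨hd1, hca'⟩ : d = -1 ∧ c = a := by
    rcases mul_self_eq_one_iff.mp (sub_eq_zero.mp h4) with rfl | rfl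
    · by_cases hc : c = 0
      · subst hc
        refine absurd (fun x hx u v => ?_) hnsa
        obtain ⟨c', d', rfl⟩ := hgen x hx
        simp only [Matrix.add_mulVec, Matrix.smul_mulVec, Matrix.one_mulVec, QuadraticMap.polar_add_left,
          QuadraticMap.polar_add_right, QuadraticMap.polar_smul_left, QuadraticMap.polar_smul_right, smul_eq_mul, hk'a']
        ring
      · have h2z : (2 : F) = 0 := by
          have : (2 : F) * c = 0 := by linear_combination h3
          exact (mul_eq_zero.mp this).resolve_right hc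
        refine ⟨by linear_combination h2z, ?_⟩
        have : c * (c - a) = 0 := by linear_combination h6
        exact sub_eq_zero.mp ((mul_eq_zero.mp this).resolve_left hc)
    · refine ⟨rfl, ?_⟩
      by_contra hca
      have hc : c * (c - a) = 0 := by linear_combination h6
      have hc0 : c = 0 := (mul_eq_zero.mp hc).resolve_right (sub_ne_zero.mpr hca)
      subst hc0
      have : a * 2 = 0 := by linear_combination h7
      rcases mul_eq_zero.mp this with ha | h2z
      · exact hca ha.symm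
      · refine absurd (fun x hx u v => ?_) hnsa
        obtain ⟨c', d', rfl⟩ := hgen x hx
        simp only [Matrix.add_mulVec, Matrix.smul_mulVec, Matrix.one_mulVec, QuadraticMap.polar_add_left,
          QuadraticMap.polar_add_right, QuadraticMap.polar_smul_left, QuadraticMap.polar_smul_right, smul_eq_mul, hk'a']
        linear_combination (-(d' * QuadraticMap.polar (⇑Q) u (k *ᵥ v))) * h2z
  have hadj : ∀ x y, QuadraticMap.polar (⇑Q) (k *ᵥ x) y =
      a * QuadraticMap.polar (⇑Q) x y - QuadraticMap.polar (⇑Q) x (k *ᵥ y) := fun x y => by rw [hk'a', hd1, hca']; ring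
  have hkk : ∀ x, k *ᵥ (k *ᵥ x) = a • (k *ᵥ x) + b • x := fun x => by
    rw [Matrix.mulVec_mulVec, hab, Matrix.add_mulVec, Matrix.smul_mulVec, Matrix.smul_mulVec, Matrix.one_mulVec, add_comm]
  obtain ⟨s, hs⟩ := hsc k hk
  have hsb : s = -b := by
    have e1 : QuadraticMap.polar (⇑Q) (k *ᵥ x₀) (k *ᵥ y₀) = s * QuadraticMap.polar (⇑Q) x₀ y₀ := by
      simp only [QuadraticMap.polar, ← Matrix.mulVec_add, hs]; ring
    rw [hadj, hkk, QuadraticMap.polar_add_right, QuadraticMap.polar_smul_right, QuadraticMap.polar_smul_right,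
      smul_eq_mul, smul_eq_mul] at e1
    exact mul_right_cancel₀ hxy (by linear_combination -e1)
  obtain ⟨t, ht⟩ := hsc (k + 1) (A.add_mem hk A.one_mem)
  have hdg : ∀ x, QuadraticMap.polar (⇑Q) x (k *ᵥ x) = (t + b - 1) * Q x := fun x => by
    have := ht x
    rw [Matrix.add_mulVec, Matrix.one_mulVec, QuadraticMap.map_add (f := Q), hs, hsb, QuadraticMap.polar_comm] at this
    linear_combination this
  have hea : t + b - 1 = a := by
    refine mul_right_cancel₀ hxy ?_
    have h1 := hdg (x₀ + y₀)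
    rw [Matrix.mulVec_add, QuadraticMap.polar_add_left, QuadraticMap.polar_add_right, QuadraticMap.polar_add_right,
      hdg, hdg, QuadraticMap.map_add (f := Q), QuadraticMap.polar_comm (⇑Q) y₀ (k *ᵥ x₀), hadj] at h1
    linear_combination -h1
  exact ⟨k, a, b, hk, hli, hgen, ⟨hQ, hkk, hadj, fun x => by rw [← hsb]; exact hs x,
    fun x => by rw [← hea]; exact hdg x, hroot, hn⟩⟩

/-- The normaliser of the overfield is maximal. -/
theorem overfield_maximal (hQ : (QuadraticMap.polarBilin Q).Nondegenerate) (hn : 10 ≤ Fintype.card ι)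
    (A : Subalgebra F (Matrix ι ι F)) (hA : Cfsg.Geo.IsFieldSubalgebra 2 A)
    (hac : Cfsg.Geo.IsAdjointClosedFor (QuadraticMap.polar (⇑Q)) A)
    (hnsa : ¬ Cfsg.Geo.IsSelfAdjointFor (QuadraticMap.polar (⇑Q)) A)
    (hsc : ∀ k ∈ A, ∃ c : F, ∀ v, Q (k *ᵥ v) = c * Q v) :
    Cfsg.Geo.IsMaximalIn (Cfsg.Geo.omegaGL (⇑Q))
      (Cfsg.Geo.subalgebraNormalizer A ⊓ Cfsg.Geo.omegaGL (⇑Q)) := by
  classical
  obtain ⟨k, a, b, hk, hli, hgen, S⟩ := exists_OJ hQ hn A hA hac hnsa hsc
  refine ⟨lt_of_le_of_ne inf_le_right fun heq => ?_, fun M hHM hMO => ?_⟩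
  · obtain ⟨x, -, hx0, hx⟩ : ∃ x ∈ (⊤ : Submodule F (ι → F)), x ≠ 0 ∧ Q x = 0 := by
      obtain ⟨x, hx, hx0, hQx⟩ := exists_singular Q (⊤ : Submodule F (ι → F))
        (by rw [finrank_top, Module.finrank_fintype_fun_eq_card]; omega)
      exact ⟨x, hx, hx0, hQx⟩
    obtain ⟨z, hz, hz0, hxz, hJxz, hzx, -⟩ := S.exists_link (x := x) (y := k.mulVecLin x) hx (by rw [S.scale, hx, mul_zero])
    obtain ⟨y, -, hy⟩ := S.singular_with ![x] (LinearIndependent.of_subsingleton 0 (by simpa using hx0)) ![1] (by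
      have := S.rad_le ![x]; omega)
    have hxy : QuadraticMap.polar (⇑Q) x y = 1 := by rw [QuadraticMap.polar_comm]; exact hy 0
    set t := siegelG Q hx hxz with ht'
    have ht : (t : GL ι F) ∈ Cfsg.Geo.subalgebraNormalizer A :=
      (heq.symm ▸ (mem_omegaGL Q _).mpr ⟨t, siegelG_mem_omega Q hQ (by omega) _ _, rfl⟩ :
        (t : GL ι F) ∈ Cfsg.Geo.subalgebraNormalizer A ⊓ Cfsg.Geo.omegaGL (⇑Q)).1
    obtain ⟨c, d, hcd⟩ := hgen _ ((ht k).mp hk)
    have hm : ∀ w, mat Q t *ᵥ (k *ᵥ w) = c • (mat Q t *ᵥ w) + d • (k *ᵥ (mat Q t *ᵥ w)) := fun w => by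
      have e : mat Q t * k = (c • (1 : Matrix ι ι F) + d • k) * mat Q t := by
        rw [← hcd]
        show (t : GL ι F).val * k = (t : GL ι F).val * k * ((t : GL ι F)⁻¹).val * (t : GL ι F).val
        rw [mul_assoc ((t : GL ι F).val * k), ← Units.val_mul, inv_mul_cancel, Units.val_one, mul_one]
      rw [Matrix.mulVec_mulVec, e, ← Matrix.mulVec_mulVec, Matrix.add_mulVec, Matrix.smul_mulVec, Matrix.smul_mulVec,
        Matrix.one_mulVec]
    have hzk : QuadraticMap.polar (⇑Q) z (k *ᵥ x) = 0 := by rw [QuadraticMap.polar_comm]; exact hJxz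
    have hzx' : QuadraticMap.polar (⇑Q) z x = 0 := by rw [QuadraticMap.polar_comm]; exact hxz
    have hxk : QuadraticMap.polar (⇑Q) x (k *ᵥ x) = 0 := by
      have := S.diag x; rw [hx, mul_zero] at this; exact this
    have h0 := hm x
    simp only [ht', mat_siegelG, siegelMap, QuadraticMap.polar_self, hx, hz, smul_zero, zero_smul, hzk, hzx', hxk,
      neg_zero, zero_mul, sub_zero, add_zero] at h0
    obtain ⟨rfl, hd⟩ := LinearIndependent.pair_iff.mp (S.li_two hx0) c (d - 1)
      (by show c • x + (d - 1) • (k *ᵥ x) = 0; linear_combination (norm := module) -h0)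
    obtain rfl : d = 1 := sub_eq_zero.mp hd
    have h1 := hm y
    simp only [ht', mat_siegelG, siegelMap, hz, zero_mul, sub_zero, hxy, one_smul, zero_smul, zero_add,
      Matrix.mulVec_add, Matrix.mulVec_smul] at h1
    have h4 := Fintype.linearIndependent_iff.mp (S.li_four hx0 hzx)
      ![-QuadraticMap.polar (⇑Q) z (k *ᵥ y), QuadraticMap.polar (⇑Q) z y, QuadraticMap.polar (⇑Q) x (k *ᵥ y), -1]
      (by simp [Fin.sum_univ_four]; linear_combination (norm := module) h1) 3
    simp at h4
  · by_cases hM : M ≤ Cfsg.Geo.subalgebraNormalizer A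
    · exact Or.inl (le_antisymm (le_inf hM hMO) hHM)
    right
    obtain ⟨g, hgM, hgW⟩ := SetLike.not_le_iff_exists.mp hM
    obtain ⟨g₀, -, rfl⟩ := (mem_omegaGL Q g).mp (hMO hgM)
    set H := M.comap (Cfsg.isometryGroup F (⇑Q)).subtype with hH
    have hR : ∀ v, Q v = 0 → k.mulVecLin v ∈ zset Q H v := by
      intro v hv
      refine ⟨by rw [S.diag, hv, mul_zero], fun hu c hc => hHM ⟨?_, (mem_omegaGL Q _).mpr
        ⟨_, siegelG_mem_omega Q hQ (by omega) _ _, rfl⟩⟩⟩
      set t := siegelG Q hu hc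
      have hcomm : (t : GL ι F).val * k = k * (t : GL ι F).val := by
        refine Matrix.toLin'.injective (LinearMap.ext fun w => ?_)
        rw [Matrix.toLin'_apply, Matrix.toLin'_apply, ← Matrix.mulVec_mulVec, ← Matrix.mulVec_mulVec]
        exact S.root_commutes hu c hc w
      have hall : ∀ x ∈ A, (t : GL ι F).val * x = x * (t : GL ι F).val := fun x hx => by
        obtain ⟨c', d', rfl⟩ := hgen x hx
        simp only [mul_add, add_mul, smul_mul_assoc, mul_smul_comm, one_mul, mul_one, hcomm]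
      intro x
      show x ∈ A ↔ (t : GL ι F).val * x * ((t : GL ι F)⁻¹).val ∈ A
      constructor
      · intro hx
        rw [hall x hx, mul_assoc, ← Units.val_mul, mul_inv_cancel, Units.val_one, mul_one]
        exact hx
      · intro hx
        have e := hall _ hx
        rw [mul_assoc ((t : GL ι F).val * x), ← Units.val_mul, inv_mul_cancel, Units.val_one, mul_one] at e
        have e' := congrArg (fun m => ((t : GL ι F)⁻¹).val * m) e
        simp only [← mul_assoc, ← Units.val_mul, inv_mul_cancel, Units.val_one, one_mul] at e'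
        rwa [e'] at hx
    set J' := (g₀ : GL ι F).val * k * ((g₀ : GL ι F)⁻¹).val with hJ'
    have hbad : ¬ ∀ v, Q v = 0 → J'.mulVecLin v ∈ S.line v := by
      intro hall
      obtain ⟨c, d, hcd⟩ := S.scalar_of_lines J'.mulVecLin hall
      have e : J' = c • (1 : Matrix ι ι F) + d • k := by
        refine Matrix.toLin'.injective (LinearMap.ext fun v => ?_)
        rw [Matrix.toLin'_apply, Matrix.toLin'_apply, Matrix.add_mulVec, Matrix.smul_mulVec, Matrix.smul_mulVec, Matrix.one_mulVec]; exact hcd v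
      apply hgW
      have hd : d ≠ 0 := by
        intro hd
        rw [hd, zero_smul, add_zero] at e
        refine one_ne_zero (LinearIndependent.pair_iff.mp hli (-c) 1 ?_).2
        have h2 := congrArg (fun m => ((g₀ : GL ι F)⁻¹).val * m * (g₀ : GL ι F).val) e
        simp only [hJ', ← mul_assoc, mul_smul_comm, smul_mul_assoc, mul_one, ← Units.val_mul, inv_mul_cancel,
          Units.val_one, one_mul] at h2
        rw [mul_assoc, ← Units.val_mul, inv_mul_cancel, Units.val_one, mul_one] at h2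
        rw [h2]; module
      intro x
      show x ∈ A ↔ (g₀ : GL ι F).val * x * ((g₀ : GL ι F)⁻¹).val ∈ A
      constructor
      · intro hx
        obtain ⟨c', d', rfl⟩ := hgen x hx
        simp only [mul_add, add_mul, smul_mul_assoc, mul_smul_comm, mul_one, ← Units.val_mul, mul_inv_cancel,
          Units.val_one]
        rw [show (g₀ : GL ι F).val * k * ((g₀ : GL ι F)⁻¹).val = _ from e]
        exact A.add_mem (A.smul_mem A.one_mem _) (A.smul_mem (A.add_mem (A.smul_mem A.one_mem _) (A.smul_mem hk _)) _)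
      · intro hx
        obtain ⟨c', d', hx'⟩ := hgen _ hx
        have hk' : k = d⁻¹ • (J' - c • 1) := by
          rw [e, show c • (1 : Matrix ι ι F) + d • k - c • 1 = d • k by abel, smul_smul, inv_mul_cancel₀ hd, one_smul]
        have h2 := congrArg (fun m => ((g₀ : GL ι F)⁻¹).val * m * (g₀ : GL ι F).val) hx'
        rw [hk'] at h2
        simp only [hJ', mul_add, add_mul, mul_sub, sub_mul, ← mul_assoc, mul_smul_comm, smul_mul_assoc, mul_one,
          ← Units.val_mul, inv_mul_cancel, Units.val_one, one_mul] at h2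
        simp only [mul_assoc, ← Units.val_mul, inv_mul_cancel, Units.val_one, mul_one] at h2
        rw [h2]
        exact A.add_mem (A.smul_mem A.one_mem _)
          (A.smul_mem (A.smul_mem (A.sub_mem hk (A.smul_mem A.one_mem _)) _) _)
    push Not at hbad
    obtain ⟨w, hw, hwline⟩ := hbad
    set v := mat Q g₀⁻¹ *ᵥ w with hv
    have hgv : mat Q g₀ *ᵥ v = w := by
      rw [hv, Matrix.mulVec_mulVec]
      show ((g₀ : GL ι F).val * ((g₀ : GL ι F)⁻¹).val) *ᵥ w = w
      rw [← Units.val_mul, mul_inv_cancel, Units.val_one, Matrix.one_mulVec]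
    have hv0 : Q v = 0 := by rw [← (mem_iff Q).mp g₀.2 v]; exact (congrArg Q hgv).trans hw
    have hy := zset_map (hR v hv0) (g := g₀) (show g₀ ∈ H from hgM)
    rw [hgv] at hy
    have hy' : J'.mulVecLin w = mat Q g₀ *ᵥ k.mulVecLin v := by
      simp only [Matrix.mulVecLin_apply, hJ', hv, Matrix.mulVec_mulVec]
      rw [← mul_assoc]
      rfl
    have h := S.omega_le_of_good hR hw (fun h => hwline (by rw [h, map_zero]; exact Submodule.zero_mem _))
      (show J'.mulVecLin w ∈ zset Q H w by rw [hy']; exact hy) hwline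
    refine le_antisymm hMO fun x hx => ?_
    obtain ⟨y, hy, rfl⟩ := (mem_omegaGL Q x).mp hx
    exact h hy

end Cfsg.Lib.Classical.Refl
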