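import Mathlib
import Cfsg.Prelude.Def_GeometricClasses
import Cfsg.Agent.Classical.Orth.SingPairMax

/-! The stabiliser of an orthogonal decomposition into members of dimension at least three, odd characteristic. -/

set_option autoImplicit false
set_option linter.unusedSimpArgs false
set_option linter.unusedSectionVars false
set_option linter.style.haveILetI false
set_option linter.flexible false

namespace Cfsg.Lib.Classical.Refl

open Matrix

universe u

variable {F : Type u} [Field F] [Fintype F] {ι : Type} [Fintype ι] [DecidableEq ι]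

/-- An orthogonal decomposition into isometric non-degenerate members. -/
structure OSplit (Q : QuadraticForm F (ι → F)) {t : ℕ} (k : ℕ) (D : Fin t → Submodule F (ι → F)) : Prop where
  nondeg : (QuadraticMap.polarBilin Q).Nondegenerate
  two : (2 : F) ≠ 0
  decomp : Cfsg.Geo.IsOrthogonalMDecomposition (⇑Q) k D
  three : 3 ≤ t
  dim : 3 ≤ k
  big : 5 ≤ Fintype.card F ∨ 5 ≤ k

variable {Q : QuadraticForm F (ι → F)} {K : Subgroup (Cfsg.isometryGroup F (⇑Q))}

theorem zset_self {x : ι → F} (hx : Q x = 0) : x ∈ zset Q K x := by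
  refine ⟨by rw [QuadraticMap.polar_self, hx, smul_zero], fun hu c hc => ?_⟩
  convert K.one_mem
  refine ext_mulVec Q fun y => ?_
  rw [mat_siegelG]
  refine Eq.trans ?_ (Matrix.one_mulVec y).symm
  funext i
  simp only [siegelMap, QuadraticMap.map_smul, hu, QuadraticMap.polar_smul_left, Pi.add_apply, Pi.smul_apply,
    smul_eq_mul]
  ring

namespace OSplit

variable {t k : ℕ} {D : Fin t → Submodule F (ι → F)} (T : OSplit Q k D)
include T

theorem nd (i : Fin t) : Cfsg.Geo.IsNondegenerateOn (QuadraticMap.polar (⇑Q)) (D i) := T.decomp.decomp.nondegenerate i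

theorem orth {i j : Fin t} (h : i ≠ j) {a b : ι → F} (ha : a ∈ D i) (hb : b ∈ D j) :
    QuadraticMap.polar (⇑Q) a b = 0 := T.decomp.decomp.orthogonal i j h a ha b hb

theorem finrank_eq (i : Fin t) : Module.finrank F (D i) = k := T.decomp.decomp.decomp.finrank_eq i

/-- The orthogonal projection onto a member. -/
noncomputable def comp (i : Fin t) : (ι → F) →ₗ[F] (ι → F) :=
  (D i).subtype ∘ₗ Submodule.linearProjOfIsCompl _ _ (nondeg_perp Q T.nondeg (T.nd i)).1

theorem comp_mem (i : Fin t) (v : ι → F) : T.comp i v ∈ D i := Subtype.coe_prop _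

theorem comp_self {i : Fin t} {v : ι → F} (hv : v ∈ D i) : T.comp i v = v := by
  show ((Submodule.linearProjOfIsCompl _ _ (nondeg_perp Q T.nondeg (T.nd i)).1 v : D i) : ι → F) = v
  exact congrArg Subtype.val (Submodule.linearProjOfIsCompl_apply_left (nondeg_perp Q T.nondeg (T.nd i)).1 ⟨v, hv⟩)

theorem comp_orth {i : Fin t} {v : ι → F} (hv : v ∈ HypQuad.perp Q (D i)) : T.comp i v = 0 := by
  show ((Submodule.linearProjOfIsCompl _ _ (nondeg_perp Q T.nondeg (T.nd i)).1 v : D i) : ι → F) = 0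
  exact congrArg Subtype.val ((Submodule.linearProjOfIsCompl_apply_eq_zero_iff (nondeg_perp Q T.nondeg (T.nd i)).1).mpr hv)

theorem comp_ne {i j : Fin t} (h : i ≠ j) {v : ι → F} (hv : v ∈ D j) : T.comp i v = 0 :=
  T.comp_orth ((HypQuad.mem_perp Q).mpr fun _ hw => T.orth h hw hv)

theorem form {i : Fin t} {a : ι → F} (ha : a ∈ D i) (v : ι → F) :
    QuadraticMap.polar (⇑Q) a v = QuadraticMap.polar (⇑Q) a (T.comp i v) := by
  obtain ⟨p, hp, q, hq, rfl⟩ := Submodule.mem_sup.mp
    ((nondeg_perp Q T.nondeg (T.nd i)).1.sup_eq_top ▸ Submodule.mem_top : v ∈ D i ⊔ HypQuad.perp Q (D i))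
  rw [map_add, T.comp_self hp, T.comp_orth hq, add_zero, QuadraticMap.polar_add_right,
    (HypQuad.mem_perp Q).mp hq a ha, add_zero]

theorem sum_comp (v : ι → F) : ∑ i, T.comp i v = v := by
  have hz : ∀ j, ∀ a ∈ D j, QuadraticMap.polar (⇑Q) a (v - ∑ i, T.comp i v) = 0 := fun j a ha => by
    rw [T.form ha, map_sub, map_sum, Finset.sum_eq_single j
      (fun l _ hl => T.comp_ne hl.symm (T.comp_mem l v)) (fun h => absurd (Finset.mem_univ j) h),
      T.comp_self (T.comp_mem j v), sub_self, QuadraticMap.polar_zero_right]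
  refine (sub_eq_zero.mp (T.nondeg.2 _ fun x => ?_)).symm
  have hle : (⨆ j, D j) ≤ LinearMap.ker ((QuadraticMap.polarBilin Q).flip (v - ∑ i, T.comp i v)) :=
    iSup_le fun j a ha => hz j a ha
  rw [T.decomp.decomp.decomp.iSup_eq_top] at hle
  exact hle Submodule.mem_top

theorem eq_zero {v : ι → F} (h : ∀ i, T.comp i v = 0) : v = 0 := by
  rw [← T.sum_comp v]; exact Finset.sum_eq_zero fun i _ => h i

theorem exists_other {x : ι → F} (hx : ∀ i, x ∉ D i) (m : Fin t) : ∃ l, l ≠ m ∧ T.comp l x ≠ 0 := by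
  by_contra h
  push Not at h
  apply hx m
  rw [← T.sum_comp x, Finset.sum_eq_single m (fun l _ hl => h l hl) (fun h' => absurd (Finset.mem_univ m) h')]
  exact T.comp_mem m x

theorem notMem_of_two {x : ι → F} {l m : Fin t} (hlm : l ≠ m) (hl : T.comp l x ≠ 0) (hm : T.comp m x ≠ 0)
    (i : Fin t) : x ∉ D i := fun hx => by
  rcases eq_or_ne l i with rfl | h
  · exact hm (T.comp_ne hlm.symm hx)
  · exact hl (T.comp_ne h hx)

/-- Inside a non-degenerate subspace of dimension at least three. -/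
theorem partner {W : Submodule F (ι → F)} (hW : Cfsg.Geo.IsNondegenerateOn (QuadraticMap.polar (⇑Q)) W) {v : ι → F}
    (hv : v ∈ W) (hv0 : v ≠ 0) (hQv : Q v = 0) : ∃ p ∈ W, Q p = 0 ∧ QuadraticMap.polar (⇑Q) v p = 1 := by
  obtain ⟨-, y, hy, hvy⟩ := hW v hv hv0
  obtain ⟨y', hy'W, h1⟩ : ∃ y' ∈ W, QuadraticMap.polar (⇑Q) v y' = 1 :=
    ⟨(QuadraticMap.polar (⇑Q) v y)⁻¹ • y, W.smul_mem _ hy, by
      rw [QuadraticMap.polar_smul_right, smul_eq_mul, inv_mul_cancel₀ hvy]⟩
  refine ⟨y' + (-Q y') • v, W.add_mem hy'W (W.smul_mem _ hv), ?_, ?_⟩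
  · rw [QuadraticMap.map_add (f := Q), QuadraticMap.map_smul, hQv, QuadraticMap.polar_smul_right,
      QuadraticMap.polar_comm (⇑Q) y' v, h1]
    simp
  · rw [QuadraticMap.polar_add_right, QuadraticMap.polar_smul_right, h1, QuadraticMap.polar_self, hQv]
    simp

theorem singular_in {W : Submodule F (ι → F)} (hW : 3 ≤ Module.finrank F W) : ∃ v ∈ W, v ≠ 0 ∧ Q v = 0 := by
  obtain ⟨u, hQu, hu, -, hu0⟩ := exists_singular_in Q T.nondeg W ⊥ (by rw [finrank_bot]; omega)
  exact ⟨u, hu, fun h => hu0 (by rw [h]; exact Submodule.zero_mem _), hQu⟩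

/-- A singular vector seeing two given vectors. -/
theorem singular_seeing {W : Submodule F (ι → F)} (hW : Cfsg.Geo.IsNondegenerateOn (QuadraticMap.polar (⇑Q)) W)
    {v₀ o : ι → F} (hv₀ : v₀ ∈ W) (hv0 : v₀ ≠ 0) (hQ0 : Q v₀ = 0) {y : ι → F} (hy : y ∈ W)
    (hyo : QuadraticMap.polar (⇑Q) y o ≠ 0) (h0o : QuadraticMap.polar (⇑Q) v₀ o = 0) :
    ∃ w ∈ W, Q w = 0 ∧ QuadraticMap.polar (⇑Q) v₀ w ≠ 0 ∧ QuadraticMap.polar (⇑Q) w o ≠ 0 := by
  obtain ⟨p, hp, hQp, hvp⟩ := T.partner hW hv₀ hv0 hQ0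
  by_cases hpo : QuadraticMap.polar (⇑Q) p o ≠ 0
  · exact ⟨p, hp, hQp, by rw [hvp]; exact one_ne_zero, hpo⟩
  push Not at hpo
  set e := y + (-QuadraticMap.polar (⇑Q) v₀ y) • p + (-QuadraticMap.polar (⇑Q) p y) • v₀ with he
  have hev : QuadraticMap.polar (⇑Q) v₀ e = 0 := by
    rw [he, QuadraticMap.polar_add_right, QuadraticMap.polar_add_right, QuadraticMap.polar_smul_right,
      QuadraticMap.polar_smul_right, hvp, QuadraticMap.polar_self, hQ0]
    simp
  have hep : QuadraticMap.polar (⇑Q) p e = 0 := by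
    rw [he, QuadraticMap.polar_add_right, QuadraticMap.polar_add_right, QuadraticMap.polar_smul_right,
      QuadraticMap.polar_smul_right, QuadraticMap.polar_self, hQp, QuadraticMap.polar_comm (⇑Q) p v₀, hvp]
    simp
  have heo : QuadraticMap.polar (⇑Q) e o = QuadraticMap.polar (⇑Q) y o := by
    rw [he, QuadraticMap.polar_add_left, QuadraticMap.polar_add_left, QuadraticMap.polar_smul_left,
      QuadraticMap.polar_smul_left, hpo, h0o]
    simp
  refine ⟨p + e + (-Q e) • v₀,
    W.add_mem (W.add_mem hp (W.add_mem (W.add_mem hy (W.smul_mem _ hp)) (W.smul_mem _ hv₀))) (W.smul_mem _ hv₀), ?_, ?_, ?_⟩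
  · rw [QuadraticMap.map_add (f := Q), QuadraticMap.map_add (f := Q), QuadraticMap.map_smul, hQp, hQ0, hep,
      QuadraticMap.polar_smul_right, QuadraticMap.polar_add_left, QuadraticMap.polar_comm (⇑Q) p v₀, hvp,
      QuadraticMap.polar_comm (⇑Q) e v₀, hev]
    simp
  · rw [QuadraticMap.polar_add_right, QuadraticMap.polar_add_right, QuadraticMap.polar_smul_right, hvp, hev,
      QuadraticMap.polar_self, hQ0]
    simp
  · rw [QuadraticMap.polar_add_left, QuadraticMap.polar_add_left, QuadraticMap.polar_smul_left, hpo, heo, h0o]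
    simpa using hyo

theorem singular_test {W : Submodule F (ι → F)} (hW : Cfsg.Geo.IsNondegenerateOn (QuadraticMap.polar (⇑Q)) W)
    (hd : 3 ≤ Module.finrank F W) {o : ι → F} (ho : ∃ y ∈ W, QuadraticMap.polar (⇑Q) y o ≠ 0) :
    ∃ v ∈ W, Q v = 0 ∧ QuadraticMap.polar (⇑Q) v o ≠ 0 := by
  obtain ⟨v₀, hv₀, hv0, hQ0⟩ := T.singular_in hd
  by_cases h : QuadraticMap.polar (⇑Q) v₀ o ≠ 0
  · exact ⟨v₀, hv₀, hQ0, h⟩
  push Not at h
  obtain ⟨y, hy, hyo⟩ := ho
  obtain ⟨w, hw, hQw, -, hwo⟩ := T.singular_seeing hW hv₀ hv0 hQ0 hy hyo h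
  exact ⟨w, hw, hQw, hwo⟩

theorem see_member {i : Fin t} {o : ι → F} (ho : T.comp i o ≠ 0) : ∃ y ∈ D i, QuadraticMap.polar (⇑Q) y o ≠ 0 := by
  obtain ⟨-, y, hy, h⟩ := T.nd i _ (T.comp_mem i o) ho
  refine ⟨y, hy, ?_⟩
  rw [T.form hy, QuadraticMap.polar_comm]
  exact h

theorem exists_side {i : Fin t} {v : ι → F} (hv : v ∈ D i) (hv0 : v ≠ 0) (hQv : Q v = 0) :
    ∃ w ∈ D i, QuadraticMap.polar (⇑Q) v w = 0 ∧ Q w ≠ 0 := by
  obtain ⟨p, hp, hQp, hvp⟩ := T.partner (T.nd i) hv hv0 hQv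
  set W := D i ⊓ HypQuad.perp Q (Submodule.span F {v, p}) with hW
  obtain ⟨e, he, he0⟩ := W.exists_mem_ne_zero_of_ne_bot (fun h => by
    classical
    have h2 := Submodule.finrank_sup_add_finrank_inf_eq (D i) (HypQuad.perp Q (Submodule.span F {v, p}))
    rw [← hW, h, finrank_bot, HypQuad.finrank_perp Q T.nondeg, T.finrank_eq] at h2
    have h3 := Submodule.finrank_le (D i ⊔ HypQuad.perp Q (Submodule.span F {v, p}))
    have h4 : Module.finrank F (Submodule.span F (({v, p} : Finset (ι → F)) : Set (ι → F))) ≤ 2 :=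
      (finrank_span_finset_le_card _).trans Finset.card_le_two
    rw [Finset.coe_pair] at h4
    have := T.dim
    omega)
  have hev := (HypQuad.mem_perp Q).mp he.2 v (Submodule.subset_span (by simp))
  have hep := (HypQuad.mem_perp Q).mp he.2 p (Submodule.subset_span (by simp))
  by_cases hQe : Q e = 0
  · obtain ⟨-, y, hy, hey⟩ := T.nd i e he.1 he0
    set y' := y + (-QuadraticMap.polar (⇑Q) v y) • p with hy'
    have h1 : QuadraticMap.polar (⇑Q) v y' = 0 := by
      rw [hy', QuadraticMap.polar_add_right, QuadraticMap.polar_smul_right, hvp]; simp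
    have h2 : QuadraticMap.polar (⇑Q) e y' ≠ 0 := by
      rw [hy', QuadraticMap.polar_add_right, QuadraticMap.polar_smul_right, QuadraticMap.polar_comm (⇑Q) e p, hep]
      simpa using hey
    by_cases hQy : Q y' = 0
    · refine ⟨e + y', (D i).add_mem he.1 ((D i).add_mem hy ((D i).smul_mem _ hp)), ?_, ?_⟩
      · rw [QuadraticMap.polar_add_right, hev, h1, add_zero]
      · rw [QuadraticMap.map_add (f := Q), hQe, hQy]; simpa using h2
    · exact ⟨y', (D i).add_mem hy ((D i).smul_mem _ hp), h1, hQy⟩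
  · exact ⟨e, he.1, hev, hQe⟩

variable (hH : ∀ g ∈ Cfsg.Omega F (⇑Q), (∀ l, ∀ x ∈ D l, mat Q g *ᵥ x ∈ D l) → g ∈ K)
include hH

theorem root {i : Fin t} {u z : ι → F} (hu : u ∈ D i) (hQu : Q u = 0) (hz : z ∈ D i)
    (huz : QuadraticMap.polar (⇑Q) u z = 0) : z ∈ zset Q K u := by
  refine ⟨huz, fun hu' c hc => hH _ (siegelG_mem_omega Q T.nondeg ?_ hu' hc) fun l x hx => ?_⟩
  · have h := T.decomp.decomp.decomp.iSup_eq_top
    have h1 := T.three
    have h2 := T.dim
    by_contra hcard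
    obtain ⟨a, b, c, hab, hac, hbc⟩ : ∃ a b c : Fin t, a ≠ b ∧ a ≠ c ∧ b ≠ c :=
      ⟨⟨0, by omega⟩, ⟨1, by omega⟩, ⟨2, by omega⟩, by simp, by simp, by simp⟩
    have hd := Submodule.finrank_sup_add_finrank_inf_eq (D a) (D b)
    have hle := Submodule.finrank_le (D a ⊔ D b)
    rw [(T.decomp.decomp.decomp.indep.pairwiseDisjoint hab).eq_bot, finrank_bot, T.finrank_eq, T.finrank_eq] at hd
    rw [Module.finrank_fintype_fun_eq_card] at hle
    omega
  · rw [mat_siegelG, siegelMap]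
    rcases eq_or_ne l i with rfl | hl
    · exact (D l).add_mem ((D l).add_mem hx ((D l).smul_mem _ ((D l).smul_mem _ hz))) ((D l).smul_mem _ hu)
    · rw [QuadraticMap.polar_smul_left, T.orth hl.symm hu hx, T.orth hl.symm hz hx]
      simpa using hx

/-- Siegel elements inside a member. -/
theorem move {i : Fin t} {v w : ι → F} (hv : v ∈ D i) (hQv : Q v = 0) (hw : w ∈ D i)
    (hvw : QuadraticMap.polar (⇑Q) v w = 0) :
    ∃ m ∈ K, ∀ x, mat Q m *ᵥ x = x + (QuadraticMap.polar (⇑Q) v x • w +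
      (-QuadraticMap.polar (⇑Q) w x - Q w * QuadraticMap.polar (⇑Q) v x) • v) := by
  refine ⟨_, (T.root hH hv hQv hw hvw).2 hQv 1 (by rw [one_smul]; exact hvw), fun x => ?_⟩
  rw [mat_siegelG]
  simp only [siegelMap, one_smul, add_assoc]

theorem absorb {l : Fin t} (U : Submodule F (ι → F))
    (hU : ∀ v w : ι → F, v ∈ D l → Q v = 0 → w ∈ D l → QuadraticMap.polar (⇑Q) v w = 0 →
      ∀ y ∈ U, y + (QuadraticMap.polar (⇑Q) v y • w +
        (-QuadraticMap.polar (⇑Q) w y - Q w * QuadraticMap.polar (⇑Q) v y) • v) ∈ U)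
    {o : ι → F} (ho : o ∈ U) (hol : T.comp l o ≠ 0) : D l ≤ U := by
  have key : ∀ o ∈ U, ∀ v ∈ D l, Q v = 0 → QuadraticMap.polar (⇑Q) v o ≠ 0 →
      ∀ w ∈ D l, QuadraticMap.polar (⇑Q) v w = 0 → w ∈ U := by
    intro o ho v hv hQv hvo
    have hdiff : ∀ w ∈ D l, QuadraticMap.polar (⇑Q) v w = 0 → QuadraticMap.polar (⇑Q) v o • w +
        (-QuadraticMap.polar (⇑Q) w o - Q w * QuadraticMap.polar (⇑Q) v o) • v ∈ U := fun w hw hvw => by
      simpa using sub_mem (hU v w hv hQv hw hvw o ho) ho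
    obtain ⟨w₁, hw₁, hvw₁, hQw₁⟩ := T.exists_side hv (fun h => hvo (by rw [h]; simp)) hQv
    have hvU : v ∈ U := by
      have h1 := add_mem (hdiff w₁ hw₁ hvw₁) (hdiff (-w₁) ((D l).neg_mem hw₁)
        (by rw [QuadraticMap.polar_neg_right, hvw₁, neg_zero]))
      have e : QuadraticMap.polar (⇑Q) v o • w₁ +
          (-QuadraticMap.polar (⇑Q) w₁ o - Q w₁ * QuadraticMap.polar (⇑Q) v o) • v +
          (QuadraticMap.polar (⇑Q) v o • -w₁ +
            (-QuadraticMap.polar (⇑Q) (-w₁) o - Q (-w₁) * QuadraticMap.polar (⇑Q) v o) • v) =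
          (-(2 * (Q w₁ * QuadraticMap.polar (⇑Q) v o))) • v := by
        rw [QuadraticMap.map_neg, QuadraticMap.polar_neg_left]; module
      rw [e, Submodule.smul_mem_iff _ (neg_ne_zero.mpr (mul_ne_zero T.two (mul_ne_zero hQw₁ hvo)))] at h1
      exact h1
    intro w hw hvw
    have h1 := sub_mem (hdiff w hw hvw) (U.smul_mem (-QuadraticMap.polar (⇑Q) w o - Q w * QuadraticMap.polar (⇑Q) v o) hvU)
    rwa [add_sub_cancel_right, Submodule.smul_mem_iff _ hvo] at h1
  obtain ⟨v, hv, hQv, hvo⟩ := T.singular_test (T.nd l) (by rw [T.finrank_eq]; exact T.dim) (T.see_member hol)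
  have hv0 : v ≠ 0 := fun h => hvo (by rw [h]; simp)
  obtain ⟨p, hp, hQp, hvp⟩ := T.partner (T.nd l) hv hv0 hQv
  have hvv : QuadraticMap.polar (⇑Q) v v = 0 := by rw [QuadraticMap.polar_self, hQv, smul_zero]
  have hvU : v ∈ U := key o ho v hv hQv hvo v hv hvv
  have hpU : p ∈ U := key v hvU p hp hQp (by rw [QuadraticMap.polar_comm, hvp]; exact one_ne_zero) p hp
    (by rw [QuadraticMap.polar_self, hQp, smul_zero])
  intro y hy
  have h1 := key o ho v hv hQv hvo (y + (-QuadraticMap.polar (⇑Q) v y) • p) ((D l).add_mem hy ((D l).smul_mem _ hp))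
    (by rw [QuadraticMap.polar_add_right, QuadraticMap.polar_smul_right, hvp]; simp)
  simpa using sub_mem h1 (U.smul_mem (-QuadraticMap.polar (⇑Q) v y) hpU)

theorem zset_absorb {l : Fin t} {a o : ι → F} (hal : T.comp l a = 0) (ho : o ∈ zset Q K a) (hol : T.comp l o ≠ 0) :
    D l ≤ zset Q K a := by
  refine T.absorb hH _ (fun v w hv hQv hw hvw y hy => ?_) ho hol
  obtain ⟨m, hm, hmx⟩ := T.move hH hv hQv hw hvw
  have h := zset_map hy hm
  rw [hmx a, T.form hv a, T.form hw a, hal, hmx y] at h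
  simpa using h

/-- Two members are linked. -/
def Link (_T : OSplit Q k D) (_hH : ∀ g ∈ Cfsg.Omega F (⇑Q), (∀ l, ∀ x ∈ D l, mat Q g *ᵥ x ∈ D l) → g ∈ K)
    (m l : Fin t) : Prop :=
  m ≠ l ∧ ∀ a ∈ D m, Q a = 0 → D l ≤ zset Q K a

theorem link_of {m l : Fin t} (hml : m ≠ l) {w : ι → F} (hw : w ∈ D m) (hw0 : w ≠ 0) (hQw : Q w = 0)
    (h : D l ≤ zset Q K w) : T.Link hH l m := by
  refine ⟨hml.symm, fun a ha hQa => T.zset_absorb hH (T.comp_ne hml ha) (zset_swap hQw hQa (h ha)) ?_⟩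
  rwa [T.comp_self hw]

theorem link_symm {m l : Fin t} (h : T.Link hH m l) : T.Link hH l m := by
  obtain ⟨w, hw, hw0, hQw⟩ := T.singular_in (W := D m) (by rw [T.finrank_eq]; exact T.dim)
  exact T.link_of hH h.1 hw hw0 hQw (h.2 w hw hQw)

theorem link_of_pair {m : Fin t} {x w : ι → F} (hx : Q x = 0) (hxD : ∀ i, x ∉ D i) (hw : w ∈ D m) (hw0 : w ≠ 0)
    (hQw : Q w = 0) (hP : w ∈ zset Q K x) : ∃ l n, T.Link hH l n := by
  obtain ⟨l, hl, hxl⟩ := T.exists_other hxD m
  exact ⟨l, m, T.link_of hH hl.symm hw hw0 hQw (T.zset_absorb hH (T.comp_ne hl hw) (zset_swap hx hQw hP) hxl)⟩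

theorem link_trans {l m p : Fin t} (h1 : T.Link hH l m) (h2 : T.Link hH m p) (hlp : l ≠ p) : T.Link hH p l := by
  obtain ⟨a, ha, ha0, hQa⟩ := T.singular_in (W := D l) (by rw [T.finrank_eq]; exact T.dim)
  obtain ⟨b, hb, hb0, hQb⟩ := T.singular_in (W := D m) (by rw [T.finrank_eq]; exact T.dim)
  obtain ⟨w, hw, hQw, hbw⟩ := T.partner (T.nd m) hb hb0 hQb
  refine ⟨hlp.symm, fun c hc hQc => T.zset_absorb hH (T.comp_ne hlp hc) (o := w + (-1 : F) • a) ?_ ?_⟩
  · have hab : QuadraticMap.polar (⇑Q) a b = 0 := T.orth h1.1 ha hb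
    have hm := (h1.2 a ha hQa hb).2 hQa 1 (by rw [one_smul]; exact hab)
    have h := zset_map (h2.2 w hw hQw hc) hm
    rw [mat_siegelG, mat_siegelG] at h
    simp only [siegelMap, one_smul, T.orth h1.1 ha hw, T.orth h1.1 ha hb, T.orth hlp ha hc, T.orth h2.1 hb hc,
      hbw, hQb, zero_smul, add_zero, neg_zero, mul_zero, sub_zero] at h
    exact zset_swap (by
      rw [QuadraticMap.map_add (f := Q), QuadraticMap.map_smul, hQa, hQw, QuadraticMap.polar_smul_right,
        QuadraticMap.polar_comm (⇑Q) w a, T.orth h1.1 ha hw]; simp) hQc h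
  · rw [map_add, map_smul, T.comp_ne h1.1 hw, T.comp_self ha]
    simpa using ha0

theorem centres_of_links (hall : ∀ m l, m ≠ l → T.Link hH m l) {m : Fin t} {a : ι → F} (ha : a ∈ D m) (hQa : Q a = 0) :
    a ∈ sCentres Q K := by
  refine sCentres_of_zset hQa fun z hz => ?_
  rw [← T.sum_comp z]
  refine sum_mem fun i _ => ?_
  rcases eq_or_ne i m with rfl | hi
  · exact T.root hH ha hQa (T.comp_mem i z) (by rwa [← T.form ha])
  · exact (hall m i hi.symm).2 a ha hQa (T.comp_mem i z)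

theorem omega_le_of_links (hn : 5 ≤ Fintype.card ι) (hall : ∀ m l, m ≠ l → T.Link hH m l) :
    Cfsg.Omega F (⇑Q) ≤ K := by
  have hC : ∀ x, Q x = 0 → x ∈ sCentres Q K := by
    intro x hx
    by_cases hx0 : x = 0
    · subst hx0
      obtain ⟨a, ha, -, hQa⟩ := T.singular_in (W := D ⟨0, by have := T.three; omega⟩) (by rw [T.finrank_eq]; exact T.dim)
      simpa using sCentres_smul (T.centres_of_links hH hall ha hQa) 0
    obtain ⟨m, hm⟩ : ∃ m, T.comp m x ≠ 0 := by
      by_contra h; push Not at h; exact hx0 (T.eq_zero h)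
    obtain ⟨b, hb, hQb, hbx⟩ := T.singular_test (T.nd m) (by rw [T.finrank_eq]; exact T.dim) (T.see_member hm)
    obtain ⟨a, ha, hQa, hba⟩ := T.partner (T.nd m) hb (fun h => hbx (by rw [h]; simp)) hQb
    set β := QuadraticMap.polar (⇑Q) b x with hβ
    set a' := β • a with ha'
    have hba' : QuadraticMap.polar (⇑Q) b a' = β := by
      rw [ha', QuadraticMap.polar_smul_right, hba, smul_eq_mul, mul_one]
    have hQa' : Q a' = 0 := by rw [ha', QuadraticMap.map_smul, hQa, smul_zero]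
    have hbz : QuadraticMap.polar (⇑Q) b (β⁻¹ • (x - a')) = 0 := by
      rw [QuadraticMap.polar_smul_right, QuadraticMap.polar_sub_right, hba', sub_self, smul_zero]
    have hbC := T.centres_of_links hH hall hb hQb
    have h := sCentres_map (T.centres_of_links hH hall ((D m).smul_mem β ha) hQa') (hbC.2 _ hbz)
    convert h using 1
    rw [mat_siegelG, siegelMap, ← ha', hba', smul_smul, mul_inv_cancel₀ hbx, one_smul, add_sub_cancel]
    have hc0 : -QuadraticMap.polar (⇑Q) (β⁻¹ • (x - a')) a' - Q (β⁻¹ • (x - a')) * β = 0 := by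
      rw [QuadraticMap.polar_smul_left, QuadraticMap.map_smul, QuadraticMap.polar_sub_left, QuadraticMap.polar_self,
        hQa', sub_eq_add_neg x a', QuadraticMap.map_add (f := Q), hx, QuadraticMap.map_neg, hQa',
        QuadraticMap.polar_neg_right]
      simp only [smul_eq_mul, smul_zero, sub_zero, add_zero, zero_add]
      field_simp
      ring
    rw [hc0, zero_smul, add_zero]
  rw [omega_eq_closure_all Q T.nondeg hn, Subgroup.closure_le]
  rintro _ ⟨u, z, hu, huz, rfl⟩
  exact (hC u hu).2 z huz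

/-- Scaling a singular vector inside a member, when there are enough scalars. -/
theorem scale (hq : 5 ≤ Fintype.card F) {m : Fin t} {a : ι → F} (ha : a ∈ D m) (ha0 : a ≠ 0) (hQa : Q a = 0) :
    ∃ h ∈ K, ∃ μ : F, μ ≠ 1 ∧ mat Q h *ᵥ a = μ • a ∧ ∀ y, T.comp m y = 0 → mat Q h *ᵥ y = y := by
  classical
  obtain ⟨s, hs⟩ : ∃ s : F, s ∉ ({0, 1, -1} : Finset F) := by
    by_contra h
    push Not at h
    have := (Finset.card_le_card (fun x _ => h x : (Finset.univ : Finset F) ⊆ {0, 1, -1})).trans Finset.card_le_three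
    rw [Finset.card_univ] at this
    omega
  simp only [Finset.mem_insert, Finset.mem_singleton, not_or] at hs
  obtain ⟨p, hp, hQp, hap⟩ := T.partner (T.nd m) ha ha0 hQa
  set μ := s * s with hμ
  have hμ1 : μ ≠ 1 := fun h => (mul_self_eq_one_iff.mp h).elim hs.2.1 hs.2.2
  have hμ0 : μ ≠ 0 := mul_ne_zero hs.1 hs.1
  have hQ : ∀ c : F, Q (a - c • p) = -c := fun c => by
    rw [sub_eq_add_neg, ← neg_smul, QuadraticMap.map_add (f := Q), QuadraticMap.map_smul, hQa, hQp,
      QuadraticMap.polar_smul_right, hap]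
    simp
  have hnes : Q (s⁻¹ • (a - μ • p)) = Q (a - (1 : F) • p) := by
    rw [QuadraticMap.map_smul, hQ, hQ, hμ, smul_eq_mul]
    field_simp
    rw [div_self hs.1]
  have h1 : Q (a - (1 : F) • p) ≠ 0 := by rw [hQ]; simp
  have h2 : Q (s⁻¹ • (a - μ • p)) ≠ 0 := by rw [hnes]; exact h1
  have hmem : ∀ c : F, a - c • p ∈ D m := fun c => (D m).sub_mem ha ((D m).smul_mem c hp)
  have h3 : Q (a - μ • p) ≠ 0 := by rw [hQ]; simpa using hμ0
  have hr : refl Q _ h2 = refl Q _ h3 := refl_congr Q h3 h2 rfl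
  have hfix : ∀ (v : ι → F) (hv : Q v ≠ 0), v ∈ D m → ∀ y, T.comp m y = 0 → mat Q (refl Q v hv) *ᵥ y = y :=
    fun v hv hvm y hy => fix Q v y (by rw [T.form hvm, hy, QuadraticMap.polar_zero_right])
  have hmap : ∀ (v : ι → F) (hv : Q v ≠ 0), v ∈ D m → ∀ l, ∀ y ∈ D l, mat Q (refl Q v hv) *ᵥ y ∈ D l := by
    intro v hv hvm l y hy
    show Cfsg.reflectionMatrix (⇑Q) v *ᵥ y ∈ D l
    rcases eq_or_ne l m with rfl | hl
    · rw [mulVec_eq]; exact (D l).sub_mem hy ((D l).smul_mem _ hvm)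
    · rw [fix Q v y (T.orth hl.symm hvm hy)]; exact hy
  refine ⟨refl Q _ h1 * refl Q _ h3, hH _ ?_ fun l y hy => ?_, μ, hμ1, ?_, fun y hy => ?_⟩
  · rw [← hr]
    exact refl_pair_mem_omega Q T.nondeg h2 h1 hnes
  · rw [mat, mulVec_mul]
    exact hmap _ _ (hmem 1) l _ (hmap _ _ (hmem μ) l y hy)
  · rw [mat, mulVec_mul]
    show Cfsg.reflectionMatrix (⇑Q) _ *ᵥ (Cfsg.reflectionMatrix (⇑Q) _ *ᵥ a) = μ • a
    rw [mulVec_eq Q (a - μ • p) a, hQ, QuadraticMap.polar_sub_left, QuadraticMap.polar_self, hQa,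
      QuadraticMap.polar_smul_left, QuadraticMap.polar_comm (⇑Q) p a, hap]
    rw [mulVec_eq, hQ, QuadraticMap.polar_sub_left, QuadraticMap.polar_smul_left]
    simp only [smul_eq_mul, mul_one, smul_zero, zero_sub, inv_neg, mul_neg, neg_mul, neg_neg]
    rw [inv_mul_cancel₀ hμ0, one_smul, sub_sub_cancel, QuadraticMap.polar_smul_right, QuadraticMap.polar_smul_right,
      hap, QuadraticMap.polar_self, hQp]
    simp
    module
  · rw [mat, mulVec_mul]
    show mat Q (refl Q _ h1) *ᵥ (mat Q (refl Q _ h3) *ᵥ y) = y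
    rw [hfix _ h3 (hmem μ) y hy, hfix _ h1 (hmem 1) y hy]

theorem side_seeing {m : Fin t} {w x : ι → F} (hw : w ∈ D m) (hw0 : w ≠ 0) (hQw : Q w = 0)
    (hsp : T.comp m x ∉ Submodule.span F {w}) :
    ∃ y ∈ D m, QuadraticMap.polar (⇑Q) w y = 0 ∧ QuadraticMap.polar (⇑Q) y x ≠ 0 := by
  obtain ⟨p, hp, hQp, hwp⟩ := T.partner (T.nd m) hw hw0 hQw
  by_contra hcon
  push Not at hcon
  apply hsp
  refine Submodule.mem_span_singleton.mpr ⟨QuadraticMap.polar (⇑Q) p x, sub_eq_zero.mp ?_⟩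
  by_contra hne
  obtain ⟨-, y, hy, hny⟩ := T.nd m _ ((D m).sub_mem ((D m).smul_mem _ hw) (T.comp_mem m x)) hne
  have h1 := hcon (y + (-QuadraticMap.polar (⇑Q) w y) • p) ((D m).add_mem hy ((D m).smul_mem _ hp))
    (by rw [QuadraticMap.polar_add_right, QuadraticMap.polar_smul_right, hwp]; simp)
  apply hny
  rw [QuadraticMap.polar_add_left, QuadraticMap.polar_smul_left, smul_eq_mul] at h1
  rw [QuadraticMap.polar_sub_left, QuadraticMap.polar_smul_left, QuadraticMap.polar_comm (⇑Q) (T.comp m x) y,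
    ← T.form hy, smul_eq_mul]
  linear_combination -h1

/-- Moving a vector inside a member by a multiple of a singular vector. -/
theorem shift {m : Fin t} {x w : ι → F} (hw : w ∈ D m) (hw0 : w ≠ 0) (hQw : Q w = 0)
    (hwx : QuadraticMap.polar (⇑Q) w x = 0) (hxw : T.comp m x ≠ 0)
    (hok : T.comp m x ∉ Submodule.span F {w} ∨ 5 ≤ Fintype.card F) :
    ∃ h ∈ K, ∃ δ : F, δ ≠ 0 ∧ mat Q h *ᵥ x = x + δ • w ∧ ∀ y, T.comp m y = 0 → mat Q h *ᵥ y = y := by
  by_cases hsp : T.comp m x ∈ Submodule.span F {w}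
  · have hq := hok.resolve_left (not_not.mpr hsp)
    obtain ⟨c, hc⟩ := Submodule.mem_span_singleton.mp hsp
    have hc0 : c ≠ 0 := fun h => hxw (by rw [← hc, h, zero_smul])
    obtain ⟨h, hh, μ, hμ, hhw, hfix⟩ := T.scale hH hq hw hw0 hQw
    refine ⟨h, hh, (μ - 1) * c, mul_ne_zero (sub_ne_zero.mpr hμ) hc0, ?_, hfix⟩
    have hrest : T.comp m (x - c • w) = 0 := by rw [map_sub, map_smul, T.comp_self hw, ← hc, sub_self]
    have h1 := hfix _ hrest
    rw [Matrix.mulVec_sub, Matrix.mulVec_smul, hhw, sub_eq_iff_eq_add] at h1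
    rw [h1]; module
  · obtain ⟨y, hy, hwy, hyx⟩ := T.side_seeing hH hw hw0 hQw hsp
    obtain ⟨h, hh, hhx⟩ := T.move hH hw hQw hy hwy
    refine ⟨h, hh, -QuadraticMap.polar (⇑Q) y x, neg_ne_zero.mpr hyx, ?_, fun z hz => ?_⟩
    · rw [hhx, hwx]; simp
    · rw [hhx, T.form hw z, T.form hy z, hz]; simp

/-- A suitable singular vector in a member. -/
theorem good_of_big (hk : 5 ≤ k) {m : Fin t} {x : ι → F} (hxm : T.comp m x ≠ 0) :
    ∃ w ∈ D m, w ≠ 0 ∧ Q w = 0 ∧ QuadraticMap.polar (⇑Q) w x = 0 ∧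
      (T.comp m x ∉ Submodule.span F {w} ∨ 5 ≤ Fintype.card F) := by
  classical
  obtain ⟨v, hv, hvx⟩ := T.see_member hxm
  obtain ⟨w, ⟨hw, hwp⟩, hw0, hQw⟩ := T.singular_in
    (W := D m ⊓ HypQuad.perp Q (Submodule.span F {T.comp m x, v})) (by
    have h2 := Submodule.finrank_sup_add_finrank_inf_eq (D m) (HypQuad.perp Q (Submodule.span F {T.comp m x, v}))
    rw [HypQuad.finrank_perp Q T.nondeg, T.finrank_eq] at h2
    have h3 := Submodule.finrank_le (D m ⊔ HypQuad.perp Q (Submodule.span F {T.comp m x, v}))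
    have h4 : Module.finrank F (Submodule.span F (({T.comp m x, v} : Finset (ι → F)) : Set (ι → F))) ≤ 2 :=
      (finrank_span_finset_le_card _).trans Finset.card_le_two
    rw [Finset.coe_pair] at h4
    omega)
  have h1 := (HypQuad.mem_perp Q).mp hwp (T.comp m x) (Submodule.subset_span (by simp))
  have h2 := (HypQuad.mem_perp Q).mp hwp v (Submodule.subset_span (by simp))
  refine ⟨w, hw, hw0, hQw, by rw [T.form hw, QuadraticMap.polar_comm, h1], Or.inl fun hmem => ?_⟩
  obtain ⟨c, hc⟩ := Submodule.mem_span_singleton.mp hmem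
  rw [T.form hv, ← hc, QuadraticMap.polar_smul_right, h2, smul_zero] at hvx
  exact hvx rfl

/-- A vector along a member together with a suitable singular vector in another gives a link. -/
theorem link_of_good {j m : Fin t} (hjm : j ≠ m) {x z w : ι → F} (hx : Q x = 0) (hxD : ∀ i, x ∉ D i) (hz : z ∈ D j)
    (hQz : Q z ≠ 0) (hP : z ∈ zset Q K x) (hxm : T.comp m x ≠ 0) (hw : w ∈ D m) (hw0 : w ≠ 0) (hQw : Q w = 0)
    (hwx : QuadraticMap.polar (⇑Q) w x = 0) (hok : T.comp m x ∉ Submodule.span F {w} ∨ 5 ≤ Fintype.card F) :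
    ∃ l n, T.Link hH l n := by
  obtain ⟨h, hh, δ, hδ, hhx, hfix⟩ := T.shift hH hw hw0 hQw hwx hxm hok
  have hP' := zset_map hP hh
  rw [hhx, hfix z (T.comp_ne hjm.symm hz)] at hP'
  have hx' : Q (x + δ • w) = 0 := by rw [← hhx, (mem_iff Q).mp h.2, hx]
  have h1 := hP'.2 hx' 1 (by rw [one_smul]; exact hP'.1)
  have h2 := zset_map hP h1
  rw [mat_siegelG, mat_siegelG] at h2
  have e1 : QuadraticMap.polar (⇑Q) (x + δ • w) x = 0 := by
    rw [QuadraticMap.polar_add_left, QuadraticMap.polar_smul_left, hwx, QuadraticMap.polar_self, hx]; simp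
  have e2 : QuadraticMap.polar (⇑Q) z x = 0 := by rw [QuadraticMap.polar_comm]; exact hP.1
  simp only [siegelMap, one_smul, e1, e2, hP'.1, zero_smul, add_zero, neg_zero, mul_zero, sub_zero,
    QuadraticMap.polar_self, two_smul] at h2
  have h3 : x + δ • w ∈ zset Q K x := by
    have h4 := sub_mem hP h2
    rw [sub_add_cancel_left, ← neg_smul, neg_neg, Submodule.smul_mem_iff _ (by
      rw [← two_mul]; exact mul_ne_zero T.two hQz)] at h4
    exact h4
  refine T.link_of_pair hH hx hxD hw hw0 hQw ?_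
  have := sub_mem h3 (zset_self hx)
  rwa [add_sub_cancel_left, Submodule.smul_mem_iff _ hδ] at this

theorem exists_cross {m : Fin t} {z x : ι → F} (hq : 5 ≤ Fintype.card F) (hz : T.comp m z ≠ 0) (hx : T.comp m x ≠ 0) :
    ∃ w ∈ D m, Q w = 0 ∧ QuadraticMap.polar (⇑Q) w z ≠ 0 ∧ QuadraticMap.polar (⇑Q) w x ≠ 0 := by
  classical
  obtain ⟨v, hv, hQv, hvz⟩ := T.singular_test (T.nd m) (by rw [T.finrank_eq]; exact T.dim) (T.see_member hz)
  by_cases hvx : QuadraticMap.polar (⇑Q) v x ≠ 0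
  · exact ⟨v, hv, hQv, hvz, hvx⟩
  push Not at hvx
  have hv0 : v ≠ 0 := fun h => hvz (by rw [h]; simp)
  obtain ⟨y, hy, hyx⟩ := T.see_member hx
  obtain ⟨w, hw, hQw, hvw, hwx⟩ := T.singular_seeing (T.nd m) hv hv0 hQv hy hyx hvx
  obtain ⟨e, he, hve, hQe⟩ := T.exists_side hv hv0 hQv
  -- move `w` along `v`
  set β := QuadraticMap.polar (⇑Q) v w with hβ
  let a : F := QuadraticMap.polar (⇑Q) e x
  obtain ⟨c, h1, h2⟩ : ∃ c : F,
      QuadraticMap.polar (⇑Q) w z + β * c * QuadraticMap.polar (⇑Q) e z +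
        (-(c * QuadraticMap.polar (⇑Q) e w) - c * c * Q e * β) * QuadraticMap.polar (⇑Q) v z ≠ 0 ∧
      QuadraticMap.polar (⇑Q) w x + β * c * a ≠ 0 := by
    by_contra hcon
    push Not at hcon
    open Polynomial in
    let P₁ : F[X] := C (-(Q e * β * QuadraticMap.polar (⇑Q) v z)) * X ^ 2 +
      C (β * QuadraticMap.polar (⇑Q) e z - QuadraticMap.polar (⇑Q) e w * QuadraticMap.polar (⇑Q) v z) * X +
        C (QuadraticMap.polar (⇑Q) w z)
    open Polynomial in
    let P₂ : F[X] := C (β * a) * X + C (QuadraticMap.polar (⇑Q) w x)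
    have hP₁ : P₁ ≠ 0 := fun h => by
      have h' := congrArg (fun p => Polynomial.coeff p 2) h
      simp [P₁, mul_assoc, Polynomial.coeff_C_mul, Polynomial.coeff_X_pow, Polynomial.coeff_X, Polynomial.coeff_C, hQe, hvw, hvz] at h'
    have hP₂ : P₂ ≠ 0 := fun h => by
      have h' := congrArg (fun p => Polynomial.coeff p 0) h
      simp [P₂, Polynomial.coeff_X, Polynomial.coeff_C, hwx] at h'
    have hsub : (Finset.univ : Finset F) ⊆ (P₁ * P₂).roots.toFinset := fun c _ => by
      rw [Multiset.mem_toFinset, Polynomial.mem_roots (mul_ne_zero hP₁ hP₂)]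
      by_cases h1 : QuadraticMap.polar (⇑Q) w z + β * c * QuadraticMap.polar (⇑Q) e z +
          (-(c * QuadraticMap.polar (⇑Q) e w) - c * c * Q e * β) * QuadraticMap.polar (⇑Q) v z = 0
      · have : P₁.eval c = 0 := by
          simp only [P₁, Polynomial.eval_add, Polynomial.eval_mul, Polynomial.eval_pow, Polynomial.eval_C,
            Polynomial.eval_X]
          linear_combination h1
        simp [this]
      · have : P₂.eval c = 0 := by
          simp only [P₂, Polynomial.eval_add, Polynomial.eval_mul, Polynomial.eval_C, Polynomial.eval_X]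
          linear_combination hcon c h1
        simp [this]
    have hdeg : (P₁ * P₂).natDegree ≤ 3 := by
      refine Polynomial.natDegree_mul_le.trans ?_
      have d1 : P₁.natDegree ≤ 2 := Polynomial.natDegree_quadratic_le
      have d2 : P₂.natDegree ≤ 1 := Polynomial.natDegree_linear_le
      omega
    have := (Finset.card_le_card hsub).trans ((Multiset.toFinset_card_le _).trans ((Polynomial.card_roots' _).trans hdeg))
    rw [Finset.card_univ] at this
    omega
  refine ⟨w + (β • (c • e) + (-QuadraticMap.polar (⇑Q) (c • e) w - Q (c • e) * β) • v),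
    (D m).add_mem hw ((D m).add_mem ((D m).smul_mem _ ((D m).smul_mem _ he)) ((D m).smul_mem _ hv)), ?_, ?_, ?_⟩
  · have hce : QuadraticMap.polar (⇑Q) v (c • e) = 0 := by rw [QuadraticMap.polar_smul_right, hve, smul_zero]
    obtain ⟨g, -, hg⟩ := T.move hH hv hQv ((D m).smul_mem c he) hce
    rw [← hg, (mem_iff Q).mp g.2, hQw]
  · convert h1 using 1
    simp only [QuadraticMap.polar_add_left, QuadraticMap.polar_smul_left, QuadraticMap.map_smul, smul_eq_mul]
    ring
  · convert h2 using 1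
    simp only [QuadraticMap.polar_add_left, QuadraticMap.polar_smul_left, hvx, smul_eq_mul, a]
    ring

/-- A vector in a member that is in the zero set of a singular vector gives a link. -/
theorem link_of_member {j : Fin t} {x z : ι → F} (hx : Q x = 0) (hxD : ∀ i, x ∉ D i) (hxj : T.comp j x ≠ 0)
    (hz : z ∈ D j) (hz0 : z ≠ 0) (hP : z ∈ zset Q K x) : ∃ l n, T.Link hH l n := by
  classical
  by_cases hQz : Q z = 0
  · exact T.link_of_pair hH hx hxD hz hz0 hQz hP
  obtain ⟨m, hmj, hxm⟩ := T.exists_other hxD j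
  rcases le_or_gt 5 k with hk | hk
  · obtain ⟨w, hw, hw0, hQw, hwx, hok⟩ := T.good_of_big hH hk hxm
    exact T.link_of_good hH hmj.symm hx hxD hz hQz hP hxm hw hw0 hQw hwx hok
  have hq : 5 ≤ Fintype.card F := T.big.resolve_right (by omega)
  obtain ⟨u, hu, hQu, hux⟩ := T.singular_test (T.nd m) (by rw [T.finrank_eq]; exact T.dim) (T.see_member hxm)
  obtain ⟨z₂, ⟨hz₂, hz₂p⟩, hz₂0⟩ := (D m ⊓ HypQuad.perp Q (Submodule.span F {u, x})).exists_mem_ne_zero_of_ne_bot
    (fun h => by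
      have h2 := Submodule.finrank_sup_add_finrank_inf_eq (D m) (HypQuad.perp Q (Submodule.span F {u, x}))
      rw [h, finrank_bot, HypQuad.finrank_perp Q T.nondeg, T.finrank_eq] at h2
      have h3 := Submodule.finrank_le (D m ⊔ HypQuad.perp Q (Submodule.span F {u, x}))
      have h4 : Module.finrank F (Submodule.span F (({u, x} : Finset (ι → F)) : Set (ι → F))) ≤ 2 :=
        (finrank_span_finset_le_card _).trans Finset.card_le_two
      rw [Finset.coe_pair] at h4
      have := T.dim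
      omega)
  have huz : QuadraticMap.polar (⇑Q) u z₂ = 0 := (HypQuad.mem_perp Q).mp hz₂p u (Submodule.subset_span (by simp))
  have hxz : QuadraticMap.polar (⇑Q) x z₂ = 0 := (HypQuad.mem_perp Q).mp hz₂p x (Submodule.subset_span (by simp))
  have hzj : T.comp j z ≠ 0 := by rwa [T.comp_self hz]
  obtain ⟨w, hw, hQw, hwz, hwx⟩ := T.exists_cross hH hq hzj hxj
  have hw0 : w ≠ 0 := fun h => hwz (by rw [h]; simp)
  set c := QuadraticMap.polar (⇑Q) w z / (Q z * QuadraticMap.polar (⇑Q) w x) with hc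
  have hc0 : c ≠ 0 := div_ne_zero hwz (mul_ne_zero hQz hwx)
  set β := QuadraticMap.polar (⇑Q) x u with hβ
  have hβ0 : β ≠ 0 := by rw [hβ, QuadraticMap.polar_comm]; exact hux
  have hcz : QuadraticMap.polar (⇑Q) x (c • z) = 0 := by rw [QuadraticMap.polar_smul_right, hP.1, smul_zero]
  have hzu : QuadraticMap.polar (⇑Q) z u = 0 := T.orth hmj.symm hz hu
  have h := zset_map (T.root hH hu hQu hz₂ huz) (hP.2 hx c hcz)
  rw [mat_siegelG, mat_siegelG] at h
  simp only [siegelMap, QuadraticMap.polar_smul_left, hxz, hzu, T.orth hmj.symm hz hz₂, ← hβ, zero_smul, add_zero,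
    neg_zero, mul_zero, sub_zero, smul_zero, zero_sub, QuadraticMap.map_smul, smul_eq_mul] at h
  set X' := u + β • c • z + (-(c * c * Q z * β)) • x with hX'
  have hXj : T.comp j X' = (β * c) • z + (-(c * c * Q z * β)) • T.comp j x := by
    rw [hX', map_add, map_add, map_smul, map_smul, map_smul, T.comp_ne hmj.symm hu, T.comp_self hz, smul_smul]
    simp
  have hXj0 : T.comp j X' ≠ 0 := by
    rw [hXj]
    intro e
    have := congrArg (QuadraticMap.polar (⇑Q) z) e
    rw [QuadraticMap.polar_add_right, QuadraticMap.polar_smul_right, QuadraticMap.polar_smul_right,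
      ← T.form hz, QuadraticMap.polar_comm (⇑Q) z x, hP.1, QuadraticMap.polar_self, QuadraticMap.polar_zero_right] at this
    simp only [smul_eq_mul, smul_zero, add_zero, two_smul, ← two_mul] at this
    rw [mul_zero, add_zero] at this
    exact mul_ne_zero (mul_ne_zero hβ0 hc0) (mul_ne_zero T.two hQz) this
  have hXm : T.comp m X' ≠ 0 := by
    rw [hX', map_add, map_add, map_smul, map_smul, map_smul, T.comp_ne hmj hz, T.comp_self hu]
    simp only [smul_zero, add_zero]
    intro e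
    have := congrArg (QuadraticMap.polar (⇑Q) u) e
    rw [QuadraticMap.polar_add_right, QuadraticMap.polar_smul_right, ← T.form hu, QuadraticMap.polar_self, hQu,
      QuadraticMap.polar_zero_right, smul_zero, zero_add, smul_eq_mul] at this
    exact mul_ne_zero (neg_ne_zero.mpr (mul_ne_zero (mul_ne_zero (mul_ne_zero hc0 hc0) hQz) hβ0)) hux this
  have hQX : Q X' = 0 := by
    have e := (mem_iff Q).mp (siegelG Q hx hcz).2 u
    change Q (mat Q (siegelG Q hx hcz) *ᵥ u) = Q u at e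
    rw [mat_siegelG, hQu] at e
    rw [← e, hX', siegelMap, QuadraticMap.polar_smul_left, hzu, ← hβ, QuadraticMap.map_smul]
    simp
  have hXD : ∀ i, X' ∉ D i := T.notMem_of_two hmj hXm hXj0
  by_cases hQ2 : Q z₂ = 0
  · exact T.link_of_pair hH hQX hXD hz₂ hz₂0 hQ2 h
  refine T.link_of_good hH hmj hQX hXD hz₂ hQ2 h hXj0 hw hw0 hQw ?_ (Or.inr hq)
  rw [T.form hw X', hXj, QuadraticMap.polar_add_right, QuadraticMap.polar_smul_right, QuadraticMap.polar_smul_right,
    ← T.form hw, smul_eq_mul, smul_eq_mul, hc]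
  field_simp
  ring

/-- A pair that is not diagonal in some member gives a link. -/
theorem link_of_offdiag {j : Fin t} {x y : ι → F} (hx : Q x = 0) (hxD : ∀ i, x ∉ D i) (hy : y ∈ zset Q K x)
    (hoff : T.comp j y ∉ Submodule.span F {T.comp j x}) : ∃ l n, T.Link hH l n := by
  classical
  have hd : 3 ≤ Module.finrank F (D j) := by rw [T.finrank_eq]; exact T.dim
  by_cases hxj : T.comp j x = 0
  · obtain ⟨v, hv, hv0, hQv⟩ := T.singular_in hd
    exact T.link_of_pair hH hx hxD hv hv0 hQv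
      (T.zset_absorb hH hxj hy (fun h => hoff (by rw [h]; exact Submodule.zero_mem _)) hv)
  set v := T.comp j x with hvdef
  have hv : v ∈ D j := T.comp_mem j x
  by_cases hQv : Q v = 0
  · refine T.link_of_pair hH hx hxD hv hxj hQv ?_
    have hvx : QuadraticMap.polar (⇑Q) v x = 0 := by rw [T.form hv, ← hvdef, QuadraticMap.polar_self, hQv, smul_zero]
    obtain ⟨w₀, hw₀, hvw₀, hw₀y⟩ := T.side_seeing hH hv hxj hQv hoff
    obtain ⟨w₁, hw₁, hvw₁, hQw₁⟩ := T.exists_side hv hxj hQv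
    have hdiff : ∀ w ∈ D j, QuadraticMap.polar (⇑Q) v w = 0 → ∀ y ∈ zset Q K x,
        QuadraticMap.polar (⇑Q) v y • w +
          (-QuadraticMap.polar (⇑Q) w y - Q w * QuadraticMap.polar (⇑Q) v y) • v ∈ zset Q K x := fun w hw hvw y hy => by
      obtain ⟨h, hh, hhx⟩ := T.move hH hv hQv hw hvw
      have h1 := zset_map hy hh
      rw [hhx x, hvx, T.form hw x, ← hvdef, QuadraticMap.polar_comm (⇑Q) w v, hvw, hhx y] at h1
      simp only [zero_smul, neg_zero, mul_zero, sub_zero, add_zero] at h1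
      simpa using sub_mem h1 hy
    by_cases hvy : QuadraticMap.polar (⇑Q) v y = 0
    · have := hdiff w₀ hw₀ hvw₀ y hy
      rw [hvy, zero_smul, mul_zero, sub_zero, zero_add, Submodule.smul_mem_iff _ (neg_ne_zero.mpr hw₀y)] at this
      exact this
    · set β := QuadraticMap.polar (⇑Q) v y
      have h1 := hdiff w₁ hw₁ hvw₁ y hy
      have h2 := hdiff w₁ hw₁ hvw₁ _ h1
      have e1 : QuadraticMap.polar (⇑Q) v (β • w₁ + (-QuadraticMap.polar (⇑Q) w₁ y - Q w₁ * β) • v) = 0 := by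
        rw [QuadraticMap.polar_add_right, QuadraticMap.polar_smul_right, QuadraticMap.polar_smul_right, hvw₁,
          QuadraticMap.polar_self, hQv]
        simp
      have e2 : QuadraticMap.polar (⇑Q) w₁ (β • w₁ + (-QuadraticMap.polar (⇑Q) w₁ y - Q w₁ * β) • v) = β * (2 * Q w₁) := by
        rw [QuadraticMap.polar_add_right, QuadraticMap.polar_smul_right, QuadraticMap.polar_smul_right,
          QuadraticMap.polar_self, QuadraticMap.polar_comm (⇑Q) w₁ v, hvw₁]
        simp [two_mul]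
      rw [e1, e2, zero_smul, mul_zero, sub_zero, zero_add,
        Submodule.smul_mem_iff _ (neg_ne_zero.mpr (mul_ne_zero hvy (mul_ne_zero T.two hQw₁)))] at h2
      exact h2
  -- the component is non-singular
  set P := D j ⊓ HypQuad.perp Q (Submodule.span F {v}) with hPdef
  have hmemP : ∀ a, a ∈ P ↔ a ∈ D j ∧ QuadraticMap.polar (⇑Q) v a = 0 := fun a =>
    ⟨fun h => ⟨h.1, (HypQuad.mem_perp Q).mp h.2 v (Submodule.mem_span_singleton_self v)⟩,
      fun h => ⟨h.1, (HypQuad.mem_perp Q).mpr fun b hb => by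
        obtain ⟨c, rfl⟩ := Submodule.mem_span_singleton.mp hb
        rw [QuadraticMap.polar_smul_left, h.2, smul_zero]⟩⟩
  have hvv : QuadraticMap.polar (⇑Q) v v = 2 * Q v := by rw [QuadraticMap.polar_self, two_smul, two_mul]
  have hvv0 : (2 : F) * Q v ≠ 0 := mul_ne_zero T.two hQv
  have hproj : ∀ a ∈ D j, a + (-(QuadraticMap.polar (⇑Q) v a / (2 * Q v))) • v ∈ P := fun a ha =>
    (hmemP _).mpr ⟨(D j).add_mem ha ((D j).smul_mem _ hv), by
      rw [QuadraticMap.polar_add_right, QuadraticMap.polar_smul_right, hvv, smul_eq_mul, neg_mul,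
        div_mul_cancel₀ _ hvv0, add_neg_cancel]⟩
  have hPnd : Cfsg.Geo.IsNondegenerateOn (QuadraticMap.polar (⇑Q)) P := by
    intro a ha ha0
    obtain ⟨z, hz, hzn⟩ : ∃ z ∈ P, QuadraticMap.polar (⇑Q) a z ≠ 0 := by
      obtain ⟨-, z, hz, hzn⟩ := T.nd j a ((hmemP a).mp ha).1 ha0
      refine ⟨_, hproj z hz, ?_⟩
      rw [QuadraticMap.polar_add_right, QuadraticMap.polar_smul_right, QuadraticMap.polar_comm (⇑Q) a v,
        ((hmemP a).mp ha).2, smul_zero, add_zero]
      exact hzn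
    exact ⟨⟨z, hz, by rw [QuadraticMap.polar_comm]; exact hzn⟩, z, hz, hzn⟩
  set p := T.comp j y + (-(QuadraticMap.polar (⇑Q) v (T.comp j y) / (2 * Q v))) • v with hp
  have hpP : p ∈ P := hproj _ (T.comp_mem j y)
  have hp0 : p ≠ 0 := fun h => hoff (Submodule.mem_span_singleton.mpr
    ⟨QuadraticMap.polar (⇑Q) v (T.comp j y) / (2 * Q v), by
      rw [hp, neg_smul, ← sub_eq_add_neg, sub_eq_zero] at h; exact h.symm⟩)
  have hPy : ∀ a ∈ P, QuadraticMap.polar (⇑Q) a y = QuadraticMap.polar (⇑Q) a p := fun a ha => by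
    rw [T.form ((hmemP a).mp ha).1, hp, QuadraticMap.polar_add_right, QuadraticMap.polar_smul_right,
      QuadraticMap.polar_comm (⇑Q) a v, ((hmemP a).mp ha).2, smul_zero, add_zero]
  obtain ⟨z₀, hz₀, hz₀n⟩ : ∃ z ∈ P, QuadraticMap.polar (⇑Q) z p ≠ 0 := by
    obtain ⟨-, z, hz, hzn⟩ := hPnd p hpP hp0
    exact ⟨z, hz, by rw [QuadraticMap.polar_comm]; exact hzn⟩
  have hPx : ∀ a ∈ P, QuadraticMap.polar (⇑Q) a x = 0 := fun a ha => by
    rw [T.form ((hmemP a).mp ha).1, ← hvdef, QuadraticMap.polar_comm]; exact ((hmemP a).mp ha).2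
  suffices ∃ z ∈ D j, z ≠ 0 ∧ z ∈ zset Q K x by
    obtain ⟨z, hz, hz0, hzP⟩ := this
    exact T.link_of_member hH hx hxD hxj hz hz0 hzP
  have hPd : k - 1 ≤ Module.finrank F P := by
    have h2 := Submodule.finrank_sup_add_finrank_inf_eq (D j) (HypQuad.perp Q (Submodule.span F {v}))
    rw [← hPdef, HypQuad.finrank_perp Q T.nondeg, T.finrank_eq, finrank_span_singleton hxj] at h2
    have h3 := Submodule.finrank_le (D j ⊔ HypQuad.perp Q (Submodule.span F {v}))
    omega
  rcases le_or_gt 4 k with hk | hk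
  · obtain ⟨a, ha, hQa, hay⟩ := T.singular_test hPnd (by omega) ⟨z₀, hz₀, hz₀n⟩
    have ha0 : a ≠ 0 := fun h => hay (by rw [h]; simp)
    obtain ⟨b, ⟨hb, hba⟩, hbn⟩ : ∃ b ∈ P ⊓ HypQuad.perp Q (Submodule.span F {a}), b ∉ Submodule.span F {a} := by
      by_contra hcon
      push Not at hcon
      have h1 := Submodule.finrank_mono (show P ⊓ HypQuad.perp Q (Submodule.span F {a}) ≤ Submodule.span F {a} from hcon)
      rw [finrank_span_singleton ha0] at h1
      have h2 := Submodule.finrank_sup_add_finrank_inf_eq P (HypQuad.perp Q (Submodule.span F {a}))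
      rw [HypQuad.finrank_perp Q T.nondeg, finrank_span_singleton ha0] at h2
      have h3 := Submodule.finrank_le (P ⊔ HypQuad.perp Q (Submodule.span F {a}))
      omega
    obtain ⟨h, hh, hhx⟩ := T.move hH ((hmemP a).mp ha).1 hQa ((hmemP b).mp hb).1
      ((HypQuad.mem_perp Q).mp hba a (Submodule.mem_span_singleton_self a))
    have h1 := zset_map hy hh
    rw [hhx x, hPx a ha, hPx b hb, hhx y, hPy a ha] at h1
    simp only [zero_smul, neg_zero, mul_zero, sub_zero, add_zero] at h1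
    have h2 := sub_mem h1 hy
    rw [add_sub_cancel_left] at h2
    refine ⟨_, (D j).add_mem ((D j).smul_mem _ ((hmemP b).mp hb).1) ((D j).smul_mem _ ((hmemP a).mp ha).1), fun e => ?_, h2⟩
    apply hbn
    rw [Submodule.mem_span_singleton]
    refine ⟨-((QuadraticMap.polar (⇑Q) a p)⁻¹ *
      (-QuadraticMap.polar (⇑Q) b y - Q b * QuadraticMap.polar (⇑Q) a p)), ?_⟩
    rw [neg_smul, mul_smul, eq_neg_of_add_eq_zero_right e, smul_neg, neg_neg, smul_smul, inv_mul_cancel₀ hay, one_smul]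
  -- members of dimension three: a pair of reflections
  have hq : 5 ≤ Fintype.card F := T.big.resolve_right (by omega)
  obtain ⟨a, ha, hQa, hap⟩ : ∃ a ∈ P, Q a ≠ 0 ∧ QuadraticMap.polar (⇑Q) a p ≠ 0 := by
    by_cases hQp : Q p = 0
    · obtain ⟨p', hp', hQp', hpp'⟩ := T.partner hPnd hpP hp0 hQp
      refine ⟨p + p', P.add_mem hpP hp', ?_, ?_⟩
      · rw [QuadraticMap.map_add (f := Q), hQp, hQp', hpp']; simp
      · rw [QuadraticMap.polar_add_left, QuadraticMap.polar_self, hQp, QuadraticMap.polar_comm (⇑Q) p' p, hpp']; simp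
    · exact ⟨p, hpP, hQp, by rw [QuadraticMap.polar_self, two_smul, ← two_mul]; exact mul_ne_zero T.two hQp⟩
  have haa : QuadraticMap.polar (⇑Q) a a = 2 * Q a := by rw [QuadraticMap.polar_self, two_smul, two_mul]
  have haa0 : (2 : F) * Q a ≠ 0 := mul_ne_zero T.two hQa
  have ha0 : a ≠ 0 := fun h => hQa (by rw [h]; simp)
  obtain ⟨e, heP, hea, hQe⟩ : ∃ e ∈ P, QuadraticMap.polar (⇑Q) a e = 0 ∧ Q e ≠ 0 := by
    obtain ⟨e, ⟨he, hea⟩, he0⟩ := (P ⊓ HypQuad.perp Q (Submodule.span F {a})).exists_mem_ne_zero_of_ne_bot (fun h => by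
      have h2 := Submodule.finrank_sup_add_finrank_inf_eq P (HypQuad.perp Q (Submodule.span F {a}))
      rw [h, finrank_bot, HypQuad.finrank_perp Q T.nondeg, finrank_span_singleton ha0] at h2
      have h3 := Submodule.finrank_le (P ⊔ HypQuad.perp Q (Submodule.span F {a}))
      have h5 := Submodule.finrank_le (Submodule.span F {a})
      have h6 := T.finrank_eq j
      have h7 := T.dim
      omega)
    have hae := (HypQuad.mem_perp Q).mp hea a (Submodule.mem_span_singleton_self a)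
    refine ⟨e, he, hae, fun hQe => ?_⟩
    obtain ⟨-, z, hz, hzn⟩ := hPnd e he he0
    have hli : LinearIndependent F ![a, e] := LinearIndependent.pair_iff.mpr fun s r hsr => by
      have h1 := congrArg (QuadraticMap.polar (⇑Q) a) hsr
      rw [QuadraticMap.polar_add_right, QuadraticMap.polar_smul_right, QuadraticMap.polar_smul_right, haa, hae,
        QuadraticMap.polar_zero_right, smul_zero, add_zero, smul_eq_mul] at h1
      have hs : s = 0 := (mul_eq_zero.mp h1).resolve_right haa0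
      rw [hs, zero_smul, zero_add] at hsr
      exact ⟨hs, (smul_eq_zero.mp hsr).resolve_right he0⟩
    have hspan : Submodule.span F (Set.range ![a, e]) = P := by
      refine Submodule.eq_of_le_of_finrank_le (Submodule.span_le.mpr ?_) ?_
      · rintro _ ⟨i, rfl⟩; fin_cases i <;> assumption
      · rw [finrank_span_eq_card hli, Fintype.card_fin]
        have h2 := Submodule.finrank_sup_add_finrank_inf_eq (D j) (HypQuad.perp Q (Submodule.span F {v}))
        rw [← hPdef, HypQuad.finrank_perp Q T.nondeg, T.finrank_eq, finrank_span_singleton hxj] at h2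
        have h3 : Module.finrank F ↥(HypQuad.perp Q (Submodule.span F {v})) <
            Module.finrank F ↥(D j ⊔ HypQuad.perp Q (Submodule.span F {v})) := by
          refine Submodule.finrank_lt_finrank_of_lt (lt_of_le_not_ge le_sup_right fun hle => ?_)
          have := (HypQuad.mem_perp Q).mp (hle (Submodule.mem_sup_left hv)) v (Submodule.mem_span_singleton_self v)
          rw [hvv] at this
          exact hvv0 this
        rw [HypQuad.finrank_perp Q T.nondeg, finrank_span_singleton hxj] at h3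
        omega
    rw [← hspan, Matrix.range_cons_cons_empty, Submodule.mem_span_pair] at hz
    obtain ⟨s, r, rfl⟩ := hz
    apply hzn
    rw [QuadraticMap.polar_add_right, QuadraticMap.polar_smul_right, QuadraticMap.polar_smul_right,
      QuadraticMap.polar_comm (⇑Q) e a, hae, QuadraticMap.polar_self, hQe]
    simp
  set ρ := Q e / Q a with hρ
  have hρ0 : ρ ≠ 0 := div_ne_zero hQe hQa
  obtain ⟨s, hs0, hs1⟩ : ∃ s : F, s ≠ 0 ∧ 1 + ρ * s * s ≠ 0 := by
    by_contra hcon
    push Not at hcon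
    open Polynomial in
    let P₀ : F[X] := X * (C ρ * X ^ 2 + C 0 * X + C 1)
    have hP₀ : P₀ ≠ 0 := fun h => by
      have h' := congrArg (fun p => Polynomial.coeff p 1) h
      simp [P₀, Polynomial.coeff_X, Polynomial.coeff_C] at h'
    have hsub : (Finset.univ : Finset F) ⊆ P₀.roots.toFinset := fun c _ => by
      rw [Multiset.mem_toFinset, Polynomial.mem_roots hP₀]
      rcases eq_or_ne c 0 with rfl | hc
      · simp [P₀]
      · simp only [P₀, Polynomial.IsRoot, Polynomial.eval_mul, Polynomial.eval_add, Polynomial.eval_pow,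
          Polynomial.eval_C, Polynomial.eval_X]
        linear_combination c * hcon c hc
    have hdeg : P₀.natDegree ≤ 3 := by
      refine Polynomial.natDegree_mul_le.trans ?_
      rw [Polynomial.natDegree_X]
      have := Polynomial.natDegree_quadratic_le (a := ρ) (b := (0 : F)) (c := 1)
      omega
    have := (Finset.card_le_card hsub).trans ((Multiset.toFinset_card_le _).trans ((Polynomial.card_roots' _).trans hdeg))
    rw [Finset.card_univ] at this
    omega
  set α := (1 - ρ * s * s) / (1 + ρ * s * s) with hα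
  set γ := 2 * s / (1 + ρ * s * s) with hγ
  have hγ0 : γ ≠ 0 := div_ne_zero (mul_ne_zero T.two hs0) hs1
  set b := α • a + γ • e with hb
  have hbP : b ∈ P := P.add_mem (P.smul_mem _ ha) (P.smul_mem _ heP)
  have hab : Q a = Q b := by
    rw [hb, QuadraticMap.map_add (f := Q), QuadraticMap.map_smul, QuadraticMap.map_smul, QuadraticMap.polar_smul_left,
      QuadraticMap.polar_smul_right, hea]
    have hQe' : Q e = ρ * Q a := by rw [hρ, div_mul_cancel₀ _ hQa]
    have key : α * α + γ * γ * ρ = 1 := by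
      have hd : ∀ d A B C : F, d ≠ 0 → A + B * C = d * d → A / (d * d) + B / (d * d) * C = 1 := fun d A B C hd h => by
        rw [div_mul_eq_mul_div, ← add_div, h, div_self (mul_ne_zero hd hd)]
      have e : ∀ r : F, 1 + r * s * s ≠ 0 → (1 - r * s * s) / (1 + r * s * s) * ((1 - r * s * s) / (1 + r * s * s)) +
          2 * s / (1 + r * s * s) * (2 * s / (1 + r * s * s)) * r = 1 := fun r hr => by
        rw [div_mul_div_comm, div_mul_div_comm]
        exact hd _ _ _ _ hr (by ring)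
      exact e ρ hs1
    rw [hQe']
    simp only [smul_eq_mul, mul_zero, add_zero]
    linear_combination (-(Q a)) * key
  have hQb : Q b ≠ 0 := hab ▸ hQa
  set r := refl Q b hQb * refl Q a hQa with hr
  have hmap : ∀ (c : ι → F) (hc : Q c ≠ 0), c ∈ P → ∀ l, ∀ z ∈ D l, mat Q (refl Q c hc) *ᵥ z ∈ D l := by
    intro c hc hcP l z hz
    show Cfsg.reflectionMatrix (⇑Q) c *ᵥ z ∈ D l
    rcases eq_or_ne l j with rfl | hl
    · rw [mulVec_eq]; exact (D l).sub_mem hz ((D l).smul_mem _ ((hmemP c).mp hcP).1)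
    · rw [fix Q c z (T.orth hl.symm ((hmemP c).mp hcP).1 hz)]; exact hz
  have hrK : r ∈ K := hH _ (refl_pair_mem_omega Q T.nondeg hQa hQb hab) fun l z hz => by
    rw [mat, mulVec_mul]; exact hmap _ _ hbP l _ (hmap _ _ ha l z hz)
  have hrx : mat Q r *ᵥ x = x := by
    rw [hr, mat, mulVec_mul]
    show Cfsg.reflectionMatrix (⇑Q) b *ᵥ (Cfsg.reflectionMatrix (⇑Q) a *ᵥ x) = x
    rw [fix Q a x (hPx a ha), fix Q b x (hPx b hbP)]
  set c₁ := (Q a)⁻¹ * QuadraticMap.polar (⇑Q) a p with hc₁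
  set y₁ := y - c₁ • a with hy₁
  set c₂ := (Q b)⁻¹ * QuadraticMap.polar (⇑Q) b y₁ with hc₂
  have hry : mat Q r *ᵥ y = y - (c₁ • a + c₂ • b) := by
    rw [hr, mat, mulVec_mul]
    show Cfsg.reflectionMatrix (⇑Q) b *ᵥ (Cfsg.reflectionMatrix (⇑Q) a *ᵥ y) = _
    rw [mulVec_eq Q a y, hPy a ha, ← hc₁, ← hy₁, mulVec_eq, ← hc₂, hy₁]
    abel
  refine ⟨c₁ • a + c₂ • b, (D j).add_mem ((D j).smul_mem _ ((hmemP a).mp ha).1)
    ((D j).smul_mem _ ((hmemP b).mp hbP).1), fun e0 => ?_, ?_⟩
  · have h1 := congrArg (QuadraticMap.polar (⇑Q) e) e0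
    have hae : QuadraticMap.polar (⇑Q) e a = 0 := by rw [QuadraticMap.polar_comm]; exact hea
    simp only [hb, QuadraticMap.polar_add_right, QuadraticMap.polar_smul_right, hae, QuadraticMap.polar_self,
      QuadraticMap.polar_zero_right, smul_eq_mul, mul_zero, zero_add, two_smul, ← two_mul, mul_eq_zero, T.two, hQe, hγ0,
      or_false] at h1
    rw [h1, zero_smul, add_zero, smul_eq_zero] at e0
    rcases e0 with h | h
    · exact mul_ne_zero (inv_ne_zero hQa) hap h
    · exact ha0 h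
  · have h := sub_mem hy (zset_map hy hrK |> (hrx ▸ ·))
    rwa [hry, sub_sub_cancel] at h

/-- A pair that is diagonal in every member gives a link. -/
theorem link_of_pair_span {x y : ι → F} (hx : Q x = 0) (hxD : ∀ i, x ∉ D i) (hy : y ∈ zset Q K x)
    (hyx : y ∉ Submodule.span F {x}) : ∃ l n, T.Link hH l n := by
  classical
  by_cases hoff : ∃ j, T.comp j y ∉ Submodule.span F {T.comp j x}
  · obtain ⟨j, hj⟩ := hoff; exact T.link_of_offdiag hH hx hxD hy hj
  push Not at hoff
  choose c hc using fun j => Submodule.mem_span_singleton.mp (hoff j)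
  obtain ⟨l, m, hlm, hl, hm, hne⟩ : ∃ l m, l ≠ m ∧ T.comp l x ≠ 0 ∧ T.comp m x ≠ 0 ∧ c m ≠ c l + Q y := by
    by_contra hcon
    push Not at hcon
    have hx0 : x ≠ 0 := fun h => hxD ⟨0, by have := T.three; omega⟩ (by rw [h]; exact Submodule.zero_mem _)
    obtain ⟨l, hl⟩ : ∃ l, T.comp l x ≠ 0 := by by_contra h; push Not at h; exact hx0 (T.eq_zero h)
    obtain ⟨m, hml, hm⟩ := T.exists_other hxD l
    have e1 := hcon l m hml.symm hl hm
    have e2 := hcon m l hml hm hl
    have hQy : Q y = 0 := (mul_eq_zero.mp (show (2 : F) * Q y = 0 by linear_combination -e1 - e2)).resolve_left T.two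
    apply hyx
    refine Submodule.mem_span_singleton.mpr ⟨c l, ?_⟩
    rw [← T.sum_comp y, ← T.sum_comp (c l • x)]
    refine Finset.sum_congr rfl fun i _ => ?_
    rw [map_smul, ← hc i]
    rcases eq_or_ne (T.comp i x) 0 with h0 | h0
    · simp [h0]
    rcases eq_or_ne i l with rfl | hi
    · rfl
    · rw [hcon l i hi.symm hl h0, hQy, add_zero]
  obtain ⟨u, hu, hQu, hux⟩ := T.singular_test (T.nd l) (by rw [T.finrank_eq]; exact T.dim) (T.see_member hl)
  obtain ⟨z, hz, huz, hQz⟩ := T.exists_side hu (fun h => hux (by rw [h]; simp)) hQu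
  set a := c l + Q y with ha
  have hy1 : QuadraticMap.polar (⇑Q) x ((1 : F) • y) = 0 := by rw [one_smul]; exact hy.1
  have hyl : ∀ b ∈ D l, mat Q (siegelG Q hx hy1) *ᵥ b =
      b + QuadraticMap.polar (⇑Q) x b • (y - a • x) := fun b hb => by
    have e : QuadraticMap.polar (⇑Q) y b = c l * QuadraticMap.polar (⇑Q) x b := by
      rw [QuadraticMap.polar_comm, T.form hb, ← hc l, QuadraticMap.polar_smul_right, ← T.form hb,
        QuadraticMap.polar_comm, smul_eq_mul]
    rw [mat_siegelG, siegelMap, one_smul, e, ha]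
    module
  have h := zset_map (T.root hH hu hQu hz huz) (hy.2 hx 1 hy1)
  rw [hyl u hu, hyl z hz] at h
  set X' := u + QuadraticMap.polar (⇑Q) x u • (y - a • x) with hX'
  have hQX : Q X' = 0 := by rw [hX', ← hyl u hu, (mem_iff Q).mp (siegelG Q hx hy1).2, hQu]
  have hXl : T.comp l X' = u + (QuadraticMap.polar (⇑Q) x u * (c l - a)) • T.comp l x := by
    rw [hX', map_add, map_smul, map_sub, map_smul, T.comp_self hu, ← hc l, ← sub_smul, smul_smul]
  have hXm : T.comp m X' ≠ 0 := by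
    rw [hX', map_add, map_smul, map_sub, map_smul, T.comp_ne hlm.symm hu, ← hc m, ← sub_smul, smul_smul, zero_add]
    exact smul_ne_zero (mul_ne_zero (by rw [QuadraticMap.polar_comm]; exact hux) (sub_ne_zero.mpr hne)) hm
  have hXl0 : T.comp l X' ≠ 0 := by
    rw [hXl]
    intro e
    have h1 := congrArg (QuadraticMap.polar (⇑Q) u) e
    rw [QuadraticMap.polar_add_right, QuadraticMap.polar_self, hQu, smul_zero, zero_add, QuadraticMap.polar_smul_right,
      ← T.form hu, QuadraticMap.polar_zero_right, smul_eq_mul, mul_eq_zero] at h1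
    rw [h1.resolve_right hux, zero_smul, add_zero] at e
    exact hux (by rw [e]; simp)
  refine T.link_of_offdiag hH hQX (T.notMem_of_two hlm hXl0 hXm) h (j := l) fun hmem => ?_
  obtain ⟨b, hb⟩ := Submodule.mem_span_singleton.mp hmem
  rw [hXl, map_add, map_smul, map_sub, map_smul, T.comp_self hz, ← hc l, ← sub_smul, smul_smul, smul_add, smul_smul] at hb
  have h1 := congrArg (QuadraticMap.polar (⇑Q) u) hb
  simp only [QuadraticMap.polar_add_right, QuadraticMap.polar_smul_right, QuadraticMap.polar_self, hQu, huz,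
    smul_zero, smul_eq_mul, zero_add, mul_zero, ← T.form hu] at h1
  rw [mul_left_inj' hux] at h1
  rw [h1, add_left_inj] at hb
  apply hQz
  rw [← hb, QuadraticMap.map_smul, hQu, smul_zero]

omit hH

/-- An isometry interchanging two members. -/
theorem exists_swap (a b : Fin t) : ∃ g : Cfsg.isometryGroup F (⇑Q),
    ∀ l, ∀ x ∈ D l, mat Q g *ᵥ x ∈ D (Equiv.swap a b l) := by
  rcases eq_or_ne a b with rfl | hab
  · exact ⟨1, fun l x hx => by simpa [show mat Q 1 *ᵥ x = x from Matrix.one_mulVec x] using hx⟩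
  obtain ⟨e, he⟩ := T.decomp.isometric a b
  let φ : (ι → F) →ₗ[F] (ι → F) :=
    LinearMap.id - T.comp a - T.comp b +
      (D b).subtype ∘ₗ e.toLinearMap ∘ₗ (T.comp a).codRestrict (D a) (T.comp_mem a) +
      (D a).subtype ∘ₗ e.symm.toLinearMap ∘ₗ (T.comp b).codRestrict (D b) (T.comp_mem b)
  have hφ : ∀ r p q, T.comp a r = 0 → T.comp b r = 0 → ∀ (hp : p ∈ D a) (hq : q ∈ D b),
      φ (r + p + q) = r + (e.symm ⟨q, hq⟩ : ι → F) + (e ⟨p, hp⟩ : ι → F) := by
    intro r p q hra hrb hp hq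
    have e1 : T.comp a (r + p + q) = p := by rw [map_add, map_add, hra, T.comp_self hp, T.comp_ne hab hq]; simp
    have e2 : T.comp b (r + p + q) = q := by rw [map_add, map_add, hrb, T.comp_ne hab.symm hp, T.comp_self hq]; simp
    have f1 : (T.comp a).codRestrict (D a) (T.comp_mem a) (r + p + q) = ⟨p, hp⟩ := Subtype.ext e1
    have f2 : (T.comp b).codRestrict (D b) (T.comp_mem b) (r + p + q) = ⟨q, hq⟩ := Subtype.ext e2
    simp only [φ, LinearMap.add_apply, LinearMap.sub_apply, LinearMap.id_coe, id_eq, LinearMap.comp_apply, f1, f2, e1,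
      e2, Submodule.subtype_apply, LinearEquiv.coe_coe]
    abel
  have hdec : ∀ v, ∃ r p q, T.comp a r = 0 ∧ T.comp b r = 0 ∧ p ∈ D a ∧ q ∈ D b ∧ v = r + p + q := fun v =>
    ⟨v - T.comp a v - T.comp b v, T.comp a v, T.comp b v, by
      rw [map_sub, map_sub, T.comp_self (T.comp_mem a v), T.comp_ne hab (T.comp_mem b v)]; simp, by
      rw [map_sub, map_sub, T.comp_self (T.comp_mem b v), T.comp_ne hab.symm (T.comp_mem a v)]; simp,
      T.comp_mem a v, T.comp_mem b v, by abel⟩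
  have hinv : Function.Involutive φ := fun v => by
    obtain ⟨r, p, q, hra, hrb, hp, hq, rfl⟩ := hdec v
    rw [hφ r p q hra hrb hp hq, hφ r _ _ hra hrb (Subtype.coe_prop _) (Subtype.coe_prop _)]
    simp
  have hQsum : ∀ r p q, T.comp a r = 0 → T.comp b r = 0 → p ∈ D a → q ∈ D b → Q (r + p + q) = Q r + Q p + Q q := by
    intro r p q hra hrb hp hq
    rw [QuadraticMap.map_add (f := Q), QuadraticMap.map_add (f := Q), QuadraticMap.polar_add_left, T.orth hab hp hq,
      QuadraticMap.polar_comm (⇑Q) r p, T.form hp, hra, QuadraticMap.polar_comm (⇑Q) r q, T.form hq, hrb]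
    simp
  obtain ⟨g, hg⟩ := exists_of_equiv Q (LinearEquiv.ofInvolutive φ hinv) fun v => by
    show Q (φ v) = Q v
    obtain ⟨r, p, q, hra, hrb, hp, hq, rfl⟩ := hdec v
    rw [hφ r p q hra hrb hp hq, hQsum r _ _ hra hrb (Subtype.coe_prop _) (Subtype.coe_prop _), hQsum r p q hra hrb hp hq,
      he, ← he (e.symm ⟨q, hq⟩), e.apply_symm_apply]
    abel
  refine ⟨g, fun l x hx => ?_⟩
  rw [hg]
  show φ x ∈ _
  rcases eq_or_ne l a with rfl | hla
  · have := hφ 0 x 0 (map_zero _) (map_zero _) hx (Submodule.zero_mem _)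
    rw [Equiv.swap_apply_left]
    simp only [zero_add, add_zero] at this
    rw [this]
    refine (D b).add_mem ?_ (Subtype.coe_prop _)
    rw [show (⟨0, Submodule.zero_mem _⟩ : D b) = 0 from rfl, map_zero]
    exact Submodule.zero_mem _
  rcases eq_or_ne l b with rfl | hlb
  · have := hφ 0 0 x (map_zero _) (map_zero _) (Submodule.zero_mem _) hx
    rw [Equiv.swap_apply_right]
    simp only [zero_add, add_zero] at this
    rw [this]
    refine (D a).add_mem (Subtype.coe_prop _) ?_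
    rw [show (⟨0, Submodule.zero_mem _⟩ : D a) = 0 from rfl, map_zero]
    exact Submodule.zero_mem _
  · have := hφ x 0 0 (T.comp_ne hla.symm hx) (T.comp_ne hlb.symm hx) (Submodule.zero_mem _) (Submodule.zero_mem _)
    rw [Equiv.swap_apply_of_ne_of_ne hla hlb]
    simp only [add_zero] at this
    rw [this]
    rw [show (⟨0, Submodule.zero_mem _⟩ : D b) = 0 from rfl, show (⟨0, Submodule.zero_mem _⟩ : D a) = 0 from rfl,
      map_zero, map_zero]
    simpa using hx

/-- The main step. -/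
theorem omega_le (hn : 5 ≤ Fintype.card ι)
    (hK : ∀ g ∈ Cfsg.Omega F (⇑Q), (∃ σ : Equiv.Perm (Fin t), ∀ l, ∀ x ∈ D l, mat Q g *ᵥ x ∈ D (σ l)) → g ∈ K)
    {g₀ : Cfsg.isometryGroup F (⇑Q)} (hg₀ : g₀ ∈ K)
    (hbad : ¬ ∃ σ : Equiv.Perm (Fin t), ∀ l, ∀ x ∈ D l, mat Q g₀ *ᵥ x ∈ D (σ l)) : Cfsg.Omega F (⇑Q) ≤ K := by
  classical
  have hH : ∀ g ∈ Cfsg.Omega F (⇑Q), (∀ l, ∀ x ∈ D l, mat Q g *ᵥ x ∈ D l) → g ∈ K :=
    fun g hg h => hK g hg ⟨1, h⟩
  obtain ⟨i, u, hu, hu0, hQu, hbadu⟩ : ∃ i, ∃ u ∈ D i, u ≠ 0 ∧ Q u = 0 ∧ ∀ a, mat Q g₀ *ᵥ u ∉ D a := by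
    by_contra hcon
    push Not at hcon
    apply hbad
    have hs : ∀ i, ∃ a, ∀ x ∈ D i, mat Q g₀ *ᵥ x ∈ D a := by
      intro i
      obtain ⟨v₀, hv₀, hv0, hQ0⟩ := T.singular_in (W := D i) (by rw [T.finrank_eq]; exact T.dim)
      obtain ⟨a, ha⟩ := hcon i v₀ hv₀ hv0 hQ0
      have hadj : ∀ {v w : ι → F} {a' : Fin t}, mat Q g₀ *ᵥ v ∈ D a' → w ∈ D i → Q w = 0 →
          QuadraticMap.polar (⇑Q) v w ≠ 0 → mat Q g₀ *ᵥ w ∈ D a' := by
        intro v w a' hv hw hQw hvw
        obtain ⟨b, hb⟩ := hcon i w hw (fun h => hvw (by rw [h]; simp)) hQw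
        rcases eq_or_ne a' b with rfl | hne
        · exact hb
        · exact absurd (by rw [← polar_act Q g₀]; exact T.orth hne hv hb) hvw
      have hsing : ∀ v ∈ D i, Q v = 0 → mat Q g₀ *ᵥ v ∈ D a := by
        intro v hv hQv
        by_cases hv' : v = 0
        · rw [hv', Matrix.mulVec_zero]; exact Submodule.zero_mem _
        by_cases h0v : QuadraticMap.polar (⇑Q) v₀ v ≠ 0
        · exact hadj ha hv hQv h0v
        push Not at h0v
        obtain ⟨-, y, hy, hyv⟩ := T.nd i v hv hv'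
        obtain ⟨w, hw, hQw, h0w, hwv⟩ := T.singular_seeing (T.nd i) hv₀ hv0 hQ0 hy
          (by rw [QuadraticMap.polar_comm]; exact hyv) h0v
        exact hadj (hadj ha hw hQw h0w) hv hQv hwv
      refine ⟨a, fun x hx => ?_⟩
      by_contra hout
      obtain ⟨b, hba, hb⟩ : ∃ b, b ≠ a ∧ T.comp b (mat Q g₀ *ᵥ x) ≠ 0 := by
        by_contra h
        push Not at h
        apply hout
        rw [← T.sum_comp (mat Q g₀ *ᵥ x), Finset.sum_eq_single a (fun l _ hl => h l hl)
          (fun h' => absurd (Finset.mem_univ a) h')]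
        exact T.comp_mem a _
      obtain ⟨y, hy, hyx⟩ := T.see_member hb
      set o := mat Q g₀⁻¹ *ᵥ y with ho
      have hgo : mat Q g₀ *ᵥ o = y := by
        rw [ho, ← mulVec_mul, mul_inv_cancel]; exact Matrix.one_mulVec y
      have hox : QuadraticMap.polar (⇑Q) x o ≠ 0 := by
        rw [← polar_act Q g₀, hgo, QuadraticMap.polar_comm]; exact hyx
      obtain ⟨v, hv, hQv, hvo⟩ := T.singular_test (T.nd i) (by rw [T.finrank_eq]; exact T.dim) ⟨x, hx, hox⟩
      rw [← polar_act Q g₀, hgo, T.orth hba.symm (hsing v hv hQv) hy] at hvo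
      exact hvo rfl
    choose f hf using hs
    have hfi : Function.Injective f := fun a b hab => by
      by_contra hne
      obtain ⟨v, hv, hv0, hQv⟩ := T.singular_in (W := D a) (by rw [T.finrank_eq]; exact T.dim)
      have hmap : ∀ l, (D l).map (Matrix.toLin' (mat Q g₀)) = D (f l) := fun l =>
        Submodule.eq_of_le_of_finrank_le (by rintro _ ⟨x, hx, rfl⟩; exact hf l x hx) (by
          rw [show Module.finrank F ((D l).map (Matrix.toLin' (mat Q g₀))) = Module.finrank F (D l) from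
            LinearEquiv.finrank_map_eq (Matrix.toLinearEquiv' (mat Q g₀) (g₀ : GL ι F).invertible) (D l),
            T.finrank_eq, T.finrank_eq])
      have h1 : mat Q g₀ *ᵥ v ∈ (D b).map (Matrix.toLin' (mat Q g₀)) := by rw [hmap, ← hab]; exact hf a v hv
      obtain ⟨v', hv', e⟩ := h1
      have : v' = v := by
        rw [← mulVec_inv_cancel Q g₀ v', ← mulVec_inv_cancel Q g₀ v]; exact congrArg _ e
      exact hv0 (Submodule.disjoint_def.mp (T.decomp.decomp.decomp.indep.pairwiseDisjoint hne) v hv (this ▸ hv'))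
    exact ⟨Equiv.ofBijective f (Finite.injective_iff_bijective.mp hfi), fun l x hx => hf l x hx⟩
  obtain ⟨w, hw, huw, hQw⟩ := T.exists_side hu hu0 hQu
  have hy := zset_map (T.root hH hu hQu hw huw) hg₀
  obtain ⟨l, m, hlm⟩ := T.link_of_pair_span hH (show Q (mat Q g₀ *ᵥ u) = 0 by rw [(mem_iff Q).mp g₀.2, hQu]) hbadu hy
    fun hmem => by
      obtain ⟨c, hc⟩ := Submodule.mem_span_singleton.mp hmem
      apply hQw
      rw [← (mem_iff Q).mp g₀.2 w]
      change Q (mat Q g₀ *ᵥ w) = 0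
      rw [← hc, QuadraticMap.map_smul, (mem_iff Q).mp g₀.2, hQu, smul_zero]
  have htrans : ∀ h : Cfsg.isometryGroup F (⇑Q), h ∈ K → ∀ σ : Equiv.Perm (Fin t),
      (∀ l, ∀ x ∈ D l, mat Q h *ᵥ x ∈ D (σ l)) → ∀ a b, T.Link hH a b → T.Link hH (σ a) (σ b) := by
    intro h hh σ hσ a b hab
    have hsur : ∀ l, ∀ y ∈ D (σ l), ∃ x ∈ D l, mat Q h *ᵥ x = y := fun l y hy => by
      have heq : (D l).map (Matrix.toLin' (mat Q h)) = D (σ l) :=
        Submodule.eq_of_le_of_finrank_le (by rintro _ ⟨x, hx, rfl⟩; exact hσ l x hx) (by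
          rw [show Module.finrank F ((D l).map (Matrix.toLin' (mat Q h))) = Module.finrank F (D l) from
            LinearEquiv.finrank_map_eq (Matrix.toLinearEquiv' (mat Q h) (h : GL ι F).invertible) (D l),
            T.finrank_eq, T.finrank_eq])
      rw [← heq] at hy
      obtain ⟨x, hx, rfl⟩ := hy
      exact ⟨x, hx, rfl⟩
    refine ⟨fun e => hab.1 (σ.injective e), fun y hy hQy z hz => ?_⟩
    obtain ⟨a', ha', rfl⟩ := hsur a y hy
    obtain ⟨b', hb', rfl⟩ := hsur b z hz
    exact zset_map (hab.2 a' ha' (by rw [(mem_iff Q).mp h.2] at hQy; exact hQy) hb') hh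
  have hstar : ∀ p, p ≠ l → T.Link hH p l := by
    intro p hpl
    rcases eq_or_ne p m with rfl | hpm
    · exact T.link_symm hH hlm
    obtain ⟨s, hs⟩ := T.exists_swap l m
    obtain ⟨g, hg⟩ := T.exists_swap m p
    have hinv : ∀ (s : Cfsg.isometryGroup F (⇑Q)) (a b : Fin t),
        (∀ l, ∀ x ∈ D l, mat Q s *ᵥ x ∈ D (Equiv.swap a b l)) → ∀ l, ∀ x ∈ D l, mat Q s⁻¹ *ᵥ x ∈ D (Equiv.swap a b l) := by
      intro s a b hs l x hx
      have heq : (D (Equiv.swap a b l)).map (Matrix.toLin' (mat Q s)) = D l :=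
        Submodule.eq_of_le_of_finrank_le (by
          rintro _ ⟨y, hy, rfl⟩
          have := hs _ y hy
          rwa [Equiv.swap_apply_self] at this) (by
          rw [show Module.finrank F ((D (Equiv.swap a b l)).map (Matrix.toLin' (mat Q s))) =
              Module.finrank F (D (Equiv.swap a b l)) from
            LinearEquiv.finrank_map_eq (Matrix.toLinearEquiv' (mat Q s) (s : GL ι F).invertible) _,
            T.finrank_eq, T.finrank_eq])
      rw [← heq] at hx
      obtain ⟨y, hy, rfl⟩ := hx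
      rw [Matrix.toLin'_apply, mulVec_inv_cancel]
      exact hy
    set σ : Equiv.Perm (Fin t) := Equiv.swap l m * Equiv.swap m p * Equiv.swap l m * Equiv.swap m p
    have hmove : ∀ a, ∀ x ∈ D a, mat Q (s * g * s⁻¹ * g⁻¹) *ᵥ x ∈ D (σ a) := by
      intro a x hx
      rw [mat, mulVec_mul, mulVec_mul, mulVec_mul]
      exact hs _ _ (hg _ _ (hinv s l m hs _ _ (hinv g m p hg _ _ hx)))
    have hmem : s * g * s⁻¹ * g⁻¹ ∈ K :=
      hK _ (Subgroup.commutator_mem_commutator (Subgroup.mem_top _) (Subgroup.mem_top _)) ⟨σ, hmove⟩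
    have := htrans _ hmem σ hmove l m hlm
    have e1 : σ l = p := by
      simp [σ, Equiv.swap_apply_def, hpl, hpl.symm, hpm, hpm.symm, hlm.1, hlm.1.symm]
    have e2 : σ m = l := by
      simp [σ, Equiv.swap_apply_def, hpl, hpl.symm, hpm, hpm.symm, hlm.1, hlm.1.symm]
    rwa [e1, e2] at this
  refine T.omega_le_of_links hH hn fun a b hab => ?_
  rcases eq_or_ne a l with rfl | hal
  · exact T.link_symm hH (hstar b hab.symm)
  rcases eq_or_ne b l with rfl | hbl
  · exact hstar a hal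
  · exact T.link_trans hH (hstar b hbl) (T.link_symm hH (hstar a hal)) hab.symm

end OSplit

end Cfsg.Lib.Classical.Refl

namespace Cfsg.Lib.Classical.Refl

open Matrix

universe u

variable {F : Type u} [Field F] [Fintype F] {ι : Type} [Fintype ι] [DecidableEq ι]

theorem decomposition_maximal {Q : QuadraticForm F (ι → F)} {t k : ℕ} {D : Fin t → Submodule F (ι → F)}
    (T : OSplit Q k D) (hn : 5 ≤ Fintype.card ι) :
    Cfsg.Geo.IsMaximalIn (Cfsg.Geo.omegaGL (⇑Q)) (Cfsg.Geo.decompositionStabilizer D ⊓ Cfsg.Geo.omegaGL (⇑Q)) := by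
  classical
  have hiff : ∀ h : Cfsg.isometryGroup F (⇑Q), (h : GL ι F) ∈ Cfsg.Geo.decompositionStabilizer D ↔
      ∃ σ : Equiv.Perm (Fin t), ∀ l, ∀ x ∈ D l, mat Q h *ᵥ x ∈ D (σ l) := by
    intro h
    refine exists_congr fun σ => forall_congr' fun l => ⟨fun e x hx => ?_, fun e => ?_⟩
    · rw [← e]; exact Submodule.mem_map_of_mem hx
    · exact Submodule.eq_of_le_of_finrank_le (by rintro _ ⟨x, hx, rfl⟩; exact e x hx) (by
        rw [show Module.finrank F ((D l).map (Matrix.toLin' ((h : GL ι F) : Matrix ι ι F))) = Module.finrank F (D l) from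
          LinearEquiv.finrank_map_eq (Matrix.toLinearEquiv' (mat Q h) (h : GL ι F).invertible) (D l),
          T.finrank_eq, T.finrank_eq])
  refine ⟨lt_of_le_of_ne inf_le_right fun heq => ?_, fun M hHM hMO => ?_⟩
  · have hd : ∀ i, 3 ≤ Module.finrank F (D i) := fun i => by rw [T.finrank_eq]; exact T.dim
    have h01 : (⟨0, by have := T.three; omega⟩ : Fin t) ≠ ⟨1, by have := T.three; omega⟩ := by simp
    obtain ⟨a, ha, ha0, hQa⟩ := T.singular_in (hd ⟨0, by have := T.three; omega⟩)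
    obtain ⟨z, hz, hz0, hQz⟩ := T.singular_in (hd ⟨1, by have := T.three; omega⟩)
    obtain ⟨w, hw, -, haw⟩ := T.partner (T.nd _) ha ha0 hQa
    have haz := T.orth h01 ha hz
    set s := siegelG Q hQa haz with hs
    have hsO : (s : GL ι F) ∈ Cfsg.Geo.decompositionStabilizer D ⊓ Cfsg.Geo.omegaGL (⇑Q) :=
      heq.symm ▸ (mem_omegaGL Q _).mpr ⟨s, siegelG_mem_omega Q T.nondeg hn hQa haz, rfl⟩
    obtain ⟨σ, hσ⟩ := (hiff s).mp hsO.1
    have h := hσ _ w hw
    rw [hs, mat_siegelG, siegelMap, haw, hQz, QuadraticMap.polar_comm (⇑Q) z w, T.orth h01 hw hz, one_smul] at h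
    simp only [neg_zero, zero_mul, sub_zero, zero_smul, add_zero] at h
    refine T.notMem_of_two h01 ?_ ?_ _ h
    · rw [map_add, T.comp_self hw, T.comp_ne h01 hz, add_zero]
      intro e; rw [e] at haw; simp at haw
    · rw [map_add, T.comp_ne h01.symm hw, T.comp_self hz, zero_add]
      exact hz0
  · by_cases hM : M ≤ Cfsg.Geo.decompositionStabilizer D
    · exact Or.inl (le_antisymm (le_inf hM hMO) hHM)
    right
    obtain ⟨g, hgM, hgW⟩ := SetLike.not_le_iff_exists.mp hM
    obtain ⟨g₀, -, rfl⟩ := (mem_omegaGL Q g).mp (hMO hgM)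
    have h := T.omega_le hn (K := M.comap (Cfsg.isometryGroup F (⇑Q)).subtype)
      (fun x hx hxW => hHM ⟨(hiff x).mpr hxW, (mem_omegaGL Q _).mpr ⟨x, hx, rfl⟩⟩)
      (show g₀ ∈ _ from hgM) (fun hb => hgW ((hiff g₀).mpr hb))
    refine le_antisymm hMO fun x hx => ?_
    obtain ⟨y, hy, rfl⟩ := (mem_omegaGL Q x).mp hx
    exact h hy

end Cfsg.Lib.Classical.Refl
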