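import Mathlib
import Cfsg.Prelude.Def_Classical
import Cfsg.Agent.S0756
import Cfsg.Agent.Classical.MaxBridge
import Cfsg.Agent.Classical.Symp.TwoRank

set_option autoImplicit false
set_option linter.unusedVariables false
set_option linter.unusedSimpArgs false
set_option linter.style.haveILetI false

/-! A large elementary abelian 2-subgroup of odd-dimensional orthogonal groups. -/

namespace Cfsg.Lib.Classical

universe u v

open Matrix

variable {F : Type u} [Field F]

/-- The symmetric form of `quadFormOdd`. -/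
noncomputable def oddBilin (m : ℕ) (F : Type u) [Field F] :
    LinearMap.BilinForm F (Unit ⊕ (Fin m ⊕ Fin m) → F) :=
  LinearMap.mk₂ F (fun u v => u (.inl ()) * v (.inl ()) +
      (2 : F)⁻¹ * ∑ i : Fin m, (u (.inr (.inl i)) * v (.inr (.inr i)) + u (.inr (.inr i)) * v (.inr (.inl i))))
    (fun a b v => by simp only [Pi.add_apply, add_mul, Finset.sum_add_distrib]; ring)
    (fun c a v => by
      simp only [Pi.smul_apply, smul_eq_mul, mul_assoc, ← mul_add, ← Finset.mul_sum]; ring_nf)
    (fun a b v => by simp only [Pi.add_apply, mul_add, Finset.sum_add_distrib]; ring)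
    (fun c a v => by
      simp only [Pi.smul_apply, smul_eq_mul, mul_left_comm _ c, ← mul_add, ← Finset.mul_sum])

theorem oddBilin_apply (m : ℕ) (u v : Unit ⊕ (Fin m ⊕ Fin m) → F) :
    oddBilin m F u v = u (.inl ()) * v (.inl ()) +
      (2 : F)⁻¹ * ∑ i : Fin m, (u (.inr (.inl i)) * v (.inr (.inr i)) + u (.inr (.inr i)) * v (.inr (.inl i))) := rfl

theorem oddBilin_self (h2 : (2 : F) ≠ 0) (m : ℕ) (v : Unit ⊕ (Fin m ⊕ Fin m) → F) :
    oddBilin m F v v = Cfsg.quadFormOdd m F v := by
  simp only [oddBilin_apply, Cfsg.quadFormOdd, mul_comm (v (.inr (.inr _))), ← two_mul, ← Finset.mul_sum]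
  field_simp

theorem oddBilin_isSymm (m : ℕ) : (oddBilin m F).IsSymm := ⟨fun u v => by
  simp only [oddBilin_apply, RingHom.id_apply, mul_comm (u (.inl ()))]
  congr 2
  exact Finset.sum_congr rfl fun i _ => by ring⟩

theorem oddBilin_nondegenerate (h2 : (2 : F) ≠ 0) (m : ℕ) : (oddBilin m F).Nondegenerate := by
  classical
  have key : ∀ u, (∀ v, oddBilin m F u v = 0) → u = 0 := by
    intro u h
    funext i
    rcases i with ⟨⟩ | i | i
    · simpa [oddBilin_apply, Pi.single_apply] using h (Pi.single (.inl ()) 1)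
    · simpa [oddBilin_apply, Pi.single_apply, h2, Finset.sum_ite_eq'] using h (Pi.single (.inr (.inr i)) 1)
    · simpa [oddBilin_apply, Pi.single_apply, h2, Finset.sum_ite_eq'] using h (Pi.single (.inr (.inl i)) 1)
  exact ⟨key, fun u h => key u fun v => by rw [← (oddBilin_isSymm m).eq]; exact h v⟩

/-- An orthogonal basis with all norms equal. -/
theorem exists_equal_norm_basis [Finite F] (h2 : (2 : F) ≠ 0) {V : Type v} [AddCommGroup V] [Module F V]
    [FiniteDimensional F V] (B : LinearMap.BilinForm F V) (hS : B.IsSymm) (hB : B.Nondegenerate) {m : ℕ}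
    (hd : Module.finrank F V = 2 * m + 1) :
    ∃ (c : F) (b : Module.Basis ((Fin m × Bool) ⊕ Unit) F V), c ≠ 0 ∧
      ∀ i j, B (b i) (b j) = if i = j then c else 0 := by
  classical
  letI : Fintype F := Fintype.ofFinite F
  have hchar : ringChar F ≠ 2 := fun h => h2 (by
    haveI : CharP F 2 := h ▸ ringChar.charP F
    exact CharTwo.two_eq_zero)
  obtain ⟨α, hα⟩ := FiniteField.exists_nonsquare hchar
  obtain ⟨e, he1, he2, he3⟩ := Cfsg.Agent.S0756.aux h2 α hα (2 * m) B hS hB hd
  let k : (Fin m × Bool) ⊕ Unit → Fin (2 * m + 1) := Sum.elim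
    (fun p => ⟨2 * (p.1 : ℕ) + (if p.2 then 1 else 0), by have := p.1.2; split_ifs <;> omega⟩)
    (fun _ => Fin.last (2 * m))
  have hk : Function.Injective k := by
    rintro (⟨i, s⟩ | ⟨⟩) (⟨j, t⟩ | ⟨⟩) h <;> simp only [k, Sum.elim_inl, Sum.elim_inr, Fin.ext_iff, Fin.val_last] at h
    · cases s <;> cases t <;> simp at h <;> first | (exfalso; omega) | (simp [Fin.ext_iff]; omega)
    · have := i.2; cases s <;> simp at h <;> omega
    · have := j.2; cases t <;> simp at h <;> omega
    · rfl
  have hlast : ∀ p, k (.inl p) ≠ Fin.last (2 * m) := fun p h => by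
    have h' : k (.inl p) = k (.inr ()) := h
    exact absurd (hk h') (by simp)
  have hkk : ∀ i j, B (e (k i)) (e (k j)) = if i = j then B (e (k i)) (e (k i)) else 0 := fun i j => by
    by_cases h : i = j
    · subst h; rw [if_pos rfl]
    · rw [if_neg h, he1 _ _ fun h' => h (hk h')]
  have hcard : Fintype.card ((Fin m × Bool) ⊕ Unit) = Module.finrank F V := by
    simp [hd, mul_comm]
  have mk : ∀ (c : F) (w : (Fin m × Bool) ⊕ Unit → V), c ≠ 0 → (∀ i j, B (w i) (w j) = if i = j then c else 0) →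
      ∃ (c : F) (b : Module.Basis ((Fin m × Bool) ⊕ Unit) F V), c ≠ 0 ∧
        ∀ i j, B (b i) (b j) = if i = j then c else 0 := by
    intro c w hc hw
    have hli : LinearIndependent F w := by
      rw [Fintype.linearIndependent_iff]
      intro a ha i
      have h := congrArg (fun z => B z (w i)) ha
      simp only [map_sum, map_smul, LinearMap.coe_sum, Finset.sum_apply, LinearMap.smul_apply, hw, smul_eq_mul,
        mul_ite, mul_zero, Finset.sum_ite_eq', Finset.mem_univ, if_true, map_zero, LinearMap.zero_apply] at h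
      exact (mul_eq_zero.mp h).resolve_right hc
    haveI : Nonempty ((Fin m × Bool) ⊕ Unit) := ⟨.inr ()⟩
    exact ⟨c, basisOfLinearIndependentOfCardEqFinrank hli hcard, hc, by
      simpa only [coe_basisOfLinearIndependentOfCardEqFinrank] using hw⟩
  rcases he3 with h3 | h3
  · refine mk 1 (fun i => e (k i)) one_ne_zero fun i j => ?_
    rw [hkk]
    rcases i with p | ⟨⟩
    · rw [he2 _ (hlast p)]
    · rw [show k (.inr ()) = Fin.last (2 * m) from rfl, h3]
  · have hodd : Fintype.card F % 2 = 1 := FiniteField.odd_card_of_char_ne_two hchar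
    obtain ⟨a, b, hab⟩ := FiniteField.exists_root_sum_quadratic
      (f := Polynomial.X ^ 2 + Polynomial.C (-α)) (g := Polynomial.X ^ 2)
      (by rw [Polynomial.degree_add_C (by rw [Polynomial.degree_X_pow]; decide), Polynomial.degree_X_pow]; rfl)
      (by rw [Polynomial.degree_X_pow]; rfl) hodd
    simp only [Polynomial.eval_add, Polynomial.eval_C, Polynomial.eval_pow, Polynomial.eval_X] at hab
    have hα0 : α ≠ 0 := fun h => hα (h ▸ IsSquare.zero)
    let w : (Fin m × Bool) ⊕ Unit → V := Sum.elim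
      (fun p => if p.2 then (-b) • e (k (.inl (p.1, false))) + a • e (k (.inl (p.1, true)))
        else a • e (k (.inl (p.1, false))) + b • e (k (.inl (p.1, true))))
      (fun _ => e (k (.inr ())))
    refine mk α w hα0 fun i j => ?_
    have h1 : ∀ p q, B (e (k (.inl p))) (e (k (.inl q))) = if p = q then 1 else 0 := fun p q => by
      rw [hkk, he2 _ (hlast p)]; simp
    have h4 : ∀ p u, B (e (k (.inl p))) (e (k (.inr u))) = 0 := fun p u => by rw [hkk, if_neg (by simp)]
    have h5 : ∀ u p, B (e (k (.inr u))) (e (k (.inl p))) = 0 := fun u p => by rw [hkk, if_neg (by simp)]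
    rcases i with ⟨i, s⟩ | ⟨⟩ <;> rcases j with ⟨j, t⟩ | ⟨⟩
    · by_cases hij : i = j
      · subst hij
        cases s <;> cases t <;> simp [w, h1] <;> first | linear_combination hab | ring
      · cases s <;> cases t <;> simp [w, h1, hij]
    · cases s <;> simp [w, h4]
    · cases t <;> simp [w, h5]
    · simp [w, show k (.inr ()) = Fin.last (2 * m) from rfl, h3]

section refl

variable {V : Type v} [AddCommGroup V] [Module F V] (B : LinearMap.BilinForm F V)

/-- The reflection along `v`, written additively. -/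
noncomputable def bilinRefl (v : V) : V →ₗ[F] V :=
  LinearMap.id - (2 / B v v) • ((B.flip v).smulRight v)

theorem bilinRefl_apply (v x : V) : bilinRefl B v x = x - (2 / B v v * B x v) • v := by
  simp [bilinRefl, smul_smul]

variable {B}

theorem bilinRefl_bilinRefl {v : V} (hv : B v v ≠ 0) (x : V) : bilinRefl B v (bilinRefl B v x) = x := by
  rw [bilinRefl_apply, bilinRefl_apply, map_sub, map_smul, LinearMap.sub_apply, LinearMap.smul_apply, smul_eq_mul]
  match_scalars <;> field_simp <;> ring

theorem bilinRefl_form (hS : B.IsSymm) {v : V} (hv : B v v ≠ 0) (x y : V) :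
    B (bilinRefl B v x) (bilinRefl B v y) = B x y := by
  simp only [bilinRefl_apply, map_sub, map_smul, LinearMap.sub_apply, LinearMap.smul_apply, smul_eq_mul]
  rw [hS.eq v y]
  field_simp
  ring

end refl

/-- An element of the isometry group from a form-preserving linear involution. -/
noncomputable def oddInvol {m : ℕ} (h2 : (2 : F) ≠ 0)
    (L : (Unit ⊕ (Fin m ⊕ Fin m) → F) →ₗ[F] (Unit ⊕ (Fin m ⊕ Fin m) → F)) (hinv : Function.Involutive L)
    (hform : ∀ x, oddBilin m F (L x) (L x) = oddBilin m F x x) :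
    Cfsg.isometryGroup F (Cfsg.quadFormOdd m F) :=
  ⟨linToGL _ F (LinearEquiv.ofBijective L hinv.bijective), fun x y => by
    change Cfsg.quadFormOdd m F ((linToGL _ F (LinearEquiv.ofBijective L hinv.bijective)).val *ᵥ x) =
      Cfsg.quadFormOdd m F x
    rw [linToGL_mulVec, ← oddBilin_self h2, ← oddBilin_self h2]
    exact hform x⟩

theorem oddInvol_apply {m : ℕ} (h2 : (2 : F) ≠ 0)
    (L : (Unit ⊕ (Fin m ⊕ Fin m) → F) →ₗ[F] (Unit ⊕ (Fin m ⊕ Fin m) → F)) (hinv : Function.Involutive L)
    (hform : ∀ x, oddBilin m F (L x) (L x) = oddBilin m F x x) (x : Unit ⊕ (Fin m ⊕ Fin m) → F) :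
    (oddInvol h2 L hinv hform).1.1 *ᵥ x = L x :=
  linToGL_mulVec _ x

/-- The reflection as an element of the isometry group. -/
noncomputable def oddReflect {m : ℕ} (h2 : (2 : F) ≠ 0) (v : Unit ⊕ (Fin m ⊕ Fin m) → F)
    (hv : oddBilin m F v v ≠ 0) : Cfsg.isometryGroup F (Cfsg.quadFormOdd m F) :=
  oddInvol h2 (bilinRefl (oddBilin m F) v) (bilinRefl_bilinRefl hv)
    fun x => bilinRefl_form (oddBilin_isSymm m) hv x x

theorem oddReflect_apply {m : ℕ} (h2 : (2 : F) ≠ 0) (v : Unit ⊕ (Fin m ⊕ Fin m) → F)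
    (hv : oddBilin m F v v ≠ 0) (x : Unit ⊕ (Fin m ⊕ Fin m) → F) :
    (oddReflect h2 v hv).1.1 *ᵥ x =
      x - (2 / oddBilin m F v v * oddBilin m F x v) • v := by
  rw [← bilinRefl_apply]
  exact oddInvol_apply h2 _ _ _ x

theorem isometry_ext {m : ℕ} {g h : Cfsg.isometryGroup F (Cfsg.quadFormOdd m F)}
    (e : ∀ x, g.1.1 *ᵥ x =
      h.1.1 *ᵥ x) : g = h :=
  Subtype.ext (Units.ext (Matrix.ext_of_mulVec_single fun i => e _))

theorem isometry_mul_apply {m : ℕ} (g h : Cfsg.isometryGroup F (Cfsg.quadFormOdd m F)) (x : Unit ⊕ (Fin m ⊕ Fin m) → F) :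
    (g * h).1.1 *ᵥ x =
      g.1.1 *ᵥ (h.1.1 *ᵥ x) := by
  rw [Matrix.mulVec_mulVec]; rfl

theorem oddReflect_apply' {m : ℕ} (h2 : (2 : F) ≠ 0) (v : Unit ⊕ (Fin m ⊕ Fin m) → F)
    (hv : oddBilin m F v v ≠ 0) (x : Unit ⊕ (Fin m ⊕ Fin m) → F) :
    (oddReflect h2 v hv).1.1 *ᵥ x = bilinRefl (oddBilin m F) v x :=
  oddInvol_apply h2 _ _ _ x

theorem oddReflect_mul_self {m : ℕ} (h2 : (2 : F) ≠ 0) (v : Unit ⊕ (Fin m ⊕ Fin m) → F)
    (hv : oddBilin m F v v ≠ 0) : oddReflect h2 v hv * oddReflect h2 v hv = 1 := by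
  refine isometry_ext fun x => ?_
  rw [isometry_mul_apply, oddReflect_apply, oddReflect_apply, ← bilinRefl_apply, ← bilinRefl_apply,
    bilinRefl_bilinRefl hv]
  exact (Matrix.one_mulVec x).symm

theorem oddReflect_conj {m : ℕ} (h2 : (2 : F) ≠ 0) (v u : Unit ⊕ (Fin m ⊕ Fin m) → F)
    (hv : oddBilin m F v v ≠ 0) (hu : oddBilin m F u u ≠ 0) (hv' : oddBilin m F (bilinRefl (oddBilin m F) u v)
      (bilinRefl (oddBilin m F) u v) ≠ 0) :
    oddReflect h2 u hu * oddReflect h2 v hv * oddReflect h2 u hu = oddReflect h2 (bilinRefl (oddBilin m F) u v) hv' := by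
  refine isometry_ext fun x => ?_
  rw [isometry_mul_apply, isometry_mul_apply, oddReflect_apply', oddReflect_apply', oddReflect_apply',
    oddReflect_apply', bilinRefl_apply _ v, map_sub, map_smul, bilinRefl_bilinRefl hu, bilinRefl_apply _ (bilinRefl _ u v)]
  have e : oddBilin m F x (bilinRefl (oddBilin m F) u v) = oddBilin m F (bilinRefl (oddBilin m F) u x) v := by
    rw [← bilinRefl_form (oddBilin_isSymm m) hu x, bilinRefl_bilinRefl hu]
  rw [e, bilinRefl_form (oddBilin_isSymm m) hu]

theorem oddReflect_pair_mem {m : ℕ} (h2 : (2 : F) ≠ 0) (v w : Unit ⊕ (Fin m ⊕ Fin m) → F)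
    (hv : oddBilin m F v v ≠ 0) (hw : oddBilin m F w w ≠ 0) (he : oddBilin m F v v = oddBilin m F w w) :
    oddReflect h2 v hv * oddReflect h2 w hw ∈ Cfsg.Omega F (Cfsg.quadFormOdd m F) := by
  set B := oddBilin m F
  have hwv : B w v = B v w := (oddBilin_isSymm m).eq w v
  obtain ⟨u, hu, hconj⟩ : ∃ (u : Unit ⊕ (Fin m ⊕ Fin m) → F) (hu : B u u ≠ 0),
      oddReflect h2 w hw = oddReflect h2 u hu * oddReflect h2 v hv * oddReflect h2 u hu := by
    by_cases h : B (v - w) (v - w) = 0
    · have hu : B (v + w) (v + w) ≠ 0 := by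
        intro h'
        simp only [map_sub, map_add, LinearMap.sub_apply, LinearMap.add_apply, hwv, ← he] at h h'
        have h4 : (4 : F) * B v v = 0 := by linear_combination h + h'
        rw [show (4 : F) = 2 * 2 by norm_num] at h4
        exact hv ((mul_eq_zero.mp h4).resolve_left (mul_ne_zero h2 h2))
      have e : bilinRefl B (v + w) v = -w := by
        have h1 : 2 / B (v + w) (v + w) * B v (v + w) = 1 := by
          rw [div_mul_eq_mul_div, div_eq_one_iff_eq hu]
          simp only [map_add, LinearMap.add_apply, hwv, ← he]; ring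
        rw [bilinRefl_apply, h1, one_smul]; abel
      refine ⟨v + w, hu, ?_⟩
      rw [oddReflect_conj h2 v (v + w) hv hu (by rw [e, map_neg, LinearMap.map_neg₂, neg_neg]; exact hw)]
      refine isometry_ext fun x => ?_
      rw [oddReflect_apply, oddReflect_apply, e]
      simp only [map_neg, LinearMap.neg_apply, neg_neg, mul_neg, neg_smul_neg]
    · have e : bilinRefl B (v - w) v = w := by
        have h1 : 2 / B (v - w) (v - w) * B v (v - w) = 1 := by
          rw [div_mul_eq_mul_div, div_eq_one_iff_eq h]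
          simp only [map_sub, LinearMap.sub_apply, hwv, ← he]; ring
        rw [bilinRefl_apply, h1, one_smul]; abel
      refine ⟨v - w, h, ?_⟩
      rw [oddReflect_conj h2 v (v - w) hv h (by rw [e]; exact hw)]
      refine isometry_ext fun x => ?_
      rw [oddReflect_apply, oddReflect_apply, e]
  have hinv : ∀ (z : Unit ⊕ (Fin m ⊕ Fin m) → F) (hz : B z z ≠ 0), (oddReflect h2 z hz)⁻¹ = oddReflect h2 z hz :=
    fun z hz => inv_eq_of_mul_eq_one_right (oddReflect_mul_self h2 z hz)
  have hc := Subgroup.commutator_mem_commutator (Subgroup.mem_top (oddReflect h2 v hv))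
    (Subgroup.mem_top (oddReflect h2 u hu))
  rw [commutatorElement_def, hinv, hinv, mul_assoc, mul_assoc, ← mul_assoc (oddReflect h2 u hu), ← hconj] at hc
  exact hc

theorem exists_elementary [Fintype F] (h2 : (2 : F) ≠ 0) {m : ℕ} (hm : 3 ≤ m) :
    ∃ E : Subgroup (Cfsg.POmega F (Cfsg.quadFormOdd m F)), (∀ x ∈ E, x * x = 1) ∧ Nat.card E = 4 ^ m := by
  classical
  set B := oddBilin m F with hB
  obtain ⟨c, b, hc, hb⟩ := exists_equal_norm_basis h2 B (oddBilin_isSymm m) (oddBilin_nondegenerate h2 m)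
    (m := m) (by rw [Module.finrank_pi]; simp; ring)
  let κ := Fin m × Bool
  let e : (κ → ZMod 2) → κ ⊕ Unit → ZMod 2 := fun a => Sum.elim a fun _ => ∑ i, a i
  have he : ∀ a a', e (a + a') = e a + e a' := fun a a' => by
    funext i; rcases i with i | i <;> simp [e, Finset.sum_add_distrib]
  let χ : ZMod 2 → F := fun z => if z = 0 then 1 else -1
  have hχ : ∀ z z', χ (z + z') = χ z * χ z' := by
    have h01 : ∀ z : ZMod 2, z = 0 ∨ z = 1 := by decide
    intro z z'
    rcases h01 z with rfl | rfl <;> rcases h01 z' with rfl | rfl <;> simp [χ, show (1 : ZMod 2) + 1 = 0 from rfl]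
  have hχ0 : ∀ z, χ z * χ z = 1 := fun z => by simp only [χ]; split_ifs <;> norm_num
  let L : (κ → ZMod 2) → (Unit ⊕ (Fin m ⊕ Fin m) → F) →ₗ[F] (Unit ⊕ (Fin m ⊕ Fin m) → F) := fun a =>
    b.constr F fun i => χ (e a i) • b i
  have hLb : ∀ a i, L a (b i) = χ (e a i) • b i := fun a i => b.constr_basis _ _ _
  have hinv : ∀ a x, L a (L a x) = x := fun a => by
    have : (L a).comp (L a) = LinearMap.id := b.ext fun i => by simp [hLb, smul_smul, hχ0]
    exact fun x => LinearMap.congr_fun this x
  have hform : ∀ a x y, B (L a x) (L a y) = B x y := fun a => by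
    have : B.compl₁₂ (L a) (L a) = B := b.ext fun i => b.ext fun j => by
      simp only [LinearMap.compl₁₂_apply, hLb, map_smul, LinearMap.smul_apply, hb, smul_eq_mul]
      by_cases h : i = j
      · subst h; rw [if_pos rfl, ← mul_assoc, hχ0, one_mul]
      · rw [if_neg h, mul_zero, mul_zero]
    exact fun x y => LinearMap.congr_fun (LinearMap.congr_fun this x) y
  let g : (κ → ZMod 2) → Cfsg.isometryGroup F (Cfsg.quadFormOdd m F) := fun a =>
    oddInvol h2 (L a) (hinv a) fun x => hform a x x
  have hg : ∀ a x, (g a).1.1 *ᵥ x = L a x := fun a x => oddInvol_apply h2 _ _ _ x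
  have hgmul : ∀ a a', g (a + a') = g a * g a' := fun a a' => by
    refine isometry_ext fun x => ?_
    rw [isometry_mul_apply, hg, hg, hg]
    have : L (a + a') = (L a).comp (L a') := b.ext fun i => by
      simp [hLb, he, hχ, smul_smul, mul_comm]
    rw [this, LinearMap.comp_apply]
  have hbne : ∀ i, oddBilin m F (b i) (b i) ≠ 0 := fun i => by rw [hb, if_pos rfl]; exact hc
  have hone : g 0 = 1 := by have := hgmul 0 0; rw [add_zero] at this; exact mul_left_cancel (this.symm.trans (mul_one _).symm)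
  have hsingle : ∀ i : κ, g (Pi.single i 1) = oddReflect h2 (b (.inl i)) (hbne _) * oddReflect h2 (b (.inr ())) (hbne _) := by
    intro i
    refine isometry_ext fun x => ?_
    rw [isometry_mul_apply, hg, oddReflect_apply, oddReflect_apply, ← bilinRefl_apply, ← bilinRefl_apply]
    refine LinearMap.congr_fun (?_ : L (Pi.single i 1) = (bilinRefl _ _).comp (bilinRefl _ _)) x
    refine b.ext fun j => ?_
    rw [hLb, LinearMap.comp_apply]
    simp only [bilinRefl_apply, map_sub, map_smul, LinearMap.sub_apply, LinearMap.smul_apply, ← hB, hb, smul_eq_mul]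
    rcases j with j | ⟨⟩
    · by_cases hij : j = i
      · subst hij; simp [χ, e, hc]; module
      · simp [χ, e, hij, hc]
    · simp [χ, e, hc]; module
  have hΩ : ∀ a, g a ∈ Cfsg.Omega F (Cfsg.quadFormOdd m F) := fun a => by
    rw [← Finset.univ_sum_single a]
    generalize (Finset.univ : Finset κ) = s
    induction s using Finset.induction with
    | empty => rw [Finset.sum_empty, hone]; exact one_mem _
    | insert i s hi ih =>
      rw [Finset.sum_insert hi, hgmul]
      refine mul_mem ?_ ih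
      have h01 : ∀ z : ZMod 2, z = 0 ∨ z = 1 := by decide
      rcases h01 (a i) with h | h
      · rw [h, Pi.single_zero, hone]; exact one_mem _
      · rw [h, hsingle]
        exact oddReflect_pair_mem h2 _ _ _ _ (by rw [hb, hb, if_pos rfl, if_pos rfl])
  let η : Multiplicative (κ → ZMod 2) →* Cfsg.Omega F (Cfsg.quadFormOdd m F) :=
    MonoidHom.mk' (fun a => ⟨g a.toAdd, hΩ _⟩) fun a a' => Subtype.ext (hgmul _ _)
  let η' := (QuotientGroup.mk' (Subgroup.center (Cfsg.Omega F (Cfsg.quadFormOdd m F)))).comp η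
  have hinj : Function.Injective η' := by
    rw [injective_iff_map_eq_one]
    intro a ha
    have hz := Subgroup.mem_center_iff.mp ((QuotientGroup.eq_one_iff _).mp ha)
    have hall : ∀ i j, χ (e a.toAdd i) = χ (e a.toAdd j) := by
      intro i j
      by_contra hne
      have hij : i ≠ j := fun h => hne (by rw [h])
      obtain ⟨k, l, hk1, hk2, hl1, hl2, hkl⟩ : ∃ k l, k ≠ i ∧ k ≠ j ∧ l ≠ i ∧ l ≠ j ∧ k ≠ l := by
        have hcard : 4 ≤ Fintype.card (κ ⊕ Unit) := by simp [κ]; omega
        have h1 : 2 ≤ (Finset.univ \ {i, j} : Finset (κ ⊕ Unit)).card := by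
          rw [Finset.card_sdiff_of_subset (Finset.subset_univ _), Finset.card_univ, Finset.card_pair hij]; omega
        obtain ⟨k, hk, l, hl, hkl⟩ := Finset.one_lt_card.mp (show 1 < _ from h1)
        simp at hk hl
        exact ⟨k, l, hk.1, hk.2, hl.1, hl.2, hkl⟩
      set w₁ := b i + b j
      set w₂ := b k + b l
      have hn1 : B w₁ w₁ = c + c := by simp [w₁, hb, hij, hij.symm]
      have hn2 : B w₂ w₂ = c + c := by simp [w₂, hb, hkl, hkl.symm]
      have hcc : c + c ≠ 0 := by rw [← two_mul]; exact mul_ne_zero h2 hc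
      have hmem := oddReflect_pair_mem h2 w₁ w₂ (hn1.trans_ne hcc) (hn2.trans_ne hcc) (hn1.trans hn2.symm)
      have e1 := congrArg (fun z : Cfsg.Omega F (Cfsg.quadFormOdd m F) =>
        z.1.1.1 *ᵥ b i)
        (hz ⟨_, hmem⟩)
      change (oddReflect h2 w₁ (hn1.trans_ne hcc) * oddReflect h2 w₂ (hn2.trans_ne hcc) * g a.toAdd).1.1 *ᵥ b i =
        (g a.toAdd * (oddReflect h2 w₁ (hn1.trans_ne hcc) * oddReflect h2 w₂ (hn2.trans_ne hcc))).1.1 *ᵥ b i at e1
      rw [isometry_mul_apply, isometry_mul_apply, isometry_mul_apply, isometry_mul_apply, hg, hg] at e1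
      simp only [oddReflect_apply, hLb, map_sub, map_smul, LinearMap.sub_apply, LinearMap.smul_apply, ← hB, hn1, hn2,
        smul_eq_mul] at e1
      simp only [w₁, w₂, map_add, map_smul, LinearMap.add_apply, LinearMap.smul_apply, hb, if_pos, if_neg hij,
        if_neg hk1.symm, if_neg hl1.symm, smul_eq_mul, mul_zero, add_zero, zero_smul, sub_zero, hLb] at e1
      have e2 := congrArg (fun z => B z (b j)) e1
      simp [hb, hij] at e2
      refine hne ?_
      field_simp at e2
      exact (div_left_inj' (by rw [one_add_one_eq_two]; exact h2)).mp e2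
    have hχinj : ∀ z z' : ZMod 2, χ z = χ z' → z = z' := by
      have h01 : ∀ z : ZMod 2, z = 0 ∨ z = 1 := by decide
      have hne : (1 : F) ≠ -1 := fun h => h2 (by linear_combination h)
      intro z z' h
      rcases h01 z with rfl | rfl <;> rcases h01 z' with rfl | rfl <;> simp [χ, hne, hne.symm] at h ⊢
    have heq : ∀ i : κ, a.toAdd i = ∑ j, a.toAdd j := fun i => hχinj _ _ (hall (.inl i) (.inr ()))
    have hsum : ∑ j, a.toAdd j = 0 := by
      rw [Finset.sum_congr rfl fun j _ => heq j, Finset.sum_const, Finset.card_univ]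
      simp [κ, mul_comm m 2, mul_smul, CharTwo.two_eq_zero]
    exact Multiplicative.toAdd.injective (funext fun i => (heq i).trans hsum)
  refine ⟨η'.range, ?_, ?_⟩
  · rintro _ ⟨a, rfl⟩
    rw [← map_mul, show a * a = 1 from Multiplicative.toAdd.injective (funext fun i => CharTwo.add_self_eq_zero _),
      map_one]
  · rw [← Nat.card_congr (MonoidHom.ofInjective hinj).toEquiv, Nat.card_congr Multiplicative.toAdd, Nat.card_fun,
      Nat.card_zmod, Nat.card_prod, Nat.card_fin, Nat.card_eq_fintype_card, Fintype.card_bool, mul_comm, pow_mul]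
    norm_num

theorem isEmpty_PSp_POmega [Fintype F] (hodd : Odd (Fintype.card F)) {m : ℕ} (hm : 3 ≤ m) :
    IsEmpty (Cfsg.PSp m F ≃* Cfsg.POmega F (Cfsg.quadFormOdd m F)) := by
  have h2 : (2 : F) ≠ 0 := Ring.two_ne_zero fun h => by
    have := FiniteField.even_card_of_char_two h
    rw [Nat.odd_iff] at hodd
    omega
  refine ⟨fun φ => ?_⟩
  obtain ⟨E, hE, hcard⟩ := exists_elementary h2 hm
  let ψ := φ.symm.trans (centerQuotCongr (sympEquiv m F))
  have h := card_elementary_lt h2 (sympBilin_isAlt m F) (sympBilin_nondegenerate m F) hm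
    (by rw [finrank_sympSpace]) (E.map ψ.toMonoidHom) (by
      rintro _ ⟨x, hx, rfl⟩
      rw [← map_mul, hE x hx, map_one])
  rw [← Nat.card_congr (Subgroup.equivMapOfInjective E ψ.toMonoidHom ψ.injective).toEquiv, hcard] at h
  exact lt_irrefl _ h

end Cfsg.Lib.Classical
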