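import Mathlib
import Cfsg.Agent.Classical.Orth.FamilyOvergroups
import Cfsg.Agent.Classical.Orth.OmegaTwoRank

/-! Over the field with three elements some orthogonal decompositions refine into orthogonal frames. -/

set_option autoImplicit false
set_option linter.unusedSimpArgs false
set_option linter.style.haveILetI false

namespace Cfsg.Lib.Classical.Refl

open Matrix
open scoped commutatorElement

universe u

variable {F : Type u} [Field F] {ι : Type} [Fintype ι] [DecidableEq ι] (Q : QuadraticForm F (ι → F))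
  (hQ : (QuadraticMap.polarBilin Q).Nondegenerate)

theorem card_three_facts [Fintype F] (hq : Fintype.card F = 3) :
    (2 : F) ≠ 0 ∧ (3 : F) = 0 ∧ ∀ a : F, a = 0 ∨ a * a = 1 := by
  refine ⟨Ring.two_ne_zero fun h => ?_, ?_, fun a => ?_⟩
  · have := FiniteField.even_card_of_char_two h
    omega
  · have h : ((Fintype.card F : ℕ) : F) = 0 := Nat.cast_card_eq_zero F
    rw [hq] at h
    exact_mod_cast h
  · by_cases ha : a = 0
    · exact Or.inl ha
    · have h := FiniteField.pow_card_sub_one_eq_one a ha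
      rw [hq, pow_two] at h
      exact Or.inr h

include hQ in
theorem frame_not_maximal [Fintype F] (hq : Fintype.card F = 3) (hn : 6 ≤ Fintype.card ι) {t k : ℕ}
    (hk : k = 2 ∨ k = 3) (htk : 6 ≤ t * k) (ht : 2 ≤ t) (D : Fin t → Submodule F (ι → F))
    (v : Fin t → Fin k → (ι → F)) {c : F} (hc : c ≠ 0)
    (hv : ∀ i j i' j', (i, j) ≠ (i', j') → QuadraticMap.polar (⇑Q) (v i j) (v i' j') = 0)
    (hQv : ∀ i j, Q (v i j) = c) (hspan : ∀ i, D i = Submodule.span F (Set.range (v i))) :
    ∃ K : Subgroup (GL ι F), Cfsg.Geo.decompositionStabilizer D ⊓ Cfsg.Geo.omegaGL (⇑Q) < K ∧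
      K < Cfsg.Geo.omegaGL (⇑Q) := by
  classical
  obtain ⟨h2, h3, hsq⟩ := card_three_facts (F := F) hq
  let e : Fin (t * k) ≃ Fin t × Fin k := finProdFinEquiv.symm
  let w : Fin (t * k) → (ι → F) := fun x => v (e x).1 (e x).2
  have hQw : ∀ x, Q (w x) = c := fun x => hQv _ _
  have hw : ∀ x y, x ≠ y → QuadraticMap.polar (⇑Q) (w x) (w y) = 0 := fun x y h =>
    hv _ _ _ _ (fun h' => h (e.injective h'))
  have hself : ∀ x, QuadraticMap.polar (⇑Q) (w x) (w x) = 2 * c := fun x => by rw [polar_self_two, hQw]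
  have h2c : (2 : F) * c ≠ 0 := mul_ne_zero h2 hc
  have hw0 : ∀ x, w x ≠ 0 := fun x h => hc (by rw [← hQw x, h, QuadraticMap.map_zero])
  have hline : ∀ x y, w x ∈ Submodule.span F {w y} → x = y := fun x y h => by
    by_contra hne
    obtain ⟨a, ha⟩ := Submodule.mem_span_singleton.mp h
    have h1 := congrArg (fun z => QuadraticMap.polar (⇑Q) z (w x)) ha
    simp only [QuadraticMap.polar_smul_left, hw y x (Ne.symm hne), smul_zero, hself] at h1
    exact h2c h1.symm
  have hwD : ∀ i j, v i j ∈ D i := fun i j => by rw [hspan]; exact Submodule.subset_span ⟨j, rfl⟩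
  have huniq : ∀ i, ∀ x ∈ D i, Q x = c → ∃ j, x ∈ Submodule.span F {v i j} := by
    intro i x hx hQx
    rw [hspan, Submodule.mem_span_range_iff_exists_fun] at hx
    obtain ⟨a, ha⟩ := hx
    have hp : ∀ j j', j ≠ j' → QuadraticMap.polar (⇑Q) (v i j) (v i j') = 0 := fun j j' h =>
      hv _ _ _ _ (fun h' => h (congrArg Prod.snd h'))
    rcases hk with rfl | rfl
    · rw [Fin.sum_univ_two] at ha
      subst ha
      simp [QuadraticMap.map_add (f := Q), QuadraticMap.map_smul, hQv, hp, QuadraticMap.polar_smul_left,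
        QuadraticMap.polar_smul_right] at hQx
      rcases hsq (a 0) with h0 | h0 <;> rcases hsq (a 1) with h1 | h1
      · simp [h0, h1] at hQx; exact absurd hQx.symm hc
      · exact ⟨1, Submodule.mem_span_singleton.mpr ⟨a 1, by simp [h0]⟩⟩
      · exact ⟨0, Submodule.mem_span_singleton.mpr ⟨a 0, by simp [h1]⟩⟩
      · exfalso; rw [h0, h1] at hQx; exact hc (by linear_combination hQx)
    · rw [Fin.sum_univ_three] at ha
      subst ha
      simp [QuadraticMap.map_add (f := Q), QuadraticMap.map_smul, hQv, hp, QuadraticMap.polar_smul_left,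
        QuadraticMap.polar_smul_right, QuadraticMap.polar_add_left] at hQx
      rcases hsq (a 0) with h0 | h0 <;> rcases hsq (a 1) with h1 | h1 <;> rcases hsq (a 2) with h2' | h2'
      · simp [h0, h1, h2'] at hQx; exact absurd hQx.symm hc
      · exact ⟨2, Submodule.mem_span_singleton.mpr ⟨a 2, by simp [h0, h1]⟩⟩
      · exact ⟨1, Submodule.mem_span_singleton.mpr ⟨a 1, by simp [h0, h2']⟩⟩
      · exfalso; simp [h0, h1, h2'] at hQx; try (exact hc (by linear_combination hQx))
      · exact ⟨0, Submodule.mem_span_singleton.mpr ⟨a 0, by simp [h1, h2']⟩⟩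
      · exfalso; simp [h0, h1, h2'] at hQx; try (exact hc (by linear_combination hQx))
      · exfalso; simp [h0, h1, h2'] at hQx; try (exact hc (by linear_combination hQx))
      · exfalso; rw [h0, h1, h2'] at hQx; exact h2c (by linear_combination hQx)
  let L : Fin (t * k) → Submodule F (ι → F) := fun x => Submodule.span F {w x}
  have hmapL : ∀ (g : Matrix ι ι F) x, (L x).map (Matrix.toLin' g) = Submodule.span F {g *ᵥ w x} := fun g x => by
    rw [Submodule.map_span, Set.image_singleton, Matrix.toLin'_apply]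
  have hle : Cfsg.Geo.decompositionStabilizer D ⊓ Cfsg.Geo.omegaGL (⇑Q) ≤
      Cfsg.Geo.decompositionStabilizer L ⊓ Cfsg.Geo.omegaGL (⇑Q) := by
    rintro g ⟨⟨σ, hσ⟩, hgO⟩
    refine ⟨?_, hgO⟩
    obtain ⟨h, -, rfl⟩ := (mem_omegaGL Q g).mp hgO
    have hj : ∀ x, ∃ j, mat Q h *ᵥ w x ∈ Submodule.span F {v (σ (e x).1) j} := fun x => by
      refine huniq _ _ ?_ ?_
      · rw [← hσ]
        exact Submodule.mem_map_of_mem (f := Matrix.toLin' (mat Q h)) (hwD _ _)
      · rw [(mem_iff Q).mp h.2]; exact hQw x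
    choose f hf using hj
    let τ : Fin (t * k) → Fin (t * k) := fun x => e.symm (σ (e x).1, f x)
    have hτ : ∀ x, mat Q h *ᵥ w x ∈ L (τ x) := fun x => by
      show mat Q h *ᵥ w x ∈ Submodule.span F {w (e.symm (σ (e x).1, f x))}
      simp only [w, Equiv.apply_symm_apply]
      exact hf x
    have hinj : Function.Injective τ := by
      intro x y hxy
      by_contra hne
      obtain ⟨a, ha⟩ := Submodule.mem_span_singleton.mp (hτ x)
      obtain ⟨b, hb⟩ := Submodule.mem_span_singleton.mp (hτ y)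
      have h1 : QuadraticMap.polar (⇑Q) (mat Q h *ᵥ w x) (mat Q h *ᵥ w y) = 0 := by
        rw [polar_act, hw x y hne]
      rw [← ha, ← hb, hxy, QuadraticMap.polar_smul_left, QuadraticMap.polar_smul_right, hself, smul_eq_mul,
        smul_eq_mul] at h1
      have ha0 : a ≠ 0 := fun h0 => by
        rw [h0, zero_smul] at ha
        exact hw0 x (by rw [← mulVec_inv_cancel Q h (w x), ← ha, Matrix.mulVec_zero])
      have hb0 : b ≠ 0 := fun h0 => by
        rw [h0, zero_smul] at hb
        exact hw0 y (by rw [← mulVec_inv_cancel Q h (w y), ← hb, Matrix.mulVec_zero])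
      exact mul_ne_zero ha0 (mul_ne_zero hb0 h2c) h1
    refine ⟨Equiv.ofBijective τ (Finite.injective_iff_bijective.mp hinj), fun x => ?_⟩
    change (L x).map (Matrix.toLin' (mat Q h)) = L (τ x)
    rw [hmapL]
    obtain ⟨a, ha⟩ := Submodule.mem_span_singleton.mp (hτ x)
    rw [← ha]
    refine Submodule.span_singleton_smul_eq (IsUnit.mk0 _ fun h0 => ?_) _
    rw [h0, zero_smul] at ha
    exact hw0 x (by rw [← mulVec_inv_cancel Q h (w x), ← ha, Matrix.mulVec_zero])
  -- transpositions of the frame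
  have hQd : ∀ x y, x ≠ y → Q (w x - w y) ≠ 0 := fun x y h => by
    rw [sub_eq_add_neg, QuadraticMap.map_add (f := Q), QuadraticMap.map_neg, QuadraticMap.polar_neg_right, hQw,
      hQw, hw x y h, neg_zero, add_zero, ← two_mul]
    exact h2c
  have hswap : ∀ x y (h : x ≠ y) z, mat Q (refl Q (w x - w y) (hQd x y h)) *ᵥ w z = w (Equiv.swap x y z) := by
    intro x y h z
    change Cfsg.reflectionMatrix (⇑Q) (w x - w y) *ᵥ w z = _
    rw [mulVec_eq]
    have hQxy : Q (w x - w y) = 2 * c := by
      rw [sub_eq_add_neg, QuadraticMap.map_add (f := Q), QuadraticMap.map_neg, QuadraticMap.polar_neg_right, hQw,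
        hQw, hw x y h, neg_zero, add_zero, ← two_mul]
    rw [hQxy, QuadraticMap.polar_sub_left]
    by_cases hzx : z = x
    · subst hzx
      rw [hself, hw y z (Ne.symm h), sub_zero, inv_mul_cancel₀ h2c, one_smul, sub_sub_cancel, Equiv.swap_apply_left]
    by_cases hzy : z = y
    · subst hzy
      rw [hself, hw x z h, zero_sub, mul_neg, inv_mul_cancel₀ h2c, neg_smul, one_smul, sub_neg_eq_add,
        add_sub_cancel, Equiv.swap_apply_right]
    rw [hw x z (Ne.symm hzx), hw y z (Ne.symm hzy), sub_zero, mul_zero, zero_smul, sub_zero,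
      Equiv.swap_apply_of_ne_of_ne hzx hzy]
  have hswapK : ∀ x y (h : x ≠ y),
      ((refl Q (w x - w y) (hQd x y h) : Cfsg.isometryGroup F (⇑Q)) : GL ι F) ∈ Cfsg.Geo.decompositionStabilizer L := by
    intro x y h
    refine ⟨Equiv.swap x y, fun z => ?_⟩
    change (L z).map (Matrix.toLin' (mat Q (refl Q (w x - w y) (hQd x y h)))) = L (Equiv.swap x y z)
    rw [hmapL, hswap x y h]
  refine ⟨Cfsg.Geo.decompositionStabilizer L ⊓ Cfsg.Geo.omegaGL (⇑Q), lt_of_le_of_ne hle ?_,
    lt_of_le_of_ne inf_le_right ?_⟩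
  · intro heq
    have hk2 : 1 < k := by omega
    let i0 : Fin t := ⟨0, by omega⟩
    let i1 : Fin t := ⟨1, by omega⟩
    let a := e.symm (i0, ⟨0, by omega⟩)
    let b := e.symm (i0, ⟨1, hk2⟩)
    let d := e.symm (i1, ⟨0, by omega⟩)
    have hab : a ≠ b := fun h => by simpa [a, b, Fin.ext_iff] using h
    have hbd : b ≠ d := fun h => by simpa [b, d, i0, i1, Fin.ext_iff] using h
    have had : a ≠ d := fun h => by simpa [a, d, i0, i1, Fin.ext_iff] using h
    set r1 := refl Q (w a - w b) (hQd a b hab) with hr1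
    set r2 := refl Q (w b - w d) (hQd b d hbd) with hr2
    set T := ⁅r1, r2⁆ with hT
    have hTK : (T : GL ι F) ∈ Cfsg.Geo.decompositionStabilizer L ⊓ Cfsg.Geo.omegaGL (⇑Q) := by
      refine ⟨?_, (mem_omegaGL Q _).mpr
        ⟨T, Subgroup.commutator_mem_commutator (Subgroup.mem_top _) (Subgroup.mem_top _), rfl⟩⟩
      rw [hT, commutatorElement_def, Subgroup.coe_mul, Subgroup.coe_mul, Subgroup.coe_mul, Subgroup.coe_inv,
        Subgroup.coe_inv]
      exact Subgroup.mul_mem _ (Subgroup.mul_mem _ (Subgroup.mul_mem _ (hswapK a b hab) (hswapK b d hbd))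
        (Subgroup.inv_mem _ (hswapK a b hab))) (Subgroup.inv_mem _ (hswapK b d hbd))
    have i1e : r1⁻¹ = r1 := inv_eq_of_mul_eq_one_left (refl_mul_self Q _ _)
    have i2e : r2⁻¹ = r2 := inv_eq_of_mul_eq_one_left (refl_mul_self Q _ _)
    have hact : ∀ z, mat Q T *ᵥ w z =
        w (Equiv.swap a b (Equiv.swap b d (Equiv.swap a b (Equiv.swap b d z)))) := by
      intro z
      rw [hT, commutatorElement_def, i1e, i2e, mat, mulVec_mul, mulVec_mul, mulVec_mul]
      change mat Q r1 *ᵥ (mat Q r2 *ᵥ (mat Q r1 *ᵥ (mat Q r2 *ᵥ w z))) = _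
      rw [hr1, hr2, hswap b d hbd, hswap a b hab, hswap b d hbd, hswap a b hab]
    rw [← heq] at hTK
    obtain ⟨σ, hσ⟩ := hTK.1
    have hTa : mat Q T *ᵥ w a = w d := by
      rw [hact]
      simp [Equiv.swap_apply_def, hab, hab.symm, hbd, hbd.symm, had, had.symm]
    have hTb : mat Q T *ᵥ w b = w a := by
      rw [hact]
      simp [Equiv.swap_apply_def, hab, hab.symm, hbd, hbd.symm, had, had.symm]
    have hblock : ∀ x y, mat Q T *ᵥ w x = w y → (e y).1 = σ (e x).1 := by
      intro x y hxy
      by_contra hne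
      have hmem : w y ∈ D (σ (e x).1) := by
        rw [← hσ, ← hxy]
        exact Submodule.mem_map_of_mem (f := Matrix.toLin' (mat Q T)) (hwD _ _)
      have hperp : QuadraticMap.polar (⇑Q) (w y) (w y) = 0 := by
        rw [hspan, Submodule.mem_span_range_iff_exists_fun] at hmem
        obtain ⟨α, hα⟩ := hmem
        conv_lhs => arg 2; rw [← hα]
        rw [← QuadraticMap.polarBilin_apply_apply, LinearMap.map_sum₂]
        refine Finset.sum_eq_zero fun j _ => ?_
        rw [map_smul, LinearMap.smul_apply, QuadraticMap.polarBilin_apply_apply,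
          show QuadraticMap.polar (⇑Q) (v (σ (e x).1) j) (w y) = 0 from
            hv _ _ _ _ (fun h' => hne (congrArg Prod.fst h').symm), smul_zero]
      rw [hself] at hperp
      exact h2c hperp
    have h1 := hblock a d hTa
    have h2' := hblock b a hTb
    simp [a, b, d, i0, i1] at h1 h2'
    rw [← h2'] at h1
    simp [Fin.ext_iff] at h1
  · intro heq
    let p : Fin 6 → Fin (t * k) := fun i => ⟨i.1, by omega⟩
    have hp : ∀ i j : Fin 6, i ≠ j → p i ≠ p j := fun i j h h' => h (Fin.ext (congrArg Fin.val h' :))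
    have hz : ∀ i j l : Fin 6, i ≠ j → i ≠ l → j ≠ l → Q (w (p i) + w (p j) + w (p l)) = 0 := by
      intro i j l hij hil hjl
      rw [QuadraticMap.map_add (f := Q), QuadraticMap.map_add (f := Q), QuadraticMap.polar_add_left, hQw, hQw, hQw,
        hw _ _ (hp i j hij), hw _ _ (hp i l hil), hw _ _ (hp j l hjl)]
      linear_combination c * h3
    set u := w (p 0) + w (p 1) + w (p 2) with hu
    set z := w (p 3) + w (p 4) + w (p 5) with hzdef
    have hQu : Q u = 0 := hz 0 1 2 (by decide) (by decide) (by decide)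
    have hQz : Q z = 0 := hz 3 4 5 (by decide) (by decide) (by decide)
    have huz : QuadraticMap.polar (⇑Q) u z = 0 := by
      simp only [hu, hzdef, QuadraticMap.polar_add_left, QuadraticMap.polar_add_right]
      simp [hw _ _ (hp 0 3 (by decide)), hw _ _ (hp 0 4 (by decide)), hw _ _ (hp 0 5 (by decide)),
        hw _ _ (hp 1 3 (by decide)), hw _ _ (hp 1 4 (by decide)), hw _ _ (hp 1 5 (by decide)),
        hw _ _ (hp 2 3 (by decide)), hw _ _ (hp 2 4 (by decide)), hw _ _ (hp 2 5 (by decide))]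
    have hu0 : QuadraticMap.polar (⇑Q) u (w (p 0)) = 2 * c := by
      simp [hu, QuadraticMap.polar_add_left, hself, hw _ _ (hp 1 0 (by decide)), hw _ _ (hp 2 0 (by decide))]
    have hz0 : QuadraticMap.polar (⇑Q) z (w (p 0)) = 0 := by
      simp [hzdef, QuadraticMap.polar_add_left, hw _ _ (hp 3 0 (by decide)), hw _ _ (hp 4 0 (by decide)),
        hw _ _ (hp 5 0 (by decide))]
    set s := siegelG Q hQu huz
    have hsK : (s : GL ι F) ∈ Cfsg.Geo.decompositionStabilizer L ⊓ Cfsg.Geo.omegaGL (⇑Q) :=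
      heq.symm ▸ (mem_omegaGL Q _).mpr ⟨s, siegelG_mem_omega Q hQ (by omega) hQu huz, rfl⟩
    obtain ⟨σ, hσ⟩ := hsK.1
    have hmem : mat Q s *ᵥ w (p 0) ∈ L (σ (p 0)) := by
      rw [← hσ]
      exact Submodule.mem_map_of_mem (f := Matrix.toLin' (mat Q s)) (Submodule.mem_span_singleton_self _)
    rw [mat_siegelG, siegelMap, hu0, hz0, hQz] at hmem
    simp only [neg_zero, zero_mul, sub_zero, zero_smul, add_zero] at hmem
    obtain ⟨α, hα⟩ := Submodule.mem_span_singleton.mp hmem
    have e0 := congrArg (fun x => QuadraticMap.polar (⇑Q) x (w (p 0))) hα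
    have e3 := congrArg (fun x => QuadraticMap.polar (⇑Q) x (w (p 3))) hα
    simp [hzdef, QuadraticMap.polar_add_left, QuadraticMap.polar_smul_left, hself, hw _ _ (hp 0 3 (by decide)),
      hw _ _ (hp 4 3 (by decide)), hw _ _ (hp 5 3 (by decide)), hw _ _ (hp 3 0 (by decide)),
      hw _ _ (hp 4 0 (by decide)), hw _ _ (hp 5 0 (by decide))] at e0 e3
    by_cases h0 : σ (p 0) = p 0
    · rw [h0, hw _ _ (hp 0 3 (by decide)), mul_zero] at e3
      exact mul_ne_zero h2c h2c e3.symm
    · rw [hw _ _ h0, mul_zero] at e0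
      exact h2c e0.symm

theorem orth_span {k : ℕ} {D0 : Submodule F (ι → F)} (hd : Module.finrank F D0 = k) (b : Fin k → (ι → F))
    (hb : ∀ j, b j ∈ D0) {c : F} (h2 : (2 : F) * c ≠ 0)
    (hbb : ∀ j j', QuadraticMap.polar (⇑Q) (b j) (b j') = if j = j' then 2 * c else 0) :
    D0 = Submodule.span F (Set.range b) := by
  classical
  have hli : LinearIndependent F b := by
    rw [Fintype.linearIndependent_iff]
    intro a ha j
    have h := congrArg (fun z => QuadraticMap.polarBilin Q z (b j)) ha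
    simp only [map_sum, map_smul, LinearMap.coe_sum, Finset.sum_apply, LinearMap.smul_apply,
      QuadraticMap.polarBilin_apply_apply, hbb, smul_eq_mul, mul_ite, mul_zero, Finset.sum_ite_eq', Finset.mem_univ,
      if_true, map_zero, LinearMap.zero_apply] at h
    exact (mul_eq_zero.mp h).resolve_right h2
  refine (Submodule.eq_of_le_of_finrank_le (Submodule.span_le.mpr (Set.range_subset_iff.mpr hb)) ?_).symm
  rw [finrank_span_eq_card hli, Fintype.card_fin, hd]

theorem exists_frame [Fintype F] (hq : Fintype.card F = 3) {k : ℕ} (D0 : Submodule F (ι → F))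
    (hd : Module.finrank F D0 = k) (hnd : Cfsg.Geo.IsNondegenerateOn (QuadraticMap.polar (⇑Q)) D0)
    (hk : k = 3 ∨ (k = 2 ∧ ¬ Cfsg.Geo.IsPlusTypeOn (⇑Q) D0)) :
    ∃ (b : Fin k → (ι → F)) (c : F), c ≠ 0 ∧ (∀ j, b j ∈ D0) ∧
      ∀ j j', QuadraticMap.polar (⇑Q) (b j) (b j') = if j = j' then 2 * c else 0 := by
  classical
  obtain ⟨h2, h3, hsq⟩ := card_three_facts (F := F) hq
  rcases hk with rfl | ⟨rfl, hminus⟩
  · let B : LinearMap.BilinForm F D0 := LinearMap.BilinForm.restrict (QuadraticMap.polarBilin Q) D0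
    have hS : B.IsSymm := ⟨fun x y => QuadraticMap.polar_comm _ _ _⟩
    have hB : B.Nondegenerate := by
      refine ⟨fun x hx => ?_, fun x hx => ?_⟩
      · by_contra h0
        obtain ⟨-, y, hy, hxy⟩ := hnd x.1 x.2 (fun h => h0 (Subtype.ext h))
        exact hxy (hx ⟨y, hy⟩)
      · by_contra h0
        obtain ⟨⟨y, hy, hxy⟩, -⟩ := hnd x.1 x.2 (fun h => h0 (Subtype.ext h))
        exact hxy (hx ⟨y, hy⟩)
    obtain ⟨c, b, hc, hb⟩ := exists_equal_norm_basis h2 B hS hB (m := 1) (by rw [hd])
    let e : Fin 3 ≃ (Fin 1 × Bool) ⊕ Unit := Fintype.equivOfCardEq (by simp)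
    refine ⟨fun j => (b (e j) : ι → F), c / 2, div_ne_zero hc h2, fun j => Subtype.mem _, fun j j' => ?_⟩
    have h := hb (e j) (e j')
    simp only [EmbeddingLike.apply_eq_iff_eq] at h
    rw [mul_div_cancel₀ c h2]
    exact h
  · obtain ⟨x, hx, hx0⟩ := D0.exists_mem_ne_zero_of_ne_bot (fun h => by rw [h, finrank_bot] at hd; omega)
    have haniso : ∀ w ∈ D0, w ≠ 0 → Q w ≠ 0 := by
      intro w hw hw0 hQw
      refine hminus ⟨Submodule.span F {w}, (Submodule.span_singleton_le_iff_mem w D0).mpr hw, ?_, ?_⟩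
      · intro z hz
        obtain ⟨a, rfl⟩ := Submodule.mem_span_singleton.mp hz
        rw [QuadraticMap.map_smul, hQw, smul_zero]
      · rw [finrank_span_singleton hw0, hd]
    have hQx := haniso x hx hx0
    obtain ⟨w, hw, hwx⟩ : ∃ w ∈ D0, w ∉ Submodule.span F {x} := by
      by_contra h
      push Not at h
      have h1 := Submodule.finrank_mono (show D0 ≤ Submodule.span F {x} from h)
      rw [hd, finrank_span_singleton hx0] at h1
      omega
    set y := w - ((2 * Q x)⁻¹ * QuadraticMap.polar (⇑Q) x w) • x with hy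
    have hxy : QuadraticMap.polar (⇑Q) x y = 0 := by
      rw [hy, QuadraticMap.polar_sub_right, QuadraticMap.polar_smul_right, polar_self_two, smul_eq_mul]
      field_simp
      ring
    have hy0 : y ≠ 0 := fun h => hwx (by
      rw [sub_eq_zero] at h
      exact h ▸ Submodule.smul_mem _ _ (Submodule.mem_span_singleton_self x))
    have hyD : y ∈ D0 := sub_mem hw (D0.smul_mem _ hx)
    have hQy := haniso y hyD hy0
    have hxy0 : x + y ≠ 0 := fun h => by
      have h' := congrArg (QuadraticMap.polar (⇑Q) x) h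
      rw [QuadraticMap.polar_add_right, polar_self_two, hxy, add_zero, QuadraticMap.polar_zero_right] at h'
      exact mul_ne_zero h2 hQx h'
    have hne := haniso (x + y) (add_mem hx hyD) hxy0
    rw [QuadraticMap.map_add (f := Q), hxy, add_zero] at hne
    have heq : Q y = Q x := by
      rcases hsq (Q x) with h | h
      · exact absurd h hQx
      rcases hsq (Q y) with h' | h'
      · exact absurd h' hQy
      have h'' : (Q y - Q x) * (Q y + Q x) = 0 := by linear_combination h' - h
      rcases mul_eq_zero.mp h'' with e | e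
      · exact sub_eq_zero.mp e
      · exact absurd (by rw [add_comm]; exact e) hne
    refine ⟨![x, y], Q x, hQx, fun j => ?_, fun j j' => ?_⟩
    · fin_cases j
      exacts [hx, hyD]
    · fin_cases j <;> fin_cases j' <;> simp [polar_self_two, hxy, heq, QuadraticMap.polar_comm (⇑Q) y x]

include hQ in
theorem decomposition_not_maximal [Fintype F] (hq : Fintype.card F = 3) (hn : 13 ≤ Fintype.card ι) {t k : ℕ}
    (D : Fin t → Submodule F (ι → F)) (hD : Cfsg.Geo.IsOrthogonalMDecomposition (⇑Q) k D)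
    (hk : k = 3 ∨ (k = 2 ∧ ∀ i, ¬ Cfsg.Geo.IsPlusTypeOn (⇑Q) (D i))) :
    ∃ K : Subgroup (GL ι F), Cfsg.Geo.decompositionStabilizer D ⊓ Cfsg.Geo.omegaGL (⇑Q) < K ∧
      K < Cfsg.Geo.omegaGL (⇑Q) := by
  classical
  obtain ⟨h2, -, -⟩ := card_three_facts (F := F) hq
  have hd := hD.decomp.decomp
  have hsum : Fintype.card ι ≤ t * k := by
    have h1 : ∀ s : Finset (Fin t), Module.finrank F ↥(s.sup D) ≤ ∑ i ∈ s, Module.finrank F ↥(D i) := by
      intro s
      induction s using Finset.induction_on with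
      | empty => simp
      | insert i s hi ih =>
        rw [Finset.sup_insert, Finset.sum_insert hi]
        have := Submodule.finrank_sup_add_finrank_inf_eq (D i) (s.sup D)
        omega
    have h := h1 Finset.univ
    rw [Finset.sup_univ_eq_iSup, hd.iSup_eq_top, finrank_top, Module.finrank_fintype_fun_eq_card] at h
    simpa [hd.finrank_eq] using h
  have ht := hd.two_le
  obtain ⟨b, c, hc, hb, hbb⟩ := exists_frame Q hq (D ⟨0, by omega⟩) (hd.finrank_eq _) (hD.decomp.nondegenerate _)
    (hk.imp id fun h => ⟨h.1, h.2 _⟩)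
  have hpol : ∀ i, ∃ v : Fin k → (ι → F), (∀ j, v j ∈ D i) ∧
      ∀ j j', QuadraticMap.polar (⇑Q) (v j) (v j') = if j = j' then 2 * c else 0 := by
    intro i
    obtain ⟨e, he⟩ := hD.isometric ⟨0, by omega⟩ i
    refine ⟨fun j => (e ⟨b j, hb j⟩ : ι → F), fun j => Subtype.mem _, fun j j' => ?_⟩
    rw [← hbb j j']
    simp only [QuadraticMap.polar, ← Submodule.coe_add, ← map_add, he]
    rfl
  choose v hvD hvv using hpol
  refine frame_not_maximal Q hQ hq (by omega) (hk.elim Or.inr fun h => Or.inl h.1) (by omega) ht D v hc ?_ ?_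
    fun i => orth_span Q (hd.finrank_eq i) (v i) (hvD i) (mul_ne_zero h2 hc) (hvv i)
  · intro i j i' j' h
    by_cases hi : i = i'
    · subst hi
      rw [hvv, if_neg fun h' => h (by rw [h'])]
    · exact hD.decomp.orthogonal i i' hi _ (hvD i j) _ (hvD i' j')
  · intro i j
    have h := hvv i j j
    rw [if_pos rfl, polar_self_two] at h
    exact mul_left_cancel₀ h2 h

end Cfsg.Lib.Classical.Refl
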