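import Mathlib
import Cfsg.Agent.Classical.Orth.Orders
import Cfsg.Agent.Classical.Misc.NegOne

/-! The discriminant of the standard forms, and their inequivalence. -/

set_option autoImplicit false
set_option linter.style.haveILetI false

namespace Cfsg.Lib.Classical.Refl

open Matrix

universe u v

variable {F : Type u} [Field F]

theorem gram_square_iff [Fintype F] [DecidableEq F] {ι : Type} [Fintype ι] [DecidableEq ι]
    (Q : QuadraticForm F (ι → F)) (h2 : (2 : F) ≠ 0) (hQ : (QuadraticMap.polarBilin Q).Nondegenerate)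
    (hn : 2 ≤ Fintype.card ι) (heven : Even (Fintype.card ι)) {κ : Type v} [Fintype κ] [DecidableEq κ]
    (b : Module.Basis κ F (ι → F)) :
    IsSquare (Matrix.of (fun i j : κ => QuadraticMap.polar (⇑Q) (b i) (b j))).det ↔
      ∃ g : Cfsg.isometryGroup F (⇑Q), g ∈ Cfsg.Omega F (⇑Q) ∧ mat Q g = -1 := by
  haveI : Invertible (2 : F) := invertibleOfNonzero h2
  obtain ⟨e, he⟩ := LinearMap.BilinForm.exists_orthogonal_basis (B := QuadraticMap.polarBilin Q)
    ⟨fun x y => QuadraticMap.polar_comm (⇑Q) x y⟩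
  have hne : ∀ i, Q (e i) ≠ 0 := by
    intro i h0
    refine e.ne_zero i (hQ.1 (e i) fun y => ?_)
    rw [← e.sum_repr y, map_sum]
    refine Finset.sum_eq_zero fun j _ => ?_
    rw [map_smul]
    change _ • QuadraticMap.polar (⇑Q) (e i) (e j) = 0
    by_cases hij : i = j
    · subst hij; rw [QuadraticMap.polar_self, h0, smul_zero, smul_zero]
    · rw [show QuadraticMap.polar (⇑Q) (e i) (e j) = 0 from he hij, smul_zero]
  rw [neg_one_omega_iff Q h2 hQ hn heven (fun i => e i) hne (fun i j h => he h)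
    (by rw [Fintype.card_fin, Module.finrank_fintype_fun_eq_card])]
  let eκ := e.indexEquiv b
  let e' := e.reindex eκ
  let B : LinearMap.BilinForm F (ι → F) := QuadraticMap.polarBilin Q
  have h1 : Matrix.of (fun i j : κ => QuadraticMap.polar (⇑Q) (b i) (b j)) = LinearMap.BilinForm.toMatrix b B := by
    ext i j; simp [B]
  have hdiag : (LinearMap.BilinForm.toMatrix e' B).det =
      ∏ i : Fin (Module.finrank F (ι → F)), 2 * Q (e i) := by
    rw [show LinearMap.BilinForm.toMatrix e' B = Matrix.diagonal (fun i : κ => 2 * Q (e' i)) from ?_,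
      Matrix.det_diagonal]
    · exact (Fintype.prod_equiv eκ _ _ fun i => by simp [e']).symm
    · ext i j
      rw [LinearMap.BilinForm.toMatrix_apply, Matrix.diagonal_apply]
      change QuadraticMap.polar (⇑Q) (e' i) (e' j) = _
      split_ifs with h
      · subst h; rw [polar_self_two]
      · simp only [e', Module.Basis.reindex_apply]
        exact he (fun h' => h (eκ.symm.injective h'))
  have h3 := congrArg Matrix.det (LinearMap.BilinForm.toMatrix_mul_basis_toMatrix e' (B := B) b)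
  rw [Matrix.det_mul, Matrix.det_mul, Matrix.det_transpose, hdiag] at h3
  rw [h1, ← h3, Finset.prod_mul_distrib, Finset.prod_const, Finset.card_univ, Fintype.card_fin,
    show (2 : F) ^ Module.finrank F (ι → F) = 2 ^ Fintype.card ι by rw [Module.finrank_fintype_fun_eq_card]]
  set d := (e'.toMatrix ⇑b).det
  have hd : d ≠ 0 := by
    have := congrArg Matrix.det (Module.Basis.toMatrix_mul_toMatrix_flip e' b)
    rw [Matrix.det_mul, Matrix.det_one] at this
    exact left_ne_zero_of_mul (this ▸ one_ne_zero)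
  obtain ⟨r, hr⟩ := heven
  have hP : (∏ i, Q (e i)) ≠ 0 := Finset.prod_ne_zero_iff.mpr fun i _ => hne i
  rw [← quadraticChar_one_iff_isSquare (mul_ne_zero (mul_ne_zero hd (mul_ne_zero (pow_ne_zero _ h2) hP)) hd),
    show d * (2 ^ Fintype.card ι * ∏ i, Q (e i)) * d = (d * 2 ^ r) ^ 2 * ∏ i, Q (e i) by rw [hr]; ring,
    map_mul, quadraticChar_sq_one' (mul_ne_zero hd (pow_ne_zero _ h2)), one_mul]

theorem half_mul_parity {q : ℕ} (hq : Odd q) (m : ℕ) : Even (m * (q - 1) / 2) ↔ q ^ m % 4 = 1 := by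
  have hodd := Nat.odd_iff.mp hq
  rw [Nat.mul_div_assoc m (show 2 ∣ q - 1 by omega), Nat.even_mul]
  rcases (by omega : q % 4 = 1 ∨ q % 4 = 3) with h | h
  · have : Even ((q - 1) / 2) := Nat.even_iff.mpr (by omega)
    simp [Nat.pow_mod, h, this]
  · have hh : ¬ Even ((q - 1) / 2) := by rw [Nat.even_iff]; omega
    rcases Nat.even_or_odd m with ⟨k, rfl⟩ | ⟨k, rfl⟩
    · simp [Nat.pow_mod, h, ← two_mul, pow_mul]
    · have hm : ¬ Even (2 * k + 1) := by simp [parity_simps]
      simp [Nat.pow_mod, Nat.mul_mod, h, hh, hm, pow_succ, pow_mul]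

theorem disc_plus [Fintype F] {q : ℕ} (hF : Fintype.card F = q) (hq : Odd q) {m : ℕ} (hm : 1 ≤ m)
    {κ : Type v} [Fintype κ] [DecidableEq κ] (b : Module.Basis κ F (Fin m ⊕ Fin m → F)) :
    IsSquare (Matrix.of (fun i j : κ => QuadraticMap.polar (Cfsg.quadFormPlus m F) (b i) (b j))).det ↔
      Even (m * (q - 1) / 2) := by
  classical
  have h := gram_square_iff (HypQuad.plusForm m F) (two_ne_zero_of_odd (by rw [hF]; exact hq))
    (HypQuad.plusForm_nondegenerate m) (by simp; omega) (by simp) b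
  have hf : ⇑(HypQuad.plusForm m F) = Cfsg.quadFormPlus m F := funext (HypQuad.plusForm_apply m)
  simp only [mat] at h
  rw [hf] at h
  rw [h, half_mul_parity hq]
  exact neg_one_omega_plus hF hq m hm

theorem disc_minus [Fintype F] {q : ℕ} (hF : Fintype.card F = q) (hq : Odd q) (k : ℕ) (a c : F)
    (hac : ∀ z₁ z₂ : F, z₁ ^ 2 + a * z₁ * z₂ + c * z₂ ^ 2 = 0 → z₁ = 0 ∧ z₂ = 0)
    {κ : Type v} [Fintype κ] [DecidableEq κ] (b : Module.Basis κ F ((Fin k ⊕ Fin k) ⊕ Fin 2 → F)) :
    IsSquare (Matrix.of (fun i j : κ => QuadraticMap.polar (Cfsg.quadFormMinus k F a c) (b i) (b j))).det ↔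
      ¬ Even ((k + 1) * (q - 1) / 2) := by
  classical
  have h := gram_square_iff (minusForm k F a c) (two_ne_zero_of_odd (by rw [hF]; exact hq))
    (minusForm_nondegenerate' k hac) (by simp) (by simp [parity_simps]) b
  simp only [mat] at h
  rw [minusForm_coe] at h
  rw [h, half_mul_parity hq]
  refine (neg_one_omega_minus hF hq k a c hac).trans ?_
  rcases pow_mod_four hq (k + 1) with e | e <;> omega

theorem forms_inequivalent [Finite F] {m : ℕ} (hm : 1 ≤ m) (ζ : F) (hζ : ∀ t : F, t ^ 2 + t + ζ ≠ 0)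
    (g : (Fin m ⊕ Fin m → F) ≃ₗ[F] ((Fin (m - 1) ⊕ Fin (m - 1)) ⊕ Fin 2 → F)) :
    ¬ (∀ v : Fin m ⊕ Fin m → F, Cfsg.quadFormMinus (m - 1) F 1 ζ (g v) = Cfsg.quadFormPlus m F v) := by
  intro h
  have hab : ∀ z₁ z₂ : F, z₁ ^ 2 + 1 * z₁ * z₂ + ζ * z₂ ^ 2 = 0 → z₁ = 0 ∧ z₂ = 0 := by
    intro z₁ z₂ hz
    by_cases h2 : z₂ = 0
    · subst h2; exact ⟨by simpa using hz, rfl⟩
    · exfalso
      refine hζ (z₁ / z₂) ?_
      field_simp
      linear_combination hz
  have e : Nat.card {v : Fin m ⊕ Fin m → F // Cfsg.quadFormPlus m F v = 0} =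
      Nat.card {v : (Fin (m - 1) ⊕ Fin (m - 1)) ⊕ Fin 2 → F // Cfsg.quadFormMinus (m - 1) F 1 ζ v = 0} :=
    Nat.card_congr (g.toEquiv.subtypeEquiv fun v => by rw [← h v]; rfl)
  rw [OrthCard.count_plus m hm, OrthCard.count_minus m hm hab] at e
  obtain ⟨k, rfl⟩ : ∃ k, m = k + 1 := ⟨m - 1, by omega⟩
  have hq : 2 ≤ Nat.card F := Finite.one_lt_card
  have h1 : 2 * Nat.card F ^ k ≤ Nat.card F ^ (k + 1) := by rw [pow_succ']; gcongr
  have h3 : Nat.card F ^ (k + 1) ≤ Nat.card F ^ (2 * (k + 1) - 1) := Nat.pow_le_pow_right (by omega) (by omega)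
  have h4 : 1 ≤ Nat.card F ^ k := Nat.one_le_pow _ _ (by omega)
  rw [Nat.add_sub_cancel] at e
  omega

end Cfsg.Lib.Classical.Refl
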