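import Cfsg.Agent.Classical.Orth.NondegMax
import Cfsg.Agent.Classical.Orth.StdForms
import Cfsg.Agent.Classical.Orth.FamilyOvergroups
import Mathlib

/-!
# Members of the geometric lists in small even dimension
-/

set_option autoImplicit false
set_option linter.unusedVariables false
open Cfsg

namespace Cfsg.Lib.Classical.Refl

/-- Two orthogonal, non-isometric non-degenerate halves. -/
theorem pairNonIso_maximal {F : Type*} [Field F] [Fintype F] {n : ℕ} (hn : 9 ≤ n) (Q : (Fin n → F) → F)
    (hQ : Cfsg.Geo.IsNondegenerateQuadraticForm Q) (k : ℕ) (hk : 2 * k = n)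
    (D : Fin 2 → Submodule F (Fin n → F)) (hD : Cfsg.Geo.IsNondegenerateMDecomposition (QuadraticMap.polar Q) k D)
    (hni : ¬ Cfsg.Geo.AreIsometricFor Q (D 0) (D 1)) :
    Cfsg.Geo.IsMaximalIn (Cfsg.Geo.omegaGL Q) (Cfsg.Geo.decompositionStabilizer D ⊓ Cfsg.Geo.omegaGL Q) := by
  classical
  obtain ⟨P, rfl, hP⟩ := Cfsg.Lib.Classical.Refl.exists_form hQ
  have hperp : Cfsg.Lib.Classical.HypQuad.perp P (D 0) = D 1 := by
    have hle : D 1 ≤ Cfsg.Lib.Classical.HypQuad.perp P (D 0) := fun y hy =>
      (Cfsg.Lib.Classical.HypQuad.mem_perp P).mpr fun x hx => hD.orthogonal 0 1 (by decide) x hx y hy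
    obtain ⟨hc, -⟩ := Cfsg.Lib.Classical.Refl.nondeg_perp P hP (hD.nondegenerate 0)
    have h := Submodule.finrank_add_eq_of_isCompl hc
    rw [Module.finrank_fin_fun, hD.decomp.finrank_eq] at h
    exact (Submodule.eq_of_le_of_finrank_le hle (by rw [hD.decomp.finrank_eq]; omega)).symm
  have hnomap : ∀ g : Cfsg.isometryGroup F (⇑P),
      (D 0).map (Matrix.toLin' (Cfsg.Lib.Classical.Refl.mat P g)) ≠ D 1 := by
    intro g hg
    let e : (Fin n → F) ≃ₗ[F] (Fin n → F) :=
      Matrix.toLinearEquiv' (Cfsg.Lib.Classical.Refl.mat P g) (g : GL (Fin n) F).invertible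
    refine hni ⟨(e.submoduleMap (D 0)).trans (LinearEquiv.ofEq _ _ hg), fun w => ?_⟩
    exact (Cfsg.Lib.Classical.Refl.mem_iff P).mp g.2 w
  have heq : Cfsg.Geo.decompositionStabilizer D ⊓ Cfsg.Geo.omegaGL (⇑P) =
      Cfsg.Geo.subspaceStabilizer (D 0) ⊓ Cfsg.Geo.omegaGL (⇑P) := by
    ext x
    constructor
    · rintro ⟨⟨σ, hσ⟩, hO⟩
      refine ⟨(Cfsg.Lib.Classical.Refl.mem_subspaceStabilizer_iff _ _).mpr ?_, hO⟩
      obtain ⟨g, -, rfl⟩ := (Cfsg.Lib.Classical.Refl.mem_omegaGL P x).mp hO
      have h0 : σ 0 = 0 := by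
        by_contra h
        exact hnomap g ((hσ 0).trans (congrArg D (Fin.eq_one_of_ne_zero _ h)))
      rw [hσ 0, h0]
    · intro hx
      have h1 := hperp ▸ (Cfsg.Lib.Classical.Refl.stabilizer_perp P hP (D 0)).symm ▸ hx
      refine ⟨⟨1, fun i => ?_⟩, hx.2⟩
      fin_cases i
      · exact (Cfsg.Lib.Classical.Refl.mem_subspaceStabilizer_iff _ _).mp hx.1
      · exact (Cfsg.Lib.Classical.Refl.mem_subspaceStabilizer_iff _ _).mp h1.1
  rw [heq]
  have hd : Module.finrank F (D 0) = k := hD.decomp.finrank_eq 0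
  refine Cfsg.Lib.Classical.Refl.nondeg_maximal P hP (by rw [Fintype.card_fin]; omega) (hD.nondegenerate 0)
    (fun h => by rw [h, finrank_bot] at hd; omega)
    (fun h => by rw [h, finrank_top, Module.finrank_fin_fun] at hd; omega)
    (fun _ g => by rw [hperp]; exact hnomap g) ?_
  rintro X (rfl | rfl) ⟨-, h2, -⟩
  · omega
  · rw [hperp, hD.decomp.finrank_eq] at h2; omega

/-- An orthogonal sum of subspaces of plus type is of plus type. -/
theorem plus_of_all_plus {F : Type*} [Field F] {n t k : ℕ} (P : QuadraticForm F (Fin n → F))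
    (D : Fin t → Submodule F (Fin n → F)) (hD : Cfsg.Geo.IsOrthogonalMDecomposition (⇑P) k D)
    (hp : ∀ i, Cfsg.Geo.IsPlusTypeOn (⇑P) (D i)) : Cfsg.Geo.IsPlusTypeOn (⇑P) ⊤ := by
  classical
  choose U hU hts hd using hp
  have horth : ∀ i j, i ≠ j → ∀ v ∈ D i, ∀ w ∈ D j, QuadraticMap.polar (⇑P) v w = 0 := hD.decomp.orthogonal
  have key : ∀ s : Finset (Fin t), (∀ v ∈ s.sup U, P v = 0) ∧ s.sup U ≤ s.sup D ∧
      2 * Module.finrank F ↥(s.sup U) = s.card * k := by
    intro s
    induction s using Finset.induction_on with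
    | empty => simp
    | insert a s ha ih =>
      obtain ⟨h1, h2, h3⟩ := ih
      have hperp : ∀ v ∈ U a, ∀ w ∈ s.sup U, QuadraticMap.polar (⇑P) v w = 0 := by
        intro v hv w hw
        have hle : s.sup D ≤ LinearMap.ker (QuadraticMap.polarBilin P v) := Finset.sup_le fun i hi x hx =>
          horth a i (fun e => ha (e ▸ hi)) v (hU a hv) x hx
        exact hle (h2 hw)
      refine ⟨fun v hv => ?_, by rw [Finset.sup_insert, Finset.sup_insert]; exact sup_le_sup (hU a) h2, ?_⟩
      · rw [Finset.sup_insert, Submodule.mem_sup] at hv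
        obtain ⟨x, hx, y, hy, rfl⟩ := hv
        rw [QuadraticMap.map_add (f := P), hts a x hx, h1 y hy, hperp x hx y hy, add_zero, add_zero]
      · have hdis : U a ⊓ s.sup U = ⊥ := by
          have hDa : Disjoint (D a) (s.sup D) :=
            (hD.decomp.decomp.indep.disjoint_biSup (y := (s : Set (Fin t))) ha).mono_right (by
              rw [Finset.sup_eq_iSup]; rfl)
          exact disjoint_iff.mp (hDa.mono (hU a) h2)
        have h := Submodule.finrank_sup_add_finrank_inf_eq (U a) (s.sup U)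
        rw [hdis, finrank_bot, add_zero, ← Finset.sup_insert] at h
        have hda := hd a
        rw [hD.decomp.decomp.finrank_eq] at hda
        rw [Finset.card_insert_of_notMem ha, add_mul, one_mul]
        omega
  obtain ⟨h1, -, h3⟩ := key Finset.univ
  refine ⟨Finset.univ.sup U, le_top, h1, ?_⟩
  have htop : Module.finrank F ↥(⊤ : Submodule F (Fin n → F)) = t * k := by
    have hs : ∀ s : Finset (Fin t), Module.finrank F ↥(s.sup D) = s.card * k := by
      intro s
      induction s using Finset.induction_on with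
      | empty => simp
      | insert a s ha ih =>
        have hDa : Disjoint (D a) (s.sup D) :=
          (hD.decomp.decomp.indep.disjoint_biSup (y := (s : Set (Fin t))) ha).mono_right (by
            rw [Finset.sup_eq_iSup]; rfl)
        have h := Submodule.finrank_sup_add_finrank_inf_eq (D a) (s.sup D)
        rw [disjoint_iff.mp hDa, finrank_bot, add_zero, ← Finset.sup_insert, hD.decomp.decomp.finrank_eq, ih] at h
        rw [h, Finset.card_insert_of_notMem ha, add_mul, one_mul, add_comm]
    have h := hs Finset.univ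
    rwa [Finset.sup_univ_eq_iSup, hD.decomp.decomp.iSup_eq_top, Finset.card_univ, Fintype.card_fin] at h
  rw [htop, h3, Finset.card_univ, Fintype.card_fin]

end Cfsg.Lib.Classical.Refl
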