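import Mathlib
import Cfsg.Agent.Classical.Orth.LowRankKlein

/-! `PΩ⁻₄(q) ≅ PSL₂(q²)` through binary Hermitian matrices. -/

set_option autoImplicit false
set_option linter.unusedSimpArgs false
set_option linter.unusedSectionVars false
set_option linter.style.haveILetI false
set_option linter.flexible false

namespace Cfsg.Lib.Classical.LowRank

open Matrix Polynomial
open scoped MatrixGroups
open Cfsg.Lib.Classical.PSLFour

universe u v

variable {F : Type u} [Field F] [Fintype F] {K : Type v} [Field K] [Fintype K]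

/-- An embedding of `F`, a root of `t² - a t + b`, and the Frobenius. -/
theorem exists_frame {q : ℕ} (hF : Fintype.card F = q) (hK : Fintype.card K = q ^ 2) (a b : F)
    (hab : ∀ z₁ z₂ : F, z₁ ^ 2 + a * z₁ * z₂ + b * z₂ ^ 2 = 0 → z₁ = 0 ∧ z₂ = 0) :
    ∃ (ι : F →+* K) (σ : K →+* K) (ω : K), (∀ x, σ (σ x) = x) ∧ (∀ x, σ (ι x) = ι x) ∧
      (∀ w, σ w = w → ∃ x, ι x = w) ∧ σ ω + ω = ι a ∧ ω * σ ω = ι b ∧ σ ω ≠ ω ∧
      ∀ x, σ x = x ^ q := by
  classical
  let f : F[X] := X ^ 2 - C a * X + C b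
  have hdeg : f.natDegree = 2 := by simp only [f]; compute_degree!
  have hmon : f.Monic := by simp only [f]; monicity!
  have hnr : ∀ r : F, r ^ 2 - a * r + b ≠ 0 := fun r hr =>
    one_ne_zero (hab (-r) 1 (by linear_combination hr)).2
  have hirr : Irreducible f := by
    rw [hmon.irreducible_iff_roots_eq_zero_of_degree_le_three (by omega) (by omega)]
    refine Multiset.eq_zero_of_forall_notMem fun r hr => hnr r ?_
    have := (Polynomial.mem_roots hmon.ne_zero).mp hr
    simpa [f, Polynomial.IsRoot] using this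
  haveI := Fact.mk hirr
  let pb := AdjoinRoot.powerBasis hirr.ne_zero
  haveI : FiniteDimensional F (AdjoinRoot f) := pb.finite
  haveI : Finite (AdjoinRoot f) := Module.finite_of_finite F
  haveI : Fintype (AdjoinRoot f) := Fintype.ofFinite _
  have hcard : Fintype.card (AdjoinRoot f) = Fintype.card K := by
    rw [Module.card_eq_pow_finrank (K := F), pb.finrank, AdjoinRoot.powerBasis_dim, hdeg, hF, hK]
  let e : AdjoinRoot f ≃+* K := FiniteField.ringEquivOfCardEq hcard
  let ι : F →+* K := e.toRingHom.comp (AdjoinRoot.of f)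
  let ω : K := e (AdjoinRoot.root f)
  have hroot : ω ^ 2 - ι a * ω + ι b = 0 := by
    have h := congrArg e (AdjoinRoot.eval₂_root f)
    simpa [f, ι, ω] using h
  letI : Algebra F K := ι.toAlgebra
  let σ : K →+* K := (FiniteField.frobeniusAlgHom F K).toRingHom
  have hσap : ∀ x, σ x = x ^ q := fun x => by simp [σ, hF]
  have hσσ : ∀ x, σ (σ x) = x := fun x => by
    rw [hσap, hσap, ← pow_mul, ← pow_two, ← hK, FiniteField.pow_card]
  have hσι : ∀ x, σ (ι x) = ι x := fun x => by
    rw [hσap, ← map_pow, ← hF, FiniteField.pow_card]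
  have hfix : ∀ w, σ w = w → ∃ x, ι x = w := by
    intro w hw
    by_contra hn
    push Not at hn
    have hq1 : 1 < q := hF ▸ Fintype.one_lt_card
    have hne : (X ^ q - X : K[X]) ≠ 0 := FiniteField.X_pow_card_sub_X_ne_zero K hq1
    have hsub : insert w (Finset.univ.image ι) ⊆ (X ^ q - X : K[X]).roots.toFinset := by
      intro y hy
      have hy' : σ y = y := by
        rcases Finset.mem_insert.mp hy with rfl | hy
        · exact hw
        · obtain ⟨x, -, rfl⟩ := Finset.mem_image.mp hy; exact hσι x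
      rw [Multiset.mem_toFinset, Polynomial.mem_roots hne]
      simp [Polynomial.IsRoot, ← hσap, hy']
    have h1 := (Finset.card_le_card hsub).trans ((Multiset.toFinset_card_le _).trans (Polynomial.card_roots' _))
    rw [Finset.card_insert_of_notMem (by simpa using hn), Finset.card_image_of_injective _ ι.injective,
      Finset.card_univ, hF, FiniteField.X_pow_card_sub_X_natDegree_eq K hq1] at h1
    omega
  have hroot' : σ ω ^ 2 - ι a * σ ω + ι b = 0 := by
    have h := congrArg σ hroot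
    simpa [hσι] using h
  have hne : σ ω ≠ ω := fun h => by
    obtain ⟨r, hr⟩ := hfix ω h
    exact hnr r (ι.injective (by rw [map_add, map_sub, map_mul, map_pow, hr, map_zero]; exact hroot))
  have hsum : σ ω + ω = ι a := by
    have h : (σ ω - ω) * (σ ω + ω - ι a) = 0 := by linear_combination hroot' - hroot
    exact sub_eq_zero.mp ((mul_eq_zero.mp h).resolve_left (sub_ne_zero.mpr hne))
  exact ⟨ι, σ, ω, hσσ, hσι, hfix, hsum, by linear_combination -hroot + ω * hsum, hne, hσap⟩

theorem pomega4_minus_iso {q : ℕ} (hF : Fintype.card F = q) (hK : Fintype.card K = q ^ 2) (a b : F)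
    (hab : ∀ z₁ z₂ : F, z₁ ^ 2 + a * z₁ * z₂ + b * z₂ ^ 2 = 0 → z₁ = 0 ∧ z₂ = 0) :
    Nonempty (Cfsg.POmega F (Cfsg.quadFormMinus 1 F a b) ≃* Matrix.ProjectiveSpecialLinearGroup (Fin 2) K) := by
  classical
  obtain ⟨ι, σ, ω, hσσ, hσι, hfix, hsum, hprod, hne, -⟩ := exists_frame hF hK a b hab
  have hq1 : 1 < q := hF ▸ Fintype.one_lt_card
  have hK4 : 4 ≤ Nat.card K := by
    rw [Nat.card_eq_fintype_card, hK, pow_two]; exact Nat.mul_le_mul hq1 hq1
  let Q := Cfsg.quadFormMinus 1 F a b
  let w : ((Fin 1 ⊕ Fin 1) ⊕ Fin 2 → F) → K := fun x => ι (x (.inr 0)) + ω * ι (x (.inr 1))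
  let m : ((Fin 1 ⊕ Fin 1) ⊕ Fin 2 → F) → Matrix (Fin 2) (Fin 2) K := fun x =>
    !![ι (x (.inl (.inl 0))), w x; σ (w x), -ι (x (.inl (.inr 0)))]
  have hm_inj : Function.Injective m := by
    intro x y h
    have h00 := congrFun (congrFun h 0) 0
    have h01 := congrFun (congrFun h 0) 1
    have h10 := congrFun (congrFun h 1) 0
    have h11 := congrFun (congrFun h 1) 1
    simp [m, w, hσι] at h00 h01 h10 h11
    have e1 : (σ ω - ω) * (ι (x (.inr 1)) - ι (y (.inr 1))) = 0 := by linear_combination h10 - h01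
    have e1' : ι (x (.inr 1)) = ι (y (.inr 1)) :=
      sub_eq_zero.mp ((mul_eq_zero.mp e1).resolve_left (sub_ne_zero.mpr hne))
    have e0' : ι (x (.inr 0)) = ι (y (.inr 0)) := by linear_combination h01 - ω * e1'
    funext i
    rcases i with (i | i) | i <;> fin_cases i
    · exact ι.injective h00
    · exact ι.injective h11
    · exact ι.injective e0'
    · exact ι.injective e1'
  have hm_add : ∀ x y, m (x + y) = m x + m y := fun x y => by
    ext i j; fin_cases i <;> fin_cases j <;> simp [m, w, hσι] <;> ring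
  have hm_smul : ∀ (c : F) x, m (c • x) = ι c • m x := fun c x => by
    ext i j; fin_cases i <;> fin_cases j <;> simp [m, w, hσι] <;> ring
  let T : Matrix (Fin 2) (Fin 2) K → Matrix (Fin 2) (Fin 2) K := fun M => (M.map σ)ᵀ
  have hT_mul : ∀ A B, T (A * B) = T B * T A := fun A B => by simp [T, Matrix.map_mul, Matrix.transpose_mul]
  have hTT : ∀ A, T (T A) = A := fun A => by ext i j; simp [T, hσσ]
  have hm_herm : ∀ x, T (m x) = m x := fun x => by
    ext i j; fin_cases i <;> fin_cases j <;> simp [T, m, w, hσι, hσσ]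
  have hm_surj : ∀ M, T M = M → ∃ x, m x = M := by
    intro M hM
    have e00 : σ (M 0 0) = M 0 0 := congrFun (congrFun hM 0) 0
    have e11 : σ (M 1 1) = M 1 1 := congrFun (congrFun hM 1) 1
    have e10 : σ (M 0 1) = M 1 0 := congrFun (congrFun hM 1) 0
    obtain ⟨x, hx⟩ := hfix _ e00
    obtain ⟨y, hy⟩ := hfix _ e11
    have hne' : ω - σ ω ≠ 0 := sub_ne_zero.mpr (Ne.symm hne)
    obtain ⟨z2, hz2⟩ := hfix ((M 0 1 - σ (M 0 1)) / (ω - σ ω)) (by
      rw [map_div₀, map_sub, map_sub, hσσ, hσσ, ← neg_sub, ← neg_sub ω, neg_div_neg_eq])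
    have h2 : M 0 1 - σ (M 0 1) = ι z2 * (ω - σ ω) := by rw [hz2, div_mul_cancel₀ _ hne']
    obtain ⟨z1, hz1⟩ := hfix (M 0 1 - ω * ι z2) (by
      rw [map_sub, map_mul, hσι]; linear_combination -h2)
    refine ⟨Sum.elim (Sum.elim (fun _ => x) (fun _ => -y)) ![z1, z2], ?_⟩
    have hw : ι z1 + ω * ι z2 = M 0 1 := by rw [hz1]; ring
    ext i j
    fin_cases i <;> fin_cases j <;> simp [m, w, hx, hy, ← e10, ← hw]
  have hclosed : ∀ (g : SL(2, K)) x, ∃ y, m y = g.1 * m x * T g.1 := fun g x =>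
    hm_surj _ (by rw [hT_mul, hT_mul, hTT, hm_herm, Matrix.mul_assoc])
  let L0 : SL(2, K) → ((Fin 1 ⊕ Fin 1) ⊕ Fin 2 → F) → ((Fin 1 ⊕ Fin 1) ⊕ Fin 2 → F) := fun g x =>
    (hclosed g x).choose
  have hL0 : ∀ g x, m (L0 g x) = g.1 * m x * T g.1 := fun g x => (hclosed g x).choose_spec
  let L : SL(2, K) → ((Fin 1 ⊕ Fin 1) ⊕ Fin 2 → F) →ₗ[F] ((Fin 1 ⊕ Fin 1) ⊕ Fin 2 → F) := fun g =>
    { toFun := L0 g
      map_add' := fun x y => hm_inj (by rw [hL0, hm_add, hm_add, hL0, hL0, Matrix.mul_add, Matrix.add_mul])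
      map_smul' := fun c x => hm_inj (by
        rw [RingHom.id_apply, hL0, hm_smul, hm_smul, hL0, Matrix.mul_smul, Matrix.smul_mul]) }
  have hLap : ∀ g x, m (L g x) = g.1 * m x * T g.1 := hL0
  have h1 : L 1 = LinearMap.id := LinearMap.ext fun x => hm_inj (by
    rw [hLap, LinearMap.id_apply]; simp [T])
  have hmul : ∀ g h, L (g * h) = (L g).comp (L h) := fun g h => LinearMap.ext fun x => hm_inj (by
    rw [hLap, LinearMap.comp_apply, hLap, hLap, Matrix.SpecialLinearGroup.coe_mul, hT_mul]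
    simp only [Matrix.mul_assoc])
  have hQm : ∀ x, ι (Q x) = -(m x).det := fun x => by
    simp [Q, Cfsg.quadFormMinus, m, w, Matrix.det_fin_two, hσι]
    linear_combination -(ι (x (.inr 0)) * ι (x (.inr 1))) * hsum - (ι (x (.inr 1)) ^ 2) * hprod
  have hQL : ∀ g x, Q (L g x) = Q x := fun g x => ι.injective (by
    have hdet : (T g.1).det = 1 := by
      show ((g.1.map σ)ᵀ).det = 1
      rw [Matrix.det_transpose, ← RingHom.mapMatrix_apply, ← RingHom.map_det, g.2, map_one]
    rw [hQm, hQm, hLap, Matrix.det_mul, Matrix.det_mul, g.2, hdet]; ring)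
  let ρ := repHom Q L h1 hmul hQL
  have hρ1 : ∀ g, ρ g = 1 ↔ ∀ x, g.1 * m x * T g.1 = m x := fun g => by
    rw [repHom_eq_one]
    exact ⟨fun h x => by rw [← hLap, h x], fun h x => hm_inj (by rw [hLap, h x])⟩
  obtain ⟨c, hc0, hc1⟩ : ∃ c : K, c ≠ 0 ∧ c ^ 2 ≠ 1 := by
    obtain ⟨c, hc⟩ := IsCyclic.exists_monoid_generator (α := Kˣ)
    by_contra hcon
    push Not at hcon
    have h3 : Fintype.card Kˣ ≤ 2 := by
      have : (Finset.univ : Finset Kˣ) ⊆ {1, -1} := fun x _ => by
        rcases sq_eq_one_iff.mp (hcon x x.ne_zero) with h | h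
        · simp [Units.ext_iff, h]
        · simp [Units.ext_iff, h]
      exact (Finset.card_le_card this).trans Finset.card_le_two
    rw [Fintype.card_units] at h3
    rw [Nat.card_eq_fintype_card] at hK4
    omega
  have hG : commutator SL(2, K) = ⊤ := SL2.commutator_eq_top hc0 hc1
  have hs : IsSimpleGroup (SL(2, K) ⧸ Subgroup.center SL(2, K)) :=
    Matrix.ProjectiveSpecialLinearGroup.rank_two_simple hK4
  have hg0 : ρ (sl 1 1 0 1 (by ring)) ≠ 1 := fun h => by
    have e := congrFun (congrFun ((hρ1 _).mp h (Sum.elim (Sum.elim (fun _ => 0) (fun _ => 1)) 0)) 0) 0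
    simp [m, w, T, Matrix.mul_apply, Fin.sum_univ_two, sl00, sl01, sl10, sl11] at e
  have hle := ker_le_center hG hs ρ hg0
  have hker : ∀ g, g ∈ ρ.ker ↔ g = 1 ∨ g = -1 := by
    intro g
    constructor
    · intro hg
      obtain ⟨r, hr, hrA⟩ := Matrix.SpecialLinearGroup.mem_center_iff.mp (hle hg)
      rw [Fintype.card_fin] at hr
      rcases sq_eq_one_iff.mp hr with h | h <;> subst h
      · left; exact Subtype.ext (hrA.symm.trans (map_one (Matrix.scalar (Fin 2))))
      · right; exact Subtype.ext (hrA.symm.trans (by rw [map_neg, map_one]; rfl))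
    · rintro (rfl | rfl)
      · exact one_mem _
      · rw [MonoidHom.mem_ker, hρ1]
        intro x
        have hT1 : T (-1) = -1 := by
          ext i j; fin_cases i <;> fin_cases j <;> simp [T, Matrix.transpose_apply, Matrix.map_apply]
        show (-1 : Matrix (Fin 2) (Fin 2) K) * m x * T (-1) = m x
        rw [hT1]; simp
  refine perfect_iso Q hG ρ hle ?_
  have hO := OrthCard.card_minus hab 1
  have hm' := (Cfsg.Omega F Q).card_mul_index
  have hnd := Refl.minusForm_nondegenerate' (F := F) 1 hab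
  rw [Nat.card_eq_fintype_card (α := F), hF] at hO
  rw [hO] at hm'
  simp only [OrthCard.prodQ, Finset.prod_range_succ, Finset.prod_range_zero, one_mul, zero_add, mul_one,
    show (1 + 1) * 1 = 2 from rfl, show (1 + 1 : ℕ) = 2 from rfl] at hm'
  rw [SLTwoTori.card_SL2, hK]
  have hsq : (q ^ 2 - 1) * (q ^ 2 + 1) = (q ^ 2) ^ 2 - 1 := by
    rw [mul_comm, ← Nat.sq_sub_sq, one_pow]
  have hQe : Q = ⇑(Refl.minusForm 1 F a b) := (Refl.minusForm_coe 1 a b).symm
  by_cases h2 : (2 : F) = 0
  · haveI : CharP F 2 := CharTwo.of_one_ne_zero_of_two_eq_zero one_ne_zero h2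
    haveI : CharP K 2 := charP_of_injective_ringHom ι.injective 2
    have hneg : (-1 : SL(2, K)) = 1 := ext_four (by simp [CharTwo.neg_eq]) (by simp [CharTwo.neg_eq])
      (by simp [CharTwo.neg_eq]) (by simp [CharTwo.neg_eq])
    rw [(card_kernel_pm _ _ hker).1 hneg]
    have hidx : (Cfsg.Omega F Q).index = 2 := by
      have h1' : ρ.range ≤ Cfsg.Omega F Q := by
        rw [MonoidHom.range_eq_map, ← hG, commutator_def, Subgroup.map_commutator]
        exact Subgroup.commutator_mono le_top le_top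
      have h2' := Subgroup.card_le_of_le h1'
      have h3' := ρ.ker.card_eq_card_quotient_mul_card_subgroup
      rw [Nat.card_congr (QuotientGroup.quotientKerEquivRange ρ).toEquiv,
        (card_kernel_pm _ _ hker).1 hneg, mul_one, SLTwoTori.card_SL2, hK] at h3'
      have h4' : (Cfsg.Omega F Q).index ≠ 1 := by
        intro h
        obtain ⟨v, hv⟩ : ∃ v, Refl.minusForm 1 F a b v ≠ 0 :=
          ⟨Sum.elim 0 ![1, 0], by simp [Refl.minusForm_coe, Cfsg.quadFormMinus]⟩
        rw [hQe, Subgroup.index_eq_one] at h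
        have h5 : Refl.refl (Refl.minusForm 1 F a b) v hv ∈ (Refl.dickson _ hnd).ker :=
          Abelianization.commutator_subset_ker _ (by
            rw [show commutator (Cfsg.isometryGroup F ⇑(Refl.minusForm 1 F a b)) = ⊤ from h]; exact Subgroup.mem_top _)
        rw [MonoidHom.mem_ker, Refl.dickson_refl] at h5
        exact absurd h5 (by decide)
      have h5' : (Cfsg.Omega F Q).index ≠ 0 := Subgroup.index_ne_zero_of_finite
      have hpos : 0 < Nat.card (Cfsg.Omega F Q) := Nat.card_pos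
      have h6 : q ^ 2 * (q ^ 2 + 1) * (q ^ 2 - 1) = q ^ 2 * ((q ^ 2) ^ 2 - 1) := by rw [← hsq]; ring
      nlinarith [Nat.two_le_iff _ |>.mpr ⟨h5', h4'⟩]
    rw [hidx] at hm'
    have : q ^ 2 * (q ^ 2 + 1) * (q ^ 2 - 1) = q ^ 2 * ((q ^ 2) ^ 2 - 1) := by rw [← hsq]; ring
    linarith
  · have hz : (-1 : SL(2, K)) ≠ 1 := fun h => h2 (ι.injective (by
      have e := congrFun (congrFun (congrArg Subtype.val h) 0) 0
      simp at e
      rw [map_ofNat, map_zero]; linear_combination -e))
    rw [(card_kernel_pm _ _ hker).2 hz]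
    have hidx : (Cfsg.Omega F Q).index = 4 := by
      rw [hQe]; exact Refl.index_omega_odd _ h2 hnd (by simp)
    rw [hidx] at hm'
    have : q ^ 2 * (q ^ 2 + 1) * (q ^ 2 - 1) = q ^ 2 * ((q ^ 2) ^ 2 - 1) := by rw [← hsq]; ring
    linarith

end Cfsg.Lib.Classical.LowRank
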