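import Mathlib
import Cfsg.Agent.Classical.Orth.LowRankMinusFour
import Cfsg.Agent.Classical.Unitary.Simple
import Cfsg.Agent.Classical.Unitary.Matrix
import Cfsg.Agent.Classical.Symp.Matrix

/-! `PΩ⁻₆(q) ≅ PSU₄(q)` through the exterior square. -/

set_option autoImplicit false
set_option linter.unusedSimpArgs false
set_option linter.unusedSectionVars false
set_option linter.style.haveILetI false
set_option linter.flexible false

namespace Cfsg.Lib.Classical.LowRank

open Matrix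

universe u v

variable {F : Type u} [Field F] [Fintype F] {K : Type v} [Field K] [Fintype K]

theorem ext2_transpose (g : Matrix (Fin 4) (Fin 4) K) : PSLFourTwo.ext2 gᵀ = (PSLFourTwo.ext2 g)ᵀ := by
  ext p r
  simp only [PSLFourTwo.ext2, PSLFourTwo.minor, Matrix.of_apply, Matrix.transpose_apply]
  ring

theorem ext2_map (σ : K →+* K) (g : Matrix (Fin 4) (Fin 4) K) :
    PSLFourTwo.ext2 (g.map σ) = (PSLFourTwo.ext2 g).map σ := by
  ext p r
  simp [PSLFourTwo.ext2, PSLFourTwo.minor]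

/-- A matrix of the exterior square commutes with the twisted swap. -/
theorem twist_comm (σ : K →+* K) (g : Matrix (Fin 4) (Fin 4) K) (hdet : g.det = 1) (hu : (g.map σ)ᵀ * g = 1)
    (v : Fin 3 ⊕ Fin 3 → K) (hv : ∀ p, v p.swap = σ (v p)) (p : Fin 3 ⊕ Fin 3) :
    (PSLFourTwo.ext2 g *ᵥ v) p.swap = σ ((PSLFourTwo.ext2 g *ᵥ v) p) := by
  set M := PSLFourTwo.ext2 g
  have hM : (M.map σ)ᵀ * M = 1 := by
    rw [← ext2_map, ← ext2_transpose, ← PSLFourTwo.ext2_mul, hu, PSLFourTwo.ext2_one]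
  have hM' : M * (M.map σ)ᵀ = 1 := mul_eq_one_comm.mp hM
  have hpol : ∀ x y : Fin 3 ⊕ Fin 3 → K, (∑ p, (M *ᵥ x) p.swap * (M *ᵥ y) p) = ∑ p, x p.swap * y p := fun x y => by
    have e := PSLFourTwo.ext2_form g (x + y)
    have e1 := PSLFourTwo.ext2_form g x
    have e2 := PSLFourTwo.ext2_form g y
    rw [hdet, one_mul] at e e1 e2
    rw [Matrix.mulVec_add] at e
    simp only [Fintype.sum_sum_type, Fin.sum_univ_three, Sum.swap_inl, Sum.swap_inr]
    simp [Cfsg.quadFormPlus, Fin.sum_univ_three] at e e1 e2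
    linear_combination e - e1 - e2
  have key : ∀ z : Fin 3 ⊕ Fin 3 → K, (∑ p, (M *ᵥ v) p.swap * z p) = ∑ p, σ ((M *ᵥ v) p) * z p := by
    intro z
    obtain ⟨y, rfl⟩ : ∃ y, z = M *ᵥ y := ⟨(M.map σ)ᵀ *ᵥ z, by rw [Matrix.mulVec_mulVec, hM', Matrix.one_mulVec]⟩
    rw [hpol]
    have e : (fun p => σ ((M *ᵥ v) p)) = M.map σ *ᵥ (fun p => σ (v p)) := funext fun p => RingHom.map_mulVec σ M v p
    calc (∑ p, v p.swap * y p) = (fun p => σ (v p)) ⬝ᵥ ((M.map σ)ᵀ * M) *ᵥ y := by
          rw [hM, Matrix.one_mulVec]; simp [dotProduct, hv]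
      _ = (fun p => σ ((M *ᵥ v) p)) ⬝ᵥ (M *ᵥ y) := by
          rw [e, ← Matrix.mulVec_mulVec, Matrix.dotProduct_mulVec, Matrix.vecMul_transpose]
      _ = _ := rfl
  have := key (Pi.single p 1)
  simpa [Pi.single_apply] using this

theorem unitary_of_mem {q : ℕ} (σ : K →+* K) (hσ : ∀ x, σ x = x ^ q) (g : Cfsg.SU 4 K q) :
    (((g : SpecialLinearGroup (Fin 4) K) : Matrix (Fin 4) (Fin 4) K).map σ)ᵀ * g.1.1 = 1 := by
  ext i j
  have h := g.2 (Pi.single j 1) (Pi.single i 1)
  change Cfsg.hermForm 4 K q (g.1.1 *ᵥ Pi.single j 1) (g.1.1 *ᵥ Pi.single i 1) = _ at h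
  simp only [Cfsg.hermForm, Matrix.mulVec_single_one, ← hσ] at h
  simp only [Matrix.mul_apply, Matrix.transpose_apply, Matrix.map_apply]
  rw [show (∑ k, σ (g.1.1 k i) * g.1.1 k j) = ∑ k, g.1.1.col j k * σ (g.1.1.col i k) from
    Finset.sum_congr rfl fun k _ => mul_comm _ _, h]
  rcases eq_or_ne i j with rfl | hij
  · simp [Pi.single_apply]
  · simp [Pi.single_apply, Matrix.one_apply, hij]

set_option maxHeartbeats 800000 in
theorem minus_six_iso {q : ℕ} (hF : Fintype.card F = q) (hK : Fintype.card K = q ^ 2) (a b : F)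
    (hab : ∀ z₁ z₂ : F, z₁ ^ 2 + a * z₁ * z₂ + b * z₂ ^ 2 = 0 → z₁ = 0 ∧ z₂ = 0) :
    Nonempty (Cfsg.POmega F (Cfsg.quadFormMinus 2 F a b) ≃* Cfsg.PSU 4 K q) := by
  classical
  obtain ⟨ι, σ, ω, hσσ, hσι, hfix, hsum, hprod, hne, hσap⟩ := exists_frame hF hK a b hab
  have hq1 : 1 < q := hF ▸ Fintype.one_lt_card
  have hδ : ω - σ ω ≠ 0 := sub_ne_zero.mpr (Ne.symm hne)
  obtain ⟨D, hσD, hD⟩ : ∃ D : K, σ D = D ∧ (ω - σ ω) * (ω - σ ω) * D = 1 := by
    refine ⟨((ω - σ ω) * (ω - σ ω))⁻¹, ?_, mul_inv_cancel₀ (mul_ne_zero hδ hδ)⟩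
    rw [map_inv₀, map_mul, map_sub, hσσ]; ring
  obtain ⟨c, hc⟩ : ∃ c : K, c * σ c = -1 := by
    obtain ⟨c, hc⟩ := (powConj_isConj hK).norm_surjective (a := -1) (by simp)
    exact ⟨c, by rw [hσap, ← powConj_apply hK]; exact hc⟩
  let Q := Cfsg.quadFormMinus 2 F a b
  let P : ((Fin 2 ⊕ Fin 2) ⊕ Fin 2 → F) → K := fun x => ι (x (.inl (.inl 0))) + ω * ι (x (.inl (.inl 1)))
  let R : ((Fin 2 ⊕ Fin 2) ⊕ Fin 2 → F) → K := fun x => D * (ω * ι (x (.inl (.inr 0))) - ι (x (.inl (.inr 1))))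
  let U : ((Fin 2 ⊕ Fin 2) ⊕ Fin 2 → F) → Fin 3 → K := fun x =>
    ![P x + ω * R x, c * (P x + σ ω * R x), ι (x (.inr 0)) + ω * ι (x (.inr 1))]
  let E : ((Fin 2 ⊕ Fin 2) ⊕ Fin 2 → F) → Fin 3 ⊕ Fin 3 → K := fun x => Sum.elim (U x) (fun i => σ (U x i))
  have hU_add : ∀ x y, U (x + y) = U x + U y := fun x y => by
    funext i; fin_cases i <;> simp [U, P, R] <;> ring
  have hU_smul : ∀ (t : F) x, U (t • x) = ι t • U x := fun t x => by
    funext i; fin_cases i <;> simp [U, P, R] <;> ring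
  have hE_add : ∀ x y, E (x + y) = E x + E y := fun x y => by
    funext i; rcases i with i | i <;> simp [E, hU_add]
  have hE_smul : ∀ (t : F) x, E (t • x) = ι t • E x := fun t x => by
    funext i; rcases i with i | i <;> simp [E, hU_smul, hσι]
  have hEQ : ∀ x, Cfsg.quadFormPlus 3 K (E x) = ι (Q x) := fun x => by
    have e1 : U x 0 * σ (U x 0) + U x 1 * σ (U x 1) =
        ι (x (.inl (.inl 0))) * ι (x (.inl (.inr 0))) + ι (x (.inl (.inl 1))) * ι (x (.inl (.inr 1))) := by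
      simp [U, P, R, hσσ, hσι, hσD]
      linear_combination
        ((ι (x (.inl (.inl 0))) + ω * ι (x (.inl (.inl 1))) + σ ω * (D * (ω * ι (x (.inl (.inr 0))) - ι (x (.inl (.inr 1))))))
          * (ι (x (.inl (.inl 0))) + σ ω * ι (x (.inl (.inl 1))) + ω * (D * (σ ω * ι (x (.inl (.inr 0))) - ι (x (.inl (.inr 1))))))) * hc
        + (ι (x (.inl (.inl 0))) * ι (x (.inl (.inr 0))) + ι (x (.inl (.inl 1))) * ι (x (.inl (.inr 1)))) * hD
    have e2 : U x 2 * σ (U x 2) = ι (x (.inr 0) ^ 2 + a * x (.inr 0) * x (.inr 1) + b * x (.inr 1) ^ 2) := by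
      simp [U, hσι]
      linear_combination (ι (x (.inr 0)) * ι (x (.inr 1))) * hsum + (ι (x (.inr 1)) ^ 2) * hprod
    calc Cfsg.quadFormPlus 3 K (E x) = U x 0 * σ (U x 0) + U x 1 * σ (U x 1) + U x 2 * σ (U x 2) := by
          simp [Cfsg.quadFormPlus, E, Fin.sum_univ_three]
      _ = _ := by rw [e1, e2]; simp [Q, Cfsg.quadFormMinus, Fin.sum_univ_two]
  have hnd := Refl.minusForm_nondegenerate' (F := F) 2 hab
  have hQe : Q = ⇑(Refl.minusForm 2 F a b) := (Refl.minusForm_coe 2 a b).symm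
  have hU_inj : Function.Injective U := by
    intro x y h
    rw [← sub_eq_zero]
    have h0 : U (x - y) = 0 := by
      have := hU_add (x - y) y
      rw [sub_add_cancel, h] at this
      simpa using this.symm
    refine hnd.1 _ fun z => ?_
    show QuadraticMap.polar (⇑(Refl.minusForm 2 F a b)) (x - y) z = 0
    apply ι.injective
    have hE0 : E (x - y) = 0 := by funext i; rcases i with i | i <;> simp [E, h0]
    rw [← hQe, QuadraticMap.polar, map_sub, map_sub, ← hEQ, ← hEQ, ← hEQ, hE_add, hE0, zero_add, map_zero]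
    simp [Cfsg.quadFormPlus]
  have hU_bij : Function.Bijective U :=
    (Fintype.bijective_iff_injective_and_card U).mpr ⟨hU_inj, by
      simp [hF, hK]; ring⟩
  have hE_inj : Function.Injective E := fun x y h => hU_inj (funext fun i => congrFun h (.inl i))
  have hE_fix : ∀ x p, E x p.swap = σ (E x p) := fun x p => by
    rcases p with p | p <;> simp [E, hσσ]
  have hE_surj : ∀ v : Fin 3 ⊕ Fin 3 → K, (∀ p, v p.swap = σ (v p)) → ∃ x, E x = v := by
    intro v hv
    obtain ⟨x, hx⟩ := hU_bij.2 fun i => v (.inl i)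
    refine ⟨x, funext fun p => ?_⟩
    rcases p with p | p
    · simp [E, hx]
    · simp only [E, Sum.elim_inr, hx]; exact (hv (.inl p)).symm
  let M : Cfsg.SU 4 K q → Matrix (Fin 3 ⊕ Fin 3) (Fin 3 ⊕ Fin 3) K := fun g => PSLFourTwo.ext2 g.1.1
  have hclosed : ∀ g x, ∃ y, E y = M g *ᵥ E x := fun g x =>
    hE_surj _ (twist_comm σ _ g.1.2 (unitary_of_mem σ hσap g) _ (hE_fix x))
  let L : Cfsg.SU 4 K q → ((Fin 2 ⊕ Fin 2) ⊕ Fin 2 → F) →ₗ[F] ((Fin 2 ⊕ Fin 2) ⊕ Fin 2 → F) := fun g =>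
    { toFun := fun x => (hclosed g x).choose
      map_add' := fun x y => hE_inj (by
        rw [(hclosed g (x + y)).choose_spec, hE_add, hE_add, (hclosed g x).choose_spec,
          (hclosed g y).choose_spec, Matrix.mulVec_add])
      map_smul' := fun t x => hE_inj (by
        rw [RingHom.id_apply, (hclosed g (t • x)).choose_spec, hE_smul, hE_smul, (hclosed g x).choose_spec,
          Matrix.mulVec_smul]) }
  have hLap : ∀ g x, E (L g x) = M g *ᵥ E x := fun g x => (hclosed g x).choose_spec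
  have hM1 : M 1 = 1 := PSLFourTwo.ext2_one
  have hMmul : ∀ g h, M (g * h) = M g * M h := fun g h => PSLFourTwo.ext2_mul g.1.1 h.1.1
  have h1 : L 1 = LinearMap.id := LinearMap.ext fun x => hE_inj (by
    rw [hLap, hM1, Matrix.one_mulVec, LinearMap.id_apply])
  have hmul : ∀ g h, L (g * h) = (L g).comp (L h) := fun g h => LinearMap.ext fun x => hE_inj (by
    rw [hLap, LinearMap.comp_apply, hLap, hLap, hMmul, Matrix.mulVec_mulVec])
  have hQL : ∀ g x, Q (L g x) = Q x := fun g x => ι.injective (by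
    rw [← hEQ, ← hEQ, hLap, PSLFourTwo.ext2_form, g.1.2, one_mul])
  let ρ := repHom Q L h1 hmul hQL
  let z : SpecialLinearGroup (Fin 4) K := ⟨-1, by simp [Matrix.det_neg]; norm_num⟩
  have hz : z ∈ Cfsg.SU 4 K q := fun u v => by
    show Cfsg.hermForm 4 K q ((-1 : Matrix (Fin 4) (Fin 4) K) *ᵥ u) ((-1 : Matrix (Fin 4) (Fin 4) K) *ᵥ v) = _
    simp [Cfsg.hermForm, Matrix.neg_mulVec, ← hσap]
  have hρ1 : ∀ g, ρ g = 1 ↔ M g = 1 := fun g => by
    rw [repHom_eq_one]
    constructor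
    · intro h
      have hfixed : ∀ v : Fin 3 ⊕ Fin 3 → K, (∀ p, v p.swap = σ (v p)) → M g *ᵥ v = v := fun v hv => by
        obtain ⟨x, rfl⟩ := hE_surj v hv
        rw [← hLap, h x]
      refine Matrix.ext_of_mulVec_single fun i => ?_
      rw [Matrix.one_mulVec]
      set v : Fin 3 ⊕ Fin 3 → K := Pi.single i 1
      let v2 : Fin 3 ⊕ Fin 3 → K := fun p => (v p - σ (v p.swap)) / (ω - σ ω)
      have h2 : ∀ p, v2 p.swap = σ (v2 p) := fun p => by
        simp only [v2, Sum.swap_swap, map_div₀, map_sub, hσσ]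
        rw [div_eq_div_iff hδ (sub_ne_zero.mpr hne)]
        ring
      have h1' : ∀ p, (v - ω • v2) p.swap = σ ((v - ω • v2) p) := fun p => by
        have e : v2 p * (ω - σ ω) = v p - σ (v p.swap) := div_mul_cancel₀ _ hδ
        have e' := congrArg σ e
        simp [hσσ] at e'
        simp only [Pi.sub_apply, Pi.smul_apply, smul_eq_mul, map_sub, map_mul, h2]
        linear_combination e'
      rw [show v = (v - ω • v2) + ω • v2 by simp, Matrix.mulVec_add, Matrix.mulVec_smul, hfixed _ h1', hfixed _ h2]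
    · intro h x
      exact hE_inj (by rw [hLap, h, Matrix.one_mulVec])
  have hG : commutator (Cfsg.SU 4 K q) = ⊤ := by
    have h := (stdHerm 4 hK).commutator_SIsom (Or.inl (by rw [Module.finrank_fin_fun]))
    have e := congrArg (Subgroup.map (suEquiv 4 hK).toMonoidHom) h
    rwa [commutator_def, Subgroup.map_commutator, Subgroup.map_top_of_surjective _ (suEquiv 4 hK).surjective] at e
  have hs : IsSimpleGroup (Cfsg.SU 4 K q ⧸ Subgroup.center (Cfsg.SU 4 K q)) := by
    haveI := (stdHerm 4 hK).isSimpleGroup_SIsom_quotient (Or.inl (by rw [Module.finrank_fin_fun]))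
    exact (centerQuotCongr (suEquiv 4 hK).symm).isSimpleGroup
  have hker : ∀ g, g ∈ ρ.ker ↔ g = 1 ∨ g = ⟨z, hz⟩ := by
    intro g
    rw [MonoidHom.mem_ker, hρ1]
    constructor
    · intro hg
      have hgK : g.1 ∈ (PSLFourTwo.hom (F := K)).ker := Subtype.ext (Units.ext hg)
      have hne' : PSLFourTwo.hom (F := K)
          ⟨Matrix.transvection 0 1 1, Matrix.det_transvection_of_ne _ _ (by decide) _⟩ ≠ 1 := fun h1 => by
        have h2 : PSLFourTwo.ext2 (Matrix.transvection (0 : Fin 4) 1 (1 : K)) (Sum.inl 1) (Sum.inr 2) =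
            (1 : Matrix (Fin 3 ⊕ Fin 3) (Fin 3 ⊕ Fin 3) K) (Sum.inl 1) (Sum.inr 2) :=
          congrArg (fun x : Matrix (Fin 3 ⊕ Fin 3) (Fin 3 ⊕ Fin 3) K => x (Sum.inl 1) (Sum.inr 2))
            (congrArg Units.val (congrArg Subtype.val h1))
        simp [PSLFourTwo.ext2, PSLFourTwo.minor, PSLFourTwo.pr, Matrix.transvection, Matrix.one_apply,
          Matrix.single_apply] at h2
      obtain ⟨r, hr, hrA⟩ := Matrix.SpecialLinearGroup.mem_center_iff.mp
        (ker_le_center (Cfsg.Lib.Classical.SL_commutator_eq_top (by simp))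
          (Cfsg.Lib.Classical.isSimpleGroup_PSL_fin (by norm_num) (by omega)) _ hne' hgK)
      have e := congrFun (congrFun hg (Sum.inl 0)) (Sum.inl 0)
      simp only [M, ← hrA] at e
      simp [PSLFourTwo.ext2, PSLFourTwo.minor, PSLFourTwo.pr] at e
      rcases sq_eq_one_iff.mp (by linear_combination e : r ^ 2 = 1) with h | h <;> subst h
      · left; exact Subtype.ext (Subtype.ext (hrA.symm.trans (map_one (Matrix.scalar (Fin 4)))))
      · right; exact Subtype.ext (Subtype.ext (hrA.symm.trans (by rw [map_neg, map_one])))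
    · rintro (rfl | rfl)
      · exact hM1
      · show PSLFourTwo.ext2 (-1 : Matrix (Fin 4) (Fin 4) K) = 1
        rw [← PSLFourTwo.ext2_one]
        ext p r
        simp only [PSLFourTwo.ext2, PSLFourTwo.minor, Matrix.of_apply, Matrix.neg_apply]
        ring
  have hle : ρ.ker ≤ Subgroup.center (Cfsg.SU 4 K q) := fun g hg => by
    rw [Subgroup.mem_center_iff]
    intro y
    rcases (hker g).mp hg with rfl | rfl
    · simp
    · exact Subtype.ext (Subtype.ext (show y.1.1 * (-1) = (-1) * y.1.1 by simp))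
  refine perfect_iso Q hG ρ hle ?_
  have hO := OrthCard.card_minus hab 2
  have hm := (Cfsg.Omega F Q).card_mul_index
  rw [Nat.card_eq_fintype_card (α := F), hF] at hO
  rw [hO] at hm
  simp only [OrthCard.prodQ, Finset.prod_range_succ, Finset.prod_range_zero, one_mul, zero_add, mul_one,
    show (2 + 1) * 2 = 6 from rfl, show 2 * (1 + 1) = 4 from rfl, show (2 + 1 : ℕ) = 3 from rfl] at hm
  have hSU := card_SU_mul hK (n := 4) (by norm_num)
  simp only [cardGUFormula, Finset.prod_range_succ, Finset.prod_range_zero, one_mul] at hSU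
  norm_num [Nat.even_iff, -Nat.card_eq_fintype_card] at hSU
  apply Nat.eq_of_mul_eq_mul_left (show 0 < q + 1 by omega)
  rw [hSU]
  by_cases h2 : (2 : F) = 0
  · haveI : CharP F 2 := CharTwo.of_one_ne_zero_of_two_eq_zero one_ne_zero h2
    haveI : CharP K 2 := charP_of_injective_ringHom ι.injective 2
    rw [(card_kernel_pm _ _ hker).1 (Subtype.ext (Subtype.ext (show (-1 : Matrix (Fin 4) (Fin 4) K) = 1 by
      ext i j; simp [CharTwo.neg_eq])))]
    have hidx : (Cfsg.Omega F Q).index = 2 := by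
      rw [hQe]; exact Refl.index_omega_two _ hnd (by simp) (Or.inr (by simp))
    rw [hidx] at hm
    rw [Nat.mul_one, show Nat.card (Cfsg.Omega F Q) = q ^ 6 * (q ^ 3 + 1) * ((q ^ 2 - 1) * (q ^ 4 - 1)) by linarith]
    ring
  · have hz1 : (⟨z, hz⟩ : Cfsg.SU 4 K q) ≠ 1 := fun h => h2 (ι.injective (by
      have e := congrFun (congrFun (congrArg Subtype.val (congrArg Subtype.val h)) 0) 0
      simp [z] at e
      rw [map_ofNat, map_zero]; linear_combination -e))
    rw [(card_kernel_pm _ _ hker).2 hz1]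
    have hidx : (Cfsg.Omega F Q).index = 4 := by
      rw [hQe]; exact Refl.index_omega_odd _ h2 hnd (by simp)
    rw [hidx] at hm
    rw [show Nat.card (Cfsg.Omega F Q) * 2 = q ^ 6 * (q ^ 3 + 1) * ((q ^ 2 - 1) * (q ^ 4 - 1)) by linarith]
    ring

end Cfsg.Lib.Classical.LowRank
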