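import Cfsg.Agent.Classical.Orth.NondegMax

/-!
Maximality of the stabiliser of a non-degenerate subspace whose perpendicular has dimension four, in odd
characteristic, or in characteristic two when the perpendicular alone contains a totally singular plane.
-/

set_option autoImplicit false
set_option linter.unusedSimpArgs false
set_option linter.unusedSectionVars false
set_option linter.style.haveILetI false
set_option linter.flexible false
set_option maxHeartbeats 1600000

namespace Cfsg.Lib.Classical.Refl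

open Matrix
open scoped commutatorElement

universe u

variable {F : Type u} [Field F] {ι : Type} [Fintype ι] [DecidableEq ι] (Q : QuadraticForm F (ι → F))
  (hQ : (QuadraticMap.polarBilin Q).Nondegenerate)

theorem two_le_inf_perp_singleton (hQ : (QuadraticMap.polarBilin Q).Nondegenerate) (X : Submodule F (ι → F))
    (a : ι → F) : Module.finrank F X ≤ Module.finrank F ↥(X ⊓ HypQuad.perp Q (Submodule.span F {a})) + 1 := by
  have h1 := HypQuad.finrank_perp Q hQ (Submodule.span F {a})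
  have h2 := Submodule.finrank_sup_add_finrank_inf_eq X (HypQuad.perp Q (Submodule.span F {a}))
  have h3 := Submodule.finrank_le (X ⊔ HypQuad.perp Q (Submodule.span F {a}))
  have h4 : Module.finrank F ↥(Submodule.span F {a}) ≤ 1 := by
    have := finrank_span_le_card (R := F) ({a} : Set (ι → F))
    simpa using this
  rw [Module.finrank_fintype_fun_eq_card] at h1 h3
  omega

theorem mem_perp_singleton {a x : ι → F} :
    x ∈ HypQuad.perp Q (Submodule.span F {a}) ↔ QuadraticMap.polar (⇑Q) a x = 0 := by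
  constructor
  · exact fun h => (HypQuad.mem_perp Q).mp h a (Submodule.mem_span_singleton_self a)
  · refine fun h => (HypQuad.mem_perp Q).mpr fun w hw => ?_
    obtain ⟨c, rfl⟩ := Submodule.mem_span_singleton.mp hw
    rw [QuadraticMap.polar_smul_left, h, smul_zero]

theorem represents [Finite F] (X : Submodule F (ι → F)) (hd : 2 ≤ Module.finrank F X)
    (hX : ∀ x ∈ X, x ≠ 0 → ∃ y ∈ X, QuadraticMap.polar (⇑Q) x y ≠ 0) (d : F) : ∃ x ∈ X, Q x = d := by
  classical
  have hyp : ∀ w ∈ X, w ≠ 0 → Q w = 0 → ∃ x ∈ X, Q x = d := by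
    intro w hw hw0 hQw
    obtain ⟨y, hy, hwy⟩ := hX w hw hw0
    refine ⟨y + ((d - Q y) / QuadraticMap.polar (⇑Q) w y) • w, add_mem hy (X.smul_mem _ hw), ?_⟩
    rw [WittQuad.val_smul_add, hQw, QuadraticMap.polar_comm (⇑Q) y w]
    field_simp
    ring
  obtain ⟨v, hv, hv0⟩ := X.exists_mem_ne_zero_of_ne_bot (fun h => by rw [h, finrank_bot] at hd; omega)
  by_cases h2 : (2 : F) = 0
  · by_cases hQv : Q v = 0
    · exact hyp v hv hv0 hQv
    obtain ⟨t, ht⟩ := exists_sqrt_two h2 (d / Q v)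
    exact ⟨t • v, X.smul_mem _ hv, by rw [QuadraticMap.map_smul, smul_eq_mul, ht, div_mul_cancel₀ _ hQv]⟩
  by_cases hQv : Q v = 0
  · exact hyp v hv hv0 hQv
  obtain ⟨w, ⟨hw, hwv⟩, hwnv⟩ : ∃ w ∈ X ⊓ LinearMap.ker (QuadraticMap.polarBilin Q v), w ≠ 0 := by
    refine Submodule.exists_mem_ne_zero_of_ne_bot fun h => ?_
    have h1 := (QuadraticMap.polarBilin Q v).finrank_range_add_finrank_ker
    have h2 := (LinearMap.range (QuadraticMap.polarBilin Q v)).finrank_le
    rw [Module.finrank_self] at h2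
    have h3 := Submodule.finrank_sup_add_finrank_inf_eq X (LinearMap.ker (QuadraticMap.polarBilin Q v))
    have h4 := Submodule.finrank_le (X ⊔ LinearMap.ker (QuadraticMap.polarBilin Q v))
    rw [h, finrank_bot] at h3
    omega
  by_cases hQw : Q w = 0
  · exact hyp w hw hwnv hQw
  obtain ⟨x, y, hxy⟩ := binary_universal h2 hQv hQw d
  exact ⟨x • v + y • w, add_mem (X.smul_mem _ hv) (X.smul_mem _ hw), by rw [val_lin Q hwv, hxy]⟩

include hQ in
theorem pair_perp_nondeg [Finite F] {U : Submodule F (ι → F)}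
    (hU : Cfsg.Geo.IsNondegenerateOn (QuadraticMap.polar (⇑Q)) U) {u a : ι → F} (hu : u ∈ U) (ha : a ∈ U)
    (hQu : Q u = 0) (hQa : Q a = 0) (hua : QuadraticMap.polar (⇑Q) u a ≠ 0) :
    Module.finrank F U ≤ Module.finrank F ↥(U ⊓ HypQuad.perp Q (Submodule.span F ({u, a} : Set (ι → F)))) + 2 ∧
    ∀ x ∈ U ⊓ HypQuad.perp Q (Submodule.span F ({u, a} : Set (ι → F))), x ≠ 0 →
      ∃ y ∈ U ⊓ HypQuad.perp Q (Submodule.span F ({u, a} : Set (ι → F))), QuadraticMap.polar (⇑Q) x y ≠ 0 := by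
  refine ⟨?_, fun x hx hx0 => ?_⟩
  · have h1 := HypQuad.finrank_perp Q hQ (Submodule.span F ({u, a} : Set (ι → F)))
    have h2 := Submodule.finrank_sup_add_finrank_inf_eq U (HypQuad.perp Q (Submodule.span F ({u, a} : Set (ι → F))))
    have h3 := Submodule.finrank_le (U ⊔ HypQuad.perp Q (Submodule.span F ({u, a} : Set (ι → F))))
    have h4 := finrank_pair_le (F := F) u a
    rw [Module.finrank_fintype_fun_eq_card] at h1 h3
    omega
  obtain ⟨-, y, hy, hxy⟩ := hU x hx.1 hx0
  have hxu : QuadraticMap.polar (⇑Q) x u = 0 := by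
    rw [QuadraticMap.polar_comm]; exact (HypQuad.mem_perp Q).mp hx.2 u (Submodule.subset_span (by simp))
  have hxa : QuadraticMap.polar (⇑Q) x a = 0 := by
    rw [QuadraticMap.polar_comm]; exact (HypQuad.mem_perp Q).mp hx.2 a (Submodule.subset_span (by simp))
  set p := QuadraticMap.polar (⇑Q) u a
  set α := QuadraticMap.polar (⇑Q) a y / p
  set β := QuadraticMap.polar (⇑Q) u y / p
  refine ⟨y - α • u - β • a, ⟨sub_mem (sub_mem hy (U.smul_mem _ hu)) (U.smul_mem _ ha), ?_⟩, ?_⟩
  · refine (HypQuad.mem_perp Q).mpr fun w hw => ?_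
    obtain ⟨c, d, rfl⟩ := Submodule.mem_span_pair.mp hw
    simp only [QuadraticMap.polar_add_left, QuadraticMap.polar_sub_right, QuadraticMap.polar_smul_left,
      QuadraticMap.polar_smul_right, polar_self_two, hQu, hQa, QuadraticMap.polar_comm (⇑Q) a u, smul_eq_mul, α, β]
    field_simp
    ring
  · rw [QuadraticMap.polar_sub_right, QuadraticMap.polar_sub_right, QuadraticMap.polar_smul_right,
      QuadraticMap.polar_smul_right, hxu, hxa, smul_zero, smul_zero, sub_zero, sub_zero]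
    exact hxy

include hQ in
theorem exists_perp_pair_ne [Finite F] {U : Submodule F (ι → F)} (hd : 3 ≤ Module.finrank F U) {u a : ι → F}
    (hQu : Q u = 0) (hQa : Q a = 0) (hua : QuadraticMap.polar (⇑Q) u a ≠ 0) :
    ∃ x ∈ U, x ∈ HypQuad.perp Q (Submodule.span F ({u, a} : Set (ι → F))) ∧
      x ∉ Submodule.span F ({u, a} : Set (ι → F)) := by
  have h1 := HypQuad.finrank_perp Q hQ (Submodule.span F ({u, a} : Set (ι → F)))
  have h2 := Submodule.finrank_sup_add_finrank_inf_eq U (HypQuad.perp Q (Submodule.span F ({u, a} : Set (ι → F))))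
  have h3 := Submodule.finrank_le (U ⊔ HypQuad.perp Q (Submodule.span F ({u, a} : Set (ι → F))))
  have h4 := finrank_pair_le (F := F) u a
  rw [Module.finrank_fintype_fun_eq_card] at h1 h3
  obtain ⟨x, ⟨hx, hx'⟩, hx0⟩ :=
    (U ⊓ HypQuad.perp Q (Submodule.span F ({u, a} : Set (ι → F)))).exists_mem_ne_zero_of_ne_bot
      (fun h => by rw [h, finrank_bot] at h2; omega)
  refine ⟨x, hx, hx', fun h => hx0 ?_⟩
  have hmem : x ∈ Submodule.span F ({u, a} : Set (ι → F)) ⊓
      HypQuad.perp Q (Submodule.span F ({u, a} : Set (ι → F))) := ⟨h, hx'⟩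
  rw [Submodule.finrank_eq_zero.mp (finrank_pair_radical_zero Q hQu hQa hua)] at hmem
  exact (Submodule.mem_bot F).mp hmem

include hQ in
/-- A singular vector of a large non-degenerate subspace with prescribed product. -/
theorem exists_partner_three [Finite F] {U : Submodule F (ι → F)}
    (hU : Cfsg.Geo.IsNondegenerateOn (QuadraticMap.polar (⇑Q)) U) (hd : 3 ≤ Module.finrank F U)
    {x : ι → F} (hx : x ∈ U) (hx0 : x ≠ 0) : ∃ u ∈ U, Q u = 0 ∧ QuadraticMap.polar (⇑Q) u x = 1 := by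
  suffices h : ∃ u ∈ U, Q u = 0 ∧ QuadraticMap.polar (⇑Q) u x ≠ 0 by
    obtain ⟨u, hu, hQu, hux⟩ := h
    refine ⟨(QuadraticMap.polar (⇑Q) u x)⁻¹ • u, U.smul_mem _ hu, by rw [QuadraticMap.map_smul, hQu, smul_zero], ?_⟩
    rw [QuadraticMap.polar_smul_left, smul_eq_mul, inv_mul_cancel₀ hux]
  obtain ⟨w, hw, hw0, hQw⟩ := exists_singular Q U (by omega)
  by_contra h
  push Not at h
  obtain ⟨-, r, hr, hwr⟩ := hU w hw hw0
  set c := QuadraticMap.polar (⇑Q) w r
  set w' := c⁻¹ • r + (-(c⁻¹ * c⁻¹ * Q r)) • w with hw'def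
  have hQw' : Q w' = 0 := by
    rw [hw'def, QuadraticMap.map_add (f := Q), QuadraticMap.map_smul, QuadraticMap.map_smul, hQw,
      QuadraticMap.polar_smul_left, QuadraticMap.polar_smul_right, QuadraticMap.polar_comm (⇑Q) r w]
    simp only [smul_eq_mul, mul_zero, add_zero]
    field_simp
    ring
  have hww' : QuadraticMap.polar (⇑Q) w w' = 1 := by
    rw [hw'def, QuadraticMap.polar_add_right, QuadraticMap.polar_smul_right, QuadraticMap.polar_smul_right,
      polar_self_two, hQw, mul_zero, smul_zero, add_zero, smul_eq_mul, inv_mul_cancel₀ hwr]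
  have hw'U : w' ∈ U := add_mem (U.smul_mem _ hr) (U.smul_mem _ hw)
  obtain ⟨-, y, hy, hxy⟩ := hU x hx hx0
  have hwx := h w hw hQw
  have hw'x := h w' hw'U hQw'
  set y' := y - QuadraticMap.polar (⇑Q) w' y • w - QuadraticMap.polar (⇑Q) w y • w' with hy'def
  have hy'U : y' ∈ U := sub_mem (sub_mem hy (U.smul_mem _ hw)) (U.smul_mem _ hw'U)
  have hwy' : QuadraticMap.polar (⇑Q) w y' = 0 := by
    rw [hy'def, QuadraticMap.polar_sub_right, QuadraticMap.polar_sub_right, QuadraticMap.polar_smul_right,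
      QuadraticMap.polar_smul_right, polar_self_two, hQw, hww']
    simp
  have hw'y' : QuadraticMap.polar (⇑Q) w' y' = 0 := by
    rw [hy'def, QuadraticMap.polar_sub_right, QuadraticMap.polar_sub_right, QuadraticMap.polar_smul_right,
      QuadraticMap.polar_smul_right, polar_self_two, hQw', QuadraticMap.polar_comm (⇑Q) w' w, hww']
    simp
  have hv := h (y' + (w + (-Q y') • w')) (add_mem hy'U (add_mem hw (U.smul_mem _ hw'U))) (by
    rw [QuadraticMap.map_add (f := Q), QuadraticMap.map_add (f := Q), QuadraticMap.map_smul, hQw, hQw',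
      QuadraticMap.polar_smul_right, hww', QuadraticMap.polar_add_right, QuadraticMap.polar_smul_right,
      QuadraticMap.polar_comm (⇑Q) y' w, QuadraticMap.polar_comm (⇑Q) y' w', hwy', hw'y']
    simp)
  have hy'x : QuadraticMap.polar (⇑Q) y' x = QuadraticMap.polar (⇑Q) x y := by
    rw [hy'def, QuadraticMap.polar_sub_left, QuadraticMap.polar_sub_left, QuadraticMap.polar_smul_left,
      QuadraticMap.polar_smul_left, hwx, hw'x, QuadraticMap.polar_comm (⇑Q) y x, smul_zero, smul_zero, sub_zero,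
      sub_zero]
  rw [QuadraticMap.polar_add_left, QuadraticMap.polar_add_left, QuadraticMap.polar_smul_left, hwx, hw'x, hy'x,
    smul_zero, add_zero, add_zero] at hv
  exact hxy hv

include hQ in
/-- Local elements of `Ω` move singular vectors of `U` to one another and scale them by squares. -/
theorem exists_local_map [Finite F] {U W : Submodule F (ι → F)}
    (hU : Cfsg.Geo.IsNondegenerateOn (QuadraticMap.polar (⇑Q)) U) (hd : 4 ≤ Module.finrank F U)
    (hUW : ∀ u ∈ U, ∀ w ∈ W, QuadraticMap.polar (⇑Q) u w = 0) {u a : ι → F} (hu : u ∈ U) (ha : a ∈ U)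
    (hQu : Q u = 0) (hQa : Q a = 0) (hua : QuadraticMap.polar (⇑Q) u a ≠ 0) :
    ∃ k ∈ Cfsg.Omega F (⇑Q), mat Q k *ᵥ u = a ∧ ∀ w ∈ W, mat Q k *ᵥ w = w := by
  obtain ⟨hle, hnd⟩ := pair_perp_nondeg Q hQ hU hu ha hQu hQa hua
  set p := QuadraticMap.polar (⇑Q) u a with hp
  have hQv : Q (u - a) = -p := by
    rw [sub_eq_add_neg, QuadraticMap.map_add (f := Q), QuadraticMap.map_neg, hQu, hQa, QuadraticMap.polar_neg_right]
    ring
  obtain ⟨y, hy, hQy⟩ := represents Q _ (by omega) hnd (-p)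
  have hv0 : Q (u - a) ≠ 0 := by rw [hQv]; exact neg_ne_zero.mpr hua
  have hy0 : Q y ≠ 0 := by rw [hQy]; exact neg_ne_zero.mpr hua
  have hr : ∀ (v : ι → F) (hv : Q v ≠ 0) x, mat Q (refl Q v hv) *ᵥ x =
      x - ((Q v)⁻¹ * QuadraticMap.polar (⇑Q) v x) • v := fun v hv x => mulVec_eq Q v x
  have hm : ∀ x, mat Q (refl Q y hy0 * refl Q (u - a) hv0) *ᵥ x =
      mat Q (refl Q y hy0) *ᵥ (mat Q (refl Q (u - a) hv0) *ᵥ x) := fun x => mulVec_mul Q _ _ x
  refine ⟨_, refl_pair_mem_omega Q hQ hv0 hy0 (hQv.trans hQy.symm), ?_, fun w hw => ?_⟩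
  · have e : mat Q (refl Q (u - a) hv0) *ᵥ u = a := by
      rw [hr, hQv, QuadraticMap.polar_sub_left, polar_self_two, hQu, mul_zero, zero_sub,
        QuadraticMap.polar_comm (⇑Q) a u, inv_mul_cancel₀ (neg_ne_zero.mpr hua), one_smul, sub_sub_cancel]
    rw [hm, e, hr, QuadraticMap.polar_comm (⇑Q) y a, (HypQuad.mem_perp Q).mp hy.2 a (Submodule.subset_span (by simp)),
      mul_zero, zero_smul, sub_zero]
  · rw [hm, hr (u - a) hv0, hUW _ (sub_mem hu ha) w hw, mul_zero, zero_smul, sub_zero, hr, hUW _ hy.1 w hw,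
      mul_zero, zero_smul, sub_zero]

/-- A totally singular plane lies in the subspace. -/
def Plane (X : Submodule F (ι → F)) : Prop := ∃ T ≤ X, Module.finrank F T = 2 ∧ ∀ x ∈ T, Q x = 0

include hQ in
theorem Plane.exists_perp [Finite F] {X : Submodule F (ι → F)} (h : Plane Q X) (v : ι → F) :
    ∃ τ ∈ X, Q τ = 0 ∧ QuadraticMap.polar (⇑Q) v τ = 0 ∧ τ ∉ Submodule.span F {v} := by
  obtain ⟨T, hT, hd, hts⟩ := h
  by_contra hc
  push Not at hc
  have hmem : ∀ τ ∈ T ⊓ HypQuad.perp Q (Submodule.span F {v}), τ ∈ Submodule.span F {v} := fun τ hτ =>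
    hc τ (hT hτ.1) (hts τ hτ.1) ((mem_perp_singleton Q).mp hτ.2)
  obtain ⟨τ, hτ, hτ0⟩ := (T ⊓ HypQuad.perp Q (Submodule.span F {v})).exists_mem_ne_zero_of_ne_bot fun e => by
    have h1 := two_le_inf_perp_singleton Q hQ T v
    rw [e, finrank_bot] at h1
    omega
  obtain ⟨c, hc'⟩ := Submodule.mem_span_singleton.mp (hmem τ hτ)
  have hvT : v ∈ T := (T.smul_mem_iff (fun e : c = 0 => hτ0 (by rw [← hc', e, zero_smul]))).mp (hc' ▸ hτ.1)
  have hle : T ≤ Submodule.span F {v} := fun x hx => hmem x ⟨hx, (mem_perp_singleton Q).mpr (by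
    rw [QuadraticMap.polar, hts _ (add_mem hvT hx), hts v hvT, hts x hx, sub_zero, sub_zero])⟩
  have h1 := Submodule.finrank_mono hle
  have h2 := finrank_span_le_card (R := F) ({v} : Set (ι → F))
  simp at h2
  omega

include hQ in
/-- A moving Siegel element of a plus space may be chosen with singular axes. -/
theorem exists_moving_singular [Finite F] {U U' : Submodule F (ι → F)}
    (hU' : Cfsg.Geo.IsNondegenerateOn (QuadraticMap.polar (⇑Q)) U') (hd : 4 ≤ Module.finrank F U') (hP : Plane Q U')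
    {u z : ι → F} (hu' : u ∈ U') (hz' : z ∈ U') (hu : Q u = 0) (huz : QuadraticMap.polar (⇑Q) u z = 0)
    (hmove : ∃ x ∈ U, mat Q (siegelG Q hu huz) *ᵥ x ∉ U) :
    ∃ z₁ ∈ U', Q z₁ = 0 ∧ ∃ h : QuadraticMap.polar (⇑Q) u z₁ = 0,
      ∃ x ∈ U, mat Q (siegelG Q hu h) *ᵥ x ∉ U := by
  by_contra hc
  push Not at hc
  set G : (ι → F) → Prop := fun y => ∀ h : QuadraticMap.polar (⇑Q) u y = 0, ∀ x ∈ U,
    mat Q (siegelG Q hu h) *ᵥ x ∈ U with hG
  have hsing : ∀ y ∈ U', Q y = 0 → G y := fun y hy hQy h => hc y hy hQy h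
  have hadd : ∀ p q, QuadraticMap.polar (⇑Q) u p = 0 → QuadraticMap.polar (⇑Q) u q = 0 → G p → G q → G (p + q) := by
    intro p q hp hq gp gq h x hx
    have e : siegelG Q hu h = siegelG Q hu hp * siegelG Q hu hq := (siegelG_mul ..).symm
    rw [e, mat, mulVec_mul]
    exact gp hp _ (gq hq x hx)
  have huu : QuadraticMap.polar (⇑Q) u u = 0 := by rw [polar_self_two, hu, mul_zero]
  have hu0 : u ≠ 0 := by
    rintro rfl
    obtain ⟨x, hx, hxU⟩ := hmove
    apply hxU
    rw [mat_siegelG, siegelMap, QuadraticMap.polar_zero_left]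
    simpa using hx
  have hmult : ∀ c : F, G (c • u) := fun c h x hx => by
    rw [mat_siegelG, siegelMap, QuadraticMap.polar_smul_left, QuadraticMap.map_smul, hu]
    convert hx using 1
    module
  obtain ⟨v, hv, hQv, hvu⟩ := exists_partner_three Q hQ hU' (by omega) hu' hu0
  have huv : QuadraticMap.polar (⇑Q) u v = 1 := by rw [QuadraticMap.polar_comm]; exact hvu
  obtain ⟨hle, hnd⟩ := pair_perp_nondeg Q hQ (U := U') hU' hu' hv hu hQv (by rw [huv]; exact one_ne_zero)
  set R := U' ⊓ HypQuad.perp Q (Submodule.span F ({u, v} : Set (ι → F)))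
  have hR : ∀ y ∈ R, QuadraticMap.polar (⇑Q) u y = 0 := fun y hy =>
    (HypQuad.mem_perp Q).mp hy.2 u (Submodule.subset_span (by simp))
  have hRmem : ∀ y ∈ U', QuadraticMap.polar (⇑Q) u y = 0 → QuadraticMap.polar (⇑Q) v y = 0 → y ∈ R := by
    intro y hy h1 h2
    refine ⟨hy, (HypQuad.mem_perp Q).mpr fun w hw => ?_⟩
    obtain ⟨a, b, rfl⟩ := Submodule.mem_span_pair.mp hw
    rw [QuadraticMap.polar_add_left, QuadraticMap.polar_smul_left, QuadraticMap.polar_smul_left, h1, h2, smul_zero,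
      smul_zero, add_zero]
  obtain ⟨τ, hτ, hQτ, huτ, hτn⟩ := hP.exists_perp Q hQ u
  obtain ⟨s, hsR, hs0, hQs⟩ : ∃ s ∈ R, s ≠ 0 ∧ Q s = 0 := by
    refine ⟨τ + (-QuadraticMap.polar (⇑Q) v τ) • u, hRmem _ (add_mem hτ (U'.smul_mem _ hu')) ?_ ?_, fun e => hτn ?_, ?_⟩
    · rw [QuadraticMap.polar_add_right, QuadraticMap.polar_smul_right, huu, huτ, smul_zero, add_zero]
    · rw [QuadraticMap.polar_add_right, QuadraticMap.polar_smul_right, hvu, smul_eq_mul, mul_one, add_neg_cancel]
    · rw [eq_neg_of_add_eq_zero_left e]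
      exact neg_mem (Submodule.smul_mem _ _ (Submodule.mem_span_singleton_self u))
    · rw [WittQuad.val_smul_add, hQτ, hu, QuadraticMap.polar_comm (⇑Q) τ u, huτ]; ring
  have hne : ∀ y ∈ R, QuadraticMap.polar (⇑Q) y s ≠ 0 → G y := by
    intro y hy hys
    have hyd : y = (y + (-Q y / QuadraticMap.polar (⇑Q) y s) • s) + (Q y / QuadraticMap.polar (⇑Q) y s) • s := by
      rw [neg_div]; module
    rw [hyd]
    refine hadd _ _ (by rw [QuadraticMap.polar_add_right, QuadraticMap.polar_smul_right, hR y hy, hR s hsR, smul_zero,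
      add_zero]) (by rw [QuadraticMap.polar_smul_right, hR s hsR, smul_zero]) (hsing _ (add_mem hy.1 (U'.smul_mem _ hsR.1)) ?_)
      (hsing _ (U'.smul_mem _ hsR.1) (by rw [QuadraticMap.map_smul, hQs, smul_zero]))
    rw [WittQuad.val_smul_add, hQs]
    field_simp
    ring
  have hall : ∀ y ∈ R, G y := by
    intro y hy
    by_cases hys : QuadraticMap.polar (⇑Q) y s = 0
    swap
    · exact hne y hy hys
    obtain ⟨r, hr, hsr⟩ := hnd s hsR hs0
    have hrs : QuadraticMap.polar (⇑Q) r s ≠ 0 := by rw [QuadraticMap.polar_comm]; exact hsr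
    rw [show y = (y + r) + -r by abel]
    refine hadd _ _ (hR _ (add_mem hy hr)) (hR _ (neg_mem hr))
      (hne _ (add_mem hy hr) (by rw [QuadraticMap.polar_add_left, hys, zero_add]; exact hrs))
      (hne _ (neg_mem hr) (by rw [QuadraticMap.polar_neg_left]; exact neg_ne_zero.mpr hrs))
  obtain ⟨x, hx, hxU⟩ := hmove
  refine hxU ?_
  set c := QuadraticMap.polar (⇑Q) v z with hcdef
  have h1 : QuadraticMap.polar (⇑Q) u (z + (-c) • u) = 0 := by
    rw [QuadraticMap.polar_add_right, QuadraticMap.polar_smul_right, huu, huz, smul_zero, add_zero]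
  have h2 : QuadraticMap.polar (⇑Q) v (z + (-c) • u) = 0 := by
    rw [QuadraticMap.polar_add_right, QuadraticMap.polar_smul_right, hvu, smul_eq_mul, mul_one, hcdef, add_neg_cancel]
  have hz : G (z + (-c) • u + c • u) := hadd _ _ h1 (by rw [QuadraticMap.polar_smul_right, huu, smul_zero])
    (hall _ (hRmem _ (add_mem hz' (U'.smul_mem _ hu')) h1 h2)) (hmult c)
  rw [show z + (-c) • u + c • u = z by module] at hz
  exact hz huz x hx

include hQ in
/-- Some conjugate of a local Siegel element moves `U`. -/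
theorem exists_moving_four [Finite F] {W : Submodule F (ι → F)}
    (hW : Cfsg.Geo.IsNondegenerateOn (QuadraticMap.polar (⇑Q)) W)
    (hb : 4 ≤ Module.finrank F ↥(HypQuad.perp Q W)) (hab : Module.finrank F W ≤ Module.finrank F ↥(HypQuad.perp Q W))
    (hne : ∀ g : Cfsg.isometryGroup F (⇑Q), W.map (Matrix.toLin' (mat Q g)) ≠ HypQuad.perp Q W)
    (g : Cfsg.isometryGroup F (⇑Q)) (hg : (g : GL ι F) ∉ Cfsg.Geo.subspaceStabilizer W) :
    ∃ u z, ∃ (hu : Q u = 0) (huz : QuadraticMap.polar (⇑Q) u z = 0),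
      mat Q g⁻¹ *ᵥ u ∈ HypQuad.perp Q W ∧ mat Q g⁻¹ *ᵥ z ∈ HypQuad.perp Q W ∧
      ∃ x ∈ HypQuad.perp Q W, mat Q (siegelG Q hu huz) *ᵥ x ∉ HypQuad.perp Q W := by
  classical
  set U := HypQuad.perp Q W with hUdef
  obtain ⟨-, hU⟩ := nondeg_perp Q hQ hW
  have hUW' : ∀ u ∈ U, ∀ w ∈ W, QuadraticMap.polar (⇑Q) u w = 0 := fun u hu w hw => by
    rw [QuadraticMap.polar_comm]; exact (HypQuad.mem_perp Q).mp hu w hw
  have hmemW : ∀ x, (∀ u ∈ U, QuadraticMap.polar (⇑Q) u x = 0) → x ∈ W := fun x h => by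
    rw [← perp_perp Q hQ W]; exact (HypQuad.mem_perp Q).mpr h
  by_contra hcon
  push Not at hcon
  set U' := U.map (Matrix.toLin' (mat Q g)) with hU'
  have hin0 : ∀ v ∈ U', mat Q g⁻¹ *ᵥ v ∈ U := by
    rintro _ ⟨v, hv, rfl⟩
    rw [Matrix.toLin'_apply, mulVec_inv_cancel]
    exact hv
  have hfix : ∀ u z, u ∈ U' → z ∈ U' → ∀ (hu : Q u = 0) (huz : QuadraticMap.polar (⇑Q) u z = 0),
      ∀ x ∈ U, mat Q (siegelG Q hu huz) *ᵥ x ∈ U := fun u z hu' hz' hu huz x hx =>
    hcon u z hu huz (hin0 u hu') (hin0 z hz') x hx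
  have hU'd : Module.finrank F U' = Module.finrank F U :=
    LinearEquiv.finrank_map_eq (Matrix.toLinearEquiv' (mat Q g) (g : GL ι F).invertible) U
  have hU'n : Cfsg.Geo.IsNondegenerateOn (QuadraticMap.polar (⇑Q)) U' := by
    rintro _ ⟨v, hv, rfl⟩ h0
    obtain ⟨-, y, hy, hvy⟩ := hU v hv (fun h => h0 (by rw [h, map_zero]))
    refine ⟨⟨Matrix.toLin' (mat Q g) y, ⟨y, hy, rfl⟩, ?_⟩, Matrix.toLin' (mat Q g) y, ⟨y, hy, rfl⟩, ?_⟩
    · rw [Matrix.toLin'_apply, Matrix.toLin'_apply, polar_act, QuadraticMap.polar_comm]; exact hvy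
    · rw [Matrix.toLin'_apply, Matrix.toLin'_apply, polar_act]; exact hvy
  have hWd : Module.finrank F (W.map (Matrix.toLin' (mat Q g))) = Module.finrank F W :=
    LinearEquiv.finrank_map_eq (Matrix.toLinearEquiv' (mat Q g) (g : GL ι F).invertible) W
  have hkey : U' = U → False := fun h => by
    apply hg
    apply (mem_subspaceStabilizer_iff _ _).mpr
    refine Submodule.eq_of_le_of_finrank_eq ?_ hWd
    rintro _ ⟨w, hw, rfl⟩
    refine hmemW _ fun u hu => ?_
    rw [← h] at hu
    obtain ⟨v, hv, rfl⟩ := hu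
    rw [Matrix.toLin'_apply]
    change QuadraticMap.polar (⇑Q) (mat Q g *ᵥ v) (mat Q g *ᵥ w) = 0
    rw [polar_act]
    exact hUW' v hv w hw
  by_cases hperp : ∀ x ∈ U, ∀ v ∈ U', QuadraticMap.polar (⇑Q) v x = 0
  · -- then the two parts are exchanged
    have hle : U' ≤ W := fun v hv => hmemW v fun u hu => by rw [QuadraticMap.polar_comm]; exact hperp u hu v hv
    have heq : U' = W := Submodule.eq_of_le_of_finrank_le hle (by omega)
    have hd : Module.finrank F U = Module.finrank F W := by rw [← heq, hU'd]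
    apply hne g
    refine Submodule.eq_of_le_of_finrank_eq ?_ (hWd.trans hd.symm)
    rintro _ ⟨w, hw, rfl⟩
    refine (HypQuad.mem_perp Q).mpr fun v hv => ?_
    rw [← heq] at hv
    obtain ⟨v', hv', rfl⟩ := hv
    rw [Matrix.toLin'_apply]
    change QuadraticMap.polar (⇑Q) (mat Q g *ᵥ v') (mat Q g *ᵥ w) = 0
    rw [polar_act]
    exact hUW' v' hv' w hw
  push Not at hperp
  obtain ⟨x, hx, v, hv, hvx⟩ := hperp
  have hin : ∀ x ∈ U, ∀ u ∈ U', Q u = 0 → QuadraticMap.polar (⇑Q) u x ≠ 0 → u ∈ U ∧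
      ∀ z ∈ U', QuadraticMap.polar (⇑Q) u z = 0 → z ∈ U := by
    intro x hx u hu hQu hux
    have hstep : ∀ z ∈ U', ∀ (huz : QuadraticMap.polar (⇑Q) u z = 0), QuadraticMap.polar (⇑Q) u x • z +
        (-QuadraticMap.polar (⇑Q) z x - Q z * QuadraticMap.polar (⇑Q) u x) • u ∈ U := by
      intro z hz huz
      have h := hfix u z hu hz hQu huz x hx
      rw [mat_siegelG, siegelMap, add_assoc, U.add_mem_iff_right hx] at h
      exact h
    have hu0 : u ≠ 0 := fun h => hux (by rw [h, QuadraticMap.polar_zero_left])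
    obtain ⟨u2, hu2, hQu2, hu2u⟩ := exists_partner_three Q hQ hU'n (by omega) hu hu0
    obtain ⟨a, haU, haS, haS'⟩ := exists_perp_pair_ne Q hQ (U := U') (by omega) hQu hQu2
      (by rw [QuadraticMap.polar_comm, hu2u]; exact one_ne_zero)
    have hua : QuadraticMap.polar (⇑Q) u a = 0 :=
      (HypQuad.mem_perp Q).mp haS u (Submodule.subset_span (by simp))
    have hau2 : QuadraticMap.polar (⇑Q) a u2 = 0 := by
      rw [QuadraticMap.polar_comm]; exact (HypQuad.mem_perp Q).mp haS u2 (Submodule.subset_span (by simp))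
    obtain ⟨-, r, hr, har⟩ := hU'n a haU (fun h => haS' (h ▸ Submodule.zero_mem _))
    set b := r - QuadraticMap.polar (⇑Q) u r • u2
    have hb' : b ∈ U' := sub_mem hr (U'.smul_mem _ hu2)
    have hub : QuadraticMap.polar (⇑Q) u b = 0 := by
      rw [QuadraticMap.polar_sub_right, QuadraticMap.polar_smul_right, QuadraticMap.polar_comm (⇑Q) u u2, hu2u,
        smul_eq_mul, mul_one, sub_self]
    have hab' : QuadraticMap.polar (⇑Q) a b ≠ 0 := by
      rw [QuadraticMap.polar_sub_right, QuadraticMap.polar_smul_right, hau2, smul_zero, sub_zero]; exact har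
    have h12 := hstep _ (add_mem haU hb') (by rw [QuadraticMap.polar_add_right, hua, hub, add_zero])
    have h := sub_mem h12 (add_mem (hstep _ haU hua) (hstep _ hb' hub))
    have e : QuadraticMap.polar (⇑Q) u x • (a + b) +
        (-QuadraticMap.polar (⇑Q) (a + b) x - Q (a + b) * QuadraticMap.polar (⇑Q) u x) • u -
        (QuadraticMap.polar (⇑Q) u x • a + (-QuadraticMap.polar (⇑Q) a x - Q a * QuadraticMap.polar (⇑Q) u x) • u +
        (QuadraticMap.polar (⇑Q) u x • b +
          (-QuadraticMap.polar (⇑Q) b x - Q b * QuadraticMap.polar (⇑Q) u x) • u)) =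
        (-(QuadraticMap.polar (⇑Q) a b * QuadraticMap.polar (⇑Q) u x)) • u := by
      rw [QuadraticMap.map_add (f := Q), QuadraticMap.polar_add_left]
      module
    rw [e] at h
    have huU : u ∈ U := (U.smul_mem_iff (neg_ne_zero.mpr (mul_ne_zero hab' hux))).mp h
    refine ⟨huU, fun z hz huz => ?_⟩
    have h := hstep z hz huz
    rw [U.add_mem_iff_left (U.smul_mem _ huU), U.smul_mem_iff hux] at h
    exact h
  obtain ⟨u₁, hu₁, hQu₁, hu₁x⟩ : ∃ u ∈ U', Q u = 0 ∧ QuadraticMap.polar (⇑Q) u x ≠ 0 := by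
    have hv0 : v ≠ 0 := fun h => hvx (by rw [h, QuadraticMap.polar_zero_left])
    by_contra hnone
    push Not at hnone
    obtain ⟨u2, hu2, hQu2, hu2v⟩ := exists_partner_three Q hQ hU'n (by omega) hv hv0
    have h2 : QuadraticMap.polar (⇑Q) u2 x = 0 := hnone u2 hu2 hQu2
    have hQd : Q (v + (-Q v) • u2) = 0 := by
      rw [QuadraticMap.map_add (f := Q), QuadraticMap.map_smul, hQu2, QuadraticMap.polar_smul_right,
        QuadraticMap.polar_comm (⇑Q) v u2, hu2v]
      simp
    have h3 := hnone _ (add_mem hv (U'.smul_mem _ hu2)) hQd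
    rw [QuadraticMap.polar_add_left, QuadraticMap.polar_smul_left, h2, smul_zero, add_zero] at h3
    exact hvx h3
  obtain ⟨hu₁U, hperp1⟩ := hin x hx u₁ hu₁ hQu₁ hu₁x
  obtain ⟨u₂, hu₂, hQu₂, hu₂u⟩ := exists_partner_three Q hQ hU'n (by omega) hu₁
    (fun h => hu₁x (by rw [h, QuadraticMap.polar_zero_left]))
  obtain ⟨hu₂U, -⟩ := hin u₁ hu₁U u₂ hu₂ hQu₂ (by rw [hu₂u]; exact one_ne_zero)
  refine hkey (Submodule.eq_of_le_of_finrank_eq (fun w hw => ?_) hU'd)
  have h := hperp1 (w - QuadraticMap.polar (⇑Q) u₁ w • u₂) (sub_mem hw (U'.smul_mem _ hu₂)) (by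
    rw [QuadraticMap.polar_sub_right, QuadraticMap.polar_smul_right, QuadraticMap.polar_comm (⇑Q) u₁ u₂, hu₂u,
      smul_eq_mul, mul_one, sub_self])
  simpa using add_mem h (U.smul_mem (QuadraticMap.polar (⇑Q) u₁ w) hu₂U)

include hQ in
theorem nondeg_sup_four [Fintype F] {W : Submodule F (ι → F)}
    (hW : Cfsg.Geo.IsNondegenerateOn (QuadraticMap.polar (⇑Q)) W)
    (hch : (2 : F) ≠ 0 ∨ ((2 : F) = 0 ∧ Module.finrank F ↥(HypQuad.perp Q W) = 4 ∧ Module.finrank F W = 4 ∧ Plane Q (HypQuad.perp Q W) ∧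
      ¬ Plane Q W)) (hn5 : 5 ≤ Fintype.card ι) (hb : 4 ≤ Module.finrank F ↥(HypQuad.perp Q W)) (hab : Module.finrank F W ≤ Module.finrank F ↥(HypQuad.perp Q W))
    (hne : ∀ g : Cfsg.isometryGroup F (⇑Q), W.map (Matrix.toLin' (mat Q g)) ≠ HypQuad.perp Q W)
    (hex : ¬ (Fintype.card F ≤ 3 ∧ Module.finrank F W = 2 ∧ ∃ s ∈ W, s ≠ 0 ∧ Q s = 0))
    (H : Subgroup (Cfsg.isometryGroup F (⇑Q)))
    (hH : ∀ g ∈ Cfsg.Omega F (⇑Q), (g : GL ι F) ∈ Cfsg.Geo.subspaceStabilizer W → g ∈ H)
    {g₀ : Cfsg.isometryGroup F (⇑Q)} (hg₀ : g₀ ∈ H) (hg₀W : (g₀ : GL ι F) ∉ Cfsg.Geo.subspaceStabilizer W) :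
    Cfsg.Omega F (⇑Q) ≤ H := by
  classical
  set U := HypQuad.perp Q W with hUdef
  obtain ⟨hc, hU⟩ := nondeg_perp Q hQ hW
  have hUW : ∀ u ∈ U, ∀ w ∈ W, QuadraticMap.polar (⇑Q) w u = 0 := fun u hu w hw => (HypQuad.mem_perp Q).mp hu w hw
  have hUW' : ∀ u ∈ U, ∀ w ∈ W, QuadraticMap.polar (⇑Q) u w = 0 := fun u hu w hw => by
    rw [QuadraticMap.polar_comm]; exact hUW u hu w hw
  have hmemU : ∀ x, (∀ w ∈ W, QuadraticMap.polar (⇑Q) w x = 0) → x ∈ U := fun x h => (HypQuad.mem_perp Q).mpr h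
  have hdec : ∀ x, ∃ w ∈ W, ∃ u ∈ U, w + u = x := fun x => Submodule.mem_sup.mp (hc.sup_eq_top ▸ Submodule.mem_top)
  have hdisj : ∀ x, x ∈ W → x ∈ U → x = 0 := fun x h h' => Submodule.disjoint_def.mp hc.disjoint x h h'
  have hlocU : ∀ u z (hu : Q u = 0) (huz : QuadraticMap.polar (⇑Q) u z = 0), u ∈ U → z ∈ U →
      siegelG Q hu huz ∈ H := fun u z hu huz hu' hz' => hH _ (siegelG_mem_omega Q hQ hn5 hu huz)
    (siegel_fix_subspace _ _ fun w hw => by
      simp [hUW' u hu' w hw, hUW' z hz' w hw])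
  have hlocW : ∀ u z (hu : Q u = 0) (huz : QuadraticMap.polar (⇑Q) u z = 0), u ∈ W → z ∈ W →
      siegelG Q hu huz ∈ H := fun u z hu huz hu' hz' => hH _ (siegelG_mem_omega Q hQ hn5 hu huz)
    (siegel_fix_subspace _ _ fun w hw => add_mem (W.smul_mem _ hz') (W.smul_mem _ hu'))
  have hback : ∀ (g : Cfsg.isometryGroup F (⇑Q)) (x : ι → F), mat Q g *ᵥ (mat Q g⁻¹ *ᵥ x) = x := fun g x => by
    rw [← mulVec_mul, mul_inv_cancel]; exact Matrix.one_mulVec x
  have hconjU : ∀ g ∈ H, ∀ u z (hu : Q u = 0) (huz : QuadraticMap.polar (⇑Q) u z = 0),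
      mat Q g⁻¹ *ᵥ u ∈ U → mat Q g⁻¹ *ᵥ z ∈ U → siegelG Q hu huz ∈ H := by
    intro g hg u z hu huz hu' hz'
    have p1 : QuadraticMap.polar (⇑Q) (mat Q g⁻¹ *ᵥ u) (mat Q g⁻¹ *ᵥ z) = 0 := by rw [polar_act, huz]
    have p0 : Q (mat Q g⁻¹ *ᵥ u) = 0 := by rw [(mem_iff Q).mp g⁻¹.2, hu]
    have h := H.mul_mem (H.mul_mem hg (hlocU _ _ p0 p1 hu' hz')) (H.inv_mem hg)
    rw [siegelG_conj] at h
    convert h using 2 <;> exact (hback g _).symm
  -- `In u z`: the Siegel transformation of `u` and `z` lies in `H`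
  set In : (ι → F) → (ι → F) → Prop := fun u z =>
    ∀ (hu : Q u = 0) (huz : QuadraticMap.polar (⇑Q) u z = 0), siegelG Q hu huz ∈ H with hIn
  have hInW : ∀ u ∈ U, Q u = 0 → ∀ z, QuadraticMap.polar (⇑Q) u z = 0 → In u z →
      ∀ zW ∈ W, ∀ zU ∈ U, zW + zU = z → In u zW := by
    intro u hu hQu z huz hz zW hzW zU hzU e hu' huzW
    have e1 : QuadraticMap.polar (⇑Q) u zU = 0 := by
      rw [← e, QuadraticMap.polar_add_right, huzW, zero_add] at huz; exact huz
    have e2 : QuadraticMap.polar (⇑Q) u (-zU) = 0 := by rw [QuadraticMap.polar_neg_right, e1, neg_zero]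
    have h := H.mul_mem (hz hQu huz) (hlocU u (-zU) hQu e2 hu (neg_mem hzU))
    rw [siegelG_mul] at h
    convert h using 2
    rw [← e]; abel
  -- one element mixing the parts
  have hd3 : 3 ≤ Module.finrank F U := by omega
  obtain ⟨a₀, z₀, ha₀U, hQa₀, ha₀, hz₀W, hz₀0, hInz₀⟩ : ∃ a z, a ∈ U ∧ Q a = 0 ∧ a ≠ 0 ∧ z ∈ W ∧ z ≠ 0 ∧ In a z := by
    have hfinish : ∀ k ∈ H, ∀ a z, a ∈ U → Q a = 0 → a ≠ 0 → z ∉ U → QuadraticMap.polar (⇑Q) a z = 0 →
        mat Q k⁻¹ *ᵥ a ∈ U → mat Q k⁻¹ *ᵥ z ∈ U →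
        ∃ a z, a ∈ U ∧ Q a = 0 ∧ a ≠ 0 ∧ z ∈ W ∧ z ≠ 0 ∧ In a z := by
      intro k hk a z ha hQa ha0 hz haz h1 h2'
      obtain ⟨zW, hzW, zU, hzU, e⟩ := hdec z
      exact ⟨a, zW, ha, hQa, ha0, hzW, fun h0 => hz (by rw [← e, h0, zero_add]; exact hzU),
        hInW a ha hQa z haz (fun hu huz => hconjU k hk a z hu huz h1 h2') zW hzW zU hzU e⟩
    have hperp1 : ∀ (X : Submodule F (ι → F)) v, Module.finrank F X ≤
        Module.finrank F ↥(X ⊓ HypQuad.perp Q (Submodule.span F {v})) + 1 := two_le_inf_perp_singleton Q hQ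
    -- an image of `U` meeting it in a singular vector
    have hshare : ∀ t ∈ H, (∃ x ∈ U, mat Q t *ᵥ x ∉ U) → ∀ a ∈ U, Q a = 0 → a ≠ 0 → mat Q t⁻¹ *ᵥ a ∈ U →
        ∃ a z, a ∈ U ∧ Q a = 0 ∧ a ≠ 0 ∧ z ∈ W ∧ z ≠ 0 ∧ In a z := by
      intro t htH hmove a ha hQa ha0 ha'
      set U'' := U.map (Matrix.toLin' (mat Q t)) with hU''
      have hpre : ∀ y ∈ U'', mat Q t⁻¹ *ᵥ y ∈ U := by
        rintro _ ⟨y, hy, rfl⟩
        rw [Matrix.toLin'_apply, mulVec_inv_cancel]
        exact hy
      have haU'' : a ∈ U'' := ⟨_, ha', by rw [Matrix.toLin'_apply]; exact hback t a⟩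
      have hd'' : Module.finrank F U'' = Module.finrank F U :=
        LinearEquiv.finrank_map_eq (Matrix.toLinearEquiv' (mat Q t) (t : GL ι F).invertible) U
      have hU''n : Cfsg.Geo.IsNondegenerateOn (QuadraticMap.polar (⇑Q)) U'' := by
        rintro _ ⟨v, hv, rfl⟩ h0
        obtain ⟨-, y, hy, hvy⟩ := hU v hv (fun h => h0 (by rw [h, map_zero]))
        refine ⟨⟨Matrix.toLin' (mat Q t) y, ⟨y, hy, rfl⟩, ?_⟩, Matrix.toLin' (mat Q t) y, ⟨y, hy, rfl⟩, ?_⟩
        · rw [Matrix.toLin'_apply, Matrix.toLin'_apply, polar_act, QuadraticMap.polar_comm]; exact hvy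
        · rw [Matrix.toLin'_apply, Matrix.toLin'_apply, polar_act]; exact hvy
      by_contra hno
      -- every singular vector of the intersection sees only the intersection
      have hbad : ∀ c ∈ U, c ∈ U'' → Q c = 0 → c ≠ 0 → ∀ z ∈ U'', QuadraticMap.polar (⇑Q) c z = 0 → z ∈ U := by
        intro c hc hc'' hQc hc0 z hz hcz
        by_contra hzU
        exact hno (hfinish t htH c z hc hQc hc0 hzU hcz (hpre c hc'') (hpre z hz))
      obtain ⟨b, hb'', hQb, hba⟩ := exists_partner_three Q hQ hU''n (by omega) haU'' ha0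
      set Y := U ⊓ U'' with hY
      have hYa : ∀ y ∈ Y, QuadraticMap.polar (⇑Q) a y = 0 := by
        intro y hy
        by_contra hay
        obtain ⟨x, hx, hxU⟩ := hmove
        set z := mat Q t *ᵥ x
        have hz : z ∈ U'' := ⟨x, hx, by rw [Matrix.toLin'_apply]⟩
        refine hxU ?_
        have h := hbad a ha haU'' hQa ha0 (z - (QuadraticMap.polar (⇑Q) a z / QuadraticMap.polar (⇑Q) a y) • y)
          (sub_mem hz (U''.smul_mem _ hy.2))
          (by rw [QuadraticMap.polar_sub_right, QuadraticMap.polar_smul_right, smul_eq_mul, div_mul_cancel₀ _ hay,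
            sub_self])
        simpa using add_mem h (U.smul_mem (QuadraticMap.polar (⇑Q) a z / QuadraticMap.polar (⇑Q) a y) hy.1)
      have hbU : b ∉ U := fun h => by
        have := hYa b ⟨h, hb''⟩
        rw [QuadraticMap.polar_comm, hba] at this
        exact one_ne_zero this
      have hdecY : ∀ z ∈ U'', z - QuadraticMap.polar (⇑Q) a z • b ∈ Y := fun z hz =>
        have hz' : z - QuadraticMap.polar (⇑Q) a z • b ∈ U'' := sub_mem hz (U''.smul_mem _ hb'')
        ⟨hbad a ha haU'' hQa ha0 _ hz' (by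
          rw [QuadraticMap.polar_sub_right, QuadraticMap.polar_smul_right, QuadraticMap.polar_comm (⇑Q) a b, hba,
            smul_eq_mul, mul_one, sub_self]), hz'⟩
      set A := Y ⊓ HypQuad.perp Q (Submodule.span F {b}) with hA
      have hA2 : 2 ≤ Module.finrank F A := by
        have h1 : Module.finrank F U'' ≤ Module.finrank F Y + 1 := by
          have hle : U'' ≤ Y ⊔ Submodule.span F {b} := fun z hz => Submodule.mem_sup.mpr
            ⟨_, hdecY z hz, _, Submodule.smul_mem _ _ (Submodule.mem_span_singleton_self b), sub_add_cancel z _⟩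
          have h1 := Submodule.finrank_mono hle
          have h2 := Submodule.finrank_add_le_finrank_add_finrank Y (Submodule.span F {b})
          have h3 : Module.finrank F ↥(Submodule.span F {b}) ≤ 1 :=
            (finrank_span_le_card ({b} : Set (ι → F))).trans (by simp)
          omega
        have h2 : Module.finrank F Y ≤ Module.finrank F A + 1 := hperp1 Y b
        omega
      have hAan : ∀ x ∈ A, x ≠ 0 → Q x ≠ 0 := by
        intro x hx hx0 hQx
        obtain ⟨-, z, hz, hxz⟩ := hU''n x hx.1.2 hx0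
        have hzY := hdecY z hz
        have hxb : QuadraticMap.polar (⇑Q) x b = 0 := by
          rw [QuadraticMap.polar_comm]; exact (mem_perp_singleton Q).mp hx.2
        have h1 : QuadraticMap.polar (⇑Q) x (z - QuadraticMap.polar (⇑Q) a z • b) = 0 := by
          by_contra hne'
          have h := hbad x hx.1.1 hx.1.2 hQx hx0 (b - (QuadraticMap.polar (⇑Q) x b /
            QuadraticMap.polar (⇑Q) x (z - QuadraticMap.polar (⇑Q) a z • b)) • (z - QuadraticMap.polar (⇑Q) a z • b))
            (sub_mem hb'' (U''.smul_mem _ hzY.2)) (by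
              rw [QuadraticMap.polar_sub_right, QuadraticMap.polar_smul_right, smul_eq_mul, div_mul_cancel₀ _ hne',
                sub_self])
          rw [hxb, zero_div, zero_smul, sub_zero] at h
          exact hbU h
        rw [QuadraticMap.polar_sub_right, QuadraticMap.polar_smul_right, hxb, smul_zero, sub_zero] at h1
        exact hxz h1
      rcases hch with h2 | ⟨-, hd4, -, hT, -⟩
      swap
      · obtain ⟨τ, hτ, hQτ, haτ, hτn⟩ := hT.exists_perp Q hQ a
        have hlt : U ⊓ HypQuad.perp Q (Submodule.span F {a}) < U := lt_of_le_of_ne inf_le_left fun e => by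
          obtain ⟨-, y, hy, hay⟩ := hU a ha ha0
          exact hay ((mem_perp_singleton Q).mp (e.ge hy).2)
        have h3 := Submodule.finrank_lt_finrank_of_lt hlt
        have hYeq : Y = U ⊓ HypQuad.perp Q (Submodule.span F {a}) := Submodule.eq_of_le_of_finrank_le
          (fun y hy => ⟨hy.1, (mem_perp_singleton Q).mpr (hYa y hy)⟩) (by
            have h1 : Module.finrank F U'' ≤ Module.finrank F Y + 1 := by
              have hle : U'' ≤ Y ⊔ Submodule.span F {b} := fun z hz => Submodule.mem_sup.mpr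
                ⟨_, hdecY z hz, _, Submodule.smul_mem _ _ (Submodule.mem_span_singleton_self b), sub_add_cancel z _⟩
              have h1 := Submodule.finrank_mono hle
              have h2 := Submodule.finrank_add_le_finrank_add_finrank Y (Submodule.span F {b})
              have h3 : Module.finrank F ↥(Submodule.span F {b}) ≤ 1 :=
                (finrank_span_le_card ({b} : Set (ι → F))).trans (by simp)
              omega
            omega)
        set x := τ + (-QuadraticMap.polar (⇑Q) b τ) • a with hxdef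
        have hxA : x ∈ A := ⟨add_mem (hYeq ▸ ⟨hτ, (mem_perp_singleton Q).mpr haτ⟩) (Y.smul_mem _ ⟨ha, haU''⟩),
          (mem_perp_singleton Q).mpr (by
            rw [hxdef, QuadraticMap.polar_add_right, QuadraticMap.polar_smul_right, hba, smul_eq_mul, mul_one,
              add_neg_cancel])⟩
        refine hAan x hxA (fun e => hτn ?_) ?_
        · have e' : τ + (-QuadraticMap.polar (⇑Q) b τ) • a = 0 := e
          rw [eq_neg_of_add_eq_zero_left e']
          exact neg_mem (Submodule.smul_mem _ _ (Submodule.mem_span_singleton_self a))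
        · rw [hxdef, WittQuad.val_smul_add, hQτ, hQa, QuadraticMap.polar_comm (⇑Q) τ a, haτ]; ring
      have hAnd : ∀ x ∈ A, x ≠ 0 → ∃ y ∈ A, QuadraticMap.polar (⇑Q) x y ≠ 0 := fun x hx hx0 =>
        ⟨x, hx, by rw [polar_self_two]; exact mul_ne_zero h2 (hAan x hx hx0)⟩
      have hA3 : Module.finrank F A ≤ 2 := by
        by_contra h
        obtain ⟨x, hx, hx0, hQx⟩ := exists_singular Q A (by omega)
        exact hAan x hx hx0 hQx
      obtain ⟨r, hr, hr0⟩ : ∃ r ∈ U ⊓ HypQuad.perp Q (Submodule.span F {b}) ⊓ HypQuad.perp Q A, r ≠ 0 := by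
        refine Submodule.exists_mem_ne_zero_of_ne_bot fun h => ?_
        have h1 := hperp1 U b
        have h3 := HypQuad.finrank_perp Q hQ A
        have h4 := Submodule.finrank_sup_add_finrank_inf_eq (U ⊓ HypQuad.perp Q (Submodule.span F {b}))
          (HypQuad.perp Q A)
        have h5 := Submodule.finrank_le (U ⊓ HypQuad.perp Q (Submodule.span F {b}) ⊔ HypQuad.perp Q A)
        rw [Module.finrank_fintype_fun_eq_card] at h3 h5
        rw [h, finrank_bot] at h4
        omega
      have hrA : ∀ x ∈ A, QuadraticMap.polar (⇑Q) r x = 0 := fun x hx => by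
        rw [QuadraticMap.polar_comm]; exact (HypQuad.mem_perp Q).mp hr.2 x hx
      obtain ⟨f, hf, hQf⟩ := represents Q A hA2 hAnd (-Q r)
      obtain ⟨e, ⟨he, hef⟩, he0⟩ : ∃ e ∈ A ⊓ HypQuad.perp Q (Submodule.span F {f}), e ≠ 0 := by
        refine Submodule.exists_mem_ne_zero_of_ne_bot fun h => ?_
        have h1 := hperp1 A f
        rw [h, finrank_bot] at h1
        omega
      set a' := r + f with ha'def
      have ha'0 : a' ≠ 0 := fun h => by
        have h1 := hrA f hf
        rw [eq_neg_of_add_eq_zero_right h, QuadraticMap.polar_neg_right, neg_eq_zero, polar_self_two, mul_eq_zero] at h1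
        have hQr := h1.resolve_left h2
        rw [hQr, neg_zero] at hQf
        by_cases hf0 : f = 0
        · rw [ha'def, hf0, add_zero] at h; exact hr0 h
        · exact hAan f hf hf0 hQf
      have hQa' : Q a' = 0 := by
        rw [QuadraticMap.map_add (f := Q), hrA f hf, hQf]; ring
      have hbe : QuadraticMap.polar (⇑Q) b e = 0 := (mem_perp_singleton Q).mp he.2
      set k := siegelG Q hQb hbe
      have hk : k ∈ H := hconjU t htH b e hQb hbe (hpre b hb'') (hpre e he.1.2)
      have hba' : QuadraticMap.polar (⇑Q) b a' = 0 := by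
        rw [QuadraticMap.polar_add_right, (mem_perp_singleton Q).mp hr.1.2, (mem_perp_singleton Q).mp hf.2, add_zero]
      have hea' : QuadraticMap.polar (⇑Q) e a' = 0 := by
        rw [QuadraticMap.polar_comm, QuadraticMap.polar_add_left, hrA e he, (mem_perp_singleton Q).mp hef, add_zero]
      have hka : mat Q k *ᵥ a' = a' := by
        rw [mat_siegelG, siegelMap, hba', hea']
        simp
      have hke : mat Q k *ᵥ e = e + (-(2 * Q e)) • b := by
        rw [mat_siegelG, siegelMap, hbe, polar_self_two, zero_smul, add_zero, mul_zero, sub_zero]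
      have ha'U : a' ∈ U := add_mem hr.1.1 hf.1.1
      refine hno (hfinish k hk a' (mat Q k *ᵥ e) ha'U hQa' ha'0 ?_ ?_ ?_ ?_)
      · rw [hke]
        intro h
        exact hbU ((U.smul_mem_iff (neg_ne_zero.mpr (mul_ne_zero h2 (hAan e he he0)))).mp
          ((U.add_mem_iff_right he.1.1).mp h))
      · rw [← hka, polar_act, QuadraticMap.polar_comm]
        exact hea'
      · nth_rw 1 [← hka]
        rw [mulVec_inv_cancel]
        exact ha'U
      · rw [mulVec_inv_cancel]
        exact he.1.1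
    obtain ⟨u', z', hu', huz', h1, h2', x₀, hx₀, hmove⟩ := exists_moving_four Q hQ hW hb hab hne g₀ hg₀W
    rcases hch with h2 | ⟨h2, hd4, hW4, hT, hWT⟩
    swap
    · have hneg : ∀ a : F, -a = a := fun a => by linear_combination (-a) * h2
      set U' := U.map (Matrix.toLin' (mat Q g₀)) with hU'def
      have hU'd : Module.finrank F U' = Module.finrank F U :=
        LinearEquiv.finrank_map_eq (Matrix.toLinearEquiv' (mat Q g₀) (g₀ : GL ι F).invertible) U
      have hU'n : Cfsg.Geo.IsNondegenerateOn (QuadraticMap.polar (⇑Q)) U' := by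
        rintro _ ⟨v, hv, rfl⟩ h0
        obtain ⟨-, y, hy, hvy⟩ := hU v hv (fun h => h0 (by rw [h, map_zero]))
        refine ⟨⟨Matrix.toLin' (mat Q g₀) y, ⟨y, hy, rfl⟩, ?_⟩, Matrix.toLin' (mat Q g₀) y, ⟨y, hy, rfl⟩, ?_⟩
        · rw [Matrix.toLin'_apply, Matrix.toLin'_apply, polar_act, QuadraticMap.polar_comm]; exact hvy
        · rw [Matrix.toLin'_apply, Matrix.toLin'_apply, polar_act]; exact hvy
      have hmem' : ∀ x, mat Q g₀⁻¹ *ᵥ x ∈ U → x ∈ U' := fun x hx =>
        ⟨_, hx, by rw [Matrix.toLin'_apply]; exact hback g₀ x⟩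
      have hpre' : ∀ x ∈ U', mat Q g₀⁻¹ *ᵥ x ∈ U := by
        rintro _ ⟨y, hy, rfl⟩
        rw [Matrix.toLin'_apply, mulVec_inv_cancel]
        exact hy
      have hP' : Plane Q U' := by
        obtain ⟨T, hTU, hTd, hts⟩ := hT
        refine ⟨T.map (Matrix.toLin' (mat Q g₀)), Submodule.map_mono hTU, ?_, ?_⟩
        · rw [← hTd]
          exact LinearEquiv.finrank_map_eq (Matrix.toLinearEquiv' (mat Q g₀) (g₀ : GL ι F).invertible) T
        · rintro _ ⟨y, hy, rfl⟩
          rw [Matrix.toLin'_apply]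
          exact ((mem_iff Q).mp g₀.2 y).trans (hts y hy)
      obtain ⟨z, hzU', hQz, huz, hmv⟩ := exists_moving_singular Q hQ hU'n (by omega) hP' (hmem' _ h1) (hmem' _ h2')
        hu' huz' ⟨x₀, hx₀, hmove⟩
      set t := siegelG Q hu' huz with htdef
      have htH : t ∈ H := hconjU g₀ hg₀ u' z hu' huz h1 (hpre' z hzU')
      obtain ⟨p', hp', p, hp, hpd⟩ := hdec u'
      obtain ⟨q', hq', q, hq, hqd⟩ := hdec z
      have hpU : ∀ x ∈ U, QuadraticMap.polar (⇑Q) u' x = QuadraticMap.polar (⇑Q) p x := fun x hx => by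
        rw [← hpd, QuadraticMap.polar_add_left, hUW x hx p' hp', zero_add]
      have hqU : ∀ x ∈ U, QuadraticMap.polar (⇑Q) z x = QuadraticMap.polar (⇑Q) q x := fun x hx => by
        rw [← hqd, QuadraticMap.polar_add_left, hUW x hx q' hq', zero_add]
      have hfixed : ∀ {u y : ι → F} (hu : Q u = 0) (huy : QuadraticMap.polar (⇑Q) u y = 0) (a : ι → F),
          QuadraticMap.polar (⇑Q) u a = 0 → QuadraticMap.polar (⇑Q) y a = 0 →
          mat Q (siegelG Q hu huy)⁻¹ *ᵥ a = a := fun {u y} hu huy a e1 e2 => by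
        have e : mat Q (siegelG Q hu huy) *ᵥ a = a := by
          rw [mat_siegelG, siegelMap, e1, e2]; simp
        nth_rw 1 [← e]
        rw [mulVec_inv_cancel]
      by_cases hX : ∃ a ∈ U, QuadraticMap.polar (⇑Q) p a = 0 ∧ QuadraticMap.polar (⇑Q) q a = 0 ∧ Q a = 0 ∧ a ≠ 0
      · obtain ⟨a, ha, e1, e2, hQa, ha0⟩ := hX
        refine hshare t htH hmv a ha hQa ha0 ?_
        rw [htdef, hfixed hu' huz a ((hpU a ha).trans e1) ((hqU a ha).trans e2)]
        exact ha
      push Not at hX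
      have hX3 : ∀ v, (∀ x ∈ U, QuadraticMap.polar (⇑Q) v x = 0 →
          QuadraticMap.polar (⇑Q) p x = 0 ∧ QuadraticMap.polar (⇑Q) q x = 0) → False := by
        intro v hv
        have := hperp1 U v
        obtain ⟨x, hx, hx0, hQx⟩ := exists_singular Q (U ⊓ HypQuad.perp Q (Submodule.span F {v})) (by omega)
        have e := hv x hx.1 ((mem_perp_singleton Q).mp hx.2)
        exact hx0 (hX x hx.1 e.1 e.2 hQx)
      have hss : ∀ x : ι → F, QuadraticMap.polar (⇑Q) x x = 0 := fun x => by rw [polar_self_two, h2, zero_mul]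
      set β := QuadraticMap.polar (⇑Q) p q with hβ
      have hβ0 : β ≠ 0 := by
        intro h0
        have hp0 : p ≠ 0 := fun e => hX3 q fun x _ hx => ⟨by rw [e, QuadraticMap.polar_zero_left], hx⟩
        have hQp : Q p ≠ 0 := fun e => hp0 (hX p hp (hss p) (by rw [QuadraticMap.polar_comm]; exact h0) e)
        obtain ⟨s, hs⟩ := exists_sqrt_two h2 (-Q q / Q p)
        have hx := hX (q + s • p) (add_mem hq (U.smul_mem _ hp))
          (by rw [QuadraticMap.polar_add_right, QuadraticMap.polar_smul_right, hss, smul_zero, add_zero, ← hβ, h0])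
          (by rw [QuadraticMap.polar_add_right, QuadraticMap.polar_smul_right, hss, QuadraticMap.polar_comm, ← hβ, h0,
            smul_zero, add_zero])
          (by rw [WittQuad.val_smul_add, QuadraticMap.polar_comm, ← hβ, h0, hs]; field_simp; ring)
        refine hX3 p fun x _ hx' => ⟨hx', ?_⟩
        rw [eq_neg_of_add_eq_zero_left hx, QuadraticMap.polar_neg_left, QuadraticMap.polar_smul_left, hx', smul_zero,
          neg_zero]
      have hqp : QuadraticMap.polar (⇑Q) q p = β := by rw [QuadraticMap.polar_comm]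
      have hβ' : QuadraticMap.polar (⇑Q) p' q' = β := by
        have h := huz
        rw [← hpd, ← hqd, QuadraticMap.polar_add_left, QuadraticMap.polar_add_right, QuadraticMap.polar_add_right,
          hUW q hq p' hp', hUW' p hp q' hq', ← hβ, add_zero, zero_add] at h
        linear_combination h - β * h2
      have hqp' : QuadraticMap.polar (⇑Q) q' p' = β := by rw [QuadraticMap.polar_comm, hβ']
      have hQq : Q q' = Q q := by
        have h := hQz
        rw [← hqd, QuadraticMap.map_add (f := Q), hUW q hq q' hq', add_zero] at h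
        linear_combination h - Q q * h2
      set Z := W ⊓ HypQuad.perp Q (Submodule.span F {p'}) ⊓ HypQuad.perp Q (Submodule.span F {q'}) with hZ
      have hZnd : ∀ ζ ∈ Z, ζ ≠ 0 → ∃ η ∈ Z, QuadraticMap.polar (⇑Q) ζ η ≠ 0 := by
        intro ζ hζ hζ0
        obtain ⟨-, y, hy, hζy⟩ := hW ζ hζ.1.1 hζ0
        refine ⟨y + (-(QuadraticMap.polar (⇑Q) q' y / β)) • p' + (-(QuadraticMap.polar (⇑Q) p' y / β)) • q',
          ⟨⟨add_mem (add_mem hy (W.smul_mem _ hp')) (W.smul_mem _ hq'), (mem_perp_singleton Q).mpr ?_⟩,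
            (mem_perp_singleton Q).mpr ?_⟩, ?_⟩
        · rw [QuadraticMap.polar_add_right, QuadraticMap.polar_add_right, QuadraticMap.polar_smul_right,
            QuadraticMap.polar_smul_right, hss, hβ', smul_eq_mul, smul_eq_mul]
          field_simp
          ring
        · rw [QuadraticMap.polar_add_right, QuadraticMap.polar_add_right, QuadraticMap.polar_smul_right,
            QuadraticMap.polar_smul_right, hss, hqp', smul_eq_mul, smul_eq_mul]
          field_simp
          ring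
        · rw [QuadraticMap.polar_add_right, QuadraticMap.polar_add_right, QuadraticMap.polar_smul_right,
            QuadraticMap.polar_smul_right, QuadraticMap.polar_comm (⇑Q) ζ p', QuadraticMap.polar_comm (⇑Q) ζ q',
            (mem_perp_singleton Q).mp hζ.1.2, (mem_perp_singleton Q).mp hζ.2, smul_zero, smul_zero, add_zero, add_zero]
          exact hζy
      have hZ0 : Z ≠ ⊥ := by
        intro e
        have e' : ∀ x ∈ Z, x = 0 := fun x hx => (Submodule.mem_bot F).mp (e ▸ hx)
        have h1 := hperp1 W p'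
        have h3 := hperp1 (W ⊓ HypQuad.perp Q (Submodule.span F {p'})) q'
        rw [← hZ, e, finrank_bot] at h3
        omega
      obtain ⟨ζ, hζZ, hζ0, hQy⟩ : ∃ ζ ∈ Z, ζ ≠ 0 ∧ Q p' + Q ζ ≠ 0 := by
        by_contra hn
        push Not at hn
        have hval : ∀ ζ ∈ Z, ζ ≠ 0 → Q ζ = Q p' := fun ζ hζ hζ0 => by
          linear_combination hn ζ hζ hζ0 - Q p' * h2
        obtain ⟨ζ₁, hζ₁, h10⟩ := Z.exists_mem_ne_zero_of_ne_bot hZ0
        obtain ⟨ζ₂, hζ₂, h12⟩ := hZnd ζ₁ hζ₁ h10
        have h20 : ζ₂ ≠ 0 := fun e => h12 (by rw [e, QuadraticMap.polar_zero_right])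
        have hs0 : ζ₁ + ζ₂ ≠ 0 := fun e => h12 (by
          rw [eq_neg_of_add_eq_zero_right e, QuadraticMap.polar_neg_right, hss, neg_zero])
        have hB12 : QuadraticMap.polar (⇑Q) ζ₁ ζ₂ = Q p' := by
          have h := hval _ (add_mem hζ₁ hζ₂) hs0
          rw [QuadraticMap.map_add (f := Q), hval _ hζ₁ h10, hval _ hζ₂ h20] at h
          linear_combination h - Q p' * h2
        have hone : ∀ l : F, l ≠ 0 → l = 1 := fun l hl => by
          have h := hval _ (Z.smul_mem l hζ₁) (smul_ne_zero hl h10)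
          rw [QuadraticMap.map_smul, hval _ hζ₁ h10, smul_eq_mul] at h
          have h' : (l + 1) * (l + 1) = 0 := by
            refine (mul_eq_zero.mp (show (l + 1) * (l + 1) * Q p' = 0 from ?_)).resolve_right (hB12 ▸ h12)
            linear_combination h + (l * Q p' + Q p') * h2
          rw [eq_neg_of_add_eq_zero_left (mul_self_eq_zero.mp h'), hneg]
        have hQq0 : Q q ≠ 0 := by
          intro e
          obtain ⟨τ, hτ, hQτ, hqτ, hτn⟩ := hT.exists_perp Q hQ q
          refine hτn ?_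
          have hx := hX (τ + (-(QuadraticMap.polar (⇑Q) p τ / β)) • q) (add_mem hτ (U.smul_mem _ hq))
            (by rw [QuadraticMap.polar_add_right, QuadraticMap.polar_smul_right, ← hβ, smul_eq_mul]; field_simp; ring)
            (by rw [QuadraticMap.polar_add_right, QuadraticMap.polar_smul_right, hqτ, hss, smul_zero, add_zero])
            (by rw [WittQuad.val_smul_add, hQτ, e, QuadraticMap.polar_comm (⇑Q) τ q, hqτ]; ring)
          rw [eq_neg_of_add_eq_zero_left hx]
          exact neg_mem (Submodule.smul_mem _ _ (Submodule.mem_span_singleton_self q))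
        have hQp' : Q p' = 1 := hone _ (hB12 ▸ h12)
        have hQq' : Q q' = 1 := hone _ (hQq.symm ▸ hQq0)
        have hβ1 : β = 1 := hone β hβ0
        refine hWT ⟨Submodule.span F {p' + ζ₁, q' + ζ₂}, ?_, ?_, ?_⟩
        · rw [Submodule.span_le, Set.insert_subset_iff, Set.singleton_subset_iff]
          exact ⟨add_mem hp' hζ₁.1.1, add_mem hq' hζ₂.1.1⟩
        · have hli : LinearIndependent F ![p' + ζ₁, q' + ζ₂] := by
            rw [LinearIndependent.pair_iff]
            intro a b e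
            have e1 := congrArg (fun x => QuadraticMap.polar (⇑Q) q' x) e
            have e2 := congrArg (fun x => QuadraticMap.polar (⇑Q) p' x) e
            simp only [QuadraticMap.polar_add_right, QuadraticMap.polar_smul_right, QuadraticMap.polar_zero_right, hss,
              hqp', hβ', hβ1, (mem_perp_singleton Q).mp hζ₁.1.2, (mem_perp_singleton Q).mp hζ₁.2,
              (mem_perp_singleton Q).mp hζ₂.1.2, (mem_perp_singleton Q).mp hζ₂.2, smul_eq_mul, mul_one, mul_zero,
              add_zero, zero_add] at e1 e2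
            exact ⟨e1, e2⟩
          have h := finrank_span_eq_card hli
          rw [Matrix.range_cons_cons_empty] at h
          simpa using h
        · intro x hx
          obtain ⟨a, b, rfl⟩ := Submodule.mem_span_pair.mp hx
          rw [QuadraticMap.map_add (f := Q), QuadraticMap.map_smul, QuadraticMap.map_smul, QuadraticMap.map_add (f := Q),
            QuadraticMap.map_add (f := Q), hval _ hζ₁ h10, hval _ hζ₂ h20, (mem_perp_singleton Q).mp hζ₁.1.2,
            (mem_perp_singleton Q).mp hζ₂.2, hQp', hQq']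
          simp only [QuadraticMap.polar_smul_left, QuadraticMap.polar_smul_right, QuadraticMap.polar_add_left,
            QuadraticMap.polar_add_right, hβ', hβ1, hB12, hQp', (mem_perp_singleton Q).mp hζ₂.1.2,
            QuadraticMap.polar_comm (⇑Q) ζ₁ q', (mem_perp_singleton Q).mp hζ₁.2, smul_eq_mul]
          linear_combination (a * a + b * b + a * b) * h2
      set y' := p' + ζ with hy'
      have hy'W : y' ∈ W := add_mem hp' hζZ.1.1
      have hp'ζ : QuadraticMap.polar (⇑Q) p' ζ = 0 := (mem_perp_singleton Q).mp hζZ.1.2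
      have hq'ζ : QuadraticMap.polar (⇑Q) q' ζ = 0 := (mem_perp_singleton Q).mp hζZ.2
      have hQy' : Q y' ≠ 0 := by rw [hy', QuadraticMap.map_add (f := Q), hp'ζ, add_zero]; exact hQy
      have hp'y : QuadraticMap.polar (⇑Q) y' p' = 0 := by
        rw [hy', QuadraticMap.polar_add_left, hss, QuadraticMap.polar_comm, hp'ζ, add_zero]
      have hq'y : QuadraticMap.polar (⇑Q) y' q' = β := by
        rw [hy', QuadraticMap.polar_add_left, hβ', QuadraticMap.polar_comm (⇑Q) ζ q', hq'ζ, add_zero]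
      obtain ⟨y, hy, hyp, hyq, hQyy⟩ : ∃ y ∈ U, QuadraticMap.polar (⇑Q) p y = 0 ∧ QuadraticMap.polar (⇑Q) q y = 0 ∧
          Q y = Q y' := by
        have h1 := hperp1 U p
        have h3 := hperp1 (U ⊓ HypQuad.perp Q (Submodule.span F {p})) q
        obtain ⟨v, hv, hv0⟩ := (U ⊓ HypQuad.perp Q (Submodule.span F {p}) ⊓
          HypQuad.perp Q (Submodule.span F {q})).exists_mem_ne_zero_of_ne_bot fun e => by
            rw [e, finrank_bot] at h3; omega
        have hQv : Q v ≠ 0 := fun e => hv0 (hX v hv.1.1 ((mem_perp_singleton Q).mp hv.1.2)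
          ((mem_perp_singleton Q).mp hv.2) e)
        obtain ⟨s, hs⟩ := exists_sqrt_two h2 (Q y' / Q v)
        refine ⟨s • v, U.smul_mem _ hv.1.1, ?_, ?_, ?_⟩
        · rw [QuadraticMap.polar_smul_right, (mem_perp_singleton Q).mp hv.1.2, smul_zero]
        · rw [QuadraticMap.polar_smul_right, (mem_perp_singleton Q).mp hv.2, smul_zero]
        · rw [QuadraticMap.map_smul, smul_eq_mul, hs, div_mul_cancel₀ _ hQv]
      have hQy0 : Q y ≠ 0 := hQyy ▸ hQy'
      set s := refl Q y hQy0 * refl Q y' hQy' with hsdef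
      have hsm : ∀ x, mat Q s *ᵥ x = mat Q (refl Q y hQy0) *ᵥ (mat Q (refl Q y' hQy') *ᵥ x) := fun x => mulVec_mul Q _ _ x
      have hr : ∀ (v : ι → F) (hv : Q v ≠ 0) x, mat Q (refl Q v hv) *ᵥ x =
          x - ((Q v)⁻¹ * QuadraticMap.polar (⇑Q) v x) • v := fun v hv x => mulVec_eq Q v x
      have hsW : ∀ x ∈ W, mat Q s *ᵥ x = x - ((Q y')⁻¹ * QuadraticMap.polar (⇑Q) y' x) • y' := fun x hx => by
        rw [hsm, hr y' hQy', hr y hQy0, QuadraticMap.polar_sub_right, QuadraticMap.polar_smul_right, hUW' y hy x hx,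
          hUW' y hy y' hy'W]
        simp
      have hsH : s ∈ H := hH s (refl_pair_mem_omega Q hQ hQy' hQy0 hQyy.symm) ((mem_subspaceStabilizer_iff _ _).mpr
        (Submodule.eq_of_le_of_finrank_eq (by
          rintro _ ⟨x, hx, rfl⟩
          rw [Matrix.toLin'_apply]
          change mat Q s *ᵥ x ∈ W
          rw [hsW x hx]
          exact sub_mem hx (W.smul_mem _ hy'W))
          (LinearEquiv.finrank_map_eq (Matrix.toLinearEquiv' (mat Q s) (s : GL ι F).invertible) W)))
      have hsU : ∀ x ∈ U, QuadraticMap.polar (⇑Q) y x = 0 → mat Q s *ᵥ x = x := fun x hx e => by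
        rw [hsm, hr y' hQy', hUW x hx y' hy'W, mul_zero, zero_smul, sub_zero, hr y hQy0, e, mul_zero, zero_smul,
          sub_zero]
      set c := (Q y')⁻¹ * β with hc'
      have hc0 : c ≠ 0 := mul_ne_zero (inv_ne_zero hQy') hβ0
      have hsu : mat Q s *ᵥ u' = u' := by
        rw [← hpd, Matrix.mulVec_add, hsW p' hp', hp'y, mul_zero, zero_smul, sub_zero,
          hsU p hp (by rw [QuadraticMap.polar_comm]; exact hyp)]
      have hsz : mat Q s *ᵥ z = z + (-c) • y' := by
        rw [← hqd, Matrix.mulVec_add, hsW q' hq', hq'y, hsU q hq (by rw [QuadraticMap.polar_comm]; exact hyq), hc']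
        module
      have huy' : QuadraticMap.polar (⇑Q) u' (c • y') = 0 := by
        rw [QuadraticMap.polar_smul_right, ← hpd, QuadraticMap.polar_add_left, QuadraticMap.polar_comm (⇑Q) p' y', hp'y,
          hUW' p hp y' hy'W, add_zero, smul_zero]
      set k := siegelG Q hu' huy' with hkdef
      have hkH : k ∈ H := by
        have h := H.mul_mem (H.mul_mem (H.mul_mem hsH htH) (H.inv_mem hsH)) htH
        rw [htdef, siegelG_conj] at h
        rw [show k = siegelG Q (u := mat Q s *ᵥ u') (z := mat Q s *ᵥ z) (by rw [hsu]; exact hu')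
          (by rw [polar_act]; exact huz) * siegelG Q hu' huz from ?_]
        · exact h
        · rw [siegelG_congr Q _ _ hu' (by rw [← hsu, polar_act]; exact huz)
            (fun x => show siegelMap Q (mat Q s *ᵥ u') (mat Q s *ᵥ z) x = siegelMap Q u' (mat Q s *ᵥ z) x by rw [hsu]),
            siegelG_mul]
          refine siegelG_congr Q _ _ _ _ fun x => ?_
          congr 1
          have hzz : z + z = 0 := by rw [← two_smul F z, h2, zero_smul]
          rw [hsz, neg_smul, ← neg_smul, hneg, show z + c • y' + z = c • y' + (z + z) by abel, hzz, add_zero]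
      obtain ⟨a, ⟨haU, hap⟩, ha0, hQa⟩ := exists_singular Q (U ⊓ HypQuad.perp Q (Submodule.span F {p}))
        (by have := hperp1 U p; omega)
      obtain ⟨x, hx, hpx⟩ : ∃ x ∈ U, QuadraticMap.polar (⇑Q) p x ≠ 0 := ⟨q, hq, hβ ▸ hβ0⟩
      refine hshare k hkH ⟨x, hx, fun hkx => hζ0 ?_⟩ a haU hQa ha0 ?_
      · rw [hkdef, mat_siegelG, siegelMap, hpU x hx, QuadraticMap.polar_smul_left, hUW x hx y' hy'W, smul_zero,
          QuadraticMap.map_smul, smul_eq_mul, neg_zero, zero_sub, add_assoc, U.add_mem_iff_right hx] at hkx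
        set b := QuadraticMap.polar (⇑Q) p x
        set e := -(c * c * Q y' * b)
        have hd : (b * c) • y' + e • p' ∈ U := by
          have h := sub_mem hkx (U.smul_mem e hp)
          convert h using 1
          rw [← hpd]
          module
        have h0 := hdisj _ (add_mem (W.smul_mem _ hy'W) (W.smul_mem _ hp')) hd
        have hbc : b * c ≠ 0 := mul_ne_zero hpx hc0
        have he := congrArg (fun v => QuadraticMap.polar (⇑Q) q' v) h0
        simp only [QuadraticMap.polar_add_right, QuadraticMap.polar_smul_right, QuadraticMap.polar_zero_right,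
          QuadraticMap.polar_comm (⇑Q) q' y', hq'y, hqp', smul_eq_mul, ← add_mul] at he
        have he' : e = -(b * c) := eq_neg_of_add_eq_zero_right ((mul_eq_zero.mp he).resolve_right hβ0)
        rw [he', hy', smul_add, neg_smul, add_right_comm, add_neg_cancel, zero_add] at h0
        exact (smul_eq_zero.mp h0).resolve_left hbc
      · rw [hkdef, hfixed hu' huy' a ((hpU a haU).trans ((mem_perp_singleton Q).mp hap))
          (by rw [QuadraticMap.polar_smul_left, hUW a haU y' hy'W, smul_zero])]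
        exact haU
    set t := siegelG Q hu' huz'
    have htH : t ∈ H := hconjU g₀ hg₀ u' z' hu' huz' h1 h2'
    set U'' := U.map (Matrix.toLin' (mat Q t)) with hU''
    by_cases hsing : ∃ a ∈ U, a ∈ U'' ∧ Q a = 0 ∧ a ≠ 0
    · obtain ⟨a, ha, ⟨a', ha', e⟩, hQa, ha0⟩ := hsing
      refine hshare t htH ⟨x₀, hx₀, hmove⟩ a ha hQa ha0 ?_
      rw [← e, Matrix.toLin'_apply, mulVec_inv_cancel]
      exact ha'
    push Not at hsing
    have hpre : ∀ y ∈ U'', mat Q t⁻¹ *ᵥ y ∈ U := by
      rintro _ ⟨y, hy, rfl⟩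
      rw [Matrix.toLin'_apply, mulVec_inv_cancel]
      exact hy
    have hd'' : Module.finrank F U'' = Module.finrank F U :=
      LinearEquiv.finrank_map_eq (Matrix.toLinearEquiv' (mat Q t) (t : GL ι F).invertible) U
    have hU''n : Cfsg.Geo.IsNondegenerateOn (QuadraticMap.polar (⇑Q)) U'' := by
      rintro _ ⟨v, hv, rfl⟩ h0
      obtain ⟨-, y, hy, hvy⟩ := hU v hv (fun h => h0 (by rw [h, map_zero]))
      refine ⟨⟨Matrix.toLin' (mat Q t) y, ⟨y, hy, rfl⟩, ?_⟩, Matrix.toLin' (mat Q t) y, ⟨y, hy, rfl⟩, ?_⟩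
      · rw [Matrix.toLin'_apply, Matrix.toLin'_apply, polar_act, QuadraticMap.polar_comm]; exact hvy
      · rw [Matrix.toLin'_apply, Matrix.toLin'_apply, polar_act]; exact hvy
    obtain ⟨e, he, he'', he0⟩ : ∃ e, e ∈ U ∧ e ∈ U'' ∧ e ≠ 0 := by
      have hfix : ∀ x ∈ U ⊓ HypQuad.perp Q (Submodule.span F {u', z'}), x ∈ U'' := fun x hx => ⟨x, hx.1, by
        rw [Matrix.toLin'_apply]
        change mat Q t *ᵥ x = x
        rw [mat_siegelG, siegelMap, (HypQuad.mem_perp Q).mp hx.2 u' (Submodule.subset_span (by simp)),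
          (HypQuad.mem_perp Q).mp hx.2 z' (Submodule.subset_span (by simp))]
        simp⟩
      obtain ⟨e, he, he0⟩ := (U ⊓ HypQuad.perp Q (Submodule.span F {u', z'})).exists_mem_ne_zero_of_ne_bot (by
        intro h
        have h1 := HypQuad.finrank_perp Q hQ (Submodule.span F ({u', z'} : Set (ι → F)))
        have h2 := Submodule.finrank_sup_add_finrank_inf_eq U (HypQuad.perp Q (Submodule.span F {u', z'}))
        have h3 := Submodule.finrank_le (U ⊔ HypQuad.perp Q (Submodule.span F {u', z'}))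
        have h4 := finrank_pair_le (F := F) u' z'
        rw [Module.finrank_fintype_fun_eq_card] at h1 h3
        rw [h, finrank_bot] at h2
        omega)
      exact ⟨e, he.1, hfix e he, he0⟩
    obtain ⟨b, hb'', hQb, hbe⟩ := exists_partner_three Q hQ hU''n (by omega) he'' he0
    have hb0 : b ≠ 0 := fun h => by rw [h, QuadraticMap.polar_zero_left] at hbe; exact zero_ne_one hbe
    have hbU : b ∉ U := fun h => hb0 (hsing b h hb'' hQb)
    obtain ⟨a, ⟨ha, hab'⟩, ha0, hQa⟩ := exists_singular Q (U ⊓ HypQuad.perp Q (Submodule.span F {b}))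
      (by have := two_le_inf_perp_singleton Q hQ U b; omega)
    have hba : QuadraticMap.polar (⇑Q) b a = 0 := (mem_perp_singleton Q).mp hab'
    obtain ⟨z, hz, hzb⟩ : ∃ z ∈ U'' ⊓ HypQuad.perp Q (Submodule.span F {b}) ⊓ HypQuad.perp Q (Submodule.span F {a}),
        z ∉ Submodule.span F {b} := by
      by_contra hc'
      push Not at hc'
      have h1 := (Submodule.finrank_mono (show U'' ⊓ HypQuad.perp Q (Submodule.span F {b}) ⊓
        HypQuad.perp Q (Submodule.span F {a}) ≤ Submodule.span F {b} from hc'))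
      have h2 := two_le_inf_perp_singleton Q hQ U'' b
      have h3 := two_le_inf_perp_singleton Q hQ (U'' ⊓ HypQuad.perp Q (Submodule.span F {b})) a
      rw [finrank_span_singleton hb0] at h1
      omega
    have hbz : QuadraticMap.polar (⇑Q) b z = 0 := (mem_perp_singleton Q).mp hz.1.2
    have hza : QuadraticMap.polar (⇑Q) z a = 0 := by
      rw [QuadraticMap.polar_comm]; exact (mem_perp_singleton Q).mp hz.2
    have hbs : ∀ s : F, QuadraticMap.polar (⇑Q) b (s • z) = 0 := fun s => by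
      rw [QuadraticMap.polar_smul_right, hbz, smul_zero]
    have hks : ∀ s : F, siegelG Q hQb (hbs s) ∈ H := fun s =>
      hconjU t htH b (s • z) hQb (hbs s) (hpre b hb'') (hpre _ (U''.smul_mem s hz.1.1))
    by_cases hmv : ∃ s : F, ∃ x ∈ U, mat Q (siegelG Q hQb (hbs s)) *ᵥ x ∉ U
    · obtain ⟨s, hs⟩ := hmv
      refine hshare _ (hks s) hs a ha hQa ha0 ?_
      have hka : mat Q (siegelG Q hQb (hbs s)) *ᵥ a = a := by
        rw [mat_siegelG, siegelMap, QuadraticMap.polar_smul_left, hza, hba]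
        simp
      nth_rw 1 [← hka]
      rw [mulVec_inv_cancel]
      exact ha
    push Not at hmv
    exfalso
    set z' := z - QuadraticMap.polar (⇑Q) z e • b with hz'def
    have hperpy : ∀ y ∈ U, QuadraticMap.polar (⇑Q) b y = 0 → QuadraticMap.polar (⇑Q) z y = 0 := by
      intro y hy hby
      have h := hmv 1 y hy
      rw [mat_siegelG, siegelMap, hby, one_smul, zero_smul, add_zero, mul_zero, sub_zero, U.add_mem_iff_right hy,
        neg_smul, neg_mem_iff] at h
      by_contra hne'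
      exact hbU ((U.smul_mem_iff hne').mp h)
    have hz'W : z' ∈ W := by
      rw [← perp_perp Q hQ W, HypQuad.mem_perp]
      intro y hy
      have hy' : y - QuadraticMap.polar (⇑Q) b y • e ∈ U := sub_mem hy (U.smul_mem _ he)
      have h := hperpy _ hy' (by
        rw [QuadraticMap.polar_sub_right, QuadraticMap.polar_smul_right, hbe, smul_eq_mul, mul_one, sub_self])
      rw [QuadraticMap.polar_sub_right, QuadraticMap.polar_smul_right, smul_eq_mul] at h
      rw [hz'def, QuadraticMap.polar_sub_right, QuadraticMap.polar_smul_right, smul_eq_mul,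
        QuadraticMap.polar_comm (⇑Q) y z, QuadraticMap.polar_comm (⇑Q) y b]
      linear_combination h
    have hz'0 : z' ≠ 0 := fun h => hzb (Submodule.mem_span_singleton.mpr
      ⟨_, (sub_eq_zero.mp (hz'def.symm.trans h)).symm⟩)
    have hQz : Q z' = Q z := by
      rw [hz'def, sub_eq_add_neg, QuadraticMap.map_add (f := Q), QuadraticMap.map_neg, QuadraticMap.map_smul, hQb,
        QuadraticMap.polar_neg_right, QuadraticMap.polar_smul_right, QuadraticMap.polar_comm (⇑Q) z b, hbz]
      simp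
    have hmem : ∀ s : F, s • z' + (-(s * s * Q z)) • b ∈ U := by
      intro s
      have h := hmv s e he
      rw [mat_siegelG, siegelMap, hbe, one_smul, add_assoc, U.add_mem_iff_right he, QuadraticMap.polar_smul_left,
        QuadraticMap.map_smul, smul_eq_mul, smul_eq_mul, mul_one] at h
      convert h using 1
      rw [hz'def]
      module
    have h := add_mem (hmem 1) (U.neg_mem (hmem (-1)))
    apply hz'0
    refine hdisj z' hz'W ((U.smul_mem_iff h2).mp ?_)
    convert h using 1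
    module
  -- whole lines for singular vectors
  have hlineU : ∀ a z, a ∈ U → Q a = 0 → a ≠ 0 → z ∈ W → (∀ s : F, In a (s • z)) → ∀ u ∈ U, Q u = 0 → u ≠ 0 →
      In u z := by
    have step : ∀ a z, a ∈ U → Q a = 0 → z ∈ W → (∀ s : F, In a (s • z)) → ∀ u ∈ U, Q u = 0 →
        QuadraticMap.polar (⇑Q) a u ≠ 0 → ∀ s : F, In u (s • z) := by
      intro a z ha hQa hz hall u hu hQu hau s hu' husz
      obtain ⟨k, hk, hka, hkW⟩ := exists_local_map Q hQ hU hb hUW' ha hu hQa hQu hau
      have hkH : k ∈ H := hH k hk ((mem_subspaceStabilizer_iff _ _).mpr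
        (Submodule.eq_of_le_of_finrank_eq (by
          rintro _ ⟨x, hx, rfl⟩
          rw [Matrix.toLin'_apply]
          change mat Q k *ᵥ x ∈ W
          rw [hkW x hx]
          exact hx)
          (LinearEquiv.finrank_map_eq (Matrix.toLinearEquiv' (mat Q k) (k : GL ι F).invertible) W)))
      have e1 : QuadraticMap.polar (⇑Q) a (s • z) = 0 := hUW' a ha _ (W.smul_mem s hz)
      have h := H.mul_mem (H.mul_mem hkH (hall s hQa e1)) (H.inv_mem hkH)
      rw [siegelG_conj] at h
      convert h using 2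
      · exact hka.symm
      · exact (hkW _ (W.smul_mem s hz)).symm
    intro a z ha hQa ha0 hz hall u hu hQu hu0
    by_cases hau : QuadraticMap.polar (⇑Q) a u = 0
    swap
    · simpa using step a z ha hQa hz hall u hu hQu hau 1
    obtain ⟨x, hx, hxa, hxu⟩ : ∃ x ∈ U, QuadraticMap.polar (⇑Q) a x ≠ 0 ∧ QuadraticMap.polar (⇑Q) u x ≠ 0 := by
      obtain ⟨-, x₁, hx₁, h₁⟩ := hU a ha ha0
      by_cases hu1 : QuadraticMap.polar (⇑Q) u x₁ = 0
      swap
      · exact ⟨x₁, hx₁, h₁, hu1⟩
      obtain ⟨-, x₂, hx₂, h₂⟩ := hU u hu hu0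
      by_cases ha2 : QuadraticMap.polar (⇑Q) a x₂ = 0
      swap
      · exact ⟨x₂, hx₂, ha2, h₂⟩
      exact ⟨x₁ + x₂, add_mem hx₁ hx₂, by rw [QuadraticMap.polar_add_right, ha2, add_zero]; exact h₁,
        by rw [QuadraticMap.polar_add_right, hu1, zero_add]; exact h₂⟩
    set w := x + (-Q x / QuadraticMap.polar (⇑Q) a x) • a
    have haa : QuadraticMap.polar (⇑Q) a a = 0 := by rw [polar_self_two, hQa, mul_zero]
    have hQw : Q w = 0 := by
      rw [WittQuad.val_smul_add, hQa, QuadraticMap.polar_comm (⇑Q) x a]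
      field_simp
      ring
    have hwU : w ∈ U := add_mem hx (U.smul_mem _ ha)
    have haw : QuadraticMap.polar (⇑Q) a w ≠ 0 := by
      rw [QuadraticMap.polar_add_right, QuadraticMap.polar_smul_right, haa, smul_zero, add_zero]; exact hxa
    have hwu : QuadraticMap.polar (⇑Q) w u ≠ 0 := by
      rw [QuadraticMap.polar_add_left, QuadraticMap.polar_smul_left, hau, smul_zero, add_zero,
        QuadraticMap.polar_comm]
      exact hxu
    simpa using step w z hwU hQw hz (step a z ha hQa hz hall w hwU hQw haw) u hu hQu hwu 1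
  have hsquares : ∀ z, z ∈ W → In a₀ z → ∀ s : F, In a₀ (s • z) := by
    intro z hz haz
    obtain ⟨b, hbU, hQb, hba⟩ := exists_partner_three Q hQ hU (by omega) ha₀U ha₀
    have hadd : ∀ c d : F, In a₀ (c • z) → In a₀ (d • z) → In a₀ ((c + d) • z) := fun c d h h' hu huz => by
      have e1 : QuadraticMap.polar (⇑Q) a₀ (c • z) = 0 := hUW' a₀ ha₀U _ (W.smul_mem c hz)
      have e2 : QuadraticMap.polar (⇑Q) a₀ (d • z) = 0 := hUW' a₀ ha₀U _ (W.smul_mem d hz)
      have h := H.mul_mem (h hu e1) (h' hu e2)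
      rw [siegelG_mul] at h
      convert h using 2
      rw [add_smul]
    have hneg : ∀ c : F, In a₀ (c • z) → In a₀ ((-c) • z) := fun c h hu huz => by
      have e1 : QuadraticMap.polar (⇑Q) a₀ (c • z) = 0 := hUW' a₀ ha₀U _ (W.smul_mem c hz)
      convert H.inv_mem (h hu e1) using 1
      refine eq_inv_of_mul_eq_one_left ?_
      rw [siegelG_mul]
      refine ext_mulVec Q fun x => ?_
      rw [mat_siegelG, ← add_smul, neg_add_cancel, zero_smul, siegel_zero]
      exact (Matrix.one_mulVec x).symm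
    have hsq : ∀ c : F, c ≠ 0 → In a₀ ((c * c) • z) := by
      intro c hc hu huz
      have hQb' : Q (c⁻¹ • c⁻¹ • b) = 0 := by rw [QuadraticMap.map_smul, QuadraticMap.map_smul, hQb, smul_zero, smul_zero]
      have hab' : QuadraticMap.polar (⇑Q) a₀ b ≠ 0 := by
        rw [QuadraticMap.polar_comm, hba]; exact one_ne_zero
      have hne1 : QuadraticMap.polar (⇑Q) a₀ (c⁻¹ • c⁻¹ • b) ≠ 0 := by
        rw [QuadraticMap.polar_smul_right, QuadraticMap.polar_smul_right, smul_eq_mul, smul_eq_mul]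
        exact mul_ne_zero (inv_ne_zero hc) (mul_ne_zero (inv_ne_zero hc) hab')
      obtain ⟨hle, hnd⟩ := pair_perp_nondeg Q hQ (U := U) hU ha₀U hbU hQa₀ hQb hab'
      obtain ⟨y, hy, hQy⟩ := represents Q _ (by omega) hnd (-1)
      have hr : ∀ (v : ι → F) (hv : Q v ≠ 0) x, mat Q (refl Q v hv) *ᵥ x =
          x - ((Q v)⁻¹ * QuadraticMap.polar (⇑Q) v x) • v := fun v hv x => mulVec_eq Q v x
      set v₁ := a₀ - b
      set v₂ := c⁻¹ • ((c * c) • a₀ - b)
      have hba' : QuadraticMap.polar (⇑Q) b a₀ = 1 := hba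
      have hab1 : QuadraticMap.polar (⇑Q) a₀ b = 1 := by rw [QuadraticMap.polar_comm]; exact hba
      have hbb : QuadraticMap.polar (⇑Q) b b = 0 := by rw [polar_self_two, hQb, mul_zero]
      have haa : QuadraticMap.polar (⇑Q) a₀ a₀ = 0 := by rw [polar_self_two, hQa₀, mul_zero]
      have hQ1 : Q v₁ = -1 := by
        simp only [v₁]
        rw [sub_eq_add_neg, QuadraticMap.map_add (f := Q), QuadraticMap.map_neg, QuadraticMap.polar_neg_right, hab1,
          hQa₀, hQb]
        ring
      have hQ2 : Q v₂ = -1 := by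
        simp only [v₂]
        rw [QuadraticMap.map_smul, sub_eq_add_neg, QuadraticMap.map_add (f := Q), QuadraticMap.map_neg,
          QuadraticMap.map_smul, QuadraticMap.polar_neg_right, QuadraticMap.polar_smul_left, hab1, hQa₀, hQb]
        simp only [smul_eq_mul]
        field_simp
        ring
      have h10 : Q v₁ ≠ 0 := by rw [hQ1]; exact neg_ne_zero.mpr one_ne_zero
      have h20 : Q v₂ ≠ 0 := by rw [hQ2]; exact neg_ne_zero.mpr one_ne_zero
      set k := refl Q v₂ h20 * refl Q v₁ h10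
      have hkm : ∀ x, mat Q k *ᵥ x = mat Q (refl Q v₂ h20) *ᵥ (mat Q (refl Q v₁ h10) *ᵥ x) := fun x => mulVec_mul Q _ _ x
      have hka : mat Q k *ᵥ a₀ = (c * c) • a₀ := by
        rw [hkm, hr v₁ h10, hQ1]
        simp only [v₁]
        rw [QuadraticMap.polar_sub_left, haa, hba', zero_sub, inv_neg, inv_one, neg_mul_neg, one_mul, one_smul,
          sub_sub_cancel, hr v₂ h20, hQ2]
        simp only [v₂]
        rw [QuadraticMap.polar_smul_left, QuadraticMap.polar_sub_left, QuadraticMap.polar_smul_left, hab1, hbb,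
          smul_eq_mul, smul_eq_mul]
        match_scalars <;> (field_simp; ring)
      have hv1U : v₁ ∈ U := sub_mem ha₀U hbU
      have hv2U : v₂ ∈ U := U.smul_mem _ (sub_mem (U.smul_mem _ ha₀U) hbU)
      have hkW : ∀ w ∈ W, mat Q k *ᵥ w = w := fun w hw => by
        rw [hkm, hr v₁ h10, hUW' _ hv1U w hw, mul_zero, zero_smul, sub_zero, hr v₂ h20, hUW' _ hv2U w hw, mul_zero,
          zero_smul, sub_zero]
      have hkH : k ∈ H := hH k (refl_pair_mem_omega Q hQ h10 h20 (hQ1.trans hQ2.symm))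
        ((mem_subspaceStabilizer_iff _ _).mpr (Submodule.eq_of_le_of_finrank_eq (by
          rintro _ ⟨x, hx, rfl⟩
          rw [Matrix.toLin'_apply]
          change mat Q k *ᵥ x ∈ W
          rw [hkW x hx]
          exact hx)
          (LinearEquiv.finrank_map_eq (Matrix.toLinearEquiv' (mat Q k) (k : GL ι F).invertible) W)))
      have h := H.mul_mem (H.mul_mem hkH (haz hQa₀ (hUW' a₀ ha₀U z hz))) (H.inv_mem hkH)
      rw [siegelG_conj] at h
      convert h using 1
      refine siegelG_congr Q _ _ _ _ fun x => ?_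
      rw [hka, hkW z hz]
      simp only [siegelMap, QuadraticMap.polar_smul_left, QuadraticMap.map_smul, smul_eq_mul]
      module
    intro s
    have hq : ∀ c : F, In a₀ ((c * c) • z) := fun c => by
      by_cases hc : c = 0
      · intro hu huz
        have h0 : QuadraticMap.polar (⇑Q) a₀ 0 = 0 := QuadraticMap.polar_zero_right Q a₀
        rw [siegelG_congr Q hu huz hu h0 fun x => by rw [hc, mul_zero, zero_smul]]
        exact hlocU a₀ 0 hu h0 ha₀U U.zero_mem
      · exact hsq c hc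
    rcases hch with h2 | ⟨h2, -⟩
    swap
    · obtain ⟨r, hr⟩ := exists_sqrt_two h2 s
      rw [← hr]
      exact hq r
    have h := hadd _ _ (hq ((s + 1) / 2)) (hneg _ (hq ((s - 1) / 2)))
    convert h using 2
    field_simp
    ring
  -- the lines in W carried by a₀ form an invariant subspace
  let L : Submodule F (ι → F) :=
    { carrier := {z | z ∈ W ∧ ∀ s : F, In a₀ (s • z)}
      zero_mem' := ⟨W.zero_mem, fun s hu huz => by
        have h0 : QuadraticMap.polar (⇑Q) a₀ 0 = 0 := QuadraticMap.polar_zero_right Q a₀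
        rw [siegelG_congr Q hu huz hu h0 fun x => by rw [smul_zero]]
        exact hlocU a₀ 0 hu h0 ha₀U U.zero_mem⟩
      add_mem' := fun {p r} hp hr => ⟨W.add_mem hp.1 hr.1, fun s hu huz => by
        have e1 : QuadraticMap.polar (⇑Q) a₀ (s • p) = 0 := hUW' a₀ ha₀U _ (W.smul_mem s hp.1)
        have e2 : QuadraticMap.polar (⇑Q) a₀ (s • r) = 0 := hUW' a₀ ha₀U _ (W.smul_mem s hr.1)
        have h := H.mul_mem (hp.2 s hu e1) (hr.2 s hu e2)
        rw [siegelG_mul] at h
        convert h using 2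
        rw [smul_add]⟩
      smul_mem' := fun c p hp => ⟨W.smul_mem c hp.1, fun s => by rw [smul_smul]; exact hp.2 (s * c)⟩ }
  have hLinv : ∀ k ∈ H, mat Q k *ᵥ a₀ = a₀ → ∀ z ∈ L, mat Q k *ᵥ z ∈ W → mat Q k *ᵥ z ∈ L := by
    intro k hk hku z hz hkz
    refine ⟨hkz, fun s hu huz => ?_⟩
    have e1 : QuadraticMap.polar (⇑Q) a₀ (s • z) = 0 := hUW' a₀ ha₀U _ (W.smul_mem s hz.1)
    have h := H.mul_mem (H.mul_mem hk (hz.2 s hu e1)) (H.inv_mem hk)
    rw [siegelG_conj] at h
    convert h using 2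
    · exact hku.symm
    · rw [Matrix.mulVec_smul]
  have hL : L = W := invariant_subspace_eq Q hW hex (fun z hz => hz.1)
    (fun h => hz₀0 (by have : z₀ ∈ L := ⟨hz₀W, hsquares z₀ hz₀W hInz₀⟩; rwa [h, Submodule.mem_bot] at this))
    (fun w hw hQw z hz => by
      obtain ⟨b, hbU, hQb, hba⟩ := exists_partner_three Q hQ hU (by omega) ha₀U ha₀
      have hab' : QuadraticMap.polar (⇑Q) a₀ b ≠ 0 := by rw [QuadraticMap.polar_comm, hba]; exact one_ne_zero
      obtain ⟨hle, hnd⟩ := pair_perp_nondeg Q hQ (U := U) hU ha₀U hbU hQa₀ hQb hab'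
      obtain ⟨y, hy, hQy⟩ := represents Q _ (by omega) hnd (Q w)
      have hya : QuadraticMap.polar (⇑Q) y a₀ = 0 := by
        rw [QuadraticMap.polar_comm]; exact (HypQuad.mem_perp Q).mp hy.2 a₀ (Submodule.subset_span (by simp))
      have hQy0 : Q y ≠ 0 := hQy ▸ hQw
      set k := refl Q y hQy0 * refl Q w hQw
      have hk : ∀ x, mat Q k *ᵥ x = mat Q (refl Q y hQy0) *ᵥ (mat Q (refl Q w hQw) *ᵥ x) := fun x => mulVec_mul Q _ _ x
      have hr : ∀ (v : ι → F) (hv : Q v ≠ 0) x, mat Q (refl Q v hv) *ᵥ x =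
          x - ((Q v)⁻¹ * QuadraticMap.polar (⇑Q) v x) • v := fun v hv x => mulVec_eq Q v x
      have hkW : ∀ x ∈ W, mat Q k *ᵥ x = x - ((Q w)⁻¹ * QuadraticMap.polar (⇑Q) w x) • w := fun x hx => by
        rw [hk, hr w hQw, hr y hQy0, QuadraticMap.polar_sub_right, QuadraticMap.polar_smul_right,
          hUW' y hy.1 x hx, hUW' y hy.1 w hw]
        simp
      have hkH : k ∈ H := hH k (refl_pair_mem_omega Q hQ hQw hQy0 hQy.symm) ((mem_subspaceStabilizer_iff _ _).mpr
        (Submodule.eq_of_le_of_finrank_eq (by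
          rintro _ ⟨x, hx, rfl⟩
          rw [Matrix.toLin'_apply]
          change mat Q k *ᵥ x ∈ W
          rw [hkW x hx]
          exact sub_mem hx (W.smul_mem _ hw))
          (LinearEquiv.finrank_map_eq (Matrix.toLinearEquiv' (mat Q k) (k : GL ι F).invertible) W)))
      rw [← hkW z hz.1]
      refine hLinv k hkH ?_ z hz (by rw [hkW z hz.1]; exact sub_mem hz.1 (W.smul_mem _ hw))
      rw [hk, hr w hQw, hUW a₀ ha₀U w hw, mul_zero, zero_smul, sub_zero, hr y hQy0, hya, mul_zero, zero_smul,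
        sub_zero])
    (fun p hp r hr hQp hpr z hz => by
      have himg : siegelMap Q p r z ∈ W :=
        add_mem (add_mem hz.1 (W.smul_mem _ hr)) (W.smul_mem _ hp)
      rw [← mat_siegelG Q hQp hpr] at himg ⊢
      refine hLinv _ (hlocW p r hQp hpr hp hr) ?_ z hz himg
      rw [mat_siegelG, siegelMap, hUW a₀ ha₀U p hp, hUW a₀ ha₀U r hr]
      simp)
  have hfullU : ∀ u ∈ U, Q u = 0 → u ≠ 0 → ∀ z ∈ W, In u z := fun u hu hQu hu0 z hz =>
    hlineU a₀ z ha₀U hQa₀ ha₀ hz (fun s => (hL.symm ▸ hz : z ∈ L).2 s) u hu hQu hu0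
  have hCU : ∀ u ∈ U, Q u = 0 → u ≠ 0 → u ∈ sCentres Q H := fun u hu hQu hu0 => ⟨hQu, fun z huz => by
    obtain ⟨zW, hzW, zU, hzU, rfl⟩ := hdec z
    have e1 : QuadraticMap.polar (⇑Q) u zW = 0 := hUW' u hu zW hzW
    have e2 : QuadraticMap.polar (⇑Q) u zU = 0 := by
      rw [QuadraticMap.polar_add_right, e1, zero_add] at huz; exact huz
    have h := H.mul_mem (hfullU u hu hQu hu0 zW hzW hQu e1) (hlocU u zU hQu e2 hu hzU)
    rw [siegelG_mul] at h
    exact h⟩
  have hCmix : ∀ v, Q v = 0 → v ∉ W → v ∈ sCentres Q H := by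
    intro v hQv hvW
    obtain ⟨vW, hvW', vU, hvU, rfl⟩ := hdec v
    have hvU0 : vU ≠ 0 := fun h => hvW (by rw [h, add_zero]; exact hvW')
    obtain ⟨u', hu', hQu', hu'v⟩ := exists_partner_three Q hQ hU (by omega) hvU hvU0
    have hu'0 : u' ≠ 0 := fun h => by rw [h, QuadraticMap.polar_zero_left] at hu'v; exact zero_ne_one hu'v
    set u := vU + Q vW • u'
    have hu'u' : QuadraticMap.polar (⇑Q) u' u' = 0 := by rw [polar_self_two, hQu', mul_zero]
    have hu'u : QuadraticMap.polar (⇑Q) u' u = 1 := by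
      rw [QuadraticMap.polar_add_right, QuadraticMap.polar_smul_right, hu'u', hu'v, smul_zero, add_zero]
    have hsum : Q vW + Q vU = 0 := by
      rw [QuadraticMap.map_add (f := Q), hUW vU hvU vW hvW', add_zero] at hQv; exact hQv
    have hQu : Q u = 0 := by
      rw [QuadraticMap.map_add (f := Q), QuadraticMap.map_smul, hQu', QuadraticMap.polar_smul_right,
        QuadraticMap.polar_comm (⇑Q) vU u', hu'v]
      simp
      linear_combination hsum
    have huU : u ∈ U := add_mem hvU (U.smul_mem _ hu')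
    have hu0 : u ≠ 0 := fun h => by rw [h, QuadraticMap.polar_zero_right] at hu'u; exact zero_ne_one hu'u
    have e : QuadraticMap.polar (⇑Q) u' vW = 0 := hUW' u' hu' vW hvW'
    have himg : mat Q (siegelG Q hQu' e) *ᵥ u = vW + vU := by
      rw [mat_siegelG, siegelMap, hu'u, hUW u huU vW hvW', one_smul]
      simp only [u, neg_zero, zero_sub, mul_one, neg_smul]
      abel
    rw [← himg]
    exact sCentres_map (hCU u huU hQu hu0) (hfullU u' hu' hQu' hu'0 vW hvW' hQu' e)
  rw [omega_eq_closure_all Q hQ hn5, Subgroup.closure_le]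
  rintro g ⟨v, z, hv, hvz, rfl⟩
  by_cases hvW : v ∈ W
  swap
  · exact (hCmix v hv hvW).2 z hvz
  refine siegelG_mem_of_singular Q hQ H hn5 hv (fun w hvw hw => ?_) hvz
  by_cases hwW : w ∈ W
  · exact hlocW v w hv hvw hvW hwW
  · rw [siegelG_swap hv hw hvw]
    exact (hCmix w hw hwW).2 _ _

include hQ in
theorem nondeg_maximal_core_four [Fintype F] {W : Submodule F (ι → F)}
    (hW : Cfsg.Geo.IsNondegenerateOn (QuadraticMap.polar (⇑Q)) W) (hW0 : W ≠ ⊥)
    (hch : (2 : F) ≠ 0 ∨ ((2 : F) = 0 ∧ Module.finrank F ↥(HypQuad.perp Q W) = 4 ∧ Module.finrank F W = 4 ∧ Plane Q (HypQuad.perp Q W) ∧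
      ¬ Plane Q W)) (hn5 : 5 ≤ Fintype.card ι) (hb : 4 ≤ Module.finrank F ↥(HypQuad.perp Q W)) (hab : Module.finrank F W ≤ Module.finrank F ↥(HypQuad.perp Q W))
    (hne : ∀ g : Cfsg.isometryGroup F (⇑Q), W.map (Matrix.toLin' (mat Q g)) ≠ HypQuad.perp Q W)
    (hex : ¬ (Fintype.card F ≤ 3 ∧ Module.finrank F W = 2 ∧ ∃ s ∈ W, s ≠ 0 ∧ Q s = 0)) :
    Cfsg.Geo.IsMaximalIn (Cfsg.Geo.omegaGL (⇑Q)) (Cfsg.Geo.subspaceStabilizer W ⊓ Cfsg.Geo.omegaGL (⇑Q)) := by
  classical
  obtain ⟨hc, hU⟩ := nondeg_perp Q hQ hW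
  refine ⟨lt_of_le_of_ne inf_le_right fun heq => ?_, fun M hHM hMO => ?_⟩
  · obtain ⟨w, hw, hw0⟩ := W.exists_mem_ne_zero_of_ne_bot hW0
    obtain ⟨-, z, hz, hwz⟩ := hW w hw hw0
    obtain ⟨u, hQu, hu, -, hu0⟩ := exists_singular_in Q hQ (HypQuad.perp Q W) ⊥ (by rw [finrank_bot]; omega)
    have huw : ∀ w' ∈ W, QuadraticMap.polar (⇑Q) u w' = 0 := fun w' hw' => by
      rw [QuadraticMap.polar_comm]; exact (HypQuad.mem_perp Q).mp hu w' hw'
    set t := siegelG Q hQu (huw z hz)
    have ht : (t : GL ι F) ∈ Cfsg.Geo.subspaceStabilizer W ⊓ Cfsg.Geo.omegaGL (⇑Q) :=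
      heq.symm ▸ (mem_omegaGL Q _).mpr ⟨t, siegelG_mem_omega Q hQ hn5 hQu (huw z hz), rfl⟩
    have h2 : mat Q t *ᵥ w ∈ W := (ht.1 w).mp hw
    rw [mat_siegelG, siegelMap, huw w hw, zero_smul, add_zero, mul_zero, sub_zero, W.add_mem_iff_right hw,
      W.smul_mem_iff (by rw [neg_ne_zero, QuadraticMap.polar_comm]; exact hwz)] at h2
    exact hu0 (by rw [Submodule.disjoint_def.mp hc.disjoint u h2 hu]; exact Submodule.zero_mem _)
  · by_cases hM : M ≤ Cfsg.Geo.subspaceStabilizer W
    · exact Or.inl (le_antisymm (le_inf hM hMO) hHM)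
    right
    obtain ⟨g, hgM, hgW⟩ := SetLike.not_le_iff_exists.mp hM
    obtain ⟨g₀, -, rfl⟩ := (mem_omegaGL Q g).mp (hMO hgM)
    have h := nondeg_sup_four Q hQ hW hch hn5 hb hab hne hex (M.comap (Cfsg.isometryGroup F (⇑Q)).subtype)
      (fun k hk hkW => hHM ⟨hkW, (mem_omegaGL Q _).mpr ⟨k, hk, rfl⟩⟩) (show g₀ ∈ _ from hgM) hgW
    refine le_antisymm hMO fun x hx => ?_
    obtain ⟨k, hk, rfl⟩ := (mem_omegaGL Q x).mp hx
    exact h hk

include hQ in
/-- The stabiliser of a non-degenerate subspace of dimension at most four is maximal when its perpendicular has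
dimension four, in odd characteristic. -/
theorem nondeg_maximal_four [Fintype F] (h2 : (2 : F) ≠ 0) (hn : 7 ≤ Fintype.card ι) {W : Submodule F (ι → F)}
    (hW : Cfsg.Geo.IsNondegenerateOn (QuadraticMap.polar (⇑Q)) W) (hW0 : W ≠ ⊥) (hW1 : W ≠ ⊤)
    (hne : 2 * Module.finrank F W = Fintype.card ι →
      ∀ g : Cfsg.isometryGroup F (⇑Q), W.map (Matrix.toLin' (mat Q g)) ≠ HypQuad.perp Q W)
    (hex : ∀ X, (X = W ∨ X = HypQuad.perp Q W) →
      ¬ (Fintype.card F ≤ 3 ∧ Module.finrank F X = 2 ∧ ∃ s ∈ X, s ≠ 0 ∧ Q s = 0)) :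
    Cfsg.Geo.IsMaximalIn (Cfsg.Geo.omegaGL (⇑Q)) (Cfsg.Geo.subspaceStabilizer W ⊓ Cfsg.Geo.omegaGL (⇑Q)) := by
  obtain ⟨hc, hU⟩ := nondeg_perp Q hQ hW
  have h := Submodule.finrank_add_eq_of_isCompl hc
  rw [Module.finrank_fintype_fun_eq_card] at h
  have hmap : ∀ (X : Submodule F (ι → F)) (g : Cfsg.isometryGroup F (⇑Q)),
      Module.finrank F (X.map (Matrix.toLin' (mat Q g))) = Module.finrank F X := fun X g =>
    LinearEquiv.finrank_map_eq (Matrix.toLinearEquiv' (mat Q g) (g : GL ι F).invertible) X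
  by_cases hle : Module.finrank F W ≤ Module.finrank F ↥(HypQuad.perp Q W)
  · refine nondeg_maximal_core_four Q hQ hW hW0 (Or.inl h2) (by omega) (by omega) hle (fun g hg => ?_) (hex W (Or.inl rfl))
    by_cases hd : 2 * Module.finrank F W = Fintype.card ι
    · exact hne hd g hg
    · have := hmap W g
      rw [hg] at this
      omega
  · rw [← stabilizer_perp Q hQ W]
    refine nondeg_maximal_core_four Q hQ hU (fun h0 => hW1 ?_) (Or.inl h2) (by omega) (by rw [perp_perp Q hQ]; omega)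
      (by rw [perp_perp Q hQ]; omega) (fun g hg => ?_) (hex _ (Or.inr rfl))
    · apply Submodule.eq_top_of_finrank_eq
      rw [h0, finrank_bot, add_zero] at h
      rw [Module.finrank_fintype_fun_eq_card]; exact h
    · rw [perp_perp Q hQ] at hg
      have := hmap (HypQuad.perp Q W) g
      rw [hg] at this
      omega

end Cfsg.Lib.Classical.Refl
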