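import Cfsg.Agent.Classical.Orth.OmegaGen

/-!
Singular pairs orthogonal to a subspace with small radical.
-/

set_option autoImplicit false
set_option linter.unusedSectionVars false
set_option linter.style.haveILetI false

namespace Cfsg.Lib.Classical.Refl

open Matrix

universe u

variable {F : Type u} [Field F] {ι : Type} [Fintype ι] [DecidableEq ι] (Q : QuadraticForm F (ι → F))

theorem exists_pair_perp' [Finite F] (hQ : (QuadraticMap.polarBilin Q).Nondegenerate) (S : Submodule F (ι → F))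
    (hS : Module.finrank F S + Module.finrank F ↥(S ⊓ HypQuad.perp Q S) + 3 ≤ Fintype.card ι) :
    ∃ w ∈ HypQuad.perp Q S, ∃ r ∈ HypQuad.perp Q S,
      Q w = 0 ∧ Q r = 0 ∧ QuadraticMap.polar (⇑Q) w r = 1 := by
  have hV : Module.finrank F (ι → F) = Fintype.card ι := Module.finrank_fintype_fun_eq_card F
  obtain ⟨C, hC⟩ := (S ⊓ HypQuad.perp Q S).exists_isCompl
  have h1 := HypQuad.finrank_perp Q hQ S
  have h2 := Submodule.finrank_add_eq_of_isCompl hC
  have h3 := Submodule.finrank_sup_add_finrank_inf_eq (HypQuad.perp Q S) C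
  have h4 := Submodule.finrank_le (HypQuad.perp Q S ⊔ C)
  have h5 := Submodule.finrank_le S
  rw [hV] at h5
  obtain ⟨w, hw, hw0, hQw⟩ := exists_singular Q (HypQuad.perp Q S ⊓ C) (by omega)
  obtain ⟨y, hy, hwy⟩ : ∃ y ∈ HypQuad.perp Q S, QuadraticMap.polar (⇑Q) w y ≠ 0 := by
    by_contra hh
    push Not at hh
    have : w ∈ HypQuad.perp Q (HypQuad.perp Q S) := (HypQuad.mem_perp Q).mpr fun y hy => by
      rw [QuadraticMap.polar_comm]; exact hh y hy
    rw [perp_perp Q hQ] at this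
    exact hw0 (Submodule.disjoint_def.mp hC.disjoint w ⟨this, hw.1⟩ hw.2)
  set c := QuadraticMap.polar (⇑Q) w y with hc
  have hww : QuadraticMap.polar (⇑Q) w w = 0 := by rw [polar_self_two, hQw, mul_zero]
  refine ⟨w, hw.1, c⁻¹ • y + (-(c⁻¹ * c⁻¹ * Q y)) • w,
    add_mem ((HypQuad.perp Q S).smul_mem _ hy) ((HypQuad.perp Q S).smul_mem _ hw.1), hQw, ?_, ?_⟩
  · rw [QuadraticMap.map_add (f := Q), QuadraticMap.map_smul, QuadraticMap.map_smul, hQw,
      QuadraticMap.polar_smul_left, QuadraticMap.polar_smul_right, QuadraticMap.polar_comm (⇑Q) y w, ← hc,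
      smul_eq_mul, smul_eq_mul, smul_eq_mul, smul_eq_mul]
    field_simp
    ring
  · rw [QuadraticMap.polar_add_right, QuadraticMap.polar_smul_right, QuadraticMap.polar_smul_right, hww, ← hc,
      smul_zero, add_zero, smul_eq_mul, inv_mul_cancel₀ hwy]

theorem exists_norm_in_perp' [Finite F] (hQ : (QuadraticMap.polarBilin Q).Nondegenerate) (S : Submodule F (ι → F))
    (hS : Module.finrank F S + Module.finrank F ↥(S ⊓ HypQuad.perp Q S) + 3 ≤ Fintype.card ι) (d : F) :
    ∃ x ∈ HypQuad.perp Q S, Q x = d := by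
  obtain ⟨w, hw, r, hr, hQw, hQr, hwr⟩ := exists_pair_perp' Q hQ S hS
  refine ⟨w + d • r, add_mem hw ((HypQuad.perp Q S).smul_mem d hr), ?_⟩
  rw [WittQuad.val_smul_add, hQw, hQr, hwr]
  ring

theorem radical_sup_le (S : Submodule F (ι → F)) {a : ι → F} (ha : a ∈ HypQuad.perp Q S)
    (haa : QuadraticMap.polar (⇑Q) a a ≠ 0) :
    (S ⊔ Submodule.span F {a}) ⊓ HypQuad.perp Q (S ⊔ Submodule.span F {a}) ≤ S ⊓ HypQuad.perp Q S := by
  rintro x ⟨hx, hx'⟩
  obtain ⟨s, hs, y, hy, rfl⟩ := Submodule.mem_sup.mp hx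
  obtain ⟨c, rfl⟩ := Submodule.mem_span_singleton.mp hy
  have h := (HypQuad.mem_perp Q).mp hx' a (Submodule.mem_sup_right (Submodule.mem_span_singleton_self a))
  rw [QuadraticMap.polar_add_right, QuadraticMap.polar_smul_right, QuadraticMap.polar_comm (⇑Q) a s,
    (HypQuad.mem_perp Q).mp ha s hs, zero_add, smul_eq_mul, mul_eq_zero] at h
  have hc : c = 0 := h.resolve_right haa
  rw [hc, zero_smul, add_zero] at hx' ⊢
  exact ⟨hs, (HypQuad.mem_perp Q).mpr fun r hr => (HypQuad.mem_perp Q).mp hx' r (Submodule.mem_sup_left hr)⟩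

end Cfsg.Lib.Classical.Refl
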