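import Cfsg.Agent.Classical.Orth.NondegFour

/-! The stabiliser of a non-degenerate plane is maximal in `Ω_5(q)` for odd `q ≥ 5`. -/

set_option autoImplicit false
set_option linter.unusedSimpArgs false
set_option linter.unusedSectionVars false
set_option linter.style.haveILetI false
set_option linter.flexible false
set_option maxHeartbeats 800000

namespace Cfsg.Lib.Classical.Refl.Plane

open Matrix Cfsg.Lib.Classical.Refl

universe u

variable {F : Type u} [Field F] {ι : Type} [Fintype ι] [DecidableEq ι] (Q : QuadraticForm F (ι → F))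
  (H : Subgroup (Cfsg.isometryGroup F (⇑Q)))

/-- The Siegel transformation of `u` and `z` lies in `H`. -/
def In (u z : ι → F) : Prop := ∀ (hu : Q u = 0) (huz : QuadraticMap.polar (⇑Q) u z = 0), siegelG Q hu huz ∈ H

variable {Q H}

theorem smap_smul (u z : ι → F) (c : F) (x : ι → F) : siegelMap Q (c • u) z x = siegelMap Q u (c • z) x := by
  funext i
  simp only [siegelMap, Pi.add_apply, Pi.smul_apply, smul_eq_mul, QuadraticMap.polar_smul_left, QuadraticMap.map_smul]
  ring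

theorem mv_ne_zero (g : Cfsg.isometryGroup F (⇑Q)) {u : ι → F} (h : u ≠ 0) : mat Q g *ᵥ u ≠ 0 := fun h0 => by
  have := mulVec_inv_cancel Q g u
  rw [h0, Matrix.mulVec_zero] at this
  exact h this.symm

theorem In.conj {u z : ι → F} (h : In Q H u z) {k : Cfsg.isometryGroup F (⇑Q)} (hk : k ∈ H) :
    In Q H (mat Q k *ᵥ u) (mat Q k *ᵥ z) := fun hu huz => by
  have hu' : Q u = 0 := by rw [← (mem_iff Q).mp k.2 u]; exact hu
  have huz' : QuadraticMap.polar (⇑Q) u z = 0 := by rw [← polar_act Q k]; exact huz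
  have h' := H.mul_mem (H.mul_mem hk (h hu' huz')) (H.inv_mem hk)
  rw [siegelG_conj] at h'
  exact h'

theorem In.smul {u z : ι → F} (s : F) (hQu : Q u = 0) (huz : QuadraticMap.polar (⇑Q) u (s • z) = 0)
    (h : In Q H u (s • z)) : In Q H (s • u) z := fun hu huz' => by
  rw [siegelG_congr Q hu huz' hQu huz fun x => smap_smul u z s x]
  exact h hQu huz

theorem In.of_smul {u z : ι → F} (s : F) (hQu : Q u = 0) (huz : QuadraticMap.polar (⇑Q) u z = 0)
    (h : In Q H (s • u) z) : In Q H u (s • z) := fun hu huz' => by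
  have e1 : Q (s • u) = 0 := by rw [QuadraticMap.map_smul, hQu, smul_zero]
  have e2 : QuadraticMap.polar (⇑Q) (s • u) z = 0 := by rw [QuadraticMap.polar_smul_left, huz, smul_zero]
  rw [siegelG_congr Q hu huz' e1 e2 fun x => (smap_smul u z s x).symm]
  exact h e1 e2

theorem In.add {u z z' : ι → F} (hz0 : QuadraticMap.polar (⇑Q) u z = 0) (hz0' : QuadraticMap.polar (⇑Q) u z' = 0)
    (h : In Q H u z) (h' : In Q H u z') : In Q H u (z + z') := fun hu huz => by
  have := H.mul_mem (h hu hz0) (h' hu hz0')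
  rwa [siegelG_mul] at this

theorem In.zero (u : ι → F) : In Q H u 0 := fun hu huz => by
  rw [show siegelG Q hu huz = 1 from ext_mulVec Q fun x => by
    rw [mat_siegelG, siegel_zero]; exact (Matrix.one_mulVec x).symm]
  exact H.one_mem

theorem In.neg {u z : ι → F} (hz0 : QuadraticMap.polar (⇑Q) u z = 0) (h : In Q H u z) : In Q H u (-z) :=
  fun hu huz => by
    convert H.inv_mem (h hu hz0) using 1
    refine eq_inv_of_mul_eq_one_left (ext_mulVec Q fun x => ?_)
    rw [siegelG_mul, mat_siegelG, neg_add_cancel, siegel_zero]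
    exact (Matrix.one_mulVec x).symm

theorem mat_refl (v : ι → F) (hv : Q v ≠ 0) (x : ι → F) :
    mat Q (refl Q v hv) *ᵥ x = x - ((Q v)⁻¹ * QuadraticMap.polar (⇑Q) v x) • v := mulVec_eq Q v x

variable (Q H) in
/-- The standing hypotheses. -/
structure Hyp (W : Submodule F (ι → F)) : Prop where
  nd : (QuadraticMap.polarBilin Q).Nondegenerate
  ndW : Cfsg.Geo.IsNondegenerateOn (QuadraticMap.polar (⇑Q)) W
  dimW : Module.finrank F W = 2
  n5 : Fintype.card ι = 5
  two : (2 : F) ≠ 0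
  stab : ∀ g ∈ Cfsg.Omega F (⇑Q), (g : GL ι F) ∈ Cfsg.Geo.subspaceStabilizer W → g ∈ H

variable {W : Submodule F (ι → F)}

section

variable (S : Hyp Q H W)
include S

theorem Hyp.dimU : Module.finrank F ↥(HypQuad.perp Q W) = 3 := by
  rw [HypQuad.finrank_perp Q S.nd W, Module.finrank_fintype_fun_eq_card, S.n5, S.dimW]

theorem Hyp.ndU : Cfsg.Geo.IsNondegenerateOn (QuadraticMap.polar (⇑Q)) (HypQuad.perp Q W) :=
  (nondeg_perp Q S.nd S.ndW).2

theorem Hyp.orth {u w : ι → F} (hu : u ∈ HypQuad.perp Q W) (hw : w ∈ W) : QuadraticMap.polar (⇑Q) u w = 0 := by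
  rw [QuadraticMap.polar_comm]; exact (HypQuad.mem_perp Q).mp hu w hw

theorem Hyp.disj {x : ι → F} (h : x ∈ W) (h' : x ∈ HypQuad.perp Q W) : x = 0 :=
  Submodule.disjoint_def.mp (nondeg_perp Q S.nd S.ndW).1.disjoint x h h'

theorem Hyp.dec (x : ι → F) : ∃ w ∈ W, ∃ u ∈ HypQuad.perp Q W, w + u = x :=
  Submodule.mem_sup.mp ((nondeg_perp Q S.nd S.ndW).1.sup_eq_top ▸ Submodule.mem_top)

theorem Hyp.mem_of_le {k : Cfsg.isometryGroup F (⇑Q)} (hk : k ∈ Cfsg.Omega F (⇑Q))
    (h : ∀ w ∈ W, mat Q k *ᵥ w ∈ W) : k ∈ H :=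
  S.stab k hk ((mem_subspaceStabilizer_iff _ _).mpr (Submodule.eq_of_le_of_finrank_eq (by
    rintro _ ⟨x, hx, rfl⟩
    exact h x hx)
    (LinearEquiv.finrank_map_eq (Matrix.toLinearEquiv' (mat Q k) (k : GL ι F).invertible) W)))

variable [Fintype F]

theorem Hyp.local_mem {u z : ι → F} (hu : u ∈ HypQuad.perp Q W) (hz : z ∈ HypQuad.perp Q W) : In Q H u z :=
  fun hQu huz => S.mem_of_le (siegelG_mem_omega Q S.nd (by rw [S.n5]) hQu huz) fun w hw => by
    rw [mat_siegelG, siegelMap, S.orth hu hw, S.orth hz hw]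
    simpa using hw

theorem Hyp.localW_mem {u z : ι → F} (hu : u ∈ W) (hz : z ∈ W) : In Q H u z :=
  fun hQu huz => S.mem_of_le (siegelG_mem_omega Q S.nd (by rw [S.n5]) hQu huz) fun w hw => by
    rw [mat_siegelG, siegelMap]
    exact add_mem (add_mem hw (W.smul_mem _ hz)) (W.smul_mem _ hu)

/-- The product of two reflections with vectors of one norm. -/
theorem Hyp.pair_omega {v w : ι → F} (hv : Q v ≠ 0) (hw : Q w ≠ 0) (h : Q w = Q v) :
    refl Q v hv * refl Q w hw ∈ Cfsg.Omega F (⇑Q) := refl_pair_mem_omega Q S.nd hw hv h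

theorem Hyp.representsW (δ : F) : ∃ w ∈ W, Q w = δ :=
  represents Q W S.dimW.ge (fun x hx hx0 => (S.ndW x hx hx0).2) δ

/-- A basis of the perpendicular through a singular vector. -/
theorem Hyp.frame {c : ι → F} (hc : c ∈ HypQuad.perp Q W) (hc0 : c ≠ 0) (hQc : Q c = 0) :
    ∃ d e, d ∈ HypQuad.perp Q W ∧ e ∈ HypQuad.perp Q W ∧ Q d = 0 ∧ QuadraticMap.polar (⇑Q) c d = 1 ∧
      QuadraticMap.polar (⇑Q) c e = 0 ∧ QuadraticMap.polar (⇑Q) d e = 0 ∧ Q e ≠ 0 ∧
      ∀ x ∈ HypQuad.perp Q W, ∃ α β γ : F, x = α • c + β • d + γ • e := by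
  obtain ⟨d, hd, hQd, hdc⟩ := exists_partner_three Q S.nd S.ndU S.dimU.ge hc hc0
  have hcd : QuadraticMap.polar (⇑Q) c d = 1 := by rw [QuadraticMap.polar_comm]; exact hdc
  obtain ⟨e, he, hep, hen⟩ := exists_perp_pair_ne Q S.nd (U := HypQuad.perp Q W) S.dimU.ge hQc hQd
    (by rw [hcd]; exact one_ne_zero)
  have hce : QuadraticMap.polar (⇑Q) c e = 0 := (HypQuad.mem_perp Q).mp hep c (Submodule.subset_span (by simp))
  have hde : QuadraticMap.polar (⇑Q) d e = 0 := (HypQuad.mem_perp Q).mp hep d (Submodule.subset_span (by simp))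
  have hli : LinearIndependent F ![c, d, e] := by
    rw [Fintype.linearIndependent_iff]
    intro g hg
    simp [Fin.sum_univ_three] at hg
    have e1 := congrArg (QuadraticMap.polar (⇑Q) c) hg
    have e2 := congrArg (QuadraticMap.polar (⇑Q) d) hg
    simp [QuadraticMap.polar_add_right, QuadraticMap.polar_smul_right, polar_self_two, hQc, hQd, hcd, hdc, hce, hde] at e1 e2
    rw [e1, e2] at hg
    simp at hg
    have e3 : g 2 = 0 := hg.resolve_right fun h => hen (h ▸ Submodule.zero_mem _)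
    intro i; fin_cases i <;> assumption
  have hspan : ∀ x ∈ HypQuad.perp Q W, ∃ α β γ : F, x = α • c + β • d + γ • e := by
    intro x hx
    have heq : Submodule.span F (Set.range ![c, d, e]) = HypQuad.perp Q W := by
      refine Submodule.eq_of_le_of_finrank_eq (Submodule.span_le.mpr ?_) ?_
      · rintro _ ⟨i, rfl⟩; fin_cases i <;> assumption
      · rw [finrank_span_eq_card hli, S.dimU]; simp
    rw [← heq, Submodule.mem_span_range_iff_exists_fun] at hx
    obtain ⟨g, hg⟩ := hx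
    exact ⟨g 0, g 1, g 2, by rw [← hg]; simp [Fin.sum_univ_three]⟩
  refine ⟨d, e, hd, he, hQd, hcd, hce, hde, fun hQe => ?_, hspan⟩
  obtain ⟨-, y, hy, hey⟩ := S.ndU e he (fun h => hen (h ▸ Submodule.zero_mem _))
  obtain ⟨α, β, γ, rfl⟩ := hspan y hy
  apply hey
  rw [QuadraticMap.polar_add_right, QuadraticMap.polar_add_right, QuadraticMap.polar_smul_right,
    QuadraticMap.polar_smul_right, QuadraticMap.polar_smul_right, QuadraticMap.polar_comm (⇑Q) e c,
    QuadraticMap.polar_comm (⇑Q) e d, hce, hde, polar_self_two, hQe]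
  simp

/-- A vector orthogonal to a singular `c ∈ U` inside `U`. -/
theorem Hyp.perp_le {c d e : ι → F} (hQc : Q c = 0) (hcd : QuadraticMap.polar (⇑Q) c d = 1)
    (hce : QuadraticMap.polar (⇑Q) c e = 0)
    (hspan : ∀ x ∈ HypQuad.perp Q W, ∃ α β γ : F, x = α • c + β • d + γ • e)
    {x : ι → F} (hx : x ∈ HypQuad.perp Q W) (hcx : QuadraticMap.polar (⇑Q) c x = 0) :
    x ∈ Submodule.span F {c, e} := by
  obtain ⟨α, β, γ, rfl⟩ := hspan x hx
  rw [QuadraticMap.polar_add_right, QuadraticMap.polar_add_right, QuadraticMap.polar_smul_right,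
    QuadraticMap.polar_smul_right, QuadraticMap.polar_smul_right, polar_self_two, hQc, hcd, hce] at hcx
  simp at hcx
  rw [hcx, zero_smul, add_zero]
  exact Submodule.mem_span_pair.mpr ⟨α, γ, rfl⟩

/-- One mixed Siegel element spreads over the whole plane. -/
theorem Hyp.grow (hq : 5 ≤ Fintype.card F) {c w : ι → F} (hc : c ∈ HypQuad.perp Q W) (hc0 : c ≠ 0)
    (hQc : Q c = 0) (hw : w ∈ W) (hw0 : w ≠ 0) (h : In Q H c w) : ∀ z ∈ W, In Q H c z := by
  classical
  obtain ⟨d, e, hd, he, hQd, hcd, hce, hde, hQe, -⟩ := S.frame hc hc0 hQc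
  have hcW : ∀ z ∈ W, QuadraticMap.polar (⇑Q) c z = 0 := fun z hz => S.orth hc hz
  -- pairs of reflections of the plane, compensated on the perpendicular
  have hpair : ∀ w₁ ∈ W, ∀ w₂ ∈ W, ∀ (h₁ : Q w₁ ≠ 0) (h₂ : Q w₂ ≠ 0), ∀ z ∈ W, In Q H c z →
      In Q H c ((Q w₁ / Q w₂) • (mat Q (refl Q w₂ h₂) *ᵥ (mat Q (refl Q w₁ h₁) *ᵥ z))) := by
    intro w₁ hw₁ w₂ hw₂ h₁ h₂ z hz hin
    set v₁ := c + Q w₁ • d with hv₁d
    set v₂ := c + Q w₂ • d with hv₂d
    have hQv : ∀ t : F, Q (c + t • d) = t := fun t => by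
      rw [QuadraticMap.map_add (f := Q), QuadraticMap.map_smul, hQc, hQd, QuadraticMap.polar_smul_right, hcd]
      simp
    have hv₁ : Q v₁ ≠ 0 := by rw [hQv]; exact h₁
    have hv₂ : Q v₂ ≠ 0 := by rw [hQv]; exact h₂
    have hk := Subgroup.mul_mem _ (S.pair_omega (v := w₂) (w := v₂) h₂ hv₂ (hQv _))
      (S.pair_omega (v := w₁) (w := v₁) h₁ hv₁ (hQv _))
    set k := refl Q w₂ h₂ * refl Q v₂ hv₂ * (refl Q w₁ h₁ * refl Q v₁ hv₁) with hkdef
    have hm : ∀ x, mat Q k *ᵥ x = mat Q (refl Q w₂ h₂) *ᵥ (mat Q (refl Q v₂ hv₂) *ᵥ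
        (mat Q (refl Q w₁ h₁) *ᵥ (mat Q (refl Q v₁ hv₁) *ᵥ x))) := fun x => by
      rw [hkdef, mat, mulVec_mul, mulVec_mul, mulVec_mul]
    have hv₁U : v₁ ∈ HypQuad.perp Q W := add_mem hc (Submodule.smul_mem _ _ hd)
    have hv₂U : v₂ ∈ HypQuad.perp Q W := add_mem hc (Submodule.smul_mem _ _ hd)
    have hfixU : ∀ (v : ι → F) (hv : Q v ≠ 0), v ∈ HypQuad.perp Q W → ∀ x ∈ W, mat Q (refl Q v hv) *ᵥ x = x :=
      fun v hv hvU x hx => by rw [mat_refl, S.orth hvU hx, mul_zero, zero_smul, sub_zero]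
    have hfixW : ∀ (v : ι → F) (hv : Q v ≠ 0), v ∈ W → ∀ x ∈ HypQuad.perp Q W, mat Q (refl Q v hv) *ᵥ x = x :=
      fun v hv hvW x hx => by
        rw [mat_refl, QuadraticMap.polar_comm, S.orth hx hvW, mul_zero, zero_smul, sub_zero]
    have hin2 : ∀ (v : ι → F) (hv : Q v ≠ 0), v ∈ W → ∀ x ∈ W, mat Q (refl Q v hv) *ᵥ x ∈ W :=
      fun v hv hvW x hx => by rw [mat_refl]; exact sub_mem hx (W.smul_mem _ hvW)
    have hkW : ∀ x ∈ W, mat Q k *ᵥ x = mat Q (refl Q w₂ h₂) *ᵥ (mat Q (refl Q w₁ h₁) *ᵥ x) := fun x hx => by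
      rw [hm, hfixU v₁ hv₁ hv₁U x hx, hfixU v₂ hv₂ hv₂U _ (hin2 _ _ hw₁ x hx)]
    have hkH : k ∈ H := S.mem_of_le hk fun x hx => by
      rw [hkW x hx]; exact hin2 _ _ hw₂ _ (hin2 _ _ hw₁ x hx)
    have e1 : mat Q (refl Q v₁ hv₁) *ᵥ c = -(Q w₁) • d := by
      rw [mat_refl, hQv, QuadraticMap.polar_add_left, polar_self_two, hQc, QuadraticMap.polar_smul_left,
        QuadraticMap.polar_comm (⇑Q) d c, hcd]
      rw [mul_zero, zero_add, smul_eq_mul, mul_one, inv_mul_cancel₀ h₁, one_smul, hv₁d]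
      module
    have e2 : mat Q (refl Q v₂ hv₂) *ᵥ d = -(Q w₂)⁻¹ • c := by
      rw [mat_refl, hQv, QuadraticMap.polar_add_left, hcd, QuadraticMap.polar_smul_left, polar_self_two, hQd]
      simp only [mul_zero, smul_eq_mul, add_zero, mul_one, hv₂d]
      match_scalars <;> field_simp <;> ring
    have hkc : mat Q k *ᵥ c = (Q w₁ / Q w₂) • c := by
      rw [hm, e1, hfixW w₁ h₁ hw₁ _ (Submodule.smul_mem _ _ hd), Matrix.mulVec_smul, e2, smul_smul,
        hfixW w₂ h₂ hw₂ _ (Submodule.smul_mem _ _ hc), neg_mul_neg, div_eq_mul_inv]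
    have h' := hin.conj hkH
    rw [hkc, hkW z hz] at h'
    exact h'.of_smul _ hQc (hcW _ (hin2 _ _ hw₂ _ (hin2 _ _ hw₁ z hz)))
  -- one reflection of the plane, compensated on the axis
  have hflip : ∀ w₁ ∈ W, ∀ (h₁ : Q w₁ ≠ 0), Q w₁ = Q e → ∀ z ∈ W, In Q H c z →
      In Q H c (mat Q (refl Q w₁ h₁) *ᵥ z) := by
    intro w₁ hw₁ h₁ heq z hz hin
    have hk := S.pair_omega (v := e) (w := w₁) hQe h₁ heq
    set k := refl Q e hQe * refl Q w₁ h₁ with hkdef
    have hm : ∀ x, mat Q k *ᵥ x = mat Q (refl Q e hQe) *ᵥ (mat Q (refl Q w₁ h₁) *ᵥ x) := fun x => by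
      rw [hkdef, mat, mulVec_mul]
    have hin2 : ∀ x ∈ W, mat Q (refl Q w₁ h₁) *ᵥ x ∈ W := fun x hx => by
      rw [mat_refl]; exact sub_mem hx (W.smul_mem _ hw₁)
    have hkW : ∀ x ∈ W, mat Q k *ᵥ x = mat Q (refl Q w₁ h₁) *ᵥ x := fun x hx => by
      rw [hm, mat_refl (Q := Q) e, S.orth he (hin2 x hx), mul_zero, zero_smul, sub_zero]
    have hkH : k ∈ H := S.mem_of_le hk fun x hx => by rw [hkW x hx]; exact hin2 x hx
    have hkc : mat Q k *ᵥ c = c := by
      rw [hm, mat_refl (Q := Q) w₁, QuadraticMap.polar_comm, S.orth hc hw₁, mul_zero, zero_smul, sub_zero, mat_refl,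
        QuadraticMap.polar_comm, hce, mul_zero, zero_smul, sub_zero]
    have h' := hin.conj hkH
    rwa [hkc, hkW z hz] at h'
  let A : AddSubgroup (ι → F) :=
    { carrier := {z | z ∈ W ∧ In Q H c z}
      zero_mem' := ⟨W.zero_mem, In.zero c⟩
      add_mem' := fun {p r} hp hr => ⟨W.add_mem hp.1 hr.1, hp.2.add (hcW _ hp.1) (hcW _ hr.1) hr.2⟩
      neg_mem' := fun {p} hp => ⟨W.neg_mem hp.1, hp.2.neg (hcW _ hp.1)⟩ }
  obtain ⟨w₀, hw₀, hQw₀⟩ := S.representsW (Q e)
  have hw₀' : Q w₀ ≠ 0 := hQw₀ ▸ hQe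
  have hsq : ∀ z ∈ A, ∀ s : F, (s * s) • z ∈ A := by
    intro z hz s
    rcases eq_or_ne s 0 with rfl | hs
    · simp [A.zero_mem]
    refine ⟨W.smul_mem _ hz.1, ?_⟩
    have hs0 : Q (s • w₀) ≠ 0 := by rw [QuadraticMap.map_smul]; exact mul_ne_zero (mul_ne_zero hs hs) hw₀'
    have h' := hpair (s • w₀) (W.smul_mem _ hw₀) w₀ hw₀ hs0 hw₀' z hz.1 hz.2
    have e' : (Q (s • w₀) / Q w₀) • (mat Q (refl Q w₀ hw₀') *ᵥ (mat Q (refl Q (s • w₀) hs0) *ᵥ z)) =
        (s * s) • z := by
      rw [mat_refl (Q := Q) (s • w₀), mat_refl, QuadraticMap.map_smul, QuadraticMap.polar_smul_left,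
        QuadraticMap.polar_sub_right, QuadraticMap.polar_smul_right, QuadraticMap.polar_smul_right, polar_self_two]
      simp only [smul_eq_mul]
      match_scalars <;> field_simp <;> ring
    rwa [e'] at h'
  have hscal : ∀ z ∈ A, ∀ s : F, s • z ∈ A := fun z hz s => by
    have h' := A.sub_mem (hsq z hz ((s + 1) / 2)) (hsq z hz ((s - 1) / 2))
    rwa [← sub_smul, show (s + 1) / 2 * ((s + 1) / 2) - (s - 1) / 2 * ((s - 1) / 2) = s by
      have := S.two
      field_simp; ring] at h'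
  have hwA : w ∈ A := ⟨hw, h⟩
  suffices hind : ∃ w' ∈ A, w' ∉ Submodule.span F {w} by
    intro z hz
    obtain ⟨w', hw', hwn⟩ := hind
    have heq : Submodule.span F (Set.range ![w, w']) = W := by
      refine Submodule.eq_of_le_of_finrank_eq (Submodule.span_le.mpr ?_) ?_
      · rintro _ ⟨i, rfl⟩; fin_cases i; exacts [hw, hw'.1]
      · rw [finrank_span_eq_card ((LinearIndependent.pair_iff' hw0).mpr fun a ha =>
          hwn (Submodule.mem_span_singleton.mpr ⟨a, ha⟩)), S.dimW]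
        simp
    rw [← heq, Matrix.range_cons_cons_empty, Submodule.mem_span_pair] at hz
    obtain ⟨a, b, rfl⟩ := hz
    exact (A.add_mem (hscal w hwA a) (hscal w' hw' b)).2
  by_cases hQw : Q w = 0
  · obtain ⟨-, r, hr, hwr⟩ := S.ndW w hw hw0
    have hne : QuadraticMap.polar (⇑Q) w₀ w ≠ 0 := by
      intro h0
      have heq : Submodule.span F (Set.range ![w₀, w]) = W := by
        refine Submodule.eq_of_le_of_finrank_eq (Submodule.span_le.mpr ?_) ?_
        · rintro _ ⟨i, rfl⟩; fin_cases i; exacts [hw₀, hw]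
        · rw [finrank_span_eq_card ((LinearIndependent.pair_iff' (fun h => hw₀' (by rw [h, QuadraticMap.map_zero]))).mpr
            fun a ha => ?_), S.dimW]
          · simp
          · rw [← ha, QuadraticMap.polar_smul_right, polar_self_two, smul_eq_mul] at h0
            rcases mul_eq_zero.mp h0 with ha0 | ha0
            · exact hw0 (by rw [← ha, ha0, zero_smul])
            · exact mul_ne_zero S.two hw₀' ha0
      rw [← heq, Matrix.range_cons_cons_empty, Submodule.mem_span_pair] at hr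
      obtain ⟨a, b, rfl⟩ := hr
      rw [QuadraticMap.polar_add_right, QuadraticMap.polar_smul_right, QuadraticMap.polar_smul_right,
        QuadraticMap.polar_comm, h0, polar_self_two, hQw] at hwr
      simp at hwr
    refine ⟨_, ⟨by rw [mat_refl]; exact sub_mem hw (W.smul_mem _ hw₀), hflip w₀ hw₀ hw₀' hQw₀ w hw h⟩, fun hm => ?_⟩
    rw [mat_refl, Submodule.sub_mem_iff_right _ (Submodule.mem_span_singleton_self w),
      Submodule.smul_mem_iff _ (mul_ne_zero (inv_ne_zero hw₀') hne), Submodule.mem_span_singleton] at hm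
    obtain ⟨a, ha⟩ := hm
    exact hw₀' (by rw [← ha, QuadraticMap.map_smul, hQw, smul_zero])
  · obtain ⟨w', ⟨hw', hww'⟩, hw'0⟩ := (W ⊓ HypQuad.perp Q (Submodule.span F {w})).exists_mem_ne_zero_of_ne_bot
      (fun h0 => by
        have := two_le_inf_perp_singleton Q S.nd W w
        rw [h0, finrank_bot, S.dimW] at this
        omega)
    have hww : QuadraticMap.polar (⇑Q) w w' = 0 := (mem_perp_singleton Q).mp hww'
    obtain ⟨b, hb0, hb⟩ : ∃ b : F, b ≠ 0 ∧ Q w + b * b * Q w' ≠ 0 := by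
      by_contra hcon
      push Not at hcon
      have hsub : (Finset.univ.erase (0 : F)) ⊆ (Polynomial.X ^ 2 * Polynomial.C (Q w') + Polynomial.C (Q w)).roots.toFinset := by
        intro b hb
        rw [Multiset.mem_toFinset, Polynomial.mem_roots']
        refine ⟨fun h0 => hQw ?_, ?_⟩
        · simpa using congrArg (Polynomial.eval 0) h0
        · simp only [Polynomial.IsRoot, Polynomial.eval_add, Polynomial.eval_mul, Polynomial.eval_pow,
            Polynomial.eval_X, Polynomial.eval_C]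
          linear_combination hcon b (Finset.ne_of_mem_erase hb)
      have h1 := (Finset.card_le_card hsub).trans ((Multiset.toFinset_card_le _).trans (Polynomial.card_roots' _))
      rw [Finset.card_erase_of_mem (Finset.mem_univ _), Finset.card_univ] at h1
      have h2 : (Polynomial.X ^ 2 * Polynomial.C (Q w') + Polynomial.C (Q w)).natDegree ≤ 2 := by compute_degree
      omega
    set w₂ := w + b • w' with hw₂d
    have hQw₂ : Q w₂ = Q w + b * b * Q w' := by
      rw [hw₂d, QuadraticMap.map_add (f := Q), QuadraticMap.map_smul, QuadraticMap.polar_smul_right, hww]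
      simp
    have hw₂W : w₂ ∈ W := add_mem hw (W.smul_mem _ hw')
    have h2 : Q w₂ ≠ 0 := hQw₂ ▸ hb
    refine ⟨_, ⟨W.smul_mem _ ?_, hpair w hw w₂ hw₂W hQw h2 w hw h⟩, fun hm => ?_⟩
    · rw [mat_refl (Q := Q) w, mat_refl]
      exact sub_mem (sub_mem hw (W.smul_mem _ hw)) (W.smul_mem _ hw₂W)
    · have e1 : mat Q (refl Q w hQw) *ᵥ w = -w := by
        rw [mat_refl, polar_self_two]
        match_scalars; field_simp; ring
      have hp : QuadraticMap.polar (⇑Q) w₂ w = 2 * Q w := by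
        rw [hw₂d, QuadraticMap.polar_add_left, QuadraticMap.polar_smul_left, polar_self_two,
          QuadraticMap.polar_comm (⇑Q) w' w, hww, smul_zero, add_zero]
      rw [Submodule.smul_mem_iff _ (div_ne_zero hQw h2), e1, Matrix.mulVec_neg, Submodule.neg_mem_iff, mat_refl,
        Submodule.sub_mem_iff_right _ (Submodule.mem_span_singleton_self w),
        Submodule.smul_mem_iff _ (mul_ne_zero (inv_ne_zero h2) (by rw [hp]; exact mul_ne_zero S.two hQw)), hw₂d,
        Submodule.add_mem_iff_right _ (Submodule.mem_span_singleton_self w), Submodule.smul_mem_iff _ hb0,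
        Submodule.mem_span_singleton] at hm
      obtain ⟨a, ha⟩ := hm
      rw [← ha, QuadraticMap.polar_smul_right, polar_self_two, smul_eq_mul] at hww
      rcases mul_eq_zero.mp hww with ha0 | ha0
      · exact hw'0 (by rw [← ha, ha0, zero_smul])
      · exact mul_ne_zero S.two hQw ha0

/-- Once one singular point of the perpendicular mixes, everything is in `H`. -/
theorem Hyp.finish (hq : 5 ≤ Fintype.card F) {c z : ι → F} (hc : c ∈ HypQuad.perp Q W) (hc0 : c ≠ 0)
    (hQc : Q c = 0) (hz : z ∉ HypQuad.perp Q W) (hcz : QuadraticMap.polar (⇑Q) c z = 0) (h : In Q H c z) :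
    Cfsg.Omega F (⇑Q) ≤ H := by
  have hn5 : 5 ≤ Fintype.card ι := S.n5.ge
  obtain ⟨zW, hzW, zU, hzU, e⟩ := S.dec z
  have hzW0 : zW ≠ 0 := fun h0 => hz (by rw [← e, h0, zero_add]; exact hzU)
  have hczU : QuadraticMap.polar (⇑Q) c zU = 0 := by
    rw [← e, QuadraticMap.polar_add_right, S.orth hc hzW, zero_add] at hcz; exact hcz
  have hcn : QuadraticMap.polar (⇑Q) c (-zU) = 0 := by rw [QuadraticMap.polar_neg_right, hczU, neg_zero]
  have hW1 := h.add hcz hcn (S.local_mem hc (neg_mem hzU))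
  rw [← e, add_neg_cancel_right] at hW1
  have hcall := S.grow hq hc hc0 hQc hzW hzW0 hW1
  have hCU : ∀ u ∈ HypQuad.perp Q W, Q u = 0 → u ≠ 0 → u ∈ sCentres Q H := by
    have hone : ∀ u ∈ HypQuad.perp Q W, Q u = 0 → (∀ x ∈ W, In Q H u x) → u ∈ sCentres Q H :=
      fun u hu hQu hall => ⟨hQu, fun y huy => by
        obtain ⟨yW, hyW, yU, hyU, rfl⟩ := S.dec y
        have e1 := S.orth hu hyW
        have e2 : QuadraticMap.polar (⇑Q) u yU = 0 := by
          rw [QuadraticMap.polar_add_right, e1, zero_add] at huy; exact huy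
        exact (hall yW hyW).add e1 e2 (S.local_mem hu hyU) hQu huy⟩
    intro u hu hQu hu0
    obtain ⟨d, e, hd, he, hQd, hcd, hce, hde, hQe, hspan⟩ := S.frame hc hc0 hQc
    by_cases hcu : QuadraticMap.polar (⇑Q) c u = 0
    · obtain ⟨α, γ, rfl⟩ := Submodule.mem_span_pair.mp (S.perp_le hQc hcd hce hspan hu hcu)
      have hγ : γ = 0 := by
        rw [QuadraticMap.map_add (f := Q), QuadraticMap.map_smul, QuadraticMap.map_smul, hQc,
          QuadraticMap.polar_smul_left, QuadraticMap.polar_smul_right, hce] at hQu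
        simp [hQe] at hQu
        exact hQu
      rw [hγ, zero_smul, add_zero] at hQu hu ⊢
      exact hone _ hu hQu fun x hx =>
        (hcall (α • x) (W.smul_mem _ hx)).smul α hQc (S.orth hc (W.smul_mem _ hx))
    · have hQv : Q (c - u) = -QuadraticMap.polar (⇑Q) c u := by
        rw [sub_eq_add_neg, QuadraticMap.map_add (f := Q), QuadraticMap.map_neg, hQc, hQu,
          QuadraticMap.polar_neg_right]
        ring
      have hv : Q (c - u) ≠ 0 := hQv ▸ neg_ne_zero.mpr hcu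
      obtain ⟨w, hw, hQw⟩ := S.representsW (Q (c - u))
      have hw' : Q w ≠ 0 := hQw ▸ hv
      have hk := S.pair_omega (v := c - u) (w := w) hv hw' hQw
      set k := refl Q (c - u) hv * refl Q w hw' with hkdef
      have hm : ∀ x, mat Q k *ᵥ x = mat Q (refl Q (c - u) hv) *ᵥ (mat Q (refl Q w hw') *ᵥ x) := fun x => by
        rw [hkdef, mat, mulVec_mul]
      have hvU : c - u ∈ HypQuad.perp Q W := sub_mem hc hu
      have hin2 : ∀ x ∈ W, mat Q (refl Q w hw') *ᵥ x ∈ W := fun x hx => by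
        rw [mat_refl]; exact sub_mem hx (W.smul_mem _ hw)
      have hkW : ∀ x ∈ W, mat Q k *ᵥ x = mat Q (refl Q w hw') *ᵥ x := fun x hx => by
        rw [hm, mat_refl (Q := Q) (c - u), S.orth hvU (hin2 x hx), mul_zero, zero_smul, sub_zero]
      have hkH : k ∈ H := S.mem_of_le hk fun x hx => by rw [hkW x hx]; exact hin2 x hx
      have hkc : mat Q k *ᵥ c = u := by
        rw [hm, mat_refl (Q := Q) w, QuadraticMap.polar_comm, S.orth hc hw, mul_zero, zero_smul, sub_zero, mat_refl,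
          hQv, QuadraticMap.polar_sub_left, polar_self_two, hQc, mul_zero, zero_sub, QuadraticMap.polar_comm (⇑Q) u c,
          inv_mul_cancel₀ (neg_ne_zero.mpr hcu), one_smul, sub_sub_cancel]
      exact hkc ▸ sCentres_map (hone c hc hQc hcall) hkH
  have hCmix : ∀ v, Q v = 0 → v ∉ W → v ∈ sCentres Q H := by
    intro v hQv hvW
    obtain ⟨vW, hvW', vU, hvU, rfl⟩ := S.dec v
    have hvU0 : vU ≠ 0 := fun h => hvW (by rw [h, add_zero]; exact hvW')
    obtain ⟨u', hu', hQu', hu'v⟩ := exists_partner_three Q S.nd S.ndU S.dimU.ge hvU hvU0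
    have hu'0 : u' ≠ 0 := fun h => by rw [h, QuadraticMap.polar_zero_left] at hu'v; exact zero_ne_one hu'v
    set u := vU + Q vW • u'
    have hu'u' : QuadraticMap.polar (⇑Q) u' u' = 0 := by rw [polar_self_two, hQu', mul_zero]
    have hu'u : QuadraticMap.polar (⇑Q) u' u = 1 := by
      rw [QuadraticMap.polar_add_right, QuadraticMap.polar_smul_right, hu'u', hu'v, smul_zero, add_zero]
    have hsum : Q vW + Q vU = 0 := by
      rw [QuadraticMap.map_add (f := Q), QuadraticMap.polar_comm, S.orth hvU hvW', add_zero] at hQv; exact hQv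
    have hQu : Q u = 0 := by
      rw [QuadraticMap.map_add (f := Q), QuadraticMap.map_smul, hQu', QuadraticMap.polar_smul_right,
        QuadraticMap.polar_comm (⇑Q) vU u', hu'v]
      simp
      linear_combination hsum
    have huU : u ∈ HypQuad.perp Q W := add_mem hvU (Submodule.smul_mem _ _ hu')
    have hu0 : u ≠ 0 := fun h => by rw [h, QuadraticMap.polar_zero_right] at hu'u; exact zero_ne_one hu'u
    have e : QuadraticMap.polar (⇑Q) u' vW = 0 := S.orth hu' hvW'
    have himg : mat Q (siegelG Q hQu' e) *ᵥ u = vW + vU := by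
      rw [mat_siegelG, siegelMap, hu'u, QuadraticMap.polar_comm (⇑Q) vW u, S.orth huU hvW', one_smul]
      simp only [u, neg_zero, zero_sub, mul_one, neg_smul]
      abel
    rw [← himg]
    exact sCentres_map (hCU u huU hQu hu0) ((hCU u' hu' hQu' hu'0).2 vW e)
  rw [omega_eq_closure_all Q S.nd hn5, Subgroup.closure_le]
  rintro g ⟨v, y, hv, hvy, rfl⟩
  by_cases hvW : v ∈ W
  swap
  · exact (hCmix v hv hvW).2 y hvy
  refine siegelG_mem_of_singular Q S.nd H hn5 hv (fun w hvw hw => ?_) hvy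
  by_cases hwW : w ∈ W
  · exact S.localW_mem hvW hwW hv hvw
  · rw [siegelG_swap hv hw hvw]
    exact (hCmix w hw hwW).2 _ _

/-- A conjugate of a singular point of the perpendicular with a direction outside it. -/
theorem Hyp.finish_conj (hq : 5 ≤ Fintype.card F) {k : Cfsg.isometryGroup F (⇑Q)} (hk : k ∈ H) {c z : ι → F}
    (hc : c ∈ HypQuad.perp Q W) (hc0 : c ≠ 0) (hQc : Q c = 0) (hcz : QuadraticMap.polar (⇑Q) c z = 0)
    (h : In Q H (mat Q k *ᵥ c) (mat Q k *ᵥ z)) (hz : z ∉ HypQuad.perp Q W) : Cfsg.Omega F (⇑Q) ≤ H := by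
  refine S.finish hq hc hc0 hQc hz hcz ?_
  have h' := h.conj (H.inv_mem hk)
  rwa [mulVec_inv_cancel, mulVec_inv_cancel] at h'

/-- A new direction at a conjugate of a point of the perpendicular. -/
theorem Hyp.direction (hq : 5 ≤ Fintype.card F) {k : Cfsg.isometryGroup F (⇑Q)} (hk : k ∈ H) {c d e z : ι → F}
    (hc : c ∈ HypQuad.perp Q W) (hc0 : c ≠ 0) (hQc : Q c = 0) (hcd : QuadraticMap.polar (⇑Q) c d = 1)
    (hce : QuadraticMap.polar (⇑Q) c e = 0)
    (hspan : ∀ x ∈ HypQuad.perp Q W, ∃ α β γ : F, x = α • c + β • d + γ • e)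
    (hz : QuadraticMap.polar (⇑Q) (mat Q k *ᵥ c) z = 0) (h : In Q H (mat Q k *ᵥ c) z)
    (hne : ∀ p r : F, z ≠ p • (mat Q k *ᵥ c) + r • (mat Q k *ᵥ e)) : Cfsg.Omega F (⇑Q) ≤ H := by
  have hkz : mat Q k *ᵥ (mat Q k⁻¹ *ᵥ z) = z := by
    simpa using mulVec_inv_cancel Q k⁻¹ z
  have hcz : QuadraticMap.polar (⇑Q) c (mat Q k⁻¹ *ᵥ z) = 0 := by
    rw [← polar_act Q k]
    exact hkz.symm ▸ hz
  refine S.finish_conj hq hk hc hc0 hQc hcz (hkz.symm ▸ h) fun hmem => ?_
  obtain ⟨p, r, hpr⟩ := Submodule.mem_span_pair.mp (S.perp_le hQc hcd hce hspan hmem hcz)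
  apply hne p r
  rw [← Matrix.mulVec_smul, ← Matrix.mulVec_smul, ← Matrix.mulVec_add, hpr, hkz]

/-- Two orthogonal root groups conjugate to local ones. -/
theorem Hyp.two_directions (hq : 5 ≤ Fintype.card F) {ka kb : Cfsg.isometryGroup F (⇑Q)} (hka : ka ∈ H)
    (hkb : kb ∈ H) {ca da ea cb db eb a za b zb : ι → F}
    (hca : ca ∈ HypQuad.perp Q W) (hea : ea ∈ HypQuad.perp Q W) (hca0 : ca ≠ 0) (hQca : Q ca = 0)
    (hcda : QuadraticMap.polar (⇑Q) ca da = 1) (hcea : QuadraticMap.polar (⇑Q) ca ea = 0) (hQea : Q ea ≠ 0)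
    (hspa : ∀ x ∈ HypQuad.perp Q W, ∃ α β γ : F, x = α • ca + β • da + γ • ea)
    (hcb : cb ∈ HypQuad.perp Q W) (heb : eb ∈ HypQuad.perp Q W) (hcb0 : cb ≠ 0) (hQcb : Q cb = 0)
    (hcdb : QuadraticMap.polar (⇑Q) cb db = 1) (hceb : QuadraticMap.polar (⇑Q) cb eb = 0) (hQeb : Q eb ≠ 0)
    (hspb : ∀ x ∈ HypQuad.perp Q W, ∃ α β γ : F, x = α • cb + β • db + γ • eb)
    (ea' : a = mat Q ka *ᵥ ca) (eza : za = mat Q ka *ᵥ ea) (eb' : b = mat Q kb *ᵥ cb) (ezb : zb = mat Q kb *ᵥ eb)
    (hab : QuadraticMap.polar (⇑Q) a b = 0) (hind : b ∉ Submodule.span F {a}) : Cfsg.Omega F (⇑Q) ≤ H := by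
  classical
  have hQa : Q a = 0 := by rw [ea', (mem_iff Q).mp ka.2, hQca]
  have hQb : Q b = 0 := by rw [eb', (mem_iff Q).mp kb.2, hQcb]
  have haza : QuadraticMap.polar (⇑Q) a za = 0 := by rw [ea', eza, polar_act, hcea]
  have hbzb : QuadraticMap.polar (⇑Q) b zb = 0 := by rw [eb', ezb, polar_act, hceb]
  have hQza : Q za ≠ 0 := by rw [eza, (mem_iff Q).mp ka.2]; exact hQea
  have hQzb : Q zb ≠ 0 := by rw [ezb, (mem_iff Q).mp kb.2]; exact hQeb
  have haa : QuadraticMap.polar (⇑Q) a a = 0 := by rw [polar_self_two, hQa, mul_zero]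
  have hbb : QuadraticMap.polar (⇑Q) b b = 0 := by rw [polar_self_two, hQb, mul_zero]
  have hba : QuadraticMap.polar (⇑Q) b a = 0 := by rw [QuadraticMap.polar_comm, hab]
  have hInA : ∀ s : F, In Q H a (s • za) := fun s => by
    rw [ea', eza, ← Matrix.mulVec_smul]
    exact (S.local_mem hca (Submodule.smul_mem _ _ hea)).conj hka
  have hInB : ∀ s : F, In Q H b (s • zb) := fun s => by
    rw [eb', ezb, ← Matrix.mulVec_smul]
    exact (S.local_mem hcb (Submodule.smul_mem _ _ heb)).conj hkb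
  have ha0 : a ≠ 0 := fun h => by
    rw [ea'] at h; exact mv_ne_zero ka hca0 h
  have hb0 : b ≠ 0 := fun h => hind (h ▸ Submodule.zero_mem _)
  have hind' : a ∉ Submodule.span F {b} := fun h => by
    obtain ⟨t, ht⟩ := Submodule.mem_span_singleton.mp h
    exact hind (Submodule.mem_span_singleton.mpr ⟨t⁻¹, by
      rw [← ht, smul_smul, inv_mul_cancel₀ (fun h0 => ha0 (by rw [← ht, h0, zero_smul])), one_smul]⟩)
  have hneB : ∀ v, (∀ p r : F, v ≠ p • b + r • zb) → ∀ p r : F, v ≠ p • (mat Q kb *ᵥ cb) + r • (mat Q kb *ᵥ eb) :=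
    fun v hv => by rw [← eb', ← ezb]; exact hv
  -- one axis orthogonal to the other point
  have hdegen : ∀ (a b za zb : ι → F), Q a = 0 → Q b = 0 → QuadraticMap.polar (⇑Q) a b = 0 →
      QuadraticMap.polar (⇑Q) a za = 0 → QuadraticMap.polar (⇑Q) b zb = 0 → Q za ≠ 0 → Q zb ≠ 0 →
      a ∉ Submodule.span F {b} → b ∉ Submodule.span F {a} → (∀ s : F, In Q H a (s • za)) →
      (∀ s : F, In Q H b (s • zb)) → QuadraticMap.polar (⇑Q) za b = 0 →
      ∃ D, QuadraticMap.polar (⇑Q) b D = 0 ∧ In Q H b D ∧ ∀ p r : F, D ≠ p • b + r • zb := by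
    intro a b za zb hQa hQb hab haza hbzb hQza hQzb hind' hind hInA hInB h0
    have haa : QuadraticMap.polar (⇑Q) a a = 0 := by rw [polar_self_two, hQa, mul_zero]
    have hba : QuadraticMap.polar (⇑Q) b a = 0 := by rw [QuadraticMap.polar_comm, hab]
    have hbza : QuadraticMap.polar (⇑Q) b za = 0 := by rw [QuadraticMap.polar_comm, h0]
    set σ := siegelG Q hQa haza
    have hσH : σ ∈ H := by
      have h := hInA 1
      rw [one_smul] at h
      exact h hQa haza
    have hσb : mat Q σ *ᵥ b = b := by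
      rw [mat_siegelG, siegelMap, hab, h0]
      simp
    obtain ⟨A, hA⟩ : ∃ A, A = QuadraticMap.polar (⇑Q) a zb := ⟨_, rfl⟩
    obtain ⟨K, hK⟩ : ∃ K, K = QuadraticMap.polar (⇑Q) za zb := ⟨_, rfl⟩
    have hσz : mat Q σ *ᵥ zb = zb + (A • za + (-K - Q za * A) • a) := by
      rw [mat_siegelG, siegelMap, ← hA, ← hK, add_assoc]
    have h1 := (hInB 1).conj hσH
    rw [one_smul, hσb, hσz] at h1
    have h2 : In Q H b (-zb) := by simpa using hInB (-1)
    have hDb : QuadraticMap.polar (⇑Q) b (A • za + (-K - Q za * A) • a) = 0 := by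
      rw [QuadraticMap.polar_add_right, QuadraticMap.polar_smul_right, QuadraticMap.polar_smul_right, hbza, hba,
        smul_zero, smul_zero, add_zero]
    have h3 := h1.add (by rw [QuadraticMap.polar_add_right, hbzb, hDb, add_zero])
      (by rw [QuadraticMap.polar_neg_right, hbzb, neg_zero]) h2
    rw [show zb + (A • za + (-K - Q za * A) • a) + -zb = A • za + (-K - Q za * A) • a by abel] at h3
    refine ⟨_, hDb, h3, fun p r heq => ?_⟩
    by_cases hA0 : A = 0
    · rw [hA0, zero_smul, zero_add, mul_zero, sub_zero] at heq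
      by_cases hK0 : K = 0
      · -- four independent vectors in a three-dimensional space
        have hza : QuadraticMap.polar (⇑Q) za a = 0 := by rw [QuadraticMap.polar_comm, haza]
        have hzz : QuadraticMap.polar (⇑Q) zb za = 0 := by rw [QuadraticMap.polar_comm, ← hK, hK0]
        have hzba : QuadraticMap.polar (⇑Q) zb a = 0 := by rw [QuadraticMap.polar_comm, ← hA, hA0]
        have hzbb : QuadraticMap.polar (⇑Q) zb b = 0 := by rw [QuadraticMap.polar_comm, hbzb]
        have hli : LinearIndependent F ![a, b, za, zb] := by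
          rw [Fintype.linearIndependent_iff]
          intro g hg
          simp [Fin.sum_univ_four] at hg
          have e1 := congrArg (QuadraticMap.polar (⇑Q) za) hg
          have e2 := congrArg (QuadraticMap.polar (⇑Q) zb) hg
          simp [QuadraticMap.polar_add_right, QuadraticMap.polar_smul_right, polar_self_two, h0, hza, ← hK, hK0, hzz,
            hzba, hzbb, S.two, hQza, hQzb] at e1 e2
          rw [e1, e2] at hg
          simp at hg
          have hg0 : g 0 = 0 := by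
            by_contra hne
            refine hind' (Submodule.mem_span_singleton.mpr ⟨-(g 1 / g 0), ?_⟩)
            rw [neg_smul, ← sub_eq_zero, div_eq_inv_mul, ← smul_smul, eq_neg_of_add_eq_zero_right hg, smul_neg,
              neg_neg, smul_smul, inv_mul_cancel₀ hne, one_smul, sub_self]
          rw [hg0, zero_smul, zero_add, smul_eq_zero] at hg
          have hg1 : g 1 = 0 := hg.resolve_right fun h => hind (h ▸ Submodule.zero_mem _)
          intro i; fin_cases i <;> assumption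
        set P := HypQuad.perp Q (Submodule.span F ({a, b} : Set (ι → F)))
        have hab2 : LinearIndependent F ![a, b] :=
          (LinearIndependent.pair_iff' fun h => hind' (by rw [h]; exact Submodule.zero_mem _)).mpr fun t ht =>
            hind (Submodule.mem_span_singleton.mpr ⟨t, ht⟩)
        have hP : Module.finrank F P = 3 := by
          rw [HypQuad.finrank_perp Q S.nd, Module.finrank_fintype_fun_eq_card, S.n5,
            show ({a, b} : Set (ι → F)) = Set.range ![a, b] by rw [Matrix.range_cons_cons_empty],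
            finrank_span_eq_card hab2]
          simp
        have hle : Submodule.span F (Set.range ![a, b, za, zb]) ≤ P := by
          rw [Submodule.span_le]
          rintro _ ⟨i, rfl⟩
          refine (HypQuad.mem_perp Q).mpr fun w hw => ?_
          obtain ⟨s, t, rfl⟩ := Submodule.mem_span_pair.mp hw
          rw [QuadraticMap.polar_add_left, QuadraticMap.polar_smul_left, QuadraticMap.polar_smul_left]
          fin_cases i <;> simp [haa, hab, hba, haza, hbza, ← hA, hA0, hbzb, polar_self_two, hQb]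
        have := Submodule.finrank_mono hle
        rw [finrank_span_eq_card hli, hP] at this
        simp at this
      · have hp := congrArg (QuadraticMap.polar (⇑Q) zb) heq
        rw [QuadraticMap.polar_smul_right, QuadraticMap.polar_add_right, QuadraticMap.polar_smul_right,
          QuadraticMap.polar_smul_right, QuadraticMap.polar_comm (⇑Q) zb a, ← hA, hA0,
          QuadraticMap.polar_comm (⇑Q) zb b, hbzb, polar_self_two, smul_zero, smul_zero, zero_add, smul_eq_mul] at hp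
        have hr : r = 0 := (mul_eq_zero.mp hp.symm).resolve_right (mul_ne_zero S.two hQzb)
        rw [hr, zero_smul, add_zero] at heq
        exact hind' (Submodule.mem_span_singleton.mpr ⟨(-K)⁻¹ * p, by
          rw [← smul_smul, ← heq, smul_smul, inv_mul_cancel₀ (neg_ne_zero.mpr hK0), one_smul]⟩)
    · have hp := congrArg (QuadraticMap.polar (⇑Q) a) heq
      simp only [QuadraticMap.polar_add_right, QuadraticMap.polar_smul_right, haza, haa, hab, ← hA, smul_eq_mul,
        mul_zero, zero_add, add_zero] at hp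
      have hr : r = 0 := (mul_eq_zero.mp hp.symm).resolve_right hA0
      rw [hr, zero_smul, add_zero] at heq
      have hp2 := congrArg (QuadraticMap.polar (⇑Q) za) heq
      simp only [QuadraticMap.polar_add_right, QuadraticMap.polar_smul_right, h0, polar_self_two,
        QuadraticMap.polar_comm (⇑Q) za a, haza, smul_eq_mul, mul_zero, zero_add, add_zero] at hp2
      exact mul_ne_zero hA0 (mul_ne_zero S.two hQza) hp2
  by_cases h0 : QuadraticMap.polar (⇑Q) za b = 0
  · obtain ⟨D, hD, hin, hne⟩ := hdegen a b za zb hQa hQb hab haza hbzb hQza hQzb hind' hind hInA hInB h0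
    exact S.direction hq hkb hcb hcb0 hQcb hcdb hceb hspb (eb' ▸ hD) (eb' ▸ hin) (hneB D hne)
  by_cases h1 : QuadraticMap.polar (⇑Q) zb a = 0
  · obtain ⟨D, hD, hin, hne⟩ := hdegen b a zb za hQb hQa hba hbzb haza hQzb hQza hind hind' hInB hInA h1
    exact S.direction hq hka hca hca0 hQca hcda hcea hspa (ea' ▸ hD) (ea' ▸ hin)
      (by rw [← ea', ← eza]; exact hne)
  -- normalise the axes
  obtain ⟨A, hA⟩ : ∃ A, A = (QuadraticMap.polar (⇑Q) za b)⁻¹ • za := ⟨_, rfl⟩
  obtain ⟨B, hB⟩ : ∃ B, B = (QuadraticMap.polar (⇑Q) zb a)⁻¹ • zb := ⟨_, rfl⟩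
  have hAb : QuadraticMap.polar (⇑Q) A b = 1 := by
    rw [hA, QuadraticMap.polar_smul_left, smul_eq_mul, inv_mul_cancel₀ h0]
  have hBa : QuadraticMap.polar (⇑Q) B a = 1 := by
    rw [hB, QuadraticMap.polar_smul_left, smul_eq_mul, inv_mul_cancel₀ h1]
  have haA : QuadraticMap.polar (⇑Q) a A = 0 := by rw [hA, QuadraticMap.polar_smul_right, haza, smul_zero]
  have hbB : QuadraticMap.polar (⇑Q) b B = 0 := by rw [hB, QuadraticMap.polar_smul_right, hbzb, smul_zero]
  have haB : QuadraticMap.polar (⇑Q) a B = 1 := by rw [QuadraticMap.polar_comm, hBa]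
  have hbA : QuadraticMap.polar (⇑Q) b A = 1 := by rw [QuadraticMap.polar_comm, hAb]
  have hQA : Q A ≠ 0 := by
    rw [hA, QuadraticMap.map_smul]; exact mul_ne_zero (mul_ne_zero (inv_ne_zero h0) (inv_ne_zero h0)) hQza
  obtain ⟨s, hs, hs2⟩ : ∃ s : F, s ≠ 0 ∧ s * s * Q A ≠ Q B := by
    by_contra hcon
    push Not at hcon
    have hsub : (Finset.univ.erase (0 : F)) ⊆ (Polynomial.X ^ 2 * Polynomial.C (Q A) - Polynomial.C (Q B)).roots.toFinset := by
      intro x hx
      rw [Multiset.mem_toFinset, Polynomial.mem_roots']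
      refine ⟨fun h => hQA ?_, ?_⟩
      · have := congrArg (fun P => Polynomial.coeff P 2) h
        simpa using this
      · simp only [Polynomial.IsRoot, Polynomial.eval_sub, Polynomial.eval_mul, Polynomial.eval_pow,
          Polynomial.eval_X, Polynomial.eval_C]
        linear_combination hcon x (Finset.ne_of_mem_erase hx)
    have h1 := (Finset.card_le_card hsub).trans ((Multiset.toFinset_card_le _).trans (Polynomial.card_roots' _))
    rw [Finset.card_erase_of_mem (Finset.mem_univ _), Finset.card_univ] at h1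
    have h2 : (Polynomial.X ^ 2 * Polynomial.C (Q A) - Polynomial.C (Q B)).natDegree ≤ 2 := by compute_degree
    omega
  have hsA : QuadraticMap.polar (⇑Q) a (s • A) = 0 := by rw [QuadraticMap.polar_smul_right, haA, smul_zero]
  have htB : QuadraticMap.polar (⇑Q) b (s⁻¹ • B) = 0 := by rw [QuadraticMap.polar_smul_right, hbB, smul_zero]
  have hσH : siegelG Q hQa hsA ∈ H := by
    have h : In Q H a (s • A) := by rw [hA, smul_smul]; exact hInA _
    exact h hQa hsA
  have hτH : siegelG Q hQb htB ∈ H := by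
    have h : In Q H b (s⁻¹ • B) := by rw [hB, smul_smul]; exact hInB _
    exact h hQb htB
  set σ := siegelG Q hQa hsA
  set τ := siegelG Q hQb htB
  obtain ⟨P, hP⟩ : ∃ P, P = b - s • a := ⟨_, rfl⟩
  obtain ⟨K, hK⟩ : ∃ K, K = QuadraticMap.polar (⇑Q) A B := ⟨_, rfl⟩
  have hσb : mat Q σ *ᵥ b = P := by
    rw [mat_siegelG, siegelMap, hab, QuadraticMap.polar_smul_left, hAb, hP]
    simp only [smul_eq_mul, mul_one, mul_zero, sub_zero, zero_smul, add_zero]
    module
  have hτa : mat Q τ *ᵥ a = (-s⁻¹) • P := by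
    rw [mat_siegelG, siegelMap, hba, QuadraticMap.polar_smul_left, hBa, hP, smul_sub, smul_smul]
    simp only [smul_eq_mul, mul_one, mul_zero, sub_zero, zero_smul, add_zero]
    match_scalars <;> field_simp <;> ring
  obtain ⟨D, hD⟩ : ∃ D, D = mat Q τ *ᵥ A := ⟨_, rfl⟩
  have hDexp : D = A + s⁻¹ • B + (-(s⁻¹ * K) - s⁻¹ * s⁻¹ * Q B) • b := by
    rw [hD, mat_siegelG, siegelMap, hbA, QuadraticMap.polar_smul_left, QuadraticMap.map_smul,
      QuadraticMap.polar_comm (⇑Q) B A, ← hK]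
    simp only [smul_eq_mul, mul_one, one_smul]
  have hσB : mat Q σ *ᵥ B = B + s • A + (-(s * K) - s * s * Q A) • a := by
    rw [mat_siegelG, siegelMap, haB, QuadraticMap.polar_smul_left, QuadraticMap.map_smul, ← hK]
    simp only [smul_eq_mul, mul_one, one_smul]
  have hPD : QuadraticMap.polar (⇑Q) P D = 0 := by
    have h : QuadraticMap.polar (⇑Q) (mat Q τ *ᵥ a) (mat Q τ *ᵥ A) = 0 := by rw [polar_act, haA]
    rw [hτa, ← hD, QuadraticMap.polar_smul_left, smul_eq_mul] at h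
    exact (mul_eq_zero.mp h).resolve_left (neg_ne_zero.mpr (inv_ne_zero hs))
  have hInD : In Q H P ((-s⁻¹) • D) := by
    have h : In Q H a A := by
      have := hInA (QuadraticMap.polar (⇑Q) za b)⁻¹
      rwa [← hA] at this
    have h' := h.conj hτH
    rw [hτa, ← hD] at h'
    exact h'.of_smul _ (by rw [← hσb, (mem_iff Q).mp σ.2, hQb]) hPD
  have hk : σ * kb ∈ H := H.mul_mem hσH hkb
  have hkc : mat Q (σ * kb) *ᵥ cb = P := by rw [mat, mulVec_mul, ← eb', hσb]
  refine S.direction hq hk hcb hcb0 hQcb hcdb hceb hspb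
    (hkc.symm ▸ by rw [QuadraticMap.polar_smul_right, hPD, smul_zero]) (hkc.symm ▸ hInD) fun p r heq => ?_
  rw [hkc, show mat Q (σ * kb) *ᵥ eb = mat Q σ *ᵥ zb by rw [mat, mulVec_mul, ← ezb]] at heq
  have hzbB : zb = QuadraticMap.polar (⇑Q) zb a • B := by
    rw [hB, smul_smul, mul_inv_cancel₀ h1, one_smul]
  rw [hzbB, Matrix.mulVec_smul, hσB, hDexp, hP] at heq
  have e1 := congrArg (QuadraticMap.polar (⇑Q) a) heq
  simp only [QuadraticMap.polar_add_right, QuadraticMap.polar_sub_right, QuadraticMap.polar_smul_right, haa, hab, haA,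
    haB, smul_eq_mul, mul_zero, mul_one, zero_add, add_zero, sub_zero] at e1
  set r' := r * QuadraticMap.polar (⇑Q) zb a with hr'
  have hr1 : r' = -(s⁻¹ * s⁻¹) := by rw [hr']; linear_combination -e1
  rw [smul_smul r, ← hr', hr1] at heq
  have hzero : (p + -s⁻¹ * (s⁻¹ * K) - s⁻¹ * (s⁻¹ * s⁻¹) * Q B) • b +
      (-(p * s) + s⁻¹ * K + Q A) • a = 0 := by
    rw [← sub_eq_zero] at heq
    rw [← neg_eq_zero, ← heq]
    match_scalars <;> field_simp <;> ring
  obtain ⟨c1, c2⟩ := LinearIndependent.pair_iff.mp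
    ((LinearIndependent.pair_iff' hb0).mpr fun t ht => hind' (Submodule.mem_span_singleton.mpr ⟨t, ht⟩)) _ _ hzero
  apply hs2
  field_simp at c1 c2
  grind

/-- Adding an element that moves the plane gives all of `Ω`. -/
theorem Hyp.sup (hq : 5 ≤ Fintype.card F) {g : Cfsg.isometryGroup F (⇑Q)} (hg : g ∈ H)
    (hgW : (g : GL ι F) ∉ Cfsg.Geo.subspaceStabilizer W) : Cfsg.Omega F (⇑Q) ≤ H := by
  classical
  obtain ⟨c₁, hc₁, hc₁0, hQc₁⟩ := exists_singular Q (HypQuad.perp Q W) S.dimU.ge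
  obtain ⟨d₁, e₁, hd₁, he₁, hQd₁, hcd₁, hce₁, hde₁, hQe₁, hspan₁⟩ := S.frame hc₁ hc₁0 hQc₁
  obtain ⟨c, hc, hc0, hQc, hgc⟩ : ∃ c ∈ HypQuad.perp Q W, c ≠ 0 ∧ Q c = 0 ∧ mat Q g *ᵥ c ∉ HypQuad.perp Q W := by
    by_contra hcon
    push Not at hcon
    apply hgW
    have hc' : c₁ + (-Q e₁) • d₁ + e₁ ∈ HypQuad.perp Q W := add_mem (add_mem hc₁ (Submodule.smul_mem _ _ hd₁)) he₁
    have hQ' : Q (c₁ + (-Q e₁) • d₁ + e₁) = 0 := by
      rw [QuadraticMap.map_add (f := Q), QuadraticMap.map_add (f := Q), QuadraticMap.map_smul, hQc₁, hQd₁,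
        QuadraticMap.polar_add_left, QuadraticMap.polar_smul_left, QuadraticMap.polar_smul_right, hcd₁, hce₁, hde₁]
      simp
    have h'0 : c₁ + (-Q e₁) • d₁ + e₁ ≠ 0 := fun h => by
      have := congrArg (QuadraticMap.polar (⇑Q) e₁) h
      rw [QuadraticMap.polar_add_right, QuadraticMap.polar_add_right, QuadraticMap.polar_smul_right,
        QuadraticMap.polar_comm (⇑Q) e₁ c₁, QuadraticMap.polar_comm (⇑Q) e₁ d₁, hce₁, hde₁, polar_self_two,
        QuadraticMap.polar_zero_right] at this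
      simp [S.two, hQe₁] at this
    have hd0 : d₁ ≠ 0 := fun h => by rw [h, QuadraticMap.polar_zero_right] at hcd₁; exact zero_ne_one hcd₁
    have h1 := hcon c₁ hc₁ hc₁0 hQc₁
    have h2 := hcon d₁ hd₁ hd0 hQd₁
    have h3 := hcon _ hc' h'0 hQ'
    rw [Matrix.mulVec_add, Matrix.mulVec_add, Matrix.mulVec_smul] at h3
    have he' : mat Q g *ᵥ e₁ ∈ HypQuad.perp Q W :=
      (Submodule.add_mem_iff_right _ (add_mem h1 (Submodule.smul_mem _ _ h2))).mp h3
    have hU : (HypQuad.perp Q W).map (Matrix.toLin' (mat Q g)) = HypQuad.perp Q W := by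
      refine Submodule.eq_of_le_of_finrank_eq ?_
        (LinearEquiv.finrank_map_eq (Matrix.toLinearEquiv' (mat Q g) (g : GL ι F).invertible) _)
      rintro _ ⟨x, hx, rfl⟩
      obtain ⟨α, β, γ, rfl⟩ := hspan₁ x hx
      rw [Matrix.toLin'_apply, Matrix.mulVec_add, Matrix.mulVec_add, Matrix.mulVec_smul, Matrix.mulVec_smul,
        Matrix.mulVec_smul]
      exact add_mem (add_mem (Submodule.smul_mem _ _ h1) (Submodule.smul_mem _ _ h2)) (Submodule.smul_mem _ _ he')
    refine (mem_subspaceStabilizer_iff _ _).mpr (Submodule.eq_of_le_of_finrank_eq ?_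
      (LinearEquiv.finrank_map_eq (Matrix.toLinearEquiv' (mat Q g) (g : GL ι F).invertible) _))
    rintro _ ⟨z, hz, rfl⟩
    rw [← perp_perp Q S.nd W, HypQuad.mem_perp]
    intro x hx
    rw [← hU] at hx
    obtain ⟨x', hx', rfl⟩ := hx
    change QuadraticMap.polar (⇑Q) (mat Q g *ᵥ x') (mat Q g *ᵥ z) = 0
    rw [polar_act]
    exact S.orth hx' hz
  obtain ⟨d, e, hd, he, hQd, hcd, hce, hde, hQe, hspan⟩ := S.frame hc hc0 hQc
  obtain ⟨w, hw, u, hu, hwu⟩ := S.dec (mat Q g *ᵥ c)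
  have hw0 : w ≠ 0 := fun h => hgc (by rw [← hwu, h, zero_add]; exact hu)
  have hsum : Q w + Q u = 0 := by
    have h : Q (mat Q g *ᵥ c) = 0 := by rw [(mem_iff Q).mp g.2, hQc]
    rw [← hwu, QuadraticMap.map_add (f := Q), QuadraticMap.polar_comm, S.orth hu hw, add_zero] at h
    exact h
  by_cases hQu : Q u = 0
  · -- a singular point of the perpendicular orthogonal to the new one
    obtain ⟨a, ha, ha0, hQa, hau⟩ : ∃ a ∈ HypQuad.perp Q W, a ≠ 0 ∧ Q a = 0 ∧ QuadraticMap.polar (⇑Q) a u = 0 := by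
      rcases eq_or_ne u 0 with h | h
      · exact ⟨c₁, hc₁, hc₁0, hQc₁, by rw [h, QuadraticMap.polar_zero_right]⟩
      · exact ⟨u, hu, h, hQu, by rw [polar_self_two, hQu, mul_zero]⟩
    obtain ⟨da, ea, hda, hea, -, hcda, hcea, -, hQea, hspa⟩ := S.frame ha ha0 hQa
    refine S.two_directions hq H.one_mem hg ha hea ha0 hQa hcda hcea hQea hspa hc he hc0 hQc hcd hce hQe hspan
      (a := a) (za := ea) (by rw [mat]; simp) (by rw [mat]; simp) rfl rfl ?_ fun hm => ?_
    · rw [← hwu, QuadraticMap.polar_add_right, S.orth ha hw, hau, add_zero]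
    · obtain ⟨t, ht⟩ := Submodule.mem_span_singleton.mp hm
      exact hgc (ht ▸ Submodule.smul_mem _ _ ha)
  -- otherwise an element of the stabiliser gives the second point
  have hQw : Q w ≠ 0 := fun h => hQu (by linear_combination hsum - h)
  have hS := S.two
  obtain ⟨w', ⟨hw', hww'⟩, hw'0⟩ := (W ⊓ HypQuad.perp Q (Submodule.span F {w})).exists_mem_ne_zero_of_ne_bot
    (fun h0 => by
      have := two_le_inf_perp_singleton Q S.nd W w
      rw [h0, finrank_bot, S.dimW] at this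
      omega)
  have hww : QuadraticMap.polar (⇑Q) w w' = 0 := (mem_perp_singleton Q).mp hww'
  have hQw' : Q w' ≠ 0 := by
    intro h
    obtain ⟨-, y, hy, hy'⟩ := S.ndW w' hw' hw'0
    apply hy'
    have heq : Submodule.span F (Set.range ![w, w']) = W := by
      refine Submodule.eq_of_le_of_finrank_eq (Submodule.span_le.mpr ?_) ?_
      · rintro _ ⟨i, rfl⟩; fin_cases i; exacts [hw, hw']
      · rw [finrank_span_eq_card ((LinearIndependent.pair_iff' hw0).mpr fun a ha => ?_), S.dimW]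
        · simp
        · rw [← ha, QuadraticMap.polar_smul_right, polar_self_two, smul_eq_mul] at hww
          rcases mul_eq_zero.mp hww with h0 | h0
          · exact hw'0 (by rw [← ha, h0, zero_smul])
          · exact mul_ne_zero S.two hQw h0
    rw [← heq, Matrix.range_cons_cons_empty, Submodule.mem_span_pair] at hy
    obtain ⟨a, b, rfl⟩ := hy
    rw [QuadraticMap.polar_add_right, QuadraticMap.polar_smul_right, QuadraticMap.polar_smul_right,
      QuadraticMap.polar_comm, hww, polar_self_two, h]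
    simp
  obtain ⟨x, hx0, hx⟩ : ∃ x : F, x ≠ 0 ∧ Q w + x * x * Q w' ≠ 0 := by
    by_contra hcon
    push Not at hcon
    have hsub : (Finset.univ.erase (0 : F)) ⊆ (Polynomial.X ^ 2 * Polynomial.C (Q w') + Polynomial.C (Q w)).roots.toFinset := by
      intro b hb
      rw [Multiset.mem_toFinset, Polynomial.mem_roots']
      refine ⟨fun h0 => hQw ?_, ?_⟩
      · simpa using congrArg (Polynomial.eval 0) h0
      · simp only [Polynomial.IsRoot, Polynomial.eval_add, Polynomial.eval_mul, Polynomial.eval_pow,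
          Polynomial.eval_X, Polynomial.eval_C]
        linear_combination hcon b (Finset.ne_of_mem_erase hb)
    have h1 := (Finset.card_le_card hsub).trans ((Multiset.toFinset_card_le _).trans (Polynomial.card_roots' _))
    rw [Finset.card_erase_of_mem (Finset.mem_univ _), Finset.card_univ] at h1
    have h2 : (Polynomial.X ^ 2 * Polynomial.C (Q w') + Polynomial.C (Q w)).natDegree ≤ 2 := by compute_degree
    omega
  obtain ⟨w₁, hw₁d⟩ : ∃ w₁, w₁ = w + x • w' := ⟨_, rfl⟩
  have hw₁W : w₁ ∈ W := hw₁d ▸ add_mem hw (W.smul_mem _ hw')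
  have hQw₁e : Q w₁ = Q w + x * x * Q w' := by
    rw [hw₁d, QuadraticMap.map_add (f := Q), QuadraticMap.map_smul, QuadraticMap.polar_smul_right, hww]
    simp
  have hQw₁ : Q w₁ ≠ 0 := hQw₁e ▸ hx
  have hpw : QuadraticMap.polar (⇑Q) w₁ w = 2 * Q w := by
    rw [hw₁d, QuadraticMap.polar_add_left, QuadraticMap.polar_smul_left, polar_self_two,
      QuadraticMap.polar_comm (⇑Q) w' w, hww, smul_zero, add_zero]
  obtain ⟨α, hαd⟩ : ∃ α, α = 1 - 2 * Q w / Q w₁ := ⟨_, rfl⟩
  have hα1 : α ≠ 1 := fun h => by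
    have h' : 2 * Q w / Q w₁ = 0 := by linear_combination hαd - h
    rcases div_eq_zero_iff.mp h' with h'' | h''
    · exact mul_ne_zero S.two hQw h''
    · exact hQw₁ h''
  have hα2 : α ≠ -1 := fun h => by
    have h' : 2 * Q w / Q w₁ = 2 := by linear_combination hαd - h
    rw [div_eq_iff hQw₁, hQw₁e] at h'
    have : 2 * (x * x * Q w') = 0 := by linear_combination -h'
    exact mul_ne_zero S.two (mul_ne_zero (mul_ne_zero hx0 hx0) hQw') this
  have hu0 : u ≠ 0 := fun h => hQu (by rw [h, QuadraticMap.map_zero])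
  have hperp2 : ∀ v ∈ HypQuad.perp Q W, Q v ≠ 0 → ∀ δ : F,
      ∃ y ∈ HypQuad.perp Q W, QuadraticMap.polar (⇑Q) v y = 0 ∧ Q y = δ := by
    intro v hv hQv δ
    obtain ⟨y, hy, hQy⟩ := represents Q (HypQuad.perp Q W ⊓ HypQuad.perp Q (Submodule.span F {v})) (by
      have := two_le_inf_perp_singleton Q S.nd (HypQuad.perp Q W) v
      rw [S.dimU] at this
      omega) (fun y hy hy0 => by
        obtain ⟨-, z, hz, hyz⟩ := S.ndU y hy.1 hy0
        have hvy : QuadraticMap.polar (⇑Q) v y = 0 := (mem_perp_singleton Q).mp hy.2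
        refine ⟨z - (QuadraticMap.polar (⇑Q) v z / (2 * Q v)) • v,
          ⟨sub_mem hz (Submodule.smul_mem _ _ hv), (mem_perp_singleton Q).mpr ?_⟩, ?_⟩
        · rw [QuadraticMap.polar_sub_right, QuadraticMap.polar_smul_right, polar_self_two, smul_eq_mul,
            div_mul_cancel₀ _ (mul_ne_zero S.two hQv), sub_self]
        · rw [QuadraticMap.polar_sub_right, QuadraticMap.polar_smul_right, QuadraticMap.polar_comm (⇑Q) y v, hvy,
            smul_zero, sub_zero]
          exact hyz) δ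
    exact ⟨y, hy.1, (mem_perp_singleton Q).mp hy.2, hQy⟩
  obtain ⟨y, hy, huy, hQy⟩ := hperp2 u hu hQu ((1 - α * α) * Q u)
  have hy0 : Q y ≠ 0 := by
    rw [hQy]
    refine mul_ne_zero (fun h => ?_) hQu
    rcases mul_self_eq_one_iff.mp (show α * α = 1 by linear_combination -h) with h' | h'
    · exact hα1 h'
    · exact hα2 h'
  obtain ⟨u₂, hu₂d⟩ : ∃ u₂, u₂ = α • u + y := ⟨_, rfl⟩
  have hu₂ : u₂ ∈ HypQuad.perp Q W := hu₂d ▸ add_mem (Submodule.smul_mem _ _ hu) hy
  have hQu₂ : Q u₂ = Q u := by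
    rw [hu₂d, QuadraticMap.map_add (f := Q), QuadraticMap.map_smul, hQy, QuadraticMap.polar_smul_left, huy]
    simp only [smul_eq_mul, mul_zero, add_zero]
    ring
  have hpu : QuadraticMap.polar (⇑Q) u u₂ = 2 * α * Q u := by
    rw [hu₂d, QuadraticMap.polar_add_right, QuadraticMap.polar_smul_right, polar_self_two, huy, smul_eq_mul]
    ring
  obtain ⟨v, hvd⟩ : ∃ v, v = u - u₂ := ⟨_, rfl⟩
  have hQv : Q v = 2 * (1 - α) * Q u := by
    rw [hvd, sub_eq_add_neg, QuadraticMap.map_add (f := Q), QuadraticMap.map_neg, hQu₂,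
      QuadraticMap.polar_neg_right, hpu]
    ring
  have hv0 : Q v ≠ 0 := by
    rw [hQv]; exact mul_ne_zero (mul_ne_zero S.two (sub_ne_zero.mpr (Ne.symm hα1))) hQu
  obtain ⟨y₁, hy₁, hu₂y₁, hQy₁⟩ := hperp2 u₂ hu₂ (hQu₂ ▸ hQu) (Q v)
  obtain ⟨y₂, hy₂, hu₂y₂, hQy₂⟩ := hperp2 u₂ hu₂ (hQu₂ ▸ hQu) (Q w₁)
  have hy₁0 : Q y₁ ≠ 0 := hQy₁ ▸ hv0
  have hy₂0 : Q y₂ ≠ 0 := hQy₂ ▸ hQw₁
  have hk := Subgroup.mul_mem _ (S.pair_omega (v := y₂) (w := w₁) hy₂0 hQw₁ hQy₂.symm)
    (S.pair_omega (v := y₁) (w := v) hy₁0 hv0 hQy₁.symm)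
  set m := refl Q y₂ hy₂0 * refl Q w₁ hQw₁ * (refl Q y₁ hy₁0 * refl Q v hv0) with hmdef
  have hmm : ∀ z, mat Q m *ᵥ z = mat Q (refl Q y₂ hy₂0) *ᵥ (mat Q (refl Q w₁ hQw₁) *ᵥ
      (mat Q (refl Q y₁ hy₁0) *ᵥ (mat Q (refl Q v hv0) *ᵥ z))) := fun z => by
    rw [hmdef, mat, mulVec_mul, mulVec_mul, mulVec_mul]
  have hvU : v ∈ HypQuad.perp Q W := hvd ▸ sub_mem hu hu₂
  have hfix : ∀ (p : ι → F) (hp : Q p ≠ 0), p ∈ HypQuad.perp Q W → ∀ z ∈ W, mat Q (refl Q p hp) *ᵥ z = z :=
    fun p hp hpU z hz => by rw [mat_refl, S.orth hpU hz, mul_zero, zero_smul, sub_zero]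
  have hinW : ∀ z ∈ W, mat Q (refl Q w₁ hQw₁) *ᵥ z ∈ W := fun z hz => by
    rw [mat_refl]; exact sub_mem hz (W.smul_mem _ hw₁W)
  have hmW : ∀ z ∈ W, mat Q m *ᵥ z = mat Q (refl Q w₁ hQw₁) *ᵥ z := fun z hz => by
    rw [hmm, hfix v hv0 hvU z hz, hfix y₁ hy₁0 hy₁ z hz, hfix y₂ hy₂0 hy₂ _ (hinW z hz)]
  have hmH : m ∈ H := S.mem_of_le hk fun z hz => by rw [hmW z hz]; exact hinW z hz
  have hmu : mat Q m *ᵥ u = u₂ := by
    have e1 : mat Q (refl Q v hv0) *ᵥ u = u₂ := by
      rw [mat_refl, hQv]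
      have : QuadraticMap.polar (⇑Q) v u = 2 * (1 - α) * Q u := by
        rw [hvd, QuadraticMap.polar_sub_left, polar_self_two, QuadraticMap.polar_comm (⇑Q) u₂ u, hpu]; ring
      rw [this, inv_mul_cancel₀ (hQv ▸ hv0), one_smul, hvd, sub_sub_cancel]
    rw [hmm, e1, mat_refl (Q := Q) y₁, QuadraticMap.polar_comm (⇑Q) y₁ u₂, hu₂y₁, mul_zero, zero_smul, sub_zero,
      mat_refl (Q := Q) w₁, QuadraticMap.polar_comm, S.orth hu₂ hw₁W, mul_zero, zero_smul, sub_zero, mat_refl,
      QuadraticMap.polar_comm (⇑Q) y₂ u₂, hu₂y₂, mul_zero, zero_smul, sub_zero]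
  obtain ⟨rw', hrw⟩ : ∃ z, z = w - ((Q w₁)⁻¹ * (2 * Q w)) • w₁ := ⟨_, rfl⟩
  have hrW : rw' ∈ W := hrw ▸ sub_mem hw (W.smul_mem _ hw₁W)
  have hmc : mat Q m *ᵥ (mat Q g *ᵥ c) = rw' + u₂ := by
    rw [← hwu, Matrix.mulVec_add, hmW w hw, hmu, mat_refl, hpw, ← hrw]
  refine S.two_directions hq hg (H.mul_mem hmH hg) hc he hc0 hQc hcd hce hQe hspan hc he hc0 hQc hcd hce hQe hspan
    rfl rfl rfl rfl ?_ fun hm => ?_
  · rw [mat, mulVec_mul]
    change QuadraticMap.polar (⇑Q) (mat Q g *ᵥ c) (mat Q m *ᵥ (mat Q g *ᵥ c)) = 0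
    rw [hmc, ← hwu, QuadraticMap.polar_add_left, QuadraticMap.polar_add_right, QuadraticMap.polar_add_right,
      QuadraticMap.polar_comm (⇑Q) w u₂, S.orth hu₂ hw, S.orth hu hrW, hpu, hrw, QuadraticMap.polar_sub_right,
      QuadraticMap.polar_smul_right, polar_self_two, QuadraticMap.polar_comm (⇑Q) w w₁, hpw, hαd, smul_eq_mul,
      show Q u = -Q w by linear_combination hsum]
    field_simp
    ring
  · rw [mat, mulVec_mul] at hm
    change mat Q m *ᵥ (mat Q g *ᵥ c) ∈ _ at hm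
    rw [hmc, ← hwu, Submodule.mem_span_singleton] at hm
    obtain ⟨t, ht⟩ := hm
    have h1 := congrArg (QuadraticMap.polar (⇑Q) y) ht
    rw [QuadraticMap.polar_smul_right, QuadraticMap.polar_add_right, QuadraticMap.polar_add_right, S.orth hy hw,
      S.orth hy hrW, hu₂d, QuadraticMap.polar_add_right, QuadraticMap.polar_smul_right,
      QuadraticMap.polar_comm (⇑Q) y u, huy, polar_self_two] at h1
    simp [S.two, hy0] at h1

end

/-- The stabiliser of a non-degenerate plane is maximal in five dimensions. -/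
theorem plane_maximal [Fintype F] (hQ : (QuadraticMap.polarBilin Q).Nondegenerate) (h2 : (2 : F) ≠ 0)
    (hq : 5 ≤ Fintype.card F) (hn : Fintype.card ι = 5) {W : Submodule F (ι → F)}
    (hW : Cfsg.Geo.IsNondegenerateOn (QuadraticMap.polar (⇑Q)) W) (hd : Module.finrank F W = 2) :
    Cfsg.Geo.IsMaximalIn (Cfsg.Geo.omegaGL (⇑Q)) (Cfsg.Geo.subspaceStabilizer W ⊓ Cfsg.Geo.omegaGL (⇑Q)) := by
  classical
  obtain ⟨hc, hU⟩ := nondeg_perp Q hQ hW
  refine ⟨lt_of_le_of_ne inf_le_right fun heq => ?_, fun M hHM hMO => ?_⟩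
  · obtain ⟨w, hw, hw0⟩ := W.exists_mem_ne_zero_of_ne_bot (fun h => by rw [h, finrank_bot] at hd; omega)
    obtain ⟨-, z, hz, hwz⟩ := hW w hw hw0
    obtain ⟨u, hu, hu0, hQu⟩ := exists_singular Q (HypQuad.perp Q W) (by
      rw [HypQuad.finrank_perp Q hQ W, Module.finrank_fintype_fun_eq_card, hn, hd])
    have huw : ∀ w' ∈ W, QuadraticMap.polar (⇑Q) u w' = 0 := fun w' hw' => by
      rw [QuadraticMap.polar_comm]; exact (HypQuad.mem_perp Q).mp hu w' hw'
    set t := siegelG Q hQu (huw z hz)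
    have ht : (t : GL ι F) ∈ Cfsg.Geo.subspaceStabilizer W ⊓ Cfsg.Geo.omegaGL (⇑Q) :=
      heq.symm ▸ (mem_omegaGL Q _).mpr ⟨t, siegelG_mem_omega Q hQ hn.ge hQu (huw z hz), rfl⟩
    have h2' : mat Q t *ᵥ w ∈ W := (ht.1 w).mp hw
    rw [mat_siegelG, siegelMap, huw w hw, zero_smul, add_zero, mul_zero, sub_zero, W.add_mem_iff_right hw,
      W.smul_mem_iff (by rw [neg_ne_zero, QuadraticMap.polar_comm]; exact hwz)] at h2'
    exact hu0 (Submodule.disjoint_def.mp hc.disjoint u h2' hu)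
  · by_cases hM : M ≤ Cfsg.Geo.subspaceStabilizer W
    · exact Or.inl (le_antisymm (le_inf hM hMO) hHM)
    right
    obtain ⟨g, hgM, hgW⟩ := SetLike.not_le_iff_exists.mp hM
    obtain ⟨g₀, -, rfl⟩ := (mem_omegaGL Q g).mp (hMO hgM)
    have S : Hyp Q (M.comap (Cfsg.isometryGroup F (⇑Q)).subtype) W :=
      ⟨hQ, hW, hd, hn, h2, fun k hk hkW => hHM ⟨hkW, (mem_omegaGL Q _).mpr ⟨k, hk, rfl⟩⟩⟩
    have h := S.sup hq (show g₀ ∈ M.comap (Cfsg.isometryGroup F (⇑Q)).subtype from hgM) hgW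
    refine le_antisymm hMO fun x hx => ?_
    obtain ⟨k, hk, rfl⟩ := (mem_omegaGL Q x).mp hx
    exact h hk

end Cfsg.Lib.Classical.Refl.Plane
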