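import Mathlib
import Cfsg.Agent.Classical.Orth.FamilyOvergroups

/-! Stabilisers of hyperbolic planes over the fields with two and three elements are not maximal. -/

set_option autoImplicit false
set_option linter.unusedSimpArgs false
set_option linter.style.haveILetI false

namespace Cfsg.Lib.Classical.Refl

open Matrix

universe u

variable {F : Type u} [Field F] {ι : Type} [Fintype ι] [DecidableEq ι] (Q : QuadraticForm F (ι → F))
  (hQ : (QuadraticMap.polarBilin Q).Nondegenerate)

include hQ in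
theorem plane_not_maximal [Fintype F] (hq : Fintype.card F ≤ 3) (hn : 9 ≤ Fintype.card ι)
    {W : Submodule F (ι → F)} (hdim : Module.finrank F W = 2)
    (hW : Cfsg.Geo.IsNondegenerateOn (QuadraticMap.polar (⇑Q)) W) (hplus : Cfsg.Geo.IsPlusTypeOn (⇑Q) W) :
    ∃ K : Subgroup (GL ι F), Cfsg.Geo.subspaceStabilizer W ⊓ Cfsg.Geo.omegaGL (⇑Q) < K ∧
      K < Cfsg.Geo.omegaGL (⇑Q) := by
  classical
  have hn5 : 5 ≤ Fintype.card ι := by omega
  have hsq : ∀ a : F, a ≠ 0 → a * a = 1 := by
    intro a ha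
    have h := FiniteField.pow_card_sub_one_eq_one a ha
    have h2 : 2 ≤ Fintype.card F := Fintype.one_lt_card
    rcases (show Fintype.card F = 2 ∨ Fintype.card F = 3 by omega) with h' | h' <;> rw [h'] at h
    · rw [pow_one] at h; rw [h, mul_one]
    · rwa [pow_two] at h
  obtain ⟨U, hUW, hUs, hUd⟩ := hplus
  rw [hdim] at hUd
  obtain ⟨e, he, he0⟩ := U.exists_mem_ne_zero_of_ne_bot (fun h => by rw [h, finrank_bot] at hUd; omega)
  have hQe : Q e = 0 := hUs e he
  obtain ⟨y, hy, hey⟩ : ∃ y ∈ W, QuadraticMap.polar (⇑Q) e y ≠ 0 := (hW e (hUW he) he0).2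
  obtain ⟨f, hf, hQf, hef⟩ : ∃ f ∈ W, Q f = 0 ∧ QuadraticMap.polar (⇑Q) e f = 1 := by
    set c := QuadraticMap.polar (⇑Q) e y with hc
    refine ⟨c⁻¹ • y + (-(c⁻¹ * c⁻¹ * Q y)) • e, add_mem (W.smul_mem _ hy) (W.smul_mem _ (hUW he)), ?_, ?_⟩
    · rw [QuadraticMap.map_add (f := Q), QuadraticMap.map_smul, QuadraticMap.map_smul, hQe,
        QuadraticMap.polar_smul_left, QuadraticMap.polar_smul_right, QuadraticMap.polar_comm (⇑Q) y e, ← hc,
        smul_eq_mul, smul_eq_mul, smul_eq_mul, smul_eq_mul]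
      field_simp
      ring
    · rw [QuadraticMap.polar_add_right, QuadraticMap.polar_smul_right, QuadraticMap.polar_smul_right,
        polar_self_two, hQe, ← hc]
      simp [inv_mul_cancel₀ hey]
  have hfe : QuadraticMap.polar (⇑Q) f e = 1 := by rw [QuadraticMap.polar_comm]; exact hef
  have hee : QuadraticMap.polar (⇑Q) e e = 0 := by rw [polar_self_two, hQe, mul_zero]
  have hff : QuadraticMap.polar (⇑Q) f f = 0 := by rw [polar_self_two, hQf, mul_zero]
  have hspan : W = Submodule.span F {e, f} := by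
    refine (Submodule.eq_of_le_of_finrank_le (Submodule.span_le.mpr ?_) ?_).symm
    · intro x hx
      simp only [Set.mem_insert_iff, Set.mem_singleton_iff] at hx
      rcases hx with rfl | rfl
      exacts [hUW he, hf]
    · rw [hdim]
      have hli : LinearIndependent F ![e, f] := by
        refine LinearIndependent.pair_iff.mpr fun a b hab => ?_
        have h1 := congrArg (QuadraticMap.polar (⇑Q) e) hab
        have h2 := congrArg (QuadraticMap.polar (⇑Q) f) hab
        simp [QuadraticMap.polar_add_right, QuadraticMap.polar_smul_right, hee, hef, hfe, hff] at h1 h2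
        exact ⟨h2, h1⟩
      have := finrank_span_eq_card hli
      rw [Fintype.card_fin, Matrix.range_cons, Matrix.range_cons, Matrix.range_empty, Set.union_empty,
        Set.singleton_union] at this
      rw [this]
  set v := e + f with hv
  have hQv : Q v = 1 := by rw [hv, QuadraticMap.map_add (f := Q), hQe, hQf, hef]; simp
  have huniq : ∀ x ∈ W, Q x = 1 → x ∈ Submodule.span F {v} := by
    intro x hx hQx
    rw [hspan, Submodule.mem_span_pair] at hx
    obtain ⟨a, b, rfl⟩ := hx
    rw [QuadraticMap.map_add (f := Q), QuadraticMap.map_smul, QuadraticMap.map_smul, hQe, hQf,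
      QuadraticMap.polar_smul_left, QuadraticMap.polar_smul_right, hef] at hQx
    simp at hQx
    have hb : b ≠ 0 := fun h => by rw [h] at hQx; simp at hQx
    have hab : a = b := mul_right_cancel₀ hb (hQx.trans (hsq b hb).symm)
    exact Submodule.mem_span_singleton.mpr ⟨a, by rw [hv, hab, smul_add]⟩
  have hS : ∀ S : Submodule F (ι → F), S = W → 2 * Module.finrank F S + 3 ≤ Fintype.card ι := by
    rintro S rfl; omega
  obtain ⟨y', hy', hQy'⟩ := exists_norm_in_perp Q hQ W (hS W rfl) 1
  have hperpW : Module.finrank F (HypQuad.perp Q W) = Fintype.card ι - 2 := by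
    rw [HypQuad.finrank_perp Q hQ, Module.finrank_fintype_fun_eq_card, hdim]
  have hlow : 3 ≤ Module.finrank F ↥(HypQuad.perp Q W ⊓ HypQuad.perp Q (Submodule.span F {y'})) := by
    have h1 := Submodule.finrank_sup_add_finrank_inf_eq (HypQuad.perp Q W) (HypQuad.perp Q (Submodule.span F {y'}))
    have h2 := Submodule.finrank_le (HypQuad.perp Q W ⊔ HypQuad.perp Q (Submodule.span F {y'}))
    rw [Module.finrank_fintype_fun_eq_card] at h2
    have h3 := HypQuad.finrank_perp Q hQ (Submodule.span F {y'})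
    have h4 : Module.finrank F ↥(Submodule.span F {y'}) ≤ 1 := by
      simpa using finrank_span_le_card (R := F) ({y'} : Set (ι → F))
    rw [Module.finrank_fintype_fun_eq_card] at h3
    omega
  obtain ⟨z, hz, hz0, hQz⟩ := exists_singular Q _ hlow
  have hzW : ∀ w ∈ W, QuadraticMap.polar (⇑Q) w z = 0 := fun w hw => (HypQuad.mem_perp Q).mp hz.1 w hw
  have hy'W : ∀ w ∈ W, QuadraticMap.polar (⇑Q) w y' = 0 := fun w hw => (HypQuad.mem_perp Q).mp hy' w hw
  have hzy : QuadraticMap.polar (⇑Q) y' z = 0 :=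
    (HypQuad.mem_perp Q).mp hz.2 y' (Submodule.mem_span_singleton_self y')
  have hzW' : z ∉ W := fun h => by
    obtain ⟨-, x, hx, hxz⟩ : _ ∧ ∃ x ∈ W, QuadraticMap.polar (⇑Q) z x ≠ 0 := ⟨trivial, (hW z h hz0).2⟩
    exact hxz (by rw [QuadraticMap.polar_comm]; exact hzW x hx)
  set u := e - f + y' with hu
  have hQu : Q u = 0 := by
    rw [hu, QuadraticMap.map_add (f := Q), sub_eq_add_neg, QuadraticMap.map_add (f := Q), QuadraticMap.map_neg,
      hQe, hQf, hQy', QuadraticMap.polar_neg_right, hef, QuadraticMap.polar_add_left, QuadraticMap.polar_neg_left,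
      hy'W e (hUW he), hy'W f hf]
    ring
  have hue : QuadraticMap.polar (⇑Q) u e = -1 := by
    rw [hu, QuadraticMap.polar_add_left, QuadraticMap.polar_sub_left, hee, hfe, QuadraticMap.polar_comm (⇑Q) y' e,
      hy'W e (hUW he)]
    ring
  have huv : QuadraticMap.polar (⇑Q) u v = 0 := by
    rw [hu, hv, QuadraticMap.polar_add_left, QuadraticMap.polar_sub_left, QuadraticMap.polar_add_right,
      QuadraticMap.polar_add_right, QuadraticMap.polar_add_right, hee, hef, hfe, hff,
      QuadraticMap.polar_comm (⇑Q) y' e, hy'W e (hUW he), QuadraticMap.polar_comm (⇑Q) y' f, hy'W f hf]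
    ring
  have huz : QuadraticMap.polar (⇑Q) u z = 0 := by
    rw [hu, QuadraticMap.polar_add_left, QuadraticMap.polar_sub_left, hzW e (hUW he), hzW f hf, hzy]
    ring
  have hzw : ∀ w ∈ W, QuadraticMap.polar (⇑Q) z w = 0 := fun w hw => by
    rw [QuadraticMap.polar_comm]; exact hzW w hw
  refine ⟨Cfsg.Geo.subspaceStabilizer (Submodule.span F {v}) ⊓ Cfsg.Geo.omegaGL (⇑Q), lt_of_le_of_ne ?_ ?_,
    lt_of_le_of_ne inf_le_right ?_⟩
  · rintro g ⟨hgW, hgO⟩
    refine ⟨?_, hgO⟩
    obtain ⟨h, -, rfl⟩ := (mem_omegaGL Q g).mp hgO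
    apply (mem_subspaceStabilizer_iff _ _).mpr
    refine Submodule.eq_of_le_of_finrank_eq ?_ (LinearEquiv.finrank_map_eq
      (Matrix.toLinearEquiv' (mat Q h) (h : GL ι F).invertible) _)
    rw [Submodule.map_le_iff_le_comap, Submodule.span_singleton_le_iff_mem, Submodule.mem_comap]
    refine huniq _ ((hgW v).mp (add_mem (hUW he) hf)) ?_
    rw [Matrix.toLin'_apply, (mem_iff Q).mp h.2, hQv]
  · intro heq
    set t := siegelG Q hQu huz
    have htK : (t : GL ι F) ∈ Cfsg.Geo.subspaceStabilizer (Submodule.span F {v}) ⊓ Cfsg.Geo.omegaGL (⇑Q) := by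
      refine ⟨(mem_subspaceStabilizer_iff _ _).mpr ?_, (mem_omegaGL Q _).mpr ⟨t, siegelG_mem_omega Q hQ hn5 hQu huz, rfl⟩⟩
      rw [Submodule.map_span, Set.image_singleton, Matrix.toLin'_apply]
      change Submodule.span F {mat Q t *ᵥ v} = _
      rw [mat_siegelG, siegelMap, huv, hzw v (add_mem (hUW he) hf)]
      simp
    rw [← heq] at htK
    have h2 : mat Q t *ᵥ e ∈ W := (htK.1 e).mp (hUW he)
    rw [mat_siegelG, siegelMap, hue, hzw e (hUW he), hQz] at h2
    simp at h2
    exact hzW' (by simpa using sub_mem (hUW he) h2)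
  · intro heq
    have hez : QuadraticMap.polar (⇑Q) e z = 0 := hzW e (hUW he)
    set t := siegelG Q hQe hez
    have htK : (t : GL ι F) ∈ Cfsg.Geo.subspaceStabilizer (Submodule.span F {v}) ⊓ Cfsg.Geo.omegaGL (⇑Q) :=
      heq.symm ▸ (mem_omegaGL Q _).mpr ⟨t, siegelG_mem_omega Q hQ hn5 hQe hez, rfl⟩
    have h2 : mat Q t *ᵥ v ∈ Submodule.span F {v} := (htK.1 v).mp (Submodule.mem_span_singleton_self v)
    have hev : QuadraticMap.polar (⇑Q) e v = 1 := by rw [hv, QuadraticMap.polar_add_right, hee, hef, zero_add]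
    rw [mat_siegelG, siegelMap, hev, hzw v (add_mem (hUW he) hf), hQz] at h2
    simp at h2
    have h3 : z ∈ Submodule.span F {v} := by
      simpa using sub_mem h2 (Submodule.mem_span_singleton_self v)
    exact hzW' ((Submodule.span_singleton_le_iff_mem v W).mpr (add_mem (hUW he) hf) h3)

end Cfsg.Lib.Classical.Refl
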