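import Mathlib
import Cfsg.Agent.Classical.Orth.ParabolicMax

/-! Maximality in `Ω` of the stabiliser of a non-singular line. -/

set_option autoImplicit false
set_option linter.unusedSimpArgs false
set_option linter.style.haveILetI false

namespace Cfsg.Lib.Classical.Refl

open Matrix

universe u

variable {F : Type u} [Field F] {ι : Type} [Fintype ι] [DecidableEq ι] (Q : QuadraticForm F (ι → F))
  (hQ : (QuadraticMap.polarBilin Q).Nondegenerate)

include hQ in
theorem exists_singular_outside [Finite F] (S : Submodule F (ι → F))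
    (hS : 2 * Module.finrank F S + 3 ≤ Fintype.card ι) :
    ∃ u, Q u = 0 ∧ u ∈ HypQuad.perp Q S ∧ u ∉ S := by
  obtain ⟨C, hC⟩ := S.exists_isCompl
  have h1 := HypQuad.finrank_perp Q hQ S
  have h2 := Submodule.finrank_add_eq_of_isCompl hC
  have h3 := Submodule.finrank_sup_add_finrank_inf_eq (HypQuad.perp Q S) C
  have h4 := Submodule.finrank_le (HypQuad.perp Q S ⊔ C)
  rw [Module.finrank_fintype_fun_eq_card] at h1 h2 h4
  obtain ⟨w, hw, hw0, hQw⟩ := exists_singular Q (HypQuad.perp Q S ⊓ C) (by omega)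
  exact ⟨w, hQw, hw.1, fun h => hw0 (Submodule.disjoint_def.mp hC.disjoint w h hw.2)⟩

include hQ in
theorem exists_singular_outside' [Finite F] (S : Submodule F (ι → F))
    (hS : Module.finrank F S + Module.finrank F ↥(S ⊓ HypQuad.perp Q S) + 3 ≤ Fintype.card ι) :
    ∃ u, Q u = 0 ∧ u ∈ HypQuad.perp Q S ∧ u ∉ S := by
  obtain ⟨C, hC⟩ := (S ⊓ HypQuad.perp Q S).exists_isCompl
  have h1 := HypQuad.finrank_perp Q hQ S
  have h2 := Submodule.finrank_add_eq_of_isCompl hC
  have h3 := Submodule.finrank_sup_add_finrank_inf_eq (HypQuad.perp Q S) C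
  have h4 := Submodule.finrank_le (HypQuad.perp Q S ⊔ C)
  rw [Module.finrank_fintype_fun_eq_card] at h1 h2 h4
  obtain ⟨w, hw, hw0, hQw⟩ := exists_singular Q (HypQuad.perp Q S ⊓ C) (by omega)
  exact ⟨w, hQw, hw.1, fun h => hw0 (Submodule.disjoint_def.mp hC.disjoint w ⟨h, hw.1⟩ hw.2)⟩

include hQ in
theorem point_sup [Finite F] (hn : 8 ≤ Fintype.card ι) {v : ι → F} (hv : Q v ≠ 0)
    (H : Subgroup (Cfsg.isometryGroup F (⇑Q)))
    (hH : ∀ g ∈ Cfsg.Omega F (⇑Q), (g : GL ι F) ∈ Cfsg.Geo.subspaceStabilizer (Submodule.span F {v}) → g ∈ H)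
    {g₀ : Cfsg.isometryGroup F (⇑Q)} (hg₀ : g₀ ∈ H) (hg₀v : mat Q g₀ *ᵥ v ∉ Submodule.span F {v}) :
    Cfsg.Omega F (⇑Q) ≤ H := by
  classical
  have hn5 : 5 ≤ Fintype.card ι := by omega
  have hv0 : v ≠ 0 := fun h => hv (by rw [h, QuadraticMap.map_zero])
  have hloc : ∀ u z (hu : Q u = 0) (huz : QuadraticMap.polar (⇑Q) u z = 0),
      QuadraticMap.polar (⇑Q) u v = 0 → QuadraticMap.polar (⇑Q) z v = 0 → siegelG Q hu huz ∈ H :=
    fun u z hu huz huv hzv => hH _ (siegelG_mem_omega Q hQ hn5 hu huz) (siegel_fix_subspace _ _ fun w hw => by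
      obtain ⟨c, rfl⟩ := Submodule.mem_span_singleton.mp hw
      simp [QuadraticMap.polar_smul_right, huv, hzv])
  have hfull : ∀ g ∈ H, ∀ u, Q u = 0 → QuadraticMap.polar (⇑Q) u v = 0 →
      QuadraticMap.polar (⇑Q) u (mat Q g *ᵥ v) = 0 → mat Q g *ᵥ v ∉ Submodule.span F {v, u} →
      u ∈ sCentres Q H := by
    intro g hg u hu huv huv' hind
    set v' := mat Q g *ᵥ v
    refine ⟨hu, fun z huz => ?_⟩
    -- split the perpendicular of u
    obtain ⟨y, hy, hyv, hyv'⟩ : ∃ y, QuadraticMap.polar (⇑Q) u y = 0 ∧ QuadraticMap.polar (⇑Q) v y = 0 ∧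
        QuadraticMap.polar (⇑Q) v' y ≠ 0 := by
      by_contra h
      push Not at h
      apply hind
      rw [← perp_perp Q hQ (Submodule.span F {v, u}), HypQuad.mem_perp]
      intro y hy
      rw [HypQuad.mem_perp] at hy
      rw [QuadraticMap.polar_comm]
      exact h y (hy u (Submodule.subset_span (by simp))) (hy v (Submodule.subset_span (by simp)))
    set c := QuadraticMap.polar (⇑Q) v' z / QuadraticMap.polar (⇑Q) v' y with hc
    have h1 : QuadraticMap.polar (⇑Q) u (c • y) = 0 := by rw [QuadraticMap.polar_smul_right, hy, smul_zero]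
    have h2 : QuadraticMap.polar (⇑Q) u (z - c • y) = 0 := by rw [QuadraticMap.polar_sub_right, huz, h1, sub_zero]
    have m1 : siegelG Q hu h1 ∈ H := hloc _ _ hu h1 huv (by
      rw [QuadraticMap.polar_comm, QuadraticMap.polar_smul_right, hyv, smul_zero])
    have m2 : siegelG Q hu h2 ∈ H := by
      have hb : QuadraticMap.polar (⇑Q) v' (z - c • y) = 0 := by
        rw [QuadraticMap.polar_sub_right, QuadraticMap.polar_smul_right, smul_eq_mul, hc, div_mul_cancel₀ _ hyv',
          sub_self]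
      have back : ∀ x, mat Q g *ᵥ (mat Q g⁻¹ *ᵥ x) = x := fun x => by
        rw [← mulVec_mul, mul_inv_cancel]; exact Matrix.one_mulVec x
      have hu' : Q (mat Q g⁻¹ *ᵥ u) = 0 := by rw [(mem_iff Q).mp g⁻¹.2, hu]
      have p1 : QuadraticMap.polar (⇑Q) (mat Q g⁻¹ *ᵥ u) (mat Q g⁻¹ *ᵥ (z - c • y)) = 0 := by
        rw [polar_act, h2]
      have p2 : QuadraticMap.polar (⇑Q) (mat Q g⁻¹ *ᵥ u) v = 0 := by
        rw [← polar_act Q g, back]; exact huv'
      have p3 : QuadraticMap.polar (⇑Q) (mat Q g⁻¹ *ᵥ (z - c • y)) v = 0 := by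
        rw [← polar_act Q g, back, QuadraticMap.polar_comm]; exact hb
      have h := H.mul_mem (H.mul_mem hg (hloc _ _ hu' p1 p2 p3)) (H.inv_mem hg)
      rw [siegelG_conj] at h
      convert h using 2 <;> exact (back _).symm
    have h := H.mul_mem m2 m1
    rw [siegelG_mul] at h
    convert h using 2
    abel
  have hspan2 : ∀ a b : ι → F, Module.finrank F ↥(Submodule.span F ({a, b} : Set (ι → F))) ≤ 2 := fun a b =>
    le_trans (finrank_span_le_card (R := F) ({a, b} : Set (ι → F))) (by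
      simp [Finset.card_insert_le]; exact Finset.card_le_two)
  obtain ⟨u₀, hu₀, hu₀P, hu₀S⟩ := exists_singular_outside Q hQ (Submodule.span F {v, mat Q g₀ *ᵥ v})
    (by have := hspan2 v (mat Q g₀ *ᵥ v); omega)
  have hu₀v : QuadraticMap.polar (⇑Q) u₀ v = 0 := by
    rw [QuadraticMap.polar_comm]; exact (HypQuad.mem_perp Q).mp hu₀P v (Submodule.subset_span (by simp))
  have hu₀C : u₀ ∈ sCentres Q H := hfull g₀ hg₀ u₀ hu₀ hu₀v
    (by rw [QuadraticMap.polar_comm]; exact (HypQuad.mem_perp Q).mp hu₀P _ (Submodule.subset_span (by simp)))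
    (fun h => by
      obtain ⟨α, β, hab⟩ := Submodule.mem_span_pair.mp h
      rcases eq_or_ne β 0 with rfl | hβ
      · exact hg₀v (Submodule.mem_span_singleton.mpr ⟨α, by rw [← hab, zero_smul, add_zero]⟩)
      · apply hu₀S
        rw [show u₀ = β⁻¹ • (mat Q g₀ *ᵥ v) + (-(β⁻¹ * α)) • v by
          rw [← hab, smul_add, smul_smul, smul_smul, inv_mul_cancel₀ hβ, one_smul, neg_smul]; abel]
        exact add_mem (Submodule.smul_mem _ _ (Submodule.subset_span (by simp)))
          (Submodule.smul_mem _ _ (Submodule.subset_span (by simp))))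
  have hstep : ∀ a ∈ sCentres Q H, QuadraticMap.polar (⇑Q) a v = 0 → ∀ u, Q u = 0 →
      QuadraticMap.polar (⇑Q) u v = 0 → QuadraticMap.polar (⇑Q) u a = 0 → a ∉ Submodule.span F {v, u} →
      u ∈ sCentres Q H := by
    intro a ha hav u hu huv hua hind
    obtain ⟨hQa, haH⟩ := ha
    have hav' : v ∉ Submodule.span F {a} := fun h => by
      obtain ⟨s, hs⟩ := Submodule.mem_span_singleton.mp h
      exact hv (by rw [← hs, QuadraticMap.map_smul, hQa, smul_zero])
    obtain ⟨z, hz, hvz⟩ : ∃ z, QuadraticMap.polar (⇑Q) a z = 0 ∧ QuadraticMap.polar (⇑Q) z v ≠ 0 := by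
      by_contra h
      push Not at h
      apply hav'
      rw [← perp_perp Q hQ (Submodule.span F {a}), HypQuad.mem_perp]
      intro z hz
      exact h z ((HypQuad.mem_perp Q).mp hz a (Submodule.mem_span_singleton_self a))
    have himg : mat Q (siegelG Q hQa hz) *ᵥ v = v + (-QuadraticMap.polar (⇑Q) z v) • a := by
      rw [mat_siegelG, siegelMap, hav, zero_smul, add_zero, mul_zero, sub_zero]
    refine hfull _ (haH z hz) u hu huv ?_ ?_
    · rw [himg, QuadraticMap.polar_add_right, QuadraticMap.polar_smul_right, huv, hua, smul_zero, add_zero]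
    · rw [himg]
      intro h
      apply hind
      have h' := sub_mem h (Submodule.subset_span (by simp : v ∈ ({v, u} : Set (ι → F))))
      rw [add_sub_cancel_left] at h'
      exact (Submodule.smul_mem_iff _ (neg_ne_zero.mpr hvz)).mp h'
  have hallP : ∀ u, Q u = 0 → QuadraticMap.polar (⇑Q) u v = 0 → u ∈ sCentres Q H := by
    intro u hu huv
    have hu3 : Module.finrank F ↥(Submodule.span F ({v, u, u₀} : Set (ι → F))) ≤ 3 :=
      le_trans (finrank_span_le_card (R := F) ({v, u, u₀} : Set (ι → F))) (by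
        simp only [Set.toFinset_insert, Set.toFinset_singleton]; exact Finset.card_le_three)
    by_cases hu0 : u = 0
    · subst hu0
      simpa using sCentres_smul hu₀C 0
    by_cases huu₀ : QuadraticMap.polar (⇑Q) u u₀ = 0
    · by_cases hin : u₀ ∈ Submodule.span F {v, u}
      · obtain ⟨α, β, hab⟩ := Submodule.mem_span_pair.mp hin
        have h := hu₀
        rw [← hab, QuadraticMap.map_add (f := Q), QuadraticMap.map_smul, QuadraticMap.map_smul, hu,
          QuadraticMap.polar_smul_left, QuadraticMap.polar_smul_right, QuadraticMap.polar_comm (⇑Q) v u, huv] at h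
        simp only [smul_eq_mul, mul_zero, add_zero] at h
        rw [mul_self_eq_zero.mp ((mul_eq_zero.mp h).resolve_right hv), zero_smul, zero_add] at hab
        have hu₀0 : u₀ ≠ 0 := fun h => hu₀S (h ▸ Submodule.zero_mem _)
        have hβ : β ≠ 0 := fun h => hu₀0 (by rw [← hab, h, zero_smul])
        rw [show u = β⁻¹ • u₀ by rw [← hab, smul_smul, inv_mul_cancel₀ hβ, one_smul]]
        exact sCentres_smul hu₀C _
      · exact hstep u₀ hu₀C hu₀v u hu huv huu₀ hin
    have hrad : Module.finrank F ↥(Submodule.span F ({v, u, u₀} : Set (ι → F)) ⊓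
        HypQuad.perp Q (Submodule.span F ({v, u, u₀} : Set (ι → F)))) ≤ 1 := by
      refine le_trans (Submodule.finrank_mono (t := Submodule.span F {v}) ?_) (finrank_span_singleton hv0).le
      rintro w ⟨hw, hw'⟩
      obtain ⟨α, r, hr, rfl⟩ := Submodule.mem_span_insert.mp hw
      obtain ⟨β, γ, rfl⟩ := Submodule.mem_span_pair.mp hr
      have e1 := (HypQuad.mem_perp Q).mp hw' u (Submodule.subset_span (by simp))
      have e2 := (HypQuad.mem_perp Q).mp hw' u₀ (Submodule.subset_span (by simp))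
      simp only [QuadraticMap.polar_add_right, QuadraticMap.polar_smul_right, polar_self_two, hu, hu₀, huv, hu₀v,
        QuadraticMap.polar_comm (⇑Q) u₀ u, smul_eq_mul, mul_zero, zero_add, add_zero] at e1 e2
      rw [(mul_eq_zero.mp e2).resolve_right huu₀, (mul_eq_zero.mp e1).resolve_right huu₀, zero_smul, zero_smul,
        add_zero, add_zero]
      exact Submodule.smul_mem _ _ (Submodule.mem_span_singleton_self v)
    obtain ⟨u₁, hu₁, hu₁P, hu₁S⟩ := exists_singular_outside' Q hQ (Submodule.span F {v, u, u₀}) (by omega)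
    rw [HypQuad.mem_perp] at hu₁P
    have q1 : QuadraticMap.polar (⇑Q) u₁ v = 0 := by
      rw [QuadraticMap.polar_comm]; exact hu₁P v (Submodule.subset_span (by simp))
    have hnot : ∀ a, Q a = 0 → a ≠ 0 → a ∈ ({v, u, u₀} : Set (ι → F)) → a ∉ Submodule.span F {v, u₁} := by
      intro a ha ha0 hmem h
      obtain ⟨α, β, hab⟩ := Submodule.mem_span_pair.mp h
      rcases eq_or_ne β 0 with rfl | hβ
      · rw [zero_smul, add_zero] at hab
        rw [← hab, QuadraticMap.map_smul, smul_eq_mul] at ha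
        have hα : α = 0 := mul_self_eq_zero.mp ((mul_eq_zero.mp ha).resolve_right hv)
        exact ha0 (by rw [← hab, hα, zero_smul])
      · apply hu₁S
        rw [show u₁ = β⁻¹ • a + (-(β⁻¹ * α)) • v by
          rw [← hab, smul_add, smul_smul, smul_smul, inv_mul_cancel₀ hβ, one_smul, neg_smul]; abel]
        exact add_mem (Submodule.smul_mem _ _ (Submodule.subset_span hmem))
          (Submodule.smul_mem _ _ (Submodule.subset_span (by simp)))
    have hu₁0 : u₁ ≠ 0 := fun h => hu₁S (h ▸ Submodule.zero_mem _)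
    have hu₀0 : u₀ ≠ 0 := fun h => hu₀S (h ▸ Submodule.zero_mem _)
    have c1 : u₁ ∈ sCentres Q H := hstep u₀ hu₀C hu₀v u₁ hu₁ q1
      (by rw [QuadraticMap.polar_comm]; exact hu₁P u₀ (Submodule.subset_span (by simp)))
      (hnot u₀ hu₀ hu₀0 (by simp))
    refine hstep u₁ c1 q1 u hu huv (hu₁P u (Submodule.subset_span (by simp))) fun h => hu₁S ?_
    exact Submodule.span_mono (by simp [Set.insert_subset_iff]) h
  rw [omega_eq_closure_all Q hQ hn5, Subgroup.closure_le]
  rintro g ⟨u, z, hu, huz, rfl⟩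
  refine siegelG_mem_of_singular Q hQ H hn5 hu (fun w huw hw => ?_) huz
  by_cases huv : QuadraticMap.polar (⇑Q) u v = 0
  · exact (hallP u hu huv).2 w huw
  set s := QuadraticMap.polar (⇑Q) w v / QuadraticMap.polar (⇑Q) u v with hs
  set w' := w - s • u with hw'
  have huu : QuadraticMap.polar (⇑Q) u u = 0 := by rw [polar_self_two, hu, mul_zero]
  have huw' : QuadraticMap.polar (⇑Q) u w' = 0 := by
    rw [hw', QuadraticMap.polar_sub_right, QuadraticMap.polar_smul_right, huu, smul_zero, sub_zero, huw]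
  have hQw' : Q w' = 0 := by
    rw [hw', sub_eq_add_neg, QuadraticMap.map_add (f := Q), QuadraticMap.map_neg, QuadraticMap.map_smul, hu, hw,
      QuadraticMap.polar_neg_right, QuadraticMap.polar_smul_right, QuadraticMap.polar_comm (⇑Q) w u, huw]
    simp
  have hw'v : QuadraticMap.polar (⇑Q) w' v = 0 := by
    rw [hw', QuadraticMap.polar_sub_left, QuadraticMap.polar_smul_left, smul_eq_mul, hs, div_mul_cancel₀ _ huv,
      sub_self]
  rw [siegelG_congr Q hu huw hu huw' fun x => ?_, siegelG_swap hu hQw' huw']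
  · exact (hallP w' hQw' hw'v).2 _ _
  · funext i
    simp only [siegelMap, hQw', hw, hw', QuadraticMap.polar_sub_left, QuadraticMap.polar_smul_left, Pi.add_apply,
      Pi.smul_apply, Pi.sub_apply, smul_eq_mul]
    rw [show Q (w - s • u) = 0 from hQw']
    ring

include hQ in
theorem point_maximal [Finite F] (hn : 8 ≤ Fintype.card ι) {v : ι → F} (hv : Q v ≠ 0) :
    Cfsg.Geo.IsMaximalIn (Cfsg.Geo.omegaGL (⇑Q))
      (Cfsg.Geo.subspaceStabilizer (Submodule.span F {v}) ⊓ Cfsg.Geo.omegaGL (⇑Q)) := by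
  classical
  have hv0 : v ≠ 0 := fun h => hv (by rw [h, QuadraticMap.map_zero])
  refine ⟨lt_of_le_of_ne inf_le_right fun heq => ?_, fun M hHM hMO => ?_⟩
  · obtain ⟨u, hu, huP, huS⟩ := exists_singular_outside Q hQ (Submodule.span F {v})
      (by rw [finrank_span_singleton hv0]; omega)
    have huv : QuadraticMap.polar (⇑Q) u v = 0 := by
      rw [QuadraticMap.polar_comm]; exact (HypQuad.mem_perp Q).mp huP v (Submodule.mem_span_singleton_self v)
    obtain ⟨z, hz, hzv⟩ : ∃ z, QuadraticMap.polar (⇑Q) u z = 0 ∧ QuadraticMap.polar (⇑Q) z v ≠ 0 := by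
      by_contra h
      push Not at h
      have hmem : v ∈ Submodule.span F {u} := by
        rw [← perp_perp Q hQ (Submodule.span F {u}), HypQuad.mem_perp]
        intro z hz
        exact h z ((HypQuad.mem_perp Q).mp hz u (Submodule.mem_span_singleton_self u))
      obtain ⟨s, hs⟩ := Submodule.mem_span_singleton.mp hmem
      exact hv (by rw [← hs, QuadraticMap.map_smul, hu, smul_zero])
    set t := siegelG Q hu hz
    have ht : (t : GL ι F) ∈ Cfsg.Geo.subspaceStabilizer (Submodule.span F {v}) ⊓ Cfsg.Geo.omegaGL (⇑Q) :=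
      heq.symm ▸ (mem_omegaGL Q _).mpr ⟨t, siegelG_mem_omega Q hQ (by omega) hu hz, rfl⟩
    have h2 : mat Q t *ᵥ v ∈ Submodule.span F {v} := (ht.1 v).mp (Submodule.mem_span_singleton_self v)
    rw [mat_siegelG, siegelMap, huv, zero_smul, add_zero, mul_zero, sub_zero,
      Submodule.add_mem_iff_right _ (Submodule.mem_span_singleton_self v),
      Submodule.smul_mem_iff _ (neg_ne_zero.mpr hzv)] at h2
    exact huS h2
  · by_cases hM : M ≤ Cfsg.Geo.subspaceStabilizer (Submodule.span F {v})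
    · exact Or.inl (le_antisymm (le_inf hM hMO) hHM)
    right
    obtain ⟨g, hgM, hgW⟩ := SetLike.not_le_iff_exists.mp hM
    obtain ⟨g₀, -, rfl⟩ := (mem_omegaGL Q g).mp (hMO hgM)
    have hgv : mat Q g₀ *ᵥ v ∉ Submodule.span F {v} := fun h => hgW ((mem_subspaceStabilizer_iff _ _).mpr
      (Submodule.eq_of_le_of_finrank_eq (by
        rw [Submodule.map_le_iff_le_comap, Submodule.span_singleton_le_iff_mem, Submodule.mem_comap]
        exact h)
        (LinearEquiv.finrank_map_eq (Matrix.toLinearEquiv' (mat Q g₀) (g₀ : GL ι F).invertible) _)))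
    have h := point_sup Q hQ hn hv (M.comap (Cfsg.isometryGroup F (⇑Q)).subtype)
      (fun k hk hkW => hHM ⟨hkW, (mem_omegaGL Q _).mpr ⟨k, hk, rfl⟩⟩) (show g₀ ∈ _ from hgM) hgv
    refine le_antisymm hMO fun x hx => ?_
    obtain ⟨k, hk, rfl⟩ := (mem_omegaGL Q x).mp hx
    exact h hk

end Cfsg.Lib.Classical.Refl
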