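import Cfsg.Agent.Classical.Orth.SingPairMax
import Cfsg.Agent.Classical.Orth.StdForms
import Cfsg.Agent.Classical.Unitary.SingPairMatrix
import Mathlib

/-!
# Totally singular pairs: the matrix statement for small even dimension
-/

set_option autoImplicit false
open Cfsg

namespace Cfsg.Lib.Classical.Refl

/-- The stabiliser of a pair of complementary totally singular subspaces of even dimension `k ≥ 5`. -/
theorem singPair_maximal {F : Type*} [Field F] [Fintype F] {n : ℕ} (Q : (Fin n → F) → F)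
    (hQ : Cfsg.Geo.IsNondegenerateQuadraticForm Q) {k : ℕ} (hk : 2 * k = n) (hk5 : 5 ≤ k) (hke : Even k)
    (D : Fin 2 → Submodule F (Fin n → F)) (hD : Cfsg.Geo.IsMDecomposition k D)
    (hts : ∀ i, Cfsg.Geo.IsTotallySingularQuad Q (D i)) :
    Cfsg.Geo.IsMaximalIn (Cfsg.Geo.omegaGL Q) (Cfsg.Geo.decompositionStabilizer D ⊓ Cfsg.Geo.omegaGL Q) := by
  classical
  obtain ⟨P, rfl, hP⟩ := Cfsg.Lib.Classical.Refl.exists_form hQ
  have hc : IsCompl (D 0) (D 1) := Cfsg.Lib.Classical.isCompl_of_decomposition hD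
  have S : Cfsg.Lib.Classical.Refl.SPair P (D 0) (D 1) k :=
    ⟨hP, hc, hts 0, hts 1, hD.finrank_eq 0, hD.finrank_eq 1, by omega⟩
  have hgl : ∀ (x : GL (Fin n) F) (i j : Fin 2),
      (∀ v ∈ D i, (x : Matrix (Fin n) (Fin n) F).mulVec v ∈ D j) →
      (D i).map (Matrix.toLin' (x : Matrix (Fin n) (Fin n) F)) = D j := fun x i j h =>
    Submodule.eq_of_le_of_finrank_le (by rintro _ ⟨v, hv, rfl⟩; exact h v hv) (by
      rw [show Module.finrank F ((D i).map (Matrix.toLin' (x : Matrix (Fin n) (Fin n) F))) = Module.finrank F (D i) from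
        LinearEquiv.finrank_map_eq (Matrix.toLinearEquiv' (x : Matrix (Fin n) (Fin n) F) x.invertible) (D i),
        hD.finrank_eq, hD.finrank_eq])
  have hiff : ∀ h : Cfsg.isometryGroup F (⇑P), (h : GL (Fin n) F) ∈ Cfsg.Geo.decompositionStabilizer D ↔
      (((∀ x ∈ D 0, (Cfsg.Lib.Classical.Refl.mat P h).mulVec x ∈ D 0) ∧
        (∀ x ∈ D 1, (Cfsg.Lib.Classical.Refl.mat P h).mulVec x ∈ D 1)) ∨
      ((∀ x ∈ D 0, (Cfsg.Lib.Classical.Refl.mat P h).mulVec x ∈ D 1) ∧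
        ∀ x ∈ D 1, (Cfsg.Lib.Classical.Refl.mat P h).mulVec x ∈ D 0)) := by
    intro h
    constructor
    · rintro ⟨σ, hσ⟩
      have hs : ∀ i, ∀ x ∈ D i, (Cfsg.Lib.Classical.Refl.mat P h).mulVec x ∈ D (σ i) := fun i x hx => by
        rw [← hσ i]; exact Submodule.mem_map_of_mem hx
      have h2 : ∀ σ : Equiv.Perm (Fin 2), (σ 0 = 0 ∧ σ 1 = 1) ∨ (σ 0 = 1 ∧ σ 1 = 0) := by decide
      rcases h2 σ with ⟨a, b⟩ | ⟨a, b⟩
      · exact Or.inl ⟨fun x hx => a ▸ hs 0 x hx, fun x hx => b ▸ hs 1 x hx⟩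
      · exact Or.inr ⟨fun x hx => a ▸ hs 0 x hx, fun x hx => b ▸ hs 1 x hx⟩
    · rintro (⟨a, b⟩ | ⟨a, b⟩)
      · exact ⟨1, fun i => by fin_cases i; exacts [hgl _ 0 0 a, hgl _ 1 1 b]⟩
      · exact ⟨Equiv.swap 0 1, fun i => by fin_cases i; exacts [hgl _ 0 1 a, hgl _ 1 0 b]⟩
  refine ⟨lt_of_le_of_ne inf_le_right fun heq => ?_, fun M hHM hMO => ?_⟩
  · obtain ⟨a, ha, ha0⟩ := (D 0).exists_mem_ne_zero_of_ne_bot (fun h => by
      have := hD.finrank_eq 0; rw [h, finrank_bot] at this; omega)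
    obtain ⟨a', ha', ha'a, -, -, -⟩ := S.exists_pick a a a a
    obtain ⟨w, hw, hwa, hwa'⟩ := S.exists_test (Submodule.span F {a'}) ha (fun h => by
      obtain ⟨c, rfl⟩ := Submodule.mem_span_singleton.mp h
      have hc : c ≠ 0 := fun hc => ha0 (by rw [hc, zero_smul])
      exact ha'a (Submodule.mem_span_singleton.mpr ⟨c⁻¹, by rw [smul_smul, inv_mul_cancel₀ hc, one_smul]⟩))
      (Submodule.span_le.mpr (by simpa using ha'))
    set t := Cfsg.Lib.Classical.Refl.siegelG P (S.sing₁ a ha) (S.polar₁ ha ha') with ht'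
    have ht : (t : GL (Fin n) F) ∈ Cfsg.Geo.decompositionStabilizer D ⊓ Cfsg.Geo.omegaGL (⇑P) :=
      heq.symm ▸ (Cfsg.Lib.Classical.Refl.mem_omegaGL P _).mpr
        ⟨t, Cfsg.Lib.Classical.Refl.siegelG_mem_omega P hP (by rw [Fintype.card_fin]; omega) _ _, rfl⟩
    have hmove : (Cfsg.Lib.Classical.Refl.mat P t).mulVec w = w + a' := by
      rw [ht', Cfsg.Lib.Classical.Refl.mat_siegelG]
      simp only [Cfsg.Lib.Classical.Refl.siegelMap, hwa, hwa' a' (Submodule.mem_span_singleton_self a'), S.sing₁ a' ha',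
        one_smul, neg_zero, zero_mul, sub_zero, zero_smul, add_zero]
    have ha'0 : a' ≠ 0 := fun h => ha'a (by rw [h]; exact Submodule.zero_mem _)
    rcases (hiff t).mp ht.1 with ⟨-, h1⟩ | ⟨-, h1⟩
    · have := h1 w hw
      rw [hmove, Submodule.add_mem_iff_right _ hw] at this
      exact ha'0 (Submodule.disjoint_def.mp hc.disjoint a' ha' this)
    · have := h1 w hw
      rw [hmove, Submodule.add_mem_iff_left _ ha'] at this
      have hw0 : w = 0 := Submodule.disjoint_def.mp hc.disjoint w this hw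
      rw [hw0, QuadraticMap.polar_zero_right] at hwa
      exact zero_ne_one hwa
  · by_cases hM : M ≤ Cfsg.Geo.decompositionStabilizer D
    · exact Or.inl (le_antisymm (le_inf hM hMO) hHM)
    right
    obtain ⟨g, hgM, hgW⟩ := SetLike.not_le_iff_exists.mp hM
    obtain ⟨g₀, -, rfl⟩ := (Cfsg.Lib.Classical.Refl.mem_omegaGL P g).mp (hMO hgM)
    have h := S.omega_le hke (K := M.comap (Cfsg.isometryGroup F (⇑P)).subtype)
      (fun x hx hxW => hHM ⟨(hiff x).mpr hxW, (Cfsg.Lib.Classical.Refl.mem_omegaGL P _).mpr ⟨x, hx, rfl⟩⟩)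
      (show g₀ ∈ _ from hgM) (fun hb => hgW ((hiff g₀).mpr hb))
    refine le_antisymm hMO fun x hx => ?_
    obtain ⟨y, hy, rfl⟩ := (Cfsg.Lib.Classical.Refl.mem_omegaGL P x).mp hx
    exact h hy

end Cfsg.Lib.Classical.Refl
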