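import Mathlib
import Cfsg.Agent.Classical.Orth.FrameOvergroups

/-! Orthogonal decompositions into small hyperbolic members over small fields are not maximal. -/

set_option autoImplicit false
set_option linter.unusedSimpArgs false
set_option linter.unusedSectionVars false
set_option linter.unusedVariables false
set_option linter.style.haveILetI false
set_option linter.flexible false

namespace Cfsg.Lib.Classical.SmallDecomp

open Matrix Cfsg.Lib.Classical Cfsg.Lib.Classical.Refl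
open scoped commutatorElement

universe u

variable {F : Type u} [Field F] {ι : Type} [Fintype ι] [DecidableEq ι] (Q : QuadraticForm F (ι → F))

local notation "VV" => (ι → F)
set_option quotPrecheck false in
local notation "BQ" => QuadraticMap.polar (⇑Q)

/-- The matrices mapping a set of vectors into itself. -/
def mapsTo (S : Set VV) [Finite F] : Subgroup (GL ι F) where
  carrier := {g | ∀ x ∈ S, (g : Matrix ι ι F) *ᵥ x ∈ S}
  one_mem' := fun x hx => by simpa using hx
  mul_mem' := fun {a b} ha hb x hx => by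
    rw [Units.val_mul, ← Matrix.mulVec_mulVec]; exact ha _ (hb x hx)
  inv_mem' := fun {a} ha x hx => by
    have hp : ∀ j : ℕ, ((a ^ j : GL ι F) : Matrix ι ι F) *ᵥ x ∈ S := fun j => by
      induction j with
      | zero => simpa using hx
      | succ j ih => rw [pow_succ', Units.val_mul, ← Matrix.mulVec_mulVec]; exact ha _ ih
    have h := hp (orderOf a - 1)
    have e : a⁻¹ = a ^ (orderOf a - 1) := by
      refine inv_eq_of_mul_eq_one_right ?_
      rw [← pow_succ', Nat.sub_add_cancel (orderOf_pos a), pow_orderOf_eq_one]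
    rw [e]; exact h

theorem mem_mapsTo {S : Set VV} [Finite F] {g : GL ι F} :
    g ∈ mapsTo S ↔ ∀ x ∈ S, (g : Matrix ι ι F) *ᵥ x ∈ S := Iff.rfl

/-- A vector orthogonally seeing two members lies in none. -/
theorem not_mem {t : ℕ} {D : Fin t → Submodule F VV}
    (horth : ∀ i j, i ≠ j → ∀ u ∈ D i, ∀ v ∈ D j, BQ u v = 0) {x : VV} {j j' : Fin t} (hj : j ≠ j')
    {y y' : VV} (hy : y ∈ D j) (hy' : y' ∈ D j') (h : BQ x y ≠ 0) (h' : BQ x y' ≠ 0) : ∀ i, x ∉ D i := fun i hi => by
  by_cases hij : i = j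
  · exact h' (horth i j' (hij ▸ hj) x hi y' hy')
  · exact h (horth i j hij x hi y hy)

theorem stab_maps {t : ℕ} {D : Fin t → Submodule F VV} {g : GL ι F} (hg : g ∈ Cfsg.Geo.decompositionStabilizer D)
    {i : Fin t} {x : VV} (hx : x ∈ D i) : ∃ j, (g : Matrix ι ι F) *ᵥ x ∈ D j := by
  obtain ⟨σ, hσ⟩ := hg
  exact ⟨σ i, by rw [← hσ i]; exact ⟨x, hx, Matrix.toLin'_apply _ _⟩⟩

theorem omega_preserves {g : GL ι F} (hg : g ∈ Cfsg.Geo.omegaGL (⇑Q)) (x : VV) :
    Q ((g : Matrix ι ι F) *ᵥ x) = Q x := by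
  obtain ⟨h, -, rfl⟩ := (mem_omegaGL Q g).mp hg
  exact (mem_iff Q).mp h.2 x

theorem criterion [Finite F] {t : ℕ} {D : Fin t → Submodule F VV} (S : Set VV)
    (hle : ∀ g ∈ Cfsg.Geo.decompositionStabilizer D ⊓ Cfsg.Geo.omegaGL (⇑Q), ∀ x ∈ S, (g : Matrix ι ι F) *ᵥ x ∈ S)
    (s : GL ι F) (hs : s ∈ Cfsg.Geo.omegaGL (⇑Q)) (hsS : ∀ x ∈ S, (s : Matrix ι ι F) *ᵥ x ∈ S)
    {i : Fin t} {x : VV} (hx : x ∈ D i) (hsx : ∀ j, (s : Matrix ι ι F) *ᵥ x ∉ D j)
    (w : GL ι F) (hw : w ∈ Cfsg.Geo.omegaGL (⇑Q)) {y : VV} (hy : y ∈ S) (hwy : (w : Matrix ι ι F) *ᵥ y ∉ S) :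
    ∃ K : Subgroup (GL ι F), Cfsg.Geo.decompositionStabilizer D ⊓ Cfsg.Geo.omegaGL (⇑Q) < K ∧
      K < Cfsg.Geo.omegaGL (⇑Q) := by
  refine ⟨mapsTo S ⊓ Cfsg.Geo.omegaGL (⇑Q), lt_of_le_of_ne (fun g hg => ⟨hle g hg, hg.2⟩) ?_,
    lt_of_le_of_ne inf_le_right ?_⟩
  · intro e
    have : s ∈ Cfsg.Geo.decompositionStabilizer D ⊓ Cfsg.Geo.omegaGL (⇑Q) := e ▸ ⟨hsS, hs⟩
    obtain ⟨j, hj⟩ := stab_maps this.1 hx
    exact hsx j hj
  · intro e
    have : w ∈ mapsTo S ⊓ Cfsg.Geo.omegaGL (⇑Q) := e.symm ▸ hw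
    exact hwy (this.1 y hy)

/-- The vectors of value one in the members. -/
def base {t : ℕ} (D : Fin t → Submodule F VV) : Set VV := {x | Q x = 1 ∧ ∃ i, x ∈ D i}

theorem base_maps {t : ℕ} {D : Fin t → Submodule F VV} {g : GL ι F}
    (hg : g ∈ Cfsg.Geo.decompositionStabilizer D ⊓ Cfsg.Geo.omegaGL (⇑Q)) {x : VV} (hx : x ∈ base Q D) :
    (g : Matrix ι ι F) *ᵥ x ∈ base Q D := by
  obtain ⟨hQx, i, hi⟩ := hx
  exact ⟨by rw [omega_preserves Q hg.2, hQx], stab_maps hg.1 hi⟩

section Hyperbolic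

theorem exists_dual {W : Submodule F VV} (hW : Cfsg.Geo.IsNondegenerateOn BQ W) {u u' : VV} (hu : u ∈ W) (hu' : u' ∈ W)
    (hind : ∀ c : F, u' ≠ c • u) : ∃ y ∈ W, BQ u y = 0 ∧ BQ u' y = 1 := by
  have h1 : ∃ y ∈ W, BQ u y = 0 ∧ BQ u' y ≠ 0 := by
    by_contra hcon
    push Not at hcon
    by_cases hu0 : u = 0
    · obtain ⟨-, y, hy, hy'⟩ := hW u' hu' (fun e => hind 0 (by rw [e, zero_smul]))
      exact hy' (hcon y hy (by rw [hu0, QuadraticMap.polar, zero_add, QuadraticMap.map_zero, sub_zero, sub_self]))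
    obtain ⟨-, z, hz, hz'⟩ := hW u hu hu0
    set c := BQ u' z / BQ u z with hc
    have hne : u' - c • u ≠ 0 := fun e => hind c (sub_eq_zero.mp e)
    obtain ⟨-, y, hy, hy'⟩ := hW _ (sub_mem hu' (Submodule.smul_mem _ c hu)) hne
    have h := hcon (y - (BQ u y / BQ u z) • z) (sub_mem hy (Submodule.smul_mem _ _ hz)) (by
      rw [QuadraticMap.polar_sub_right, QuadraticMap.polar_smul_right, smul_eq_mul, div_mul_cancel₀ _ hz', sub_self])
    rw [QuadraticMap.polar_sub_right, QuadraticMap.polar_smul_right, smul_eq_mul] at h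
    refine hy' ?_
    rw [QuadraticMap.polar_sub_left, QuadraticMap.polar_smul_left, smul_eq_mul, hc]
    field_simp at h ⊢
    linear_combination h
  obtain ⟨y, hy, h0, h1⟩ := h1
  exact ⟨(BQ u' y)⁻¹ • y, Submodule.smul_mem _ _ hy,
    by rw [QuadraticMap.polar_smul_right, h0, smul_zero],
    by rw [QuadraticMap.polar_smul_right, smul_eq_mul, inv_mul_cancel₀ h1]⟩

/-- A hyperbolic pair. -/
def IsPair (e f : VV) : Prop := Q e = 0 ∧ Q f = 0 ∧ BQ e f = 1

variable {Q}

theorem IsPair.value {e f : VV} (h : IsPair Q e f) (a b : F) : Q (a • e + b • f) = a * b := by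
  rw [QuadraticMap.map_add (f := Q), QuadraticMap.map_smul, QuadraticMap.map_smul, QuadraticMap.polar_smul_left,
    QuadraticMap.polar_smul_right, h.1, h.2.1, h.2.2]
  simp

theorem IsPair.polar_left {e f : VV} (h : IsPair Q e f) (a b : F) : BQ (a • e + b • f) e = b := by
  rw [QuadraticMap.polar_add_left, QuadraticMap.polar_smul_left, QuadraticMap.polar_smul_left, polar_self_two, h.1,
    QuadraticMap.polar_comm (⇑Q) f e, h.2.2]
  simp

theorem IsPair.polar_right {e f : VV} (h : IsPair Q e f) (a b : F) : BQ (a • e + b • f) f = a := by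
  rw [QuadraticMap.polar_add_left, QuadraticMap.polar_smul_left, QuadraticMap.polar_smul_left, polar_self_two, h.2.1,
    h.2.2]
  simp

variable (Q)

theorem exists_pair_two {W : Submodule F VV} (hW : Cfsg.Geo.IsNondegenerateOn BQ W) (hd : Module.finrank F W = 2)
    (hp : Cfsg.Geo.IsPlusTypeOn (⇑Q) W) :
    ∃ e f, e ∈ W ∧ f ∈ W ∧ IsPair Q e f ∧ ∀ x ∈ W, ∃ a b : F, x = a • e + b • f := by
  obtain ⟨U, hUW, hUs, hUd⟩ := hp
  have hU1 : Module.finrank F U = 1 := by omega
  haveI : Nontrivial U := Module.nontrivial_of_finrank_pos (R := F) (by omega)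
  obtain ⟨⟨e, heU⟩, he0⟩ := exists_ne (0 : U)
  have he0' : e ≠ 0 := fun h => he0 (Subtype.ext h)
  obtain ⟨y, hy, -, hey⟩ := exists_dual Q hW (u := 0) (u' := e) W.zero_mem (hUW heU) (fun c => by simpa using he0')
  have hp' : IsPair Q e (y - Q y • e) := by
    refine ⟨hUs e heU, ?_, ?_⟩
    · rw [sub_eq_add_neg, ← neg_smul, QuadraticMap.map_add (f := Q), QuadraticMap.map_smul, hUs e heU,
        QuadraticMap.polar_smul_right, QuadraticMap.polar_comm (⇑Q) y e, hey]
      simp
    · rw [QuadraticMap.polar_sub_right, QuadraticMap.polar_smul_right, hey, polar_self_two, hUs e heU]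
      simp
  refine ⟨e, _, hUW heU, sub_mem hy (Submodule.smul_mem _ _ (hUW heU)), hp', fun x hx => ?_⟩
  set f := y - Q y • e
  have hfW : f ∈ W := sub_mem hy (Submodule.smul_mem _ _ (hUW heU))
  have hli : LinearIndependent F ![e, f] := by
    rw [LinearIndependent.pair_iff]
    intro a b hab
    have h1 := hp'.polar_left a b
    have h2 := hp'.polar_right a b
    rw [hab, QuadraticMap.polar, zero_add, QuadraticMap.map_zero, sub_zero, sub_self] at h1 h2
    exact ⟨h2.symm, h1.symm⟩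
  have hspan : Submodule.span F (Set.range ![e, f]) = W := by
    refine Submodule.eq_of_le_of_finrank_eq (Submodule.span_le.mpr ?_) ?_
    · rintro _ ⟨i, rfl⟩
      fin_cases i
      exacts [hUW heU, hfW]
    · rw [finrank_span_eq_card hli, hd, Fintype.card_fin]
  rw [← hspan, Submodule.mem_span_range_iff_exists_fun] at hx
  obtain ⟨c, hc⟩ := hx
  exact ⟨c 0, c 1, by simpa [Fin.sum_univ_two] using hc.symm⟩

theorem exists_pair_four {W : Submodule F VV} (hW : Cfsg.Geo.IsNondegenerateOn BQ W) (hd : Module.finrank F W = 4)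
    (hp : Cfsg.Geo.IsPlusTypeOn (⇑Q) W) :
    ∃ e f e' f', e ∈ W ∧ f ∈ W ∧ e' ∈ W ∧ f' ∈ W ∧ IsPair Q e f ∧ IsPair Q e' f' ∧ BQ e e' = 0 ∧ BQ e f' = 0 ∧
      BQ f e' = 0 ∧ BQ f f' = 0 ∧ ∀ x ∈ W, ∃ a b a' b' : F, x = a • e + b • f + (a' • e' + b' • f') := by
  obtain ⟨U, hUW, hUs, hUd⟩ := hp
  have hU2 : Module.finrank F U = 2 := by omega
  let bU := Module.finBasisOfFinrankEq F U hU2
  set e := (bU 0 : VV) with he
  set e' := (bU 1 : VV) with he'
  have heW : e ∈ W := hUW (bU 0).2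
  have he'W : e' ∈ W := hUW (bU 1).2
  have hQe : Q e = 0 := hUs _ (bU 0).2
  have hQe' : Q e' = 0 := hUs _ (bU 1).2
  have hee' : BQ e e' = 0 := by
    rw [QuadraticMap.polar, hUs _ (add_mem (bU 0).2 (bU 1).2), hQe, hQe']; simp
  have hli' : LinearIndependent F ![bU 0, bU 1] := by
    have : ![bU 0, bU 1] = bU := funext fun i => by fin_cases i <;> rfl
    rw [this]; exact bU.linearIndependent
  rw [LinearIndependent.pair_iff] at hli'
  have hind : ∀ c : F, e ≠ c • e' := fun c h => one_ne_zero (hli' 1 (-c) (Subtype.ext (by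
    show (1 : F) • e + (-c) • e' = 0
    rw [h]; module))).1
  have hind' : ∀ c : F, e' ≠ c • e := fun c h => one_ne_zero (hli' (-c) 1 (Subtype.ext (by
    show (-c) • e + (1 : F) • e' = 0
    rw [h]; module))).2
  obtain ⟨y, hy, he'y, hey⟩ := exists_dual Q hW he'W heW hind
  obtain ⟨z, hz, hez, he'z⟩ := exists_dual Q hW heW he'W hind'
  set f := y - Q y • e with hf
  set z' := z - BQ f z • e with hz'
  set f' := z' - Q z' • e' with hf'
  have hfW : f ∈ W := sub_mem hy (Submodule.smul_mem _ _ heW)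
  have hz'W : z' ∈ W := sub_mem hz (Submodule.smul_mem _ _ heW)
  have hf'W : f' ∈ W := sub_mem hz'W (Submodule.smul_mem _ _ he'W)
  have hse : BQ e e = 0 := by rw [polar_self_two, hQe, mul_zero]
  have hse' : BQ e' e' = 0 := by rw [polar_self_two, hQe', mul_zero]
  have he'e : BQ e' e = 0 := by rw [QuadraticMap.polar_comm, hee']
  have hef : BQ e f = 1 := by rw [hf, QuadraticMap.polar_sub_right, QuadraticMap.polar_smul_right, hey, hse]; simp
  have he'f : BQ e' f = 0 := by rw [hf, QuadraticMap.polar_sub_right, QuadraticMap.polar_smul_right, he'y, he'e]; simp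
  have hfe' : BQ f e' = 0 := by rw [QuadraticMap.polar_comm, he'f]
  have hQf : Q f = 0 := by
    rw [hf, sub_eq_add_neg, ← neg_smul, QuadraticMap.map_add (f := Q), QuadraticMap.map_smul, hQe,
      QuadraticMap.polar_smul_right, QuadraticMap.polar_comm (⇑Q) y e, hey]
    simp
  have hez' : BQ e z' = 0 := by rw [hz', QuadraticMap.polar_sub_right, QuadraticMap.polar_smul_right, hez, hse]; simp
  have he'z' : BQ e' z' = 1 := by rw [hz', QuadraticMap.polar_sub_right, QuadraticMap.polar_smul_right, he'z, he'e]; simp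
  have hfz' : BQ f z' = 0 := by
    rw [hz', QuadraticMap.polar_sub_right, QuadraticMap.polar_smul_right, QuadraticMap.polar_comm (⇑Q) f e, hef]; simp
  have hef' : BQ e f' = 0 := by rw [hf', QuadraticMap.polar_sub_right, QuadraticMap.polar_smul_right, hez', hee']; simp
  have hff' : BQ f f' = 0 := by rw [hf', QuadraticMap.polar_sub_right, QuadraticMap.polar_smul_right, hfz', hfe']; simp
  have he'f' : BQ e' f' = 1 := by rw [hf', QuadraticMap.polar_sub_right, QuadraticMap.polar_smul_right, he'z', hse']; simp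
  have hQf' : Q f' = 0 := by
    rw [hf', sub_eq_add_neg, ← neg_smul, QuadraticMap.map_add (f := Q), QuadraticMap.map_smul, hQe',
      QuadraticMap.polar_smul_right, QuadraticMap.polar_comm (⇑Q) z' e', he'z']
    simp
  refine ⟨e, f, e', f', heW, hfW, he'W, hf'W, ⟨hQe, hQf, hef⟩, ⟨hQe', hQf', he'f'⟩, hee', hef', hfe', hff',
    fun x hx => ?_⟩
  have hli : LinearIndependent F ![e, f, e', f'] := by
    rw [Fintype.linearIndependent_iff]
    intro c hc
    simp only [Fin.sum_univ_four, Matrix.cons_val_zero, Matrix.cons_val_one, Matrix.cons_val_two,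
      Matrix.cons_val_three, Matrix.tail_cons, Matrix.head_cons] at hc
    have hz : ∀ w, BQ (0 : VV) w = 0 := fun w => by
      rw [QuadraticMap.polar, zero_add, QuadraticMap.map_zero, sub_zero, sub_self]
    have k0 := congrArg (fun w => BQ w f) hc
    have k1 := congrArg (fun w => BQ w e) hc
    have k2 := congrArg (fun w => BQ w f') hc
    have k3 := congrArg (fun w => BQ w e') hc
    simp [QuadraticMap.polar_add_left, QuadraticMap.polar_smul_left, hz, polar_self_two, hQe, hQf, hQe', hQf', hef,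
      he'f, hee', he'e, hef', hff', hfe', he'f', QuadraticMap.polar_comm (⇑Q) f e,
      QuadraticMap.polar_comm (⇑Q) f' e, QuadraticMap.polar_comm (⇑Q) f' f, QuadraticMap.polar_comm (⇑Q) f' e'] at k0 k1 k2 k3
    intro i
    fin_cases i
    exacts [k0, k1, k2, k3]
  have hspan : Submodule.span F (Set.range ![e, f, e', f']) = W := by
    refine Submodule.eq_of_le_of_finrank_eq (Submodule.span_le.mpr ?_) ?_
    · rintro _ ⟨i, rfl⟩
      fin_cases i
      exacts [heW, hfW, he'W, hf'W]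
    · rw [finrank_span_eq_card hli, hd, Fintype.card_fin]
  rw [← hspan, Submodule.mem_span_range_iff_exists_fun] at hx
  obtain ⟨c, hc⟩ := hx
  refine ⟨c 0, c 1, c 2, c 3, hc.symm.trans ?_⟩
  simp [Fin.sum_univ_four]
  abel

end Hyperbolic

variable [Fintype F] (hQ : (QuadraticMap.polarBilin Q).Nondegenerate) (hn : 5 ≤ Fintype.card ι)
  {t : ℕ} (D : Fin t → Submodule F (ι → F))
  (horth : ∀ i j, i ≠ j → ∀ u ∈ D i, ∀ v ∈ D j, QuadraticMap.polar (⇑Q) u v = 0)

include hQ hn in
theorem siegel_omega {u z : VV} (hu : Q u = 0) (huz : BQ u z = 0) :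
    ((siegelG Q hu huz : Cfsg.isometryGroup F (⇑Q)) : GL ι F) ∈ Cfsg.Geo.omegaGL (⇑Q) :=
  (mem_omegaGL Q _).mpr ⟨_, siegelG_mem_omega Q hQ hn hu huz, rfl⟩

theorem siegel_apply {u z : VV} (hu : Q u = 0) (huz : BQ u z = 0) (x : VV) :
    (((siegelG Q hu huz : Cfsg.isometryGroup F (⇑Q)) : GL ι F) : Matrix ι ι F) *ᵥ x =
      x + BQ u x • z + (-BQ z x - Q z * BQ u x) • u := mat_siegelG Q hu huz x

theorem two_facts (h2 : (2 : F) = 0) (x : VV) : x + x = 0 ∧ -x = x := by
  have : x + x = 0 := by rw [← two_smul F x, h2, zero_smul]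
  exact ⟨this, neg_eq_of_add_eq_zero_left this⟩

theorem card_two_cases (hq : Fintype.card F = 2) (c : F) : c = 0 ∨ c = 1 := by
  by_cases h : c = 0
  · exact Or.inl h
  · exact Or.inr (by simpa [hq] using FiniteField.pow_card_sub_one_eq_one c h)

/-- The zero-one values. -/
def Bit (c : F) : Prop := c = 0 ∨ c = 1

theorem Bit.add {a b : F} (h2 : (2 : F) = 0) (ha : Bit a) (hb : Bit b) : Bit (a + b) := by
  rcases ha with rfl | rfl <;> rcases hb with rfl | rfl
  exacts [Or.inl (add_zero 0), Or.inr (zero_add 1), Or.inr (add_zero 1), Or.inl (by linear_combination h2)]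

end Cfsg.Lib.Classical.SmallDecomp
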