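import Mathlib
import Cfsg.Agent.Classical.Orth.SmallFieldDecompOvergroups

/-! The cases of the non-maximal decomposition stabilisers over small fields. -/

set_option autoImplicit false
set_option linter.unusedSimpArgs false
set_option linter.unusedSectionVars false
set_option linter.unusedVariables false
set_option linter.style.haveILetI false
set_option linter.flexible false

namespace Cfsg.Lib.Classical.SmallDecomp

open Matrix Cfsg.Lib.Classical Cfsg.Lib.Classical.Refl
open scoped commutatorElement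

universe u

variable {F : Type u} [Field F] [Fintype F] {ι : Type} [Fintype ι] [DecidableEq ι] {Q : QuadraticForm F (ι → F)}
  {t : ℕ} {D : Fin t → Submodule F (ι → F)}

local notation "VV" => (ι → F)
set_option quotPrecheck false in
local notation "BQ" => QuadraticMap.polar (⇑Q)
set_option quotPrecheck false in
local notation "GOAL" => ∃ K : Subgroup (GL ι F), Cfsg.Geo.decompositionStabilizer D ⊓ Cfsg.Geo.omegaGL (⇑Q) < K ∧
      K < Cfsg.Geo.omegaGL (⇑Q)

variable (Q D) in
/-- Hyperbolic pairs, one in each member. -/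
structure Planes (e f : Fin t → (ι → F)) : Prop where
  hQ : (QuadraticMap.polarBilin Q).Nondegenerate
  card : 5 ≤ Fintype.card ι
  orth : ∀ i j, i ≠ j → ∀ u ∈ D i, ∀ v ∈ D j, QuadraticMap.polar (⇑Q) u v = 0
  mem_e : ∀ i, e i ∈ D i
  mem_f : ∀ i, f i ∈ D i
  pair : ∀ i, IsPair Q (e i) (f i)
  all : ∀ i, ∀ x ∈ D i, ∃ a b : F, x = a • e i + b • f i

variable {e f : Fin t → (ι → F)}

theorem polar_three (x z u y : VV) (c c' : F) :
    BQ (x + c • z + c' • u) y = BQ x y + c * BQ z y + c' * BQ u y := by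
  rw [QuadraticMap.polar_add_left, QuadraticMap.polar_add_left, QuadraticMap.polar_smul_left,
    QuadraticMap.polar_smul_left, smul_eq_mul, smul_eq_mul]

theorem Planes.mem (P : Planes Q D e f) (i : Fin t) (a b : F) : a • e i + b • f i ∈ D i :=
  add_mem (Submodule.smul_mem _ _ (P.mem_e i)) (Submodule.smul_mem _ _ (P.mem_f i))

theorem Planes.polar_same (P : Planes Q D e f) (i : Fin t) (a b c d : F) :
    BQ (a • e i + b • f i) (c • e i + d • f i) = a * d + b * c := by
  rw [QuadraticMap.polar_add_right, QuadraticMap.polar_smul_right, QuadraticMap.polar_smul_right,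
    (P.pair i).polar_left, (P.pair i).polar_right, smul_eq_mul, smul_eq_mul]
  ring

theorem Planes.polar_diff (P : Planes Q D e f) {i j : Fin t} (h : i ≠ j) {u v : VV} (hu : u ∈ D i) (hv : v ∈ D j) :
    BQ u v = 0 := P.orth i j h u hu v hv

theorem zero_polar (x : VV) : BQ (0 : VV) x = 0 := by
  rw [QuadraticMap.polar, zero_add, QuadraticMap.map_zero, sub_zero, sub_self]

set_option maxHeartbeats 1000000 in
theorem case_two (P : Planes Q D e f) (hq : Fintype.card F = 2) (ht : 4 ≤ t) : GOAL := by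
  classical
  have h2 : (2 : F) = 0 := by
    haveI := charP_of_card_eq_prime_pow (R := F) (p := 2) (f := 1) (by simpa using hq)
    exact CharP.cast_eq_zero F 2
  let a : Fin t → VV := fun i => (1 : F) • e i + (1 : F) • f i
  let w : VV := ∑ i, a i
  have hQa : ∀ i, Q (a i) = 1 := fun i => by simp only [a]; rw [(P.pair i).value]; ring
  have huniq : ∀ i, ∀ x ∈ D i, Q x = 1 → x = a i := fun i x hx hQx => by
    obtain ⟨c, d, rfl⟩ := P.all i x hx
    rw [(P.pair i).value] at hQx
    rcases card_two_cases hq c with rfl | rfl <;> rcases card_two_cases hq d with rfl | rfl <;>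
      first | rfl | (exfalso; simp at hQx)
  have hw : ∀ i, ∀ v ∈ D i, BQ v w = BQ v (a i) := fun i v hv => by
    simp only [w]
    rw [← QuadraticMap.polarBilin_apply_apply, map_sum]
    exact Finset.sum_eq_single i (fun j _ hj => P.polar_diff (Ne.symm hj) hv (P.mem j 1 1))
      (fun h => absurd (Finset.mem_univ i) h)
  let i0 : Fin t := ⟨0, by omega⟩
  let i1 : Fin t := ⟨1, by omega⟩
  let i2 : Fin t := ⟨2, by omega⟩
  let i3 : Fin t := ⟨3, by omega⟩
  have h01 : i0 ≠ i1 := by simp [i0, i1, Fin.ext_iff]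
  have h02 : i0 ≠ i2 := by simp [i0, i2, Fin.ext_iff]
  have h03 : i0 ≠ i3 := by simp [i0, i3, Fin.ext_iff]
  have h12 : i1 ≠ i2 := by simp [i1, i2, Fin.ext_iff]
  have h13 : i1 ≠ i3 := by simp [i1, i3, Fin.ext_iff]
  have h23 : i2 ≠ i3 := by simp [i2, i3, Fin.ext_iff]
  have hea : ∀ i, BQ (e i) w = 1 := fun i => by
    rw [hw i _ (P.mem_e i), QuadraticMap.polar_comm]
    exact (P.pair i).polar_left 1 1
  have d0 : ∀ {i j}, i ≠ j → BQ (e i) (e j) = 0 := fun h => P.polar_diff h (P.mem_e _) (P.mem_e _)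
  have d1 : ∀ {i j}, i ≠ j → BQ (e i) (f j) = 0 := fun h => P.polar_diff h (P.mem_e _) (P.mem_f _)
  have hQu : ∀ {i j}, i ≠ j → Q (e i + e j) = 0 := fun h => by
    rw [QuadraticMap.map_add (f := Q), (P.pair _).1, (P.pair _).1, d0 h]; simp
  have huz : BQ (e i0 + e i1) (e i2 + e i3) = 0 := by
    simp [QuadraticMap.polar_add_left, QuadraticMap.polar_add_right, d0 h02, d0 h03, d0 h12, d0 h13]
  refine criterion Q (D := D) {w} ?_ _ (siegel_omega Q P.hQ P.card (hQu h01) huz) ?_ (P.mem_f i0) ?_ _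
    (siegel_omega Q P.hQ P.card (P.pair i0).1 (d0 h01)) (Set.mem_singleton w) ?_
  · rintro g ⟨⟨σ, hσ⟩, hg⟩ x (rfl : x = w)
    rw [Set.mem_singleton_iff]
    simp only [w]
    rw [Matrix.mulVec_sum]
    refine Eq.trans (Finset.sum_congr rfl fun i _ => huniq (σ i) _ ?_ ?_) (Equiv.sum_comp σ a)
    · rw [← hσ i]; exact ⟨a i, P.mem i 1 1, Matrix.toLin'_apply _ _⟩
    · rw [omega_preserves Q hg, hQa]
  · rintro x (rfl : x = w)
    rw [Set.mem_singleton_iff, siegel_apply]
    simp [QuadraticMap.polar_add_left, hea, one_add_one_eq_two, h2]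
  · intro j
    have hs := siegel_apply Q (hQu h01) huz (f i0)
    rw [hs]
    refine not_mem Q P.orth h02 (P.mem_e i0) (P.mem_f i2) ?_ ?_ j
    all_goals
      simp [QuadraticMap.polar_add_left, QuadraticMap.polar_smul_left, hQu h23, (P.pair _).2.2, d1 h02, d1 h03, d1 h12,
        d1 h13, d1 h01.symm, d1 h02.symm, d1 h03.symm, d1 h23.symm, d1 h23, d1 h12.symm, d0 h02.symm, d0 h03.symm, d0 h01.symm,
        QuadraticMap.polar_comm (⇑Q) (f i0) (e i0),
        P.polar_diff h02 (P.mem_f i0) (P.mem_f i2), polar_self_two, (P.pair _).1]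
  · rw [Set.mem_singleton_iff, siegel_apply]
    intro h
    have h' := congrArg (fun x => BQ x (f i0)) h
    simp [QuadraticMap.polar_add_left, QuadraticMap.polar_smul_left, (P.pair _).1, hea, d1 h01.symm, (P.pair _).2.2] at h'

set_option maxHeartbeats 1000000 in
theorem case_three (P : Planes Q D e f) (hq : Fintype.card F = 3) (ht : 6 ≤ t) : GOAL := by
  classical
  obtain ⟨h2, h3, hsq⟩ := Refl.card_three_facts (F := F) hq
  let a : Fin t → VV := fun i => (1 : F) • e i + (1 : F) • f i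
  let A : Submodule F VV := Submodule.span F (Set.range a)
  have hQa : ∀ i, Q (a i) = 1 := fun i => by simp only [a]; rw [(P.pair i).value]; ring
  have hclass : ∀ i, ∀ x ∈ D i, Q x = 1 → x ∈ A := fun i x hx hQx => by
    obtain ⟨c, d, rfl⟩ := P.all i x hx
    rw [(P.pair i).value] at hQx
    have hc : c ≠ 0 := left_ne_zero_of_mul (hQx ▸ one_ne_zero)
    have hcc : c * c = 1 := by simpa [hq, pow_two] using FiniteField.pow_card_sub_one_eq_one c hc
    have hd : d = c := mul_left_cancel₀ hc (hQx.trans hcc.symm)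
    rw [hd, show c • e i + c • f i = c • a i by simp [a, smul_add]]
    exact A.smul_mem _ (Submodule.subset_span ⟨i, rfl⟩)
  let ix : Fin 6 → Fin t := fun k => ⟨k, by omega⟩
  have hix : ∀ {k l : Fin 6}, k ≠ l → ix k ≠ ix l := fun h h' => h (Fin.ext (congrArg Fin.val h' :))
  have haa : ∀ i, BQ (a i) (a i) = 2 := fun i => by rw [polar_self_two, hQa, mul_one]
  have had : ∀ {k l : Fin 6}, k ≠ l → BQ (a (ix k)) (a (ix l)) = 0 :=
    fun h => P.polar_diff (hix h) (P.mem _ 1 1) (P.mem _ 1 1)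
  let u := a (ix 0) + a (ix 1) + a (ix 2)
  let z := a (ix 3) + a (ix 4) + a (ix 5)
  have hQu : Q u = 0 := by
    simp [u, QuadraticMap.map_add (f := Q), QuadraticMap.polar_add_left, hQa, had]
    linear_combination h3
  have hQz : Q z = 0 := by
    simp [z, QuadraticMap.map_add (f := Q), QuadraticMap.polar_add_left, hQa, had]
    linear_combination h3
  have huz : BQ u z = 0 := by simp [u, z, QuadraticMap.polar_add_left, QuadraticMap.polar_add_right, had]
  have hAmem : ∀ i, a i ∈ A := fun i => Submodule.subset_span ⟨i, rfl⟩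
  have h01 : BQ (e (ix 0)) (e (ix 1)) = 0 := P.polar_diff (hix (by decide)) (P.mem_e _) (P.mem_e _)
  refine criterion Q (D := D) (A : Set VV) ?_ _ (siegel_omega Q P.hQ P.card hQu huz) ?_ (P.mem (ix 0) 1 1) ?_ _
    (siegel_omega Q P.hQ P.card (P.pair (ix 0)).1 h01) (hAmem (ix 0)) ?_
  · rintro g ⟨hgs, hg⟩ x hx
    rw [SetLike.mem_coe] at hx ⊢
    induction hx using Submodule.span_induction with
    | mem x hx =>
      obtain ⟨i, rfl⟩ := hx
      obtain ⟨j, hj⟩ := stab_maps hgs (show a i ∈ D i from P.mem i 1 1)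
      exact hclass j _ hj (by rw [omega_preserves Q hg, hQa])
    | zero => rw [Matrix.mulVec_zero]; exact A.zero_mem
    | add x y _ _ hx hy => rw [Matrix.mulVec_add]; exact add_mem hx hy
    | smul c x _ hx => rw [Matrix.mulVec_smul]; exact A.smul_mem c hx
  · intro x hx
    rw [SetLike.mem_coe, siegel_apply]
    refine add_mem (add_mem hx (A.smul_mem _ ?_)) (A.smul_mem _ ?_)
    · exact add_mem (add_mem (hAmem _) (hAmem _)) (hAmem _)
    · exact add_mem (add_mem (hAmem _) (hAmem _)) (hAmem _)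
  · intro j
    rw [siegel_apply]
    refine not_mem Q P.orth (hix (show (3 : Fin 6) ≠ 4 by decide)) (P.mem (ix 3) 1 1) (P.mem (ix 4) 1 1) ?_ ?_ j
    all_goals
      show BQ (a (ix 0) + BQ u (a (ix 0)) • z + (-BQ z (a (ix 0)) - Q z * BQ u (a (ix 0))) • u) (a _) ≠ 0
      simp [u, z, hQz, QuadraticMap.polar_add_left, QuadraticMap.polar_smul_left, haa, had, h2]
  · rw [SetLike.mem_coe]
    intro h
    have hperp : ∀ x ∈ A, BQ x ((1 : F) • e (ix 1) + (-1 : F) • f (ix 1)) = 0 := fun x hx => by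
      induction hx using Submodule.span_induction with
      | mem x hx =>
        obtain ⟨i, rfl⟩ := hx
        by_cases hi : i = ix 1
        · subst hi; rw [P.polar_same]; ring
        · exact P.polar_diff hi (P.mem i 1 1) (P.mem _ 1 (-1))
      | zero => exact zero_polar _
      | add x y _ _ hx hy => rw [QuadraticMap.polar_add_left, hx, hy, add_zero]
      | smul c x _ hx => rw [QuadraticMap.polar_smul_left, hx, smul_zero]
    have hz := hperp _ h
    have e1 : BQ (e (ix 1)) (a (ix 0)) = 0 := P.polar_diff (hix (by decide)) (P.mem_e _) (P.mem _ 1 1)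
    have e2 : BQ (e (ix 0)) (a (ix 0)) = 1 := by rw [QuadraticMap.polar_comm]; exact (P.pair _).polar_left 1 1
    have e3 : BQ (a (ix 0)) ((1 : F) • e (ix 1) + (-1 : F) • f (ix 1)) = 0 :=
      P.polar_diff (hix (by decide)) (P.mem _ 1 1) (P.mem _ 1 (-1))
    have e4 : BQ (e (ix 1)) ((1 : F) • e (ix 1) + (-1 : F) • f (ix 1)) = -1 := by
      rw [QuadraticMap.polar_comm]; exact (P.pair _).polar_left _ _
    rw [siegel_apply, e1, e2, (P.pair _).1] at hz
    rw [QuadraticMap.polar_add_left, QuadraticMap.polar_add_left, QuadraticMap.polar_smul_left,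
      QuadraticMap.polar_smul_left, e3, e4] at hz
    simp at hz

set_option maxHeartbeats 1000000 in
theorem case_five (P : Planes Q D e f) (hq : Fintype.card F = 5) (ht : 3 ≤ t) : GOAL := by
  classical
  haveI : Fact (Nat.Prime 5) := ⟨by norm_num⟩
  haveI := charP_of_card_eq_prime_pow (R := F) (p := 5) (f := 1) (by simpa using hq)
  have h5 : (5 : F) = 0 := CharP.cast_eq_zero F 5
  have h2 : (2 : F) ≠ 0 := fun h => by
    have := (CharP.cast_eq_zero_iff F 5 2).mp (by exact_mod_cast h)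
    omega
  let a : Fin t → VV := fun i => (1 : F) • e i + (1 : F) • f i
  let b : Fin t → VV := fun i => (2 : F) • e i + (3 : F) • f i
  have hQa : ∀ i, Q (a i) = 1 := fun i => by simp only [a]; rw [(P.pair i).value]; ring
  have hQb : ∀ i, Q (b i) = 1 := fun i => by simp only [b]; rw [(P.pair i).value]; linear_combination h5
  have hclass : ∀ x ∈ base Q D, ∃ i, ∃ c : F, c * c = 1 ∧ (x = c • a i ∨ x = c • b i) := by
    rintro x ⟨hQx, i, hx⟩
    obtain ⟨c, d, rfl⟩ := P.all i x hx
    rw [(P.pair i).value] at hQx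
    have hc : c ≠ 0 := left_ne_zero_of_mul (hQx ▸ one_ne_zero)
    have hc4 : c ^ 4 = 1 := by simpa [hq] using FiniteField.pow_card_sub_one_eq_one c hc
    rcases mul_eq_zero.mp (show (c ^ 2 - 1) * (c ^ 2 + 1) = 0 by linear_combination hc4) with h | h
    · refine ⟨i, c, by linear_combination h, Or.inl ?_⟩
      have : d = c := mul_left_cancel₀ hc (by linear_combination hQx - h)
      rw [this]; simp [a, smul_smul]
    · refine ⟨i, 3 * c, by linear_combination 9 * h - 2 * h5, Or.inr ?_⟩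
      have : d = 4 * c := mul_left_cancel₀ hc (by linear_combination hQx - 4 * h + h5)
      simp only [this, b, smul_add, smul_smul]
      congr 2
      · linear_combination -c * h5
      · linear_combination -c * h5
  have hmem : ∀ i (c : F), c * c = 1 → c • a i ∈ base Q D ∧ c • b i ∈ base Q D := fun i c hc =>
    ⟨⟨by rw [QuadraticMap.map_smul, hQa, smul_eq_mul, mul_one, hc], i, Submodule.smul_mem _ _ (P.mem i 1 1)⟩,
     ⟨by rw [QuadraticMap.map_smul, hQb, smul_eq_mul, mul_one, hc], i, Submodule.smul_mem _ _ (P.mem i 2 3)⟩⟩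
  have hab : ∀ i, BQ (a i) (b i) = 0 := fun i => by rw [P.polar_same]; linear_combination h5
  have haa : ∀ i, BQ (a i) (a i) = 2 := fun i => by rw [polar_self_two, hQa, mul_one]
  have hbb : ∀ i, BQ (b i) (b i) = 2 := fun i => by rw [polar_self_two, hQb, mul_one]
  have had : ∀ {i j}, i ≠ j → BQ (a i) (a j) = 0 := fun h => P.polar_diff h (P.mem _ 1 1) (P.mem _ 1 1)
  have habd : ∀ i j, BQ (a i) (b j) = 0 := fun i j => by
    by_cases h : i = j
    · rw [h]; exact hab j
    · exact P.polar_diff h (P.mem _ 1 1) (P.mem _ 2 3)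
  have hv : ∀ i j, i ≠ j → Q (a i - a j) = 2 := fun i j h => by
    rw [sub_eq_add_neg, QuadraticMap.map_add (f := Q), QuadraticMap.map_neg, QuadraticMap.polar_neg_right, hQa, hQa,
      had h]
    norm_num
  let r : ∀ i j, i ≠ j → Cfsg.isometryGroup F (⇑Q) := fun i j h => refl Q (a i - a j) (by rw [hv i j h]; exact h2)
  have hrb : ∀ i j h l, mat Q (r i j h) *ᵥ b l = b l := fun i j h l => by
    show Cfsg.reflectionMatrix (⇑Q) (a i - a j) *ᵥ b l = _
    rw [mulVec_eq, QuadraticMap.polar_sub_left, habd, habd]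
    simp
  have hra : ∀ i j h l, mat Q (r i j h) *ᵥ a l = a (Equiv.swap i j l) := fun i j h l => by
    show Cfsg.reflectionMatrix (⇑Q) (a i - a j) *ᵥ a l = _
    rw [mulVec_eq, QuadraticMap.polar_sub_left, hv i j h]
    by_cases hli : l = i
    · rw [hli, haa, had h.symm, sub_zero, inv_mul_cancel₀ h2, one_smul, sub_sub_cancel, Equiv.swap_apply_left]
    by_cases hlj : l = j
    · rw [hlj, haa, had h, zero_sub, mul_neg, inv_mul_cancel₀ h2, neg_smul, one_smul, sub_neg_eq_add, add_sub_cancel,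
        Equiv.swap_apply_right]
    rw [had (Ne.symm hli), had (Ne.symm hlj), sub_zero, mul_zero, zero_smul, sub_zero,
      Equiv.swap_apply_of_ne_of_ne hli hlj]
  have hrS : ∀ i j h, ((r i j h : Cfsg.isometryGroup F (⇑Q)) : GL ι F) ∈ mapsTo (base Q D) := by
    intro i j h x hx
    obtain ⟨l, c, hc, rfl | rfl⟩ := hclass x hx
    · show mat Q (r i j h) *ᵥ (c • a l) ∈ _
      rw [Matrix.mulVec_smul, hra i j h]; exact (hmem _ c hc).1
    · show mat Q (r i j h) *ᵥ (c • b l) ∈ _
      rw [Matrix.mulVec_smul, hrb i j h]; exact (hmem _ c hc).2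
  let i0 : Fin t := ⟨0, by omega⟩
  let i1 : Fin t := ⟨1, by omega⟩
  let i2 : Fin t := ⟨2, by omega⟩
  have h01 : i0 ≠ i1 := by simp [i0, i1, Fin.ext_iff]
  have h12 : i1 ≠ i2 := by simp [i1, i2, Fin.ext_iff]
  have h02 : i0 ≠ i2 := by simp [i0, i2, Fin.ext_iff]
  set r1 := r i0 i1 h01 with hr1
  set r2 := r i1 i2 h12 with hr2
  have i1e : r1⁻¹ = r1 := inv_eq_of_mul_eq_one_left (refl_mul_self Q _ _)
  have i2e : r2⁻¹ = r2 := inv_eq_of_mul_eq_one_left (refl_mul_self Q _ _)
  have hTb : mat Q ⁅r1, r2⁆ *ᵥ b i0 = b i0 := by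
    rw [commutatorElement_def, i1e, i2e, mat, mulVec_mul, mulVec_mul, mulVec_mul]
    change mat Q r1 *ᵥ (mat Q r2 *ᵥ (mat Q r1 *ᵥ (mat Q r2 *ᵥ b i0))) = _
    rw [hr1, hr2, hrb _ _ h12, hrb _ _ h01, hrb _ _ h12, hrb _ _ h01]
  have hTa : mat Q ⁅r1, r2⁆ *ᵥ a i0 = a i2 := by
    rw [commutatorElement_def, i1e, i2e, mat, mulVec_mul, mulVec_mul, mulVec_mul]
    change mat Q r1 *ᵥ (mat Q r2 *ᵥ (mat Q r1 *ᵥ (mat Q r2 *ᵥ a i0))) = _
    rw [hr1, hr2, hra _ _ h12, hra _ _ h01, hra _ _ h12, hra _ _ h01]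
    simp [Equiv.swap_apply_def, h01, h01.symm, h12, h12.symm, h02, h02.symm]
  have hee : BQ (e i0) (e i1) = 0 := P.polar_diff h01 (P.mem_e _) (P.mem_e _)
  refine criterion Q (D := D) (base Q D) (fun g hg x hx => base_maps Q hg hx)
    ((⁅r1, r2⁆ : Cfsg.isometryGroup F (⇑Q)) : GL ι F)
    ((mem_omegaGL Q _).mpr ⟨_, Subgroup.commutator_mem_commutator (Subgroup.mem_top _) (Subgroup.mem_top _), rfl⟩)
    ?_ (x := a i0 + b i0) (add_mem (P.mem i0 1 1) (P.mem i0 2 3)) ?_ _
    (siegel_omega Q P.hQ P.card (P.pair i0).1 hee) (y := a i0) (by simpa using (hmem i0 1 (one_mul 1)).1) ?_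
  · have hmem' : ((⁅r1, r2⁆ : Cfsg.isometryGroup F (⇑Q)) : GL ι F) ∈ mapsTo (base Q D) := by
      rw [commutatorElement_def]
      simp only [Subgroup.coe_mul, Subgroup.coe_inv]
      exact mul_mem (mul_mem (mul_mem (hrS _ _ h01) (hrS _ _ h12)) (inv_mem (hrS _ _ h01))) (inv_mem (hrS _ _ h12))
    exact hmem'
  · intro j
    show mat Q ⁅r1, r2⁆ *ᵥ (a i0 + b i0) ∉ D j
    rw [Matrix.mulVec_add, hTa, hTb]
    refine not_mem Q P.orth h02 (y := b i0) (y' := a i2) (P.mem i0 2 3) (P.mem i2 1 1) ?_ ?_ j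
    · rw [QuadraticMap.polar_add_left, habd, hbb, zero_add]; exact h2
    · rw [QuadraticMap.polar_add_left, haa, QuadraticMap.polar_comm (⇑Q) (b i0), habd, add_zero]; exact h2
  · rintro ⟨-, j, hj⟩
    refine not_mem Q P.orth h01 (P.mem_e i0) (P.mem_f i1) ?_ ?_ j hj
    all_goals
      rw [siegel_apply]
      simp [a, QuadraticMap.polar_add_left, QuadraticMap.polar_add_right, QuadraticMap.polar_smul_left,
        QuadraticMap.polar_smul_right, (P.pair _).1, (P.pair _).2.2, polar_self_two,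
        QuadraticMap.polar_comm (⇑Q) (f i0) (e i0), hee, QuadraticMap.polar_comm (⇑Q) (e i1) (e i0),
        P.polar_diff h01 (P.mem_e i0) (P.mem_f i1), P.polar_diff h01 (P.mem_f i0) (P.mem_f i1),
        P.polar_diff h01.symm (P.mem_e i1) (P.mem_f i0)]

set_option maxHeartbeats 1000000 in
theorem case_four (P : Planes Q D e f) (hq : Fintype.card F = 4) (ht : 4 ≤ t) : GOAL := by
  classical
  have h2 : (2 : F) = 0 := by
    haveI := charP_of_card_eq_prime_pow (R := F) (p := 2) (f := 2) (by simpa using hq)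
    exact CharP.cast_eq_zero F 2
  obtain ⟨ω, hω0, hω1⟩ : ∃ ω : F, ω ≠ 0 ∧ ω ≠ 1 := by
    by_contra hcon
    push Not at hcon
    have : (Finset.univ : Finset F) ⊆ {0, 1} := fun x _ => by
      by_cases hx : x = 0
      · simp [hx]
      · simp [hcon x hx]
    have h := Finset.card_le_card this
    have h' := Finset.card_insert_le (0 : F) {1}
    simp [hq] at h
  have hcube : ∀ c : F, c ≠ 0 → c ^ 3 = 1 := fun c hc => by simpa [hq] using FiniteField.pow_card_sub_one_eq_one c hc
  have hω : ω ^ 2 + ω + 1 = 0 := (mul_eq_zero.mp (show (ω - 1) * (ω ^ 2 + ω + 1) = 0 by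
    linear_combination hcube ω hω0)).resolve_left (sub_ne_zero.mpr hω1)
  let a : Fin t → VV := fun i => (1 : F) • e i + (1 : F) • f i
  let b : Fin t → VV := fun i => ω • e i + (ω ^ 2) • f i
  let Λ : AddSubgroup VV := AddSubgroup.closure (base Q D)
  have hQa : ∀ i, Q (a i) = 1 := fun i => by simp only [a]; rw [(P.pair i).value]; ring
  have hQb : ∀ i, Q (b i) = 1 := fun i => by simp only [b]; rw [(P.pair i).value]; linear_combination hcube ω hω0
  have haΛ : ∀ i, a i ∈ Λ := fun i => AddSubgroup.subset_closure ⟨hQa i, i, P.mem i 1 1⟩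
  have hbΛ : ∀ i, b i ∈ Λ := fun i => AddSubgroup.subset_closure ⟨hQb i, i, P.mem i _ _⟩
  have hneg : ∀ c : F, -c = c := fun c => by linear_combination -c * h2
  have hb0 : ∀ x ∈ base Q D, ∀ y ∈ base Q D, Bit (BQ x y) := by
    rintro x ⟨hQx, i, hx⟩ y ⟨hQy, j, hy⟩
    by_cases hij : i = j
    · subst hij
      obtain ⟨c, d, rfl⟩ := P.all i x hx
      obtain ⟨c', d', rfl⟩ := P.all i y hy
      rw [(P.pair i).value] at hQx hQy
      rw [P.polar_same]
      set k := c * d' with hk
      have hkk : k * (d * c') = 1 := by rw [hk]; linear_combination (c' * d') * hQx + hQy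
      have hk0 : k ≠ 0 := left_ne_zero_of_mul (hkk ▸ one_ne_zero)
      have hl : d * c' = k ^ 2 := mul_left_cancel₀ hk0 (by linear_combination hkk - hcube k hk0)
      rw [hl]
      by_cases hk1 : k = 1
      · exact Or.inl (by rw [hk1]; linear_combination h2)
      · refine Or.inr ?_
        have := (mul_eq_zero.mp (show (k - 1) * (k ^ 2 + k + 1) = 0 by linear_combination hcube k hk0)).resolve_left
          (sub_ne_zero.mpr hk1)
        linear_combination this - h2
    · exact Or.inl (P.polar_diff hij hx hy)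
  have hbit1 : ∀ y ∈ base Q D, ∀ x ∈ Λ, Bit (BQ x y) := fun y hy x hx => by
    induction hx using AddSubgroup.closure_induction with
    | mem x hx => exact hb0 x hx y hy
    | zero => exact Or.inl (zero_polar _)
    | add x x' _ _ h h' => rw [QuadraticMap.polar_add_left]; exact h.add h2 h'
    | neg x _ h => rw [QuadraticMap.polar_neg_left, hneg]; exact h
  have hbit : ∀ x ∈ Λ, ∀ y ∈ Λ, Bit (BQ x y) := fun x hx y hy => by
    induction hy using AddSubgroup.closure_induction with
    | mem y hy => exact hbit1 y hy x hx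
    | zero => rw [QuadraticMap.polar_comm]; exact Or.inl (zero_polar _)
    | add y y' _ _ h h' => rw [QuadraticMap.polar_add_right]; exact h.add h2 h'
    | neg y _ h => rw [QuadraticMap.polar_neg_right, hneg]; exact h
  have hsm : ∀ (c : F) x, Bit c → x ∈ Λ → c • x ∈ Λ := by
    rintro c x (rfl | rfl) hx
    · rw [zero_smul]; exact Λ.zero_mem
    · rw [one_smul]; exact hx
  let i0 : Fin t := ⟨0, by omega⟩
  let i1 : Fin t := ⟨1, by omega⟩
  let i2 : Fin t := ⟨2, by omega⟩
  let i3 : Fin t := ⟨3, by omega⟩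
  have h01 : i0 ≠ i1 := by simp [i0, i1, Fin.ext_iff]
  have h02 : i0 ≠ i2 := by simp [i0, i2, Fin.ext_iff]
  have h03 : i0 ≠ i3 := by simp [i0, i3, Fin.ext_iff]
  have h12 : i1 ≠ i2 := by simp [i1, i2, Fin.ext_iff]
  have h13 : i1 ≠ i3 := by simp [i1, i3, Fin.ext_iff]
  have h23 : i2 ≠ i3 := by simp [i2, i3, Fin.ext_iff]
  have haa : ∀ {i j}, i ≠ j → BQ (a i) (a j) = 0 := fun h => P.polar_diff h (P.mem _ 1 1) (P.mem _ 1 1)
  have hba : ∀ {i j}, i ≠ j → BQ (b i) (a j) = 0 := fun h => P.polar_diff h (P.mem _ _ _) (P.mem _ 1 1)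
  have hab : ∀ {i j}, i ≠ j → BQ (a i) (b j) = 0 := fun h => P.polar_diff h (P.mem _ 1 1) (P.mem _ _ _)
  have hbb : ∀ {i j}, i ≠ j → BQ (b i) (b j) = 0 := fun h => P.polar_diff h (P.mem _ _ _) (P.mem _ _ _)
  have hab1 : ∀ i, BQ (a i) (b i) = 1 := fun i => by rw [P.polar_same]; linear_combination hω - h2
  have hba1 : ∀ i, BQ (b i) (a i) = 1 := fun i => by rw [QuadraticMap.polar_comm]; exact hab1 i
  have hself : ∀ i, BQ (a i) (a i) = 0 := fun i => by rw [polar_self_two, h2, zero_mul]
  have hQu : Q (a i0 + a i1) = 0 := by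
    rw [QuadraticMap.map_add (f := Q), hQa, hQa, haa h01]; linear_combination h2
  have hQz : Q (a i2 + a i3) = 0 := by
    rw [QuadraticMap.map_add (f := Q), hQa, hQa, haa h23]; linear_combination h2
  have huz : BQ (a i0 + a i1) (a i2 + a i3) = 0 := by
    simp [QuadraticMap.polar_add_left, QuadraticMap.polar_add_right, haa h02, haa h03, haa h12, haa h13]
  have huz' : BQ (a i0 + a i1) (ω • (a i2 + a i3)) = 0 := by rw [QuadraticMap.polar_smul_right, huz, smul_zero]
  refine criterion Q (D := D) (Λ : Set VV) ?_ _ (siegel_omega Q P.hQ P.card hQu huz) ?_ (P.mem i0 ω (ω ^ 2)) ?_ _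
    (siegel_omega Q P.hQ P.card hQu huz') (hbΛ i0) ?_
  · intro g hg x hx
    rw [SetLike.mem_coe] at hx ⊢
    induction hx using AddSubgroup.closure_induction with
    | mem x hx => exact AddSubgroup.subset_closure (base_maps Q hg hx)
    | zero => rw [Matrix.mulVec_zero]; exact Λ.zero_mem
    | add x x' _ _ h h' => rw [Matrix.mulVec_add]; exact add_mem h h'
    | neg x _ h => rw [Matrix.mulVec_neg]; exact neg_mem h
  · intro x hx
    rw [SetLike.mem_coe, siegel_apply, hQz, zero_mul, sub_zero, hneg]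
    have hu := add_mem (haΛ i0) (haΛ i1)
    have hz := add_mem (haΛ i2) (haΛ i3)
    exact add_mem (add_mem hx (hsm _ _ (hbit _ hu x hx) hz)) (hsm _ _ (hbit _ hz x hx) hu)
  · intro j
    rw [siegel_apply]
    have hub : BQ (a i0 + a i1) (b i0) = 1 := by
      rw [QuadraticMap.polar_add_left, hab1, hab h01.symm, add_zero]
    show b i0 + BQ (a i0 + a i1) (b i0) • (a i2 + a i3) + _ • (a i0 + a i1) ∉ D j
    refine not_mem Q P.orth h02 (y := a i0) (y' := b i2) (P.mem i0 1 1) (P.mem i2 ω (ω ^ 2)) ?_ ?_ j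
    · rw [polar_three, hba1, hub, show BQ (a i2 + a i3) (a i0) = 0 by
          rw [QuadraticMap.polar_add_left, haa h02.symm, haa h03.symm, add_zero],
        show BQ (a i0 + a i1) (a i0) = 0 by rw [QuadraticMap.polar_add_left, hself, haa h01.symm, add_zero]]
      simp
    · rw [polar_three, hbb h02, hub, show BQ (a i2 + a i3) (b i2) = 1 by
          rw [QuadraticMap.polar_add_left, hab1, hab h23.symm, add_zero],
        show BQ (a i0 + a i1) (b i2) = 0 by rw [QuadraticMap.polar_add_left, hab h02, hab h12, add_zero]]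
      simp
  · rw [SetLike.mem_coe, siegel_apply]
    intro h
    have h' := hbit _ h _ (hbΛ i2)
    simp [QuadraticMap.map_smul, hQz, QuadraticMap.polar_add_left, QuadraticMap.polar_smul_left, hab1, hab h01.symm,
      hbb h02, hab h02, hab h12, hab h02.symm, hab h03.symm, hab h23.symm] at h'
    rcases h' with h' | h'
    exacts [hω0 h', hω1 h']

variable (Q D) in
/-- Pairs of hyperbolic pairs, one in each member. -/
structure Quads (e f e' f' : Fin t → (ι → F)) : Prop where
  hQ : (QuadraticMap.polarBilin Q).Nondegenerate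
  card : 5 ≤ Fintype.card ι
  orth : ∀ i j, i ≠ j → ∀ u ∈ D i, ∀ v ∈ D j, QuadraticMap.polar (⇑Q) u v = 0
  mem : ∀ i, e i ∈ D i ∧ f i ∈ D i ∧ e' i ∈ D i ∧ f' i ∈ D i
  pair : ∀ i, IsPair Q (e i) (f i)
  pair' : ∀ i, IsPair Q (e' i) (f' i)
  cross : ∀ i, QuadraticMap.polar (⇑Q) (e i) (e' i) = 0 ∧ QuadraticMap.polar (⇑Q) (e i) (f' i) = 0 ∧
    QuadraticMap.polar (⇑Q) (f i) (e' i) = 0 ∧ QuadraticMap.polar (⇑Q) (f i) (f' i) = 0
  all : ∀ i, ∀ x ∈ D i, ∃ a b a' b' : F, x = a • e i + b • f i + (a' • e' i + b' • f' i)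

variable {e' f' : Fin t → (ι → F)}

theorem Quads.mem' (P : Quads Q D e f e' f') (i : Fin t) (a b c d : F) :
    a • e i + b • f i + (c • e' i + d • f' i) ∈ D i := by
  obtain ⟨h1, h2, h3, h4⟩ := P.mem i
  exact add_mem (add_mem (Submodule.smul_mem _ _ h1) (Submodule.smul_mem _ _ h2))
    (add_mem (Submodule.smul_mem _ _ h3) (Submodule.smul_mem _ _ h4))

theorem Quads.polar_same (P : Quads Q D e f e' f') (i : Fin t) (a b c d a' b' c' d' : F) :
    BQ (a • e i + b • f i + (c • e' i + d • f' i)) (a' • e i + b' • f i + (c' • e' i + d' • f' i)) =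
      a * b' + b * a' + (c * d' + d * c') := by
  obtain ⟨c1, c2, c3, c4⟩ := P.cross i
  simp [QuadraticMap.polar_add_left, QuadraticMap.polar_add_right, QuadraticMap.polar_smul_left,
    QuadraticMap.polar_smul_right, polar_self_two, (P.pair i).1, (P.pair i).2.1, (P.pair i).2.2, (P.pair' i).1,
    (P.pair' i).2.1, (P.pair' i).2.2, c1, c2, c3, c4, QuadraticMap.polar_comm (⇑Q) (f i) (e i),
    QuadraticMap.polar_comm (⇑Q) (f' i) (e' i), QuadraticMap.polar_comm (⇑Q) (e' i) (e i),
    QuadraticMap.polar_comm (⇑Q) (f' i) (e i), QuadraticMap.polar_comm (⇑Q) (e' i) (f i),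
    QuadraticMap.polar_comm (⇑Q) (f' i) (f i)]
  ring

theorem Quads.value (P : Quads Q D e f e' f') (i : Fin t) (a b c d : F) :
    Q (a • e i + b • f i + (c • e' i + d • f' i)) = a * b + c * d := by
  obtain ⟨c1, c2, c3, c4⟩ := P.cross i
  rw [QuadraticMap.map_add (f := Q), (P.pair i).value, (P.pair' i).value]
  simp [QuadraticMap.polar_add_left, QuadraticMap.polar_add_right, QuadraticMap.polar_smul_left,
    QuadraticMap.polar_smul_right, c1, c2, c3, c4]

set_option maxHeartbeats 2000000 in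
theorem case_quad (P : Quads Q D e f e' f') (hq : Fintype.card F = 2) (ht : 2 ≤ t) : GOAL := by
  classical
  have h2 : (2 : F) = 0 := by
    haveI := charP_of_card_eq_prime_pow (R := F) (p := 2) (f := 1) (by simpa using hq)
    exact CharP.cast_eq_zero F 2
  have hneg : ∀ c : F, -c = c := fun c => by linear_combination -c * h2
  obtain ⟨mk, mkdef⟩ : ∃ mk : Fin t → F → F → F → F → VV,
      mk = fun i a b c d => a • e i + b • f i + (c • e' i + d • f' i) := ⟨_, rfl⟩
  have hmk : ∀ i a b c d, mk i a b c d ∈ D i := by rw [mkdef]; exact P.mem'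
  have hadd : ∀ i a b c d a' b' c' d',
      mk i a b c d + mk i a' b' c' d' = mk i (a + a') (b + b') (c + c') (d + d') := fun i a b c d a' b' c' d' => by
    simp only [mkdef]; module
  have hB : ∀ i a b c d a' b' c' d', BQ (mk i a b c d) (mk i a' b' c' d') = a * b' + b * a' + (c * d' + d * c') := by
    rw [mkdef]; exact P.polar_same
  have hd : ∀ {i j}, i ≠ j → ∀ a b c d a' b' c' d', BQ (mk i a b c d) (mk j a' b' c' d') = 0 :=
    fun h a b c d a' b' c' d' => P.orth _ _ h _ (hmk _ _ _ _ _) _ (hmk _ _ _ _ _)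
  have hV : ∀ i a b c d, Q (mk i a b c d) = a * b + c * d := by rw [mkdef]; exact P.value
  let i0 : Fin t := ⟨0, by omega⟩
  let i1 : Fin t := ⟨1, by omega⟩
  have h01 : i0 ≠ i1 := by simp [i0, i1, Fin.ext_iff]
  set u := mk i0 0 0 1 1 + mk i1 1 1 0 0 with hu
  set z := mk i0 1 1 1 0 + mk i1 0 1 1 1 with hz
  have hQu : Q u = 0 := by
    rw [hu, QuadraticMap.map_add (f := Q), hV, hV, hd h01]; linear_combination h2
  have hQz : Q z = 0 := by
    rw [hz, QuadraticMap.map_add (f := Q), hV, hV, hd h01]; linear_combination h2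
  have huz : BQ u z = 0 := by
    simp only [hu, hz, QuadraticMap.polar_add_left, QuadraticMap.polar_add_right, hB, hd h01, hd h01.symm]
    linear_combination h2
  have hs : ∀ x, (((siegelG Q hQu huz : Cfsg.isometryGroup F (⇑Q)) : GL ι F) : Matrix ι ι F) *ᵥ x =
      x + BQ u x • z + BQ z x • u := fun x => by rw [siegel_apply, hQz, zero_mul, sub_zero, hneg]
  have h11 : (1 : F) + 1 = 0 := by linear_combination h2
  have hmk0 : ∀ i, mk i 0 0 0 0 = 0 := fun i => by simp [mkdef]
  have hee : BQ (mk i0 1 0 0 0) (mk i1 0 0 1 0) = 0 := hd h01 ..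
  have hQe : Q (mk i0 1 0 0 0) = 0 := by rw [hV]; ring
  refine criterion Q (D := D) (base Q D) (fun g hg x hx => base_maps Q hg hx) _
    (siegel_omega Q P.hQ P.card hQu huz) ?_ (x := mk i0 1 1 1 1) (hmk ..) ?_ _
    (siegel_omega Q P.hQ P.card hQe hee) (y := mk i0 1 1 0 0) ⟨by rw [hV]; ring, i0, hmk ..⟩ ?_
  · rintro x ⟨hQx, l, hl⟩
    obtain ⟨a, b, c, d, rfl⟩ := P.all l x hl
    rw [show a • e l + b • f l + (c • e' l + d • f' l) = mk l a b c d by rw [mkdef]] at hQx hl ⊢
    refine ⟨(omega_preserves Q (siegel_omega Q P.hQ P.card hQu huz) _).trans hQx, ?_⟩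
    rw [hs]
    rw [hV] at hQx
    by_cases hl0 : l = i0
    · subst hl0
      rw [hu, hz, QuadraticMap.polar_add_left, QuadraticMap.polar_add_left, hB, hB, hd h01.symm, hd h01.symm]
      rcases card_two_cases hq a with rfl | rfl <;> rcases card_two_cases hq b with rfl | rfl <;>
        rcases card_two_cases hq c with rfl | rfl <;> rcases card_two_cases hq d with rfl | rfl <;>
        simp [h11] at hQx ⊢
      all_goals first
        | exact ⟨i0, hmk ..⟩
        | (refine ⟨i1, ?_⟩; rw [← add_assoc, hadd]; simp [h11, hmk0, hmk]; done)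
        | (refine ⟨i1, ?_⟩; rw [show ∀ p q r s w : VV, p + (q + r) + (s + w) = (p + q + s) + (r + w) from
            fun p q r s w => by abel, hadd, hadd, hadd]; simp [h11, hmk0, hmk]; done)
    by_cases hl1 : l = i1
    · subst hl1
      rw [hu, hz, QuadraticMap.polar_add_left, QuadraticMap.polar_add_left, hB, hB, hd h01, hd h01]
      rcases card_two_cases hq a with rfl | rfl <;> rcases card_two_cases hq b with rfl | rfl <;>
        rcases card_two_cases hq c with rfl | rfl <;> rcases card_two_cases hq d with rfl | rfl <;>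
        simp [h11] at hQx ⊢
      all_goals first
        | exact ⟨i1, hmk ..⟩
        | (refine ⟨i0, ?_⟩; rw [add_left_comm, hadd]; simp [h11, hmk0, hmk]; done)
        | (refine ⟨i0, ?_⟩; rw [show ∀ p q r s w : VV, p + (q + r) + (s + w) = (q + s) + (p + r + w) from
            fun p q r s w => by abel, hadd, hadd, hadd]; simp [h11, hmk0, hmk]; done)
    · refine ⟨l, ?_⟩
      rw [hu, hz, QuadraticMap.polar_add_left, QuadraticMap.polar_add_left, hd (Ne.symm hl0), hd (Ne.symm hl1),
        hd (Ne.symm hl0), hd (Ne.symm hl1), add_zero, zero_smul, zero_smul, add_zero, add_zero]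
      exact hmk ..
  · intro j
    rw [hs]
    refine not_mem Q P.orth h01 (hmk i0 0 1 1 1) (hmk i1 0 1 1 1) ?_ ?_ j
    all_goals
      simp only [hu, hz, QuadraticMap.polar_add_left, QuadraticMap.polar_smul_left, hB, hd h01, hd h01.symm, smul_eq_mul]
      simp [h11]
  · rintro ⟨-, j, hj⟩
    refine not_mem Q P.orth h01 (hmk i0 1 0 0 0) (hmk i1 0 0 0 1) ?_ ?_ j hj
    all_goals
      rw [siegel_apply, hV, hB, hd h01.symm]
      simp only [QuadraticMap.polar_add_left, QuadraticMap.polar_smul_left, hB, hd h01, hd h01.symm, smul_eq_mul]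
      simp

theorem plus_transfer {W W' : Submodule F (ι → F)} (h : Cfsg.Geo.AreIsometricFor (⇑Q) W W')
    (hp : Cfsg.Geo.IsPlusTypeOn (⇑Q) W) : Cfsg.Geo.IsPlusTypeOn (⇑Q) W' := by
  obtain ⟨φ, hφ⟩ := h
  obtain ⟨U, hUW, hUs, hUd⟩ := hp
  refine ⟨((U.comap W.subtype).map φ.toLinearMap).map W'.subtype, Submodule.map_subtype_le _ _, ?_, ?_⟩
  · rintro _ ⟨_, ⟨x, hx, rfl⟩, rfl⟩
    exact (hφ x).trans (hUs x.1 hx)
  · rw [Submodule.finrank_map_subtype_eq, LinearEquiv.finrank_map_eq, (Submodule.comapSubtypeEquivOfLe hUW).finrank_eq,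
      hUd, φ.finrank_eq]

/-- The small cases of non-maximal orthogonal decomposition stabilisers. -/
theorem not_maximal (hQ : (QuadraticMap.polarBilin Q).Nondegenerate) (hn : 13 ≤ Fintype.card ι) {k : ℕ}
    (hD : Cfsg.Geo.IsOrthogonalMDecomposition (⇑Q) k D)
    (hcase : (k = 2 ∧ (Fintype.card F = 3 ∨ ((∀ i, Cfsg.Geo.IsPlusTypeOn (⇑Q) (D i)) ∧
      (Fintype.card F = 2 ∨ Fintype.card F = 4 ∨ Fintype.card F = 5)))) ∨ (k = 3 ∧ Fintype.card F = 3) ∨
      (k = 4 ∧ Fintype.card F = 2 ∧ ∀ i, Cfsg.Geo.IsPlusTypeOn (⇑Q) (D i))) : GOAL := by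
  classical
  have hd := hD.decomp.decomp
  have hsum : Fintype.card ι ≤ t * k := by
    have h1 : ∀ s : Finset (Fin t), Module.finrank F ↥(s.sup D) ≤ ∑ i ∈ s, Module.finrank F ↥(D i) := by
      intro s
      induction s using Finset.induction_on with
      | empty => simp
      | insert i s hi ih =>
        rw [Finset.sup_insert, Finset.sum_insert hi]
        have := Submodule.finrank_sup_add_finrank_inf_eq (D i) (s.sup D)
        omega
    have h := h1 Finset.univ
    rw [Finset.sup_univ_eq_iSup, hd.iSup_eq_top, finrank_top, Module.finrank_fintype_fun_eq_card] at h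
    simpa [hd.finrank_eq] using h
  have h2t := hd.two_le
  rcases hcase with ⟨rfl, h⟩ | ⟨rfl, h⟩ | ⟨rfl, h, hp⟩
  · have ht : 7 ≤ t := by omega
    by_cases hp : ∀ i, Cfsg.Geo.IsPlusTypeOn (⇑Q) (D i)
    · choose e f he hf hpair hall using fun i => exists_pair_two Q (hD.decomp.nondegenerate i) (hd.finrank_eq i) (hp i)
      have P : Planes Q D e f := ⟨hQ, by omega, hD.decomp.orthogonal, he, hf, hpair, hall⟩
      rcases h with h | ⟨-, h | h | h⟩
      exacts [case_three P h (by omega), case_two P h (by omega), case_four P h (by omega), case_five P h (by omega)]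
    · rcases h with h | ⟨h', -⟩
      · exact Refl.decomposition_not_maximal Q hQ h hn D hD
          (Or.inr ⟨rfl, fun i hi => hp fun j => plus_transfer (hD.isometric i j) hi⟩)
      · exact absurd h' hp
  · exact Refl.decomposition_not_maximal Q hQ h hn D hD (Or.inl rfl)
  · choose e f e' f' he hf he' hf' hpair hpair' hc1 hc2 hc3 hc4 hall using fun i =>
      exists_pair_four Q (hD.decomp.nondegenerate i) (hd.finrank_eq i) (hp i)
    exact case_quad ⟨hQ, by omega, hD.decomp.orthogonal, fun i => ⟨he i, hf i, he' i, hf' i⟩, hpair, hpair',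
      fun i => ⟨hc1 i, hc2 i, hc3 i, hc4 i⟩, hall⟩ h h2t

end Cfsg.Lib.Classical.SmallDecomp
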