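import Mathlib
import Cfsg.Agent.Classical.Orth.Orders
import Cfsg.Agent.Classical.Orth.Simple
import Cfsg.Agent.Classical.Misc.SmallPSL

/-! `O⁻₄(2) ≅ S₅` and `SO₃(3) ≅ S₄`. -/

set_option autoImplicit false
set_option linter.style.haveILetI false

namespace Cfsg.Lib.Classical.Refl

open Matrix Equiv

universe u

variable {F : Type u} [Field F] {ι : Type} [Fintype ι] [DecidableEq ι] (Q : QuadraticForm F (ι → F))

theorem eq_smul_of_singular [Finite F] (hQ : (QuadraticMap.polarBilin Q).Nondegenerate) (hn : 3 ≤ Fintype.card ι)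
    (g : Cfsg.isometryGroup F (⇑Q)) (c : F) (h : ∀ u, Q u = 0 → mat Q g *ᵥ u = c • u) (x : ι → F) :
    mat Q g *ᵥ x = c • x := by
  have hbot : Module.finrank F (⊥ : Submodule F (ι → F)) = 0 := finrank_bot F (ι → F)
  have hspan : Submodule.span F {u : ι → F | Q u = 0} = ⊤ := by
    rw [← perp_perp Q hQ (Submodule.span F {u : ι → F | Q u = 0}), eq_top_iff]
    intro y _
    rw [HypQuad.mem_perp]
    intro z hz
    have hz0 : z ∈ (⊥ : Submodule F (ι → F)) := mem_of_orth_singular Q hQ ⊥ (by omega) fun r _ hr => by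
      rw [QuadraticMap.polar_comm]
      exact (HypQuad.mem_perp Q).mp hz r (Submodule.subset_span hr)
    rw [(Submodule.mem_bot F).mp hz0, QuadraticMap.polar_zero_left]
  have hx : x ∈ Submodule.span F {u : ι → F | Q u = 0} := hspan ▸ Submodule.mem_top
  induction hx using Submodule.span_induction with
  | mem y hy => exact h y hy
  | zero => rw [Matrix.mulVec_zero, smul_zero]
  | add a b _ _ iha ihb => rw [Matrix.mulVec_add, iha, ihb, smul_add]
  | smul k a _ iha => rw [Matrix.mulVec_smul, iha, smul_comm]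

/-- The nonzero singular vectors. -/
def SVec : Type u := {x : ι → F // x ≠ 0 ∧ Q x = 0}

noncomputable instance : MulAction (Cfsg.isometryGroup F (⇑Q)) (SVec Q) where
  smul g x := ⟨mat Q g *ᵥ x.1, mat_ne_zero Q g x.2.1, by rw [(mem_iff Q).mp g.2, x.2.2]⟩
  one_smul x := Subtype.ext (Matrix.one_mulVec x.1)
  mul_smul g h x := Subtype.ext (mulVec_mul Q g h x.1)

instance [Finite F] : Finite (SVec Q) := Finite.of_injective (fun x => x.1) fun _ _ h => Subtype.ext h

instance [Finite F] : Finite (SPoint Q) := by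
  haveI : Finite (Submodule F (ι → F)) := Finite.of_injective _ SetLike.coe_injective
  exact Finite.of_injective (fun x => x.1) fun _ _ h => Subtype.ext h

theorem card_svec [Finite F] : Nat.card (SVec Q) = Nat.card {x // Q x = 0} - 1 := by
  classical
  haveI := Fintype.ofFinite (ι → F)
  show Nat.card {x : ι → F // x ≠ 0 ∧ Q x = 0} = _
  rw [Nat.card_eq_fintype_card, Nat.card_eq_fintype_card, Fintype.card_subtype, Fintype.card_subtype,
    ← Finset.card_erase_of_mem (show (0 : ι → F) ∈ Finset.univ.filter (fun x => Q x = 0) by simp)]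
  congr 1
  ext x
  simp

theorem minus_four_two {F : Type u} [Field F] [Fintype F] (hF : Fintype.card F = 2) :
    Nonempty (↥(Cfsg.isometryGroup F (Cfsg.quadFormMinus 1 F 1 1)) ≃* Equiv.Perm (Fin 5)) := by
  classical
  have hab : ∀ z₁ z₂ : F, z₁ ^ 2 + 1 * z₁ * z₂ + 1 * z₂ ^ 2 = 0 → z₁ = 0 ∧ z₂ = 0 := by
    have key : ∀ z : F, z = 0 ∨ z = 1 := fun z => by
      by_contra hh
      push Not at hh
      have := Finset.card_le_univ ({0, 1, z} : Finset F)
      rw [Finset.card_insert_of_notMem (by simp [hh.1.symm]), Finset.card_pair hh.2.symm, hF] at this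
      omega
    have h2 : (1 : F) + 1 = 0 := (key (1 + 1)).resolve_right (by simp)
    intro z₁ z₂ h
    rcases key z₁ with rfl | rfl <;> rcases key z₂ with rfl | rfl <;> simp [h2] at h ⊢
  have hcard := OrthCard.card_minus (F := F) hab 1
  have hzero := OrthCard.count_minus (F := F) 2 (by norm_num) hab
  rw [Nat.card_eq_fintype_card (α := F), hF] at hcard hzero
  norm_num [OrthCard.prodQ, -Nat.card_eq_fintype_card] at hcard hzero
  rw [← minusForm_coe] at hcard hzero ⊢
  set Q := minusForm 1 F 1 1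
  have hQ := minusForm_nondegenerate' 1 hab
  refine Cfsg.Lib.Classical.SmallPSL.perm_iso (Ω := SVec Q) ?_
    (MulAction.toPermHom (Cfsg.isometryGroup F (⇑Q)) (SVec Q)) ?_ (by rw [hcard]; rfl)
  · rw [card_svec, hzero]
  · rw [injective_iff_map_eq_one]
    intro g hg
    refine ext_mulVec Q fun x => ?_
    rw [show mat Q 1 = 1 from rfl, Matrix.one_mulVec, eq_smul_of_singular Q hQ (by simp) g 1 (fun u hu => ?_) x,
      one_smul]
    by_cases hu0 : u = 0
    · rw [hu0, Matrix.mulVec_zero, smul_zero]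
    · rw [one_smul]
      exact congrArg Subtype.val (congrArg (fun σ : Equiv.Perm (SVec Q) => σ ⟨u, hu0, hu⟩) hg)

theorem so_three_three {F : Type u} [Field F] [Fintype F] (hF : Fintype.card F = 3) :
    Nonempty (↥(Cfsg.specialIsometryGroup F (Cfsg.quadFormOdd 1 F)) ≃* Equiv.Perm (Fin 4)) := by
  classical
  have h2 := two_ne_zero_of_odd (F := F) (by rw [hF]; decide)
  have hcard := OrthCard.card_odd (F := F) h2 1
  have hzero := OrthCard.count_odd (F := F) h2 1
  rw [Nat.card_eq_fintype_card (α := F), hF] at hcard hzero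
  norm_num [OrthCard.prodQ, -Nat.card_eq_fintype_card] at hcard hzero
  rw [← oddForm_coe] at hcard hzero ⊢
  set Q := oddForm 1 F
  have hQ := oddForm_nondegenerate h2 1
  have key : ∀ z : F, z = 0 ∨ z = 1 ∨ z = -1 := fun z => by
    by_contra hh
    push Not at hh
    have hne : (1 : F) ≠ -1 := fun h => h2 (by linear_combination h)
    have := Finset.card_le_univ ({0, 1, -1, z} : Finset F)
    rw [Finset.card_insert_of_notMem (by simp [hh.1.symm]), Finset.card_insert_of_notMem (by simp [hne, hh.2.1.symm]),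
      Finset.card_pair hh.2.2.symm, hF] at this
    omega
  have hpts : Nat.card (SPoint Q) = 4 := by
    have hv := card_svec Q
    rw [hzero] at hv
    have e : SPoint Q × Fˣ ≃ SVec Q :=
      Equiv.ofBijective (fun p => ⟨(p.2 : F) • rep Q p.1,
        smul_ne_zero p.2.ne_zero (rep_ne Q p.1), by rw [QuadraticMap.map_smul, rep_sing, smul_zero]⟩)
      ⟨fun p p' h => by
        have h' : (p.2 : F) • rep Q p.1 = (p'.2 : F) • rep Q p'.1 := congrArg Subtype.val h
        have hL : p.1 = p'.1 := by
          rw [← mkPt_rep Q p.1, ← mkPt_rep Q p'.1]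
          exact mkPt_smul Q _ _ (mul_ne_zero (inv_ne_zero p.2.ne_zero) p'.2.ne_zero) _ _
            (by rw [mul_smul, ← h', smul_smul, inv_mul_cancel₀ p.2.ne_zero, one_smul])
        refine Prod.ext hL (Units.ext ?_)
        rw [hL] at h'
        exact smul_left_injective F (rep_ne Q p'.1) h',
       fun x => by
        obtain ⟨c, hc, e⟩ := exists_rep_smul Q x.2.1 x.2.2
        refine ⟨(mkPt Q x.1 x.2.1 x.2.2, Units.mk0 c⁻¹ (inv_ne_zero hc)), Subtype.ext ?_⟩
        show c⁻¹ • rep Q (mkPt Q x.1 x.2.1 x.2.2) = x.1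
        rw [e, smul_smul, inv_mul_cancel₀ hc, one_smul]⟩
    have := Nat.card_congr e
    rw [Nat.card_prod, Nat.card_units, Nat.card_eq_fintype_card (α := F), hF, hv] at this
    omega
  have hSO : Nat.card (Cfsg.specialIsometryGroup F (⇑Q)) = 24 := by
    obtain ⟨α, hα⟩ : ∃ α, Q α ≠ 0 := ⟨Pi.single (Sum.inl ()) 1, by simp [Q, oddForm_coe, Cfsg.quadFormOdd]⟩
    have hidx : (Cfsg.specialIsometryGroup F (⇑Q)).index = 2 := by
      rw [Subgroup.index_eq_two_iff]
      refine ⟨refl Q α hα, fun b => ?_⟩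
      have hd : ∀ g : Cfsg.isometryGroup F (⇑Q), g ∈ Cfsg.specialIsometryGroup F (⇑Q) ↔
          (mat Q g).det = 1 := fun g =>
        ⟨fun h => congrArg Units.val h, fun h => Units.ext h⟩
      rw [hd, hd, show mat Q (b * refl Q α hα) = mat Q b * Cfsg.reflectionMatrix (⇑Q) α from rfl, Matrix.det_mul,
        det_eq Q α hα]
      rcases det_sq Q hQ b with e | e <;> rw [e]
      · exact Or.inr ⟨rfl, fun h => h2 (by linear_combination -h)⟩
      · exact Or.inl ⟨by ring, fun h => h2 (by linear_combination -h)⟩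
    have := (Cfsg.specialIsometryGroup F (⇑Q)).card_mul_index
    rw [hidx, hcard] at this
    omega
  refine Cfsg.Lib.Classical.SmallPSL.perm_iso (Ω := SPoint Q) hpts
    ((MulAction.toPermHom (Cfsg.isometryGroup F (⇑Q)) (SPoint Q)).comp (Cfsg.specialIsometryGroup F (⇑Q)).subtype)
    ?_ (by rw [hSO]; rfl)
  rw [injective_iff_map_eq_one]
  rintro ⟨g, hg⟩ hfix
  have h1 : ∀ u, Q u = 0 → u ≠ 0 → mat Q g *ᵥ u = u ∨ mat Q g *ᵥ u = -u := by
    intro u hu hu0
    have h := congrArg (fun σ : Equiv.Perm (SPoint Q) => (σ (mkPt Q u hu0 hu)).1) hfix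
    change (g • mkPt Q u hu0 hu).1 = (mkPt Q u hu0 hu).1 at h
    rw [smul_mkPt] at h
    have : mat Q g *ᵥ u ∈ Submodule.span F {u} := by
      rw [← show Submodule.span F {mat Q g *ᵥ u} = Submodule.span F {u} from h]
      exact Submodule.mem_span_singleton_self _
    obtain ⟨c, hc⟩ := Submodule.mem_span_singleton.mp this
    rcases key c with rfl | rfl | rfl
    · exact absurd (by rw [← hc, zero_smul]) (mat_ne_zero Q g hu0)
    · exact Or.inl (by rw [← hc, one_smul])
    · exact Or.inr (by rw [← hc, neg_one_smul])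
  have hbot : Module.finrank F (⊥ : Submodule F (Unit ⊕ (Fin 1 ⊕ Fin 1) → F)) = 0 := finrank_bot F _
  obtain ⟨w, -, r, -, hw, -, hwr⟩ := exists_pair_perp Q hQ ⊥ (by rw [hbot]; simp)
  have hw0 : w ≠ 0 := fun h => by rw [h, QuadraticMap.polar_zero_left] at hwr; exact zero_ne_one hwr
  obtain ⟨c, hc, hcw⟩ : ∃ c : F, (c = 1 ∨ c = -1) ∧ mat Q g *ᵥ w = c • w := by
    rcases h1 w hw hw0 with h | h
    · exact ⟨1, Or.inl rfl, by rw [h, one_smul]⟩
    · exact ⟨-1, Or.inr rfl, by rw [h, neg_one_smul]⟩
  have hall : ∀ u, Q u = 0 → mat Q g *ᵥ u = c • u := by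
    intro u hu
    by_cases hu0 : u = 0
    · rw [hu0, Matrix.mulVec_zero, smul_zero]
    by_cases hp : QuadraticMap.polar (⇑Q) w u = 0
    · have hmem : u ∈ Submodule.span F {w} := by
        by_contra hns
        have hsing : ∀ a ∈ Submodule.span F ({w, u} : Set (Unit ⊕ (Fin 1 ⊕ Fin 1) → F)), Q a = 0 := by
          intro a ha
          obtain ⟨x, y, rfl⟩ := Submodule.mem_span_pair.mp ha
          rw [WittQuad.val_smul_add, QuadraticMap.map_smul, hw, hu, QuadraticMap.polar_smul_left, hp]
          simp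
        have hli : LinearIndependent F ![w, u] := (LinearIndependent.pair_iff' hw0).mpr fun a ha =>
          hns (Submodule.mem_span_singleton.mpr ⟨a, ha⟩)
        have h2' := finrank_span_eq_card hli
        rw [Matrix.range_cons_cons_empty, Fintype.card_fin] at h2'
        have h3 := Submodule.finrank_mono (HypQuad.le_perp Q hsing)
        rw [HypQuad.finrank_perp Q hQ, h2', Module.finrank_fintype_fun_eq_card] at h3
        simp at h3
      obtain ⟨k, rfl⟩ := Submodule.mem_span_singleton.mp hmem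
      rw [Matrix.mulVec_smul, hcw, smul_comm]
    · have hpp := polar_act Q g w u
      rw [hcw] at hpp
      rcases h1 u hu hu0 with h | h <;> rw [h] at hpp ⊢ <;> rcases hc with rfl | rfl <;>
        simp [QuadraticMap.polar_smul_left, QuadraticMap.polar_neg_right] at hpp ⊢ <;>
        exact absurd (by linear_combination (-1 : F) * hpp : (2 : F) * QuadraticMap.polar (⇑Q) w u = 0) (mul_ne_zero h2 hp)
  have hM : mat Q g = c • 1 := Matrix.toLin'.injective (LinearMap.ext fun x => by
    rw [Matrix.toLin'_apply, Matrix.toLin'_apply, Matrix.smul_mulVec, Matrix.one_mulVec,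
      eq_smul_of_singular Q hQ (by simp) g c hall x])
  have hd : (mat Q g).det = 1 := congrArg Units.val hg
  rw [hM, Matrix.det_smul, Matrix.det_one, mul_one] at hd
  rcases hc with rfl | rfl
  · refine Subtype.ext (Subtype.ext (Units.ext ?_))
    show mat Q g = 1
    rw [hM, one_smul]
  · exfalso
    simp at hd
    exact h2 (by linear_combination -hd)

end Cfsg.Lib.Classical.Refl
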