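import Mathlib
import Cfsg.Agent.Classical.Orth.SingPairMax
import Cfsg.Agent.Classical.Subfield.Core

/-!
Rational structures of quadratic forms over a subfield of prime index: root elements of the rational group and of an
overgroup, and how they force an element to be rational.
-/

set_option autoImplicit false
set_option linter.unusedSimpArgs false
set_option linter.unusedSectionVars false
set_option linter.style.haveILetI false
set_option linter.flexible false

namespace Cfsg.Lib.Classical.Refl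

open Matrix

universe u

variable {F : Type u} [Field F] {ι : Type} [Fintype ι] [DecidableEq ι] {F₀ : Subfield F}

section Generic

variable [Finite F] (Q : QuadraticForm F (ι → F))

/-- A singular vector with prescribed products outside the span of the given vectors, given the radical. -/
theorem exists_prescribed_rad (hQ : (QuadraticMap.polarBilin Q).Nondegenerate) {r : ℕ} (s : Fin r → (ι → F))
    (hli : LinearIndependent F s) (val : Fin r → F)
    (h : Module.finrank F ↥(Submodule.span F (Set.range s) ⊓ HypQuad.perp Q (Submodule.span F (Set.range s))) + r + 3 ≤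
      Fintype.card ι) :
    ∃ v, Q v = 0 ∧ (∀ i, QuadraticMap.polar (⇑Q) v (s i) = val i) ∧ v ∉ Submodule.span F (Set.range s) := by
  set T := Submodule.span F (Set.range s) with hT
  let bs := Module.Basis.span hli
  obtain ⟨φ, hφ⟩ := (bs.constr F val).exists_extend
  have hφs : ∀ i, φ (s i) = val i := fun i => by
    have e : (bs i : ι → F) = s i := congrArg Subtype.val (Module.Basis.span_apply hli i)
    rw [← e, ← bs.constr_basis F val i]
    exact LinearMap.congr_fun hφ (bs i)
  obtain ⟨v₀, hv₀⟩ := WittQuad.exists_partner_vec Q hQ φ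
  have hdT : Module.finrank F T = r := (finrank_span_eq_card hli).trans (Fintype.card_fin r)
  obtain ⟨C, hC⟩ := (T ⊓ HypQuad.perp Q T).exists_isCompl
  have h1 := HypQuad.finrank_perp Q hQ T
  have h2 := Submodule.finrank_add_eq_of_isCompl hC
  have h3 := Submodule.finrank_sup_add_finrank_inf_eq (HypQuad.perp Q T) C
  have h4 := Submodule.finrank_le (HypQuad.perp Q T ⊔ C)
  rw [Module.finrank_fintype_fun_eq_card] at h1 h2 h4
  obtain ⟨p, hp, hp0, hQp⟩ := exists_singular Q (HypQuad.perp Q T ⊓ C) (by omega)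
  have hpT : p ∉ T := fun hh => hp0 (Submodule.disjoint_def.mp hC.disjoint p ⟨hh, hp.1⟩ hp.2)
  obtain ⟨q, hq, hpq⟩ : ∃ q ∈ HypQuad.perp Q T, QuadraticMap.polar (⇑Q) p q ≠ 0 := by
    by_contra hh
    push Not at hh
    have hpp : p ∈ HypQuad.perp Q (HypQuad.perp Q T) := (HypQuad.mem_perp Q).mpr fun y hy => by
      rw [QuadraticMap.polar_comm]; exact hh y hy
    rw [perp_perp Q hQ] at hpp
    exact hpT hpp
  obtain ⟨q', hq', hv1⟩ : ∃ q' ∈ HypQuad.perp Q T, QuadraticMap.polar (⇑Q) (v₀ + q') p ≠ 0 := by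
    by_cases hv : QuadraticMap.polar (⇑Q) v₀ p = 0
    · exact ⟨q, hq, by rw [QuadraticMap.polar_add_left, hv, zero_add, QuadraticMap.polar_comm]; exact hpq⟩
    · exact ⟨0, Submodule.zero_mem _, by rwa [add_zero]⟩
  set v₁ := v₀ + q'
  have hperp : ∀ {y}, y ∈ HypQuad.perp Q T → ∀ i, QuadraticMap.polar (⇑Q) y (s i) = 0 := fun {y} hy i => by
    rw [QuadraticMap.polar_comm]; exact (HypQuad.mem_perp Q).mp hy _ (Submodule.subset_span ⟨i, rfl⟩)
  have hv₁ : ∀ i, QuadraticMap.polar (⇑Q) v₁ (s i) = val i := fun i => by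
    rw [QuadraticMap.polar_add_left, hperp hq' i, add_zero, QuadraticMap.polar_comm, hv₀, hφs]
  set v := v₁ + (-(Q v₁) / QuadraticMap.polar (⇑Q) v₁ p) • p with hvdef
  have hQv : Q v = 0 := by
    rw [hvdef, WittQuad.val_smul_add, hQp]
    field_simp
    ring
  have hv : ∀ i, QuadraticMap.polar (⇑Q) v (s i) = val i := fun i => by
    rw [hvdef, QuadraticMap.polar_add_left, QuadraticMap.polar_smul_left, hperp hp.1 i, hv₁]
    simp
  by_cases hvT : v ∈ T
  · refine ⟨v + p, ?_, fun i => by rw [QuadraticMap.polar_add_left, hv, hperp hp.1 i, add_zero],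
      fun hh => hpT ((Submodule.add_mem_iff_right _ hvT).mp hh)⟩
    rw [QuadraticMap.map_add (f := Q), hQv, hQp, (HypQuad.mem_perp Q).mp hp.1 v hvT]; simp
  · exact ⟨v, hQv, hv, hvT⟩

/-- A singular vector with prescribed products outside the span of the given vectors. -/
theorem exists_prescribed (hQ : (QuadraticMap.polarBilin Q).Nondegenerate) {r : ℕ} (s : Fin r → (ι → F))
    (hli : LinearIndependent F s) (val : Fin r → F) (h : 2 * r + 3 ≤ Fintype.card ι) :
    ∃ v, Q v = 0 ∧ (∀ i, QuadraticMap.polar (⇑Q) v (s i) = val i) ∧ v ∉ Submodule.span F (Set.range s) := by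
  refine exists_prescribed_rad Q hQ s hli val ?_
  have h5 : Module.finrank F ↥(Submodule.span F (Set.range s) ⊓ HypQuad.perp Q (Submodule.span F (Set.range s))) ≤ r :=
    (Submodule.finrank_mono inf_le_left).trans ((finrank_range_le_card s).trans (Fintype.card_fin r).le)
  omega

/-- The radical of a span containing two vectors that see each other is two smaller. -/
theorem rad_pair_le {r : ℕ} (s : Fin r → (ι → F)) (hli : LinearIndependent F s) {i j : Fin r}
    (hj : QuadraticMap.polar (⇑Q) (s j) (s j) = 0) (h : QuadraticMap.polar (⇑Q) (s i) (s j) ≠ 0) :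
    Module.finrank F ↥(Submodule.span F (Set.range s) ⊓ HypQuad.perp Q (Submodule.span F (Set.range s))) + 2 ≤ r := by
  set T := Submodule.span F (Set.range s) with hT
  have hmem : ∀ l, s l ∈ T := fun l => Submodule.subset_span ⟨l, rfl⟩
  have h1 : T ⊓ HypQuad.perp Q T < T ⊓ HypQuad.perp Q (Submodule.span F {s j}) := by
    refine lt_of_le_not_ge (fun x hx => ⟨hx.1, (HypQuad.mem_perp Q).mpr fun y hy => (HypQuad.mem_perp Q).mp hx.2 y
      ((Submodule.span_singleton_le_iff_mem _ _).mpr (hmem j) hy)⟩) fun hle => h ?_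
    have hjj : s j ∈ T ⊓ HypQuad.perp Q (Submodule.span F {s j}) := ⟨hmem j, (HypQuad.mem_perp Q).mpr fun y hy => by
      obtain ⟨c, rfl⟩ := Submodule.mem_span_singleton.mp hy
      rw [QuadraticMap.polar_smul_left, hj, smul_zero]⟩
    exact (HypQuad.mem_perp Q).mp (hle hjj).2 (s i) (hmem i)
  have h2 : T ⊓ HypQuad.perp Q (Submodule.span F {s j}) < T := by
    refine lt_of_le_not_ge inf_le_left fun hle => h ?_
    rw [QuadraticMap.polar_comm]
    exact (HypQuad.mem_perp Q).mp (hle (hmem i)).2 (s j) (Submodule.mem_span_singleton_self _)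
  have e := (finrank_span_eq_card hli).trans (Fintype.card_fin r)
  have := Submodule.finrank_lt_finrank_of_lt h1
  have := Submodule.finrank_lt_finrank_of_lt h2
  rw [← hT] at e
  omega

/-- A vector orthogonal to a singular one is a sum of two singular ones orthogonal to it. -/
theorem exists_sing_split (hQ : (QuadraticMap.polarBilin Q).Nondegenerate) (hn : 7 ≤ Fintype.card ι) {u z : ι → F}
    (hu : Q u = 0) (hu0 : u ≠ 0) (huz : QuadraticMap.polar (⇑Q) u z = 0) :
    ∃ s t, z = s + t ∧ Q s = 0 ∧ Q t = 0 ∧ QuadraticMap.polar (⇑Q) u s = 0 ∧ QuadraticMap.polar (⇑Q) u t = 0 := by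
  by_cases hmem : z ∈ Submodule.span F {u}
  · obtain ⟨c, rfl⟩ := Submodule.mem_span_singleton.mp hmem
    exact ⟨c • u, 0, (add_zero _).symm, by rw [QuadraticMap.map_smul, hu, smul_zero], QuadraticMap.map_zero Q,
      huz, QuadraticMap.polar_zero_right Q u⟩
  have hli : LinearIndependent F ![u, z] := by
    refine LinearIndependent.pair_iff.mpr fun a b h => ?_
    by_cases hb : b = 0
    · subst hb
      rw [zero_smul, add_zero, smul_eq_zero] at h
      exact ⟨h.resolve_right hu0, rfl⟩
    · refine absurd (Submodule.mem_span_singleton.mpr ⟨-a / b, ?_⟩) hmem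
      have : z = b⁻¹ • (-(a • u)) := by
        rw [show -(a • u) = b • z by linear_combination (norm := module) -h, smul_smul, inv_mul_cancel₀ hb, one_smul]
      rw [this]
      module
  obtain ⟨s, hs, hsv, -⟩ := exists_prescribed Q hQ _ hli ![0, Q z] (by omega)
  have e1 : QuadraticMap.polar (⇑Q) s u = 0 := hsv 0
  have e2 : QuadraticMap.polar (⇑Q) s z = Q z := hsv 1
  refine ⟨s, z - s, (add_sub_cancel s z).symm, hs, ?_, by rw [QuadraticMap.polar_comm]; exact e1,
    by rw [QuadraticMap.polar_sub_right, huz, QuadraticMap.polar_comm, e1, sub_zero]⟩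
  rw [sub_eq_add_neg, QuadraticMap.map_add (f := Q), QuadraticMap.map_neg, hs, QuadraticMap.polar_neg_right,
    QuadraticMap.polar_comm, e2]
  simp

omit [Finite F] in
/-- Independence of a vector added to a list. -/
theorem li_cons {r : ℕ} {s : Fin r → (ι → F)} (hs : LinearIndependent F s) {x : ι → F}
    (hx : x ∉ Submodule.span F (Set.range s)) : LinearIndependent F (Matrix.vecCons x s) :=
  LinearIndependent.finCons hs hx

end Generic

/-- A rational structure of a quadratic form. -/
structure Rat (Q : QuadraticForm F (ι → F)) (Q₀ : QuadraticForm F₀ (ι → F₀)) (r : ℕ) : Prop where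
  nondeg : (QuadraticMap.polarBilin Q).Nondegenerate
  val : ∀ u, Q (ratVec F₀ u) = (Q₀ u : F)
  prime : r.Prime
  card : Nat.card F = Nat.card F₀ ^ r
  big : 7 ≤ Fintype.card ι

omit [Fintype ι] [DecidableEq ι] in
theorem ratVec_neg (u : ι → F₀) : ratVec F₀ (-u) = -ratVec F₀ u := rfl

/-- The vectors spanning over the subfield span everything. -/
theorem mem_of_ratVec {X : Submodule F (ι → F)} (h : ∀ u : ι → F₀, ratVec F₀ u ∈ X) (x : ι → F) : x ∈ X := by
  rw [← (Pi.basisFun F ι).sum_repr x]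
  refine Submodule.sum_mem _ fun k _ => X.smul_mem _ ?_
  rw [show (Pi.basisFun F ι k : ι → F) = ratVec F₀ (Pi.single k 1) by
    funext l
    simp only [Pi.basisFun_apply, ratVec, Pi.single_apply]
    split_ifs <;> simp]
  exact h _

/-- Dual functionals of independent rational vectors. -/
theorem exists_rat_dual {r : ℕ} {s : Fin r → (ι → F₀)} (hs : LinearIndependent F₀ s) (j : Fin r) :
    ∃ φ : Module.Dual F₀ (ι → F₀), ∀ i, φ (s i) = if i = j then 1 else 0 := by
  let bs := Module.Basis.span hs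
  obtain ⟨φ, hφ⟩ := (bs.constr F₀ fun i => if i = j then (1 : F₀) else 0).exists_extend
  refine ⟨φ, fun i => ?_⟩
  have e : (bs i : ι → F₀) = s i := congrArg Subtype.val (Module.Basis.span_apply hs i)
  have h := LinearMap.congr_fun hφ (bs i)
  rw [LinearMap.comp_apply, Submodule.subtype_apply, e, bs.constr_basis] at h
  exact h

/-- Independent rational vectors stay independent. -/
theorem li_ratVec {r : ℕ} {s : Fin r → (ι → F₀)} (hs : LinearIndependent F₀ s) :
    LinearIndependent F fun i => ratVec F₀ (s i) := by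
  rw [Fintype.linearIndependent_iff]
  intro c hc j
  obtain ⟨φ, hφ⟩ := exists_rat_dual hs j
  have h := congrArg (ratExt φ) hc
  simpa [map_sum, map_smul, ratExt_apply, hφ, apply_ite Subtype.val, Finset.sum_ite_eq'] using h

variable {Q : QuadraticForm F (ι → F)} {Q₀ : QuadraticForm F₀ (ι → F₀)} {r : ℕ}

/-- The elements with all root elements in `K`. -/
def Pr (Q : QuadraticForm F (ι → F)) (K : Subgroup (Cfsg.isometryGroup F (⇑Q))) (u z : ι → F) : Prop :=
  QuadraticMap.polar (⇑Q) u z = 0 ∧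
    ∀ (hu : Q u = 0) (h : QuadraticMap.polar (⇑Q) u z = 0), siegelG Q hu h ∈ K

variable {K : Subgroup (Cfsg.isometryGroup F (⇑Q))}

theorem Pr.zero (u : ι → F) : Pr Q K u 0 := by
  refine ⟨QuadraticMap.polar_zero_right Q u, fun hu h => ?_⟩
  convert K.one_mem
  refine ext_mulVec Q fun x => ?_
  rw [mat_siegelG, siegel_zero]
  exact (Matrix.one_mulVec x).symm

theorem Pr.self {u : ι → F} (hu : Q u = 0) (c : F) : Pr Q K u (c • u) := by
  refine ⟨by rw [QuadraticMap.polar_smul_right, QuadraticMap.polar_self, hu, smul_zero, smul_zero], fun hu h => ?_⟩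
  convert K.one_mem
  refine ext_mulVec Q fun y => ?_
  rw [mat_siegelG]
  refine Eq.trans ?_ (Matrix.one_mulVec y).symm
  funext i
  simp only [siegelMap, QuadraticMap.map_smul, hu, QuadraticMap.polar_smul_left, Pi.add_apply, Pi.smul_apply,
    smul_eq_mul]
  ring

theorem Pr.zero_left (z : ι → F) : Pr Q K 0 z := by
  refine ⟨QuadraticMap.polar_zero_left Q z, fun hu h => ?_⟩
  convert K.one_mem
  refine ext_mulVec Q fun x => ?_
  rw [mat_siegelG]
  refine Eq.trans ?_ (Matrix.one_mulVec x).symm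
  simp [siegelMap]

theorem Pr.add {u z z' : ι → F} (h : Pr Q K u z) (h' : Pr Q K u z') : Pr Q K u (z + z') := by
  refine ⟨by rw [QuadraticMap.polar_add_right, h.1, h'.1, add_zero], fun hu hh => ?_⟩
  have := K.mul_mem (h.2 hu h.1) (h'.2 hu h'.1)
  rwa [siegelG_mul] at this

theorem Pr.neg {u z : ι → F} (h : Pr Q K u z) : Pr Q K u (-z) := by
  refine ⟨by rw [QuadraticMap.polar_neg_right, h.1, neg_zero], fun hu hh => ?_⟩
  have e : siegelG Q hu hh * siegelG Q hu h.1 = 1 := by
    rw [siegelG_mul]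
    refine ext_mulVec Q fun x => ?_
    rw [mat_siegelG, neg_add_cancel, siegel_zero]
    exact (Matrix.one_mulVec x).symm
  rw [eq_inv_of_mul_eq_one_left e]
  exact K.inv_mem (h.2 hu h.1)

theorem Pr.sub {u z z' : ι → F} (h : Pr Q K u z) (h' : Pr Q K u z') : Pr Q K u (z - z') := by
  rw [sub_eq_add_neg]; exact h.add h'.neg

theorem Pr.map {u z : ι → F} (h : Pr Q K u z) {g : Cfsg.isometryGroup F (⇑Q)} (hg : g ∈ K) :
    Pr Q K (mat Q g *ᵥ u) (mat Q g *ᵥ z) := by
  refine ⟨by rw [polar_act, h.1], fun hu hh => ?_⟩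
  have hu' : Q u = 0 := by rw [← (mem_iff Q).mp g.2 u]; exact hu
  have e := K.mul_mem (K.mul_mem hg (h.2 hu' h.1)) (K.inv_mem hg)
  rwa [siegelG_conj] at e

theorem Pr.swap {u z : ι → F} (hu : Q u = 0) (hz : Q z = 0) (h : Pr Q K u z) : Pr Q K z (-u) := by
  refine ⟨by rw [QuadraticMap.polar_neg_right, QuadraticMap.polar_comm, h.1, neg_zero], fun hz' hh => ?_⟩
  convert h.2 hu h.1 using 1
  refine siegelG_congr Q _ _ _ _ fun x => ?_
  funext i
  simp only [siegelMap, QuadraticMap.map_neg, hu, hz, QuadraticMap.polar_neg_left, Pi.add_apply, Pi.smul_apply,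
    Pi.neg_apply, smul_eq_mul]
  ring

theorem Pr.scale_left {u z : ι → F} {c : F} (hu : Q u = 0) (h : Pr Q K (c • u) z) : Pr Q K u (c • z) := by
  have hcu : Q (c • u) = 0 := by rw [QuadraticMap.map_smul, hu, smul_zero]
  have h0 : QuadraticMap.polar (⇑Q) u (c • z) = 0 := by
    rw [QuadraticMap.polar_smul_right, ← QuadraticMap.polar_smul_left]; exact h.1
  refine ⟨h0, fun hu' hh => ?_⟩
  convert h.2 hcu h.1 using 1
  refine siegelG_congr Q _ _ _ _ fun x => ?_
  funext i
  simp only [siegelMap, QuadraticMap.map_smul, hu, QuadraticMap.polar_smul_left, Pi.add_apply, Pi.smul_apply,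
    smul_eq_mul]
  ring

theorem Pr.scale_right {u z : ι → F} {c : F} (hu : Q u = 0) (h : Pr Q K u (c • z)) : Pr Q K (c • u) z := by
  have h0 : QuadraticMap.polar (⇑Q) (c • u) z = 0 := by
    rw [QuadraticMap.polar_smul_left, ← QuadraticMap.polar_smul_right]; exact h.1
  refine ⟨h0, fun hu' hh => ?_⟩
  convert h.2 hu h.1 using 1
  refine siegelG_congr Q _ _ _ _ fun x => ?_
  funext i
  simp only [siegelMap, QuadraticMap.map_smul, hu, QuadraticMap.polar_smul_left, Pi.add_apply, Pi.smul_apply,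
    smul_eq_mul]
  ring

/-- Every rational root element found in `K` is rational. -/
def Good (Q : QuadraticForm F (ι → F)) (Q₀ : QuadraticForm F₀ (ι → F₀))
    (K : Subgroup (Cfsg.isometryGroup F (⇑Q))) : Prop :=
  ∀ (u : ι → F₀) (z : ι → F), Q₀ u = 0 → u ≠ 0 → Pr Q K (ratVec F₀ u) z →
    ∃ (w : ι → F₀) (c : F), z = ratVec F₀ w + c • ratVec F₀ u

namespace Rat

variable (S : Rat Q Q₀ r)
include S

theorem polar (u v : ι → F₀) :
    QuadraticMap.polar (⇑Q) (ratVec F₀ u) (ratVec F₀ v) = ((QuadraticMap.polar (⇑Q₀) u v : F₀) : F) := by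
  simp only [QuadraticMap.polar, ← ratVec_add, S.val]
  push_cast
  rfl

theorem polar_zero {u v : ι → F₀} (h : QuadraticMap.polar (⇑Q₀) u v = 0) :
    QuadraticMap.polar (⇑Q) (ratVec F₀ u) (ratVec F₀ v) = 0 := by
  rw [S.polar, h]; rfl

theorem val_zero {u : ι → F₀} (h : Q₀ u = 0) : Q (ratVec F₀ u) = 0 := by rw [S.val, h]; rfl

theorem finite₀ [Finite F] : Finite F₀ := Finite.of_injective _ Subtype.val_injective

theorem nondeg₀ : (QuadraticMap.polarBilin Q₀).Nondegenerate := by
  have h1 : ∀ u : ι → F₀, (∀ v, QuadraticMap.polar (⇑Q₀) u v = 0) → u = 0 := fun u hu => by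
    refine ratVec_injective (F₀ := F₀) ((S.nondeg.1 _ fun x => ?_).trans ratVec_zero.symm)
    refine LinearMap.congr_fun (ext_on_ratVec (F₀ := F₀) (f := QuadraticMap.polarBilin Q (ratVec F₀ u)) (g := 0)
      fun v => ?_) x
    rw [QuadraticMap.polarBilin_apply_apply, S.polar_zero (hu v)]; rfl
  exact ⟨h1, fun u hu => h1 u fun v => by rw [QuadraticMap.polar_comm]; exact hu v⟩

/-- The quadratic form is determined on the rational vectors. -/
theorem preserved (T : (ι → F) →ₗ[F] (ι → F)) (h : ∀ u, Q (T (ratVec F₀ u)) = Q (ratVec F₀ u)) (x : ι → F) :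
    Q (T x) = Q x := by
  have hp : ∀ u v, QuadraticMap.polar (⇑Q) (T (ratVec F₀ u)) (T (ratVec F₀ v)) =
      QuadraticMap.polar (⇑Q) (ratVec F₀ u) (ratVec F₀ v) := fun u v => by
    simp only [QuadraticMap.polar, ← map_add, ← ratVec_add, h]
  have hp1 : ∀ u y, QuadraticMap.polar (⇑Q) (T (ratVec F₀ u)) (T y) = QuadraticMap.polar (⇑Q) (ratVec F₀ u) y :=
    fun u => LinearMap.congr_fun (ext_on_ratVec (F₀ := F₀)
      (f := QuadraticMap.polarBilin Q (T (ratVec F₀ u)) ∘ₗ T) (g := QuadraticMap.polarBilin Q (ratVec F₀ u))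
      fun v => hp u v)
  have hp2 : ∀ y z, QuadraticMap.polar (⇑Q) (T y) (T z) = QuadraticMap.polar (⇑Q) y z := fun y z =>
    LinearMap.congr_fun (ext_on_ratVec (F₀ := F₀) (f := (QuadraticMap.polarBilin Q).flip (T z) ∘ₗ T)
      (g := (QuadraticMap.polarBilin Q).flip z) fun u => hp1 u z) y
  have hsum : ∀ (s : Finset ι), Q (T (∑ k ∈ s, x k • ratVec F₀ (Pi.single k 1))) =
      Q (∑ k ∈ s, x k • ratVec F₀ (Pi.single k 1)) := fun s => by
    induction s using Finset.induction_on with
    | empty => simp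
    | insert k s hk ih =>
      rw [Finset.sum_insert hk, map_add, map_smul, QuadraticMap.map_add (f := Q), QuadraticMap.map_add (f := Q), ih,
        QuadraticMap.map_smul, QuadraticMap.map_smul, h, QuadraticMap.polar_smul_left, hp2,
        ← QuadraticMap.polar_smul_left]
  have e : x = ∑ k, x k • ratVec F₀ (Pi.single k 1) := by
    funext i
    simp [ratVec, Finset.sum_apply, Pi.single_apply, apply_ite Subtype.val]
  rw [e]
  exact hsum _

/-- Extension of a rational isometry. -/
noncomputable def lift : Cfsg.isometryGroup F₀ (⇑Q₀) →* Cfsg.isometryGroup F (⇑Q) :=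
  ((Matrix.GeneralLinearGroup.map (n := ι) (F₀.subtype : F₀ →+* F)).comp
    (Cfsg.isometryGroup F₀ (⇑Q₀)).subtype).codRestrict _ fun g => by
      refine (mem_iff Q).mpr fun x => ?_
      have e : ∀ u : ι → F₀, (Matrix.GeneralLinearGroup.map (n := ι) (F₀.subtype : F₀ →+* F)
          (g : Matrix.GeneralLinearGroup ι F₀)).val *ᵥ ratVec F₀ u = ratVec F₀ (mat Q₀ g *ᵥ u) := fun u => by
        funext i
        change ∑ j, ((mat Q₀ g i j : F₀) : F) * (u j : F) = ((∑ j, mat Q₀ g i j * u j : F₀) : F)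
        rw [AddSubmonoidClass.coe_finsetSum]
        rfl
      exact S.preserved (Matrix.toLin' _) (fun u => by
        show Q ((Matrix.GeneralLinearGroup.map (n := ι) (F₀.subtype : F₀ →+* F)
          (g : Matrix.GeneralLinearGroup ι F₀)).val *ᵥ ratVec F₀ u) = Q (ratVec F₀ u)
        rw [e, S.val, S.val, (mem_iff Q₀).mp g.2]) x

theorem mat_lift (g : Cfsg.isometryGroup F₀ (⇑Q₀)) (u : ι → F₀) :
    mat Q (S.lift g) *ᵥ ratVec F₀ u = ratVec F₀ (mat Q₀ g *ᵥ u) := by
  funext i
  change ∑ j, ((mat Q₀ g i j : F₀) : F) * (u j : F) = ((∑ j, mat Q₀ g i j * u j : F₀) : F)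
  rw [AddSubmonoidClass.coe_finsetSum]
  rfl

theorem lift_mem_omega {g : Cfsg.isometryGroup F₀ (⇑Q₀)} (hg : g ∈ Cfsg.Omega F₀ (⇑Q₀)) :
    S.lift g ∈ Cfsg.Omega F (⇑Q) :=
  by
    have h := Subgroup.mem_map_of_mem S.lift hg
    rw [Cfsg.Omega, commutator_def, Subgroup.map_commutator] at h
    rw [Cfsg.Omega, commutator_def]
    exact Subgroup.commutator_mono le_top le_top h

theorem lift_siegel {u z : ι → F₀} (hu : Q₀ u = 0) (huz : QuadraticMap.polar (⇑Q₀) u z = 0) :
    S.lift (siegelG Q₀ hu huz) = siegelG Q (S.val_zero hu) (S.polar_zero huz) := by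
  refine ext_mulVec Q fun x => ?_
  refine LinearMap.congr_fun (ext_on_ratVec (F₀ := F₀)
    (f := (mat Q (S.lift (siegelG Q₀ hu huz))).mulVecLin)
    (g := (mat Q (siegelG Q (S.val_zero hu) (S.polar_zero huz))).mulVecLin) fun v => ?_) x
  simp only [Matrix.mulVecLin_apply, S.mat_lift, mat_siegelG, siegelMap, S.polar, S.val, ratVec_add, ratVec_smul,
    AddMemClass.coe_add, NegMemClass.coe_neg, Subfield.coe_sub, Subfield.coe_mul]

variable [Finite F] (hK : ∀ g ∈ Cfsg.Omega F₀ (⇑Q₀), S.lift g ∈ K)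
include hK

theorem pr_rat {u w : ι → F₀} (hu : Q₀ u = 0) (h : QuadraticMap.polar (⇑Q₀) u w = 0) :
    Pr Q K (ratVec F₀ u) (ratVec F₀ w) := by
  haveI := S.finite₀
  refine ⟨S.polar_zero h, fun _ _ => ?_⟩
  rw [← S.lift_siegel hu h]
  exact hK _ (siegelG_mem_omega Q₀ S.nondeg₀ (by have := S.big; omega) hu h)

theorem pr_transitive {u w u' w' : ι → F₀} (hu : Q₀ u = 0) (hw : Q₀ w = 0)
    (huw : QuadraticMap.polar (⇑Q₀) u w = 0) (hli : LinearIndependent F₀ ![u, w]) (hu' : Q₀ u' = 0) (hw' : Q₀ w' = 0)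
    (huw' : QuadraticMap.polar (⇑Q₀) u' w' = 0) (hli' : LinearIndependent F₀ ![u', w']) {t : F}
    (h : Pr Q K (ratVec F₀ u) (t • ratVec F₀ w)) : Pr Q K (ratVec F₀ u') (t • ratVec F₀ w') := by
  classical
  haveI := S.finite₀
  have hu0 : u ≠ 0 := fun h => hli.ne_zero 0 h
  have hu0' : u' ≠ 0 := fun h => hli'.ne_zero 0 h
  obtain ⟨g₁, hg₁⟩ := exists_map Q₀ S.nondeg₀ hu0 hu0' (by rw [hu, hu'])
  have hnot : ∀ {a b : ι → F₀}, LinearIndependent F₀ ![a, b] → b ∉ Submodule.span F₀ {a} := fun {a b} hl hmem => by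
    obtain ⟨c, hc⟩ := Submodule.mem_span_singleton.mp hmem
    exact one_ne_zero (neg_eq_zero.mp (LinearIndependent.pair_iff.mp hl c (-1) (by rw [hc]; module)).2)
  obtain ⟨e, he, hfix, hew⟩ := WittQuad.exists_move_fix Q₀ S.nondeg₀ (Submodule.span F₀ {u'})
    (a := mat Q₀ g₁ *ᵥ w) (b := w') (fun hmem => by
      obtain ⟨c, hc⟩ := Submodule.mem_span_singleton.mp hmem
      rw [← hg₁, ← Matrix.mulVec_smul] at hc
      have := congrArg (fun x => mat Q₀ g₁⁻¹ *ᵥ x) hc
      simp only [mulVec_inv_cancel] at this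
      exact hnot hli (Submodule.mem_span_singleton.mpr ⟨c, this⟩))
    (hnot hli') (by rw [(mem_iff Q₀).mp g₁.2, hw, hw']) (fun x hx => by
      obtain ⟨c, rfl⟩ := Submodule.mem_span_singleton.mp hx
      rw [QuadraticMap.polar_smul_left, QuadraticMap.polar_smul_left, huw', ← hg₁, polar_act, huw])
  obtain ⟨g₂, hg₂⟩ := exists_of_equiv Q₀ e he
  obtain ⟨g, hg, hag⟩ := exists_omega_agree Q₀ S.nondeg₀ (by have := S.big; omega) (Submodule.span F₀ {u, w})
    (by have := finrank_pair_le (F := F₀) u w; have := S.big; omega) (g₂ * g₁)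
  have hgu : mat Q₀ g *ᵥ u = u' := by
    rw [hag u (Submodule.subset_span (by simp)), mat, mulVec_mul]
    exact (congrArg _ hg₁).trans ((hg₂ u').trans (hfix u' (Submodule.mem_span_singleton_self u')))
  have hgw : mat Q₀ g *ᵥ w = w' := by
    rw [hag w (Submodule.subset_span (by simp)), mat, mulVec_mul]
    exact (hg₂ _).trans hew
  have := h.map (hK g hg)
  rwa [Matrix.mulVec_smul, S.mat_lift, S.mat_lift, hgu, hgw] at this

set_option maxHeartbeats 1600000 in
/-- A non-rational root element on a rational point gives everything. -/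
theorem omega_le_of_not_good (hbad : ¬ Good Q Q₀ K) : Cfsg.Omega F (⇑Q) ≤ K := by
  classical
  haveI := S.finite₀
  have hn₀ := S.nondeg₀
  have hb := S.big
  simp only [Good] at hbad
  push Not at hbad
  obtain ⟨u, z, hu, hu0, hPr, hz⟩ := hbad
  set B₀ := QuadraticMap.polar (⇑Q₀) with hB₀
  have hone : LinearIndependent F₀ ![u] := LinearIndependent.of_subsingleton 0 (by simpa using hu0)
  obtain ⟨e, he, hev, -⟩ := exists_prescribed Q₀ hn₀ _ hone ![1] (by omega)
  have heu : QuadraticMap.polar (⇑Q₀) e u = 1 := hev 0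
  have hue : QuadraticMap.polar (⇑Q₀) u e = 1 := by rw [QuadraticMap.polar_comm]; exact heu
  -- a singular vector with non-rational product
  obtain ⟨a, ha, hua, hat⟩ : ∃ a, Q₀ a = 0 ∧ QuadraticMap.polar (⇑Q₀) u a = 0 ∧
      QuadraticMap.polar (⇑Q) (ratVec F₀ a) z ∉ F₀ := by
    by_contra hc
    push Not at hc
    have hc' : ∀ x, QuadraticMap.polar (⇑Q₀) u x = 0 → QuadraticMap.polar (⇑Q) (ratVec F₀ x) z ∈ F₀ := fun x hx => by
      obtain ⟨s, t, rfl, hs, ht, hus, hut⟩ := exists_sing_split Q₀ hn₀ (by omega) hu hu0 hx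
      rw [ratVec_add, QuadraticMap.polar_add_left]
      exact F₀.add_mem (hc s hs hus) (hc t ht hut)
    have hproj : ∀ x, QuadraticMap.polar (⇑Q₀) u (x - QuadraticMap.polar (⇑Q₀) u x • e) = 0 := fun x => by
      rw [QuadraticMap.polar_sub_right, QuadraticMap.polar_smul_right, hue, smul_eq_mul, mul_one, sub_self]
    let φ : Module.Dual F₀ (ι → F₀) :=
      { toFun := fun x => ⟨_, hc' _ (hproj x)⟩
        map_add' := fun p q => Subtype.ext (by
          simp only [QuadraticMap.polar_add_right, add_smul, ratVec_add, ratVec_sub, ratVec_smul,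
            QuadraticMap.polar_add_left, QuadraticMap.polar_sub_left, QuadraticMap.polar_smul_left, AddMemClass.coe_add]
          push_cast
          simp only [smul_eq_mul]
          ring)
        map_smul' := fun b p => Subtype.ext (by
          simp only [QuadraticMap.polar_smul_right, smul_eq_mul, ratVec_sub, ratVec_smul, RingHom.id_apply,
            QuadraticMap.polar_sub_left, QuadraticMap.polar_smul_left, Subfield.coe_mul]
          ring) }
    obtain ⟨w, hw⟩ := WittQuad.exists_partner_vec Q₀ hn₀ φ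
    refine hz w (QuadraticMap.polar (⇑Q) (ratVec F₀ e) z) ?_
    rw [← sub_eq_zero]
    refine S.nondeg.2 _ fun x => ?_
    refine LinearMap.congr_fun (ext_on_ratVec (F₀ := F₀)
      (f := (QuadraticMap.polarBilin Q).flip (z - (ratVec F₀ w + QuadraticMap.polar (⇑Q) (ratVec F₀ e) z • ratVec F₀ u)))
      (g := 0) fun v => ?_) x
    have h1 := congrArg Subtype.val (hw v)
    have h2 : (φ v : F) = QuadraticMap.polar (⇑Q) (ratVec F₀ (v - QuadraticMap.polar (⇑Q₀) u v • e)) z := rfl
    rw [h2, ratVec_sub, ratVec_smul, QuadraticMap.polar_sub_left, QuadraticMap.polar_smul_left, smul_eq_mul] at h1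
    rw [LinearMap.flip_apply, LinearMap.zero_apply, QuadraticMap.polarBilin_apply_apply, QuadraticMap.polar_sub_right,
      QuadraticMap.polar_add_right, QuadraticMap.polar_smul_right, S.polar, S.polar, h1,
      QuadraticMap.polar_comm (⇑Q₀) v u, smul_eq_mul]
    ring
  set t := QuadraticMap.polar (⇑Q) (ratVec F₀ a) z with ht
  have hau : a ∉ Submodule.span F₀ {u} := fun hmem => by
    obtain ⟨c, rfl⟩ := Submodule.mem_span_singleton.mp hmem
    rw [ht, ratVec_smul, QuadraticMap.polar_smul_left, hPr.1, smul_zero] at hat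
    exact hat F₀.zero_mem
  have hli2 : LinearIndependent F₀ ![a, u] := li_cons hone (by simpa using hau)
  obtain ⟨b, hb', hbv, hbn⟩ := exists_prescribed Q₀ hn₀ _ hli2 ![0, 0] (by omega)
  have hba : QuadraticMap.polar (⇑Q₀) b a = 0 := hbv 0
  have hbu : QuadraticMap.polar (⇑Q₀) b u = 0 := hbv 1
  have hli3 : LinearIndependent F₀ ![b, a, u] := li_cons hli2 hbn
  obtain ⟨p, hp, hpb, hpa, hpu⟩ : ∃ p, Q₀ p = 0 ∧ QuadraticMap.polar (⇑Q₀) p b = 1 ∧
      QuadraticMap.polar (⇑Q₀) p a = 0 ∧ QuadraticMap.polar (⇑Q₀) p u = 0 := by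
    let bs := Module.Basis.span hli3
    obtain ⟨φ, hφ⟩ := (bs.constr F₀ ![(1 : F₀), 0, 0]).exists_extend
    obtain ⟨v₀, hv₀⟩ := WittQuad.exists_partner_vec Q₀ hn₀ φ
    have hv : ∀ i, QuadraticMap.polar (⇑Q₀) v₀ (![b, a, u] i) = ![(1 : F₀), 0, 0] i := fun i => by
      have e : (bs i : ι → F₀) = ![b, a, u] i := congrArg Subtype.val (Module.Basis.span_apply hli3 i)
      rw [QuadraticMap.polar_comm, hv₀, ← e, ← bs.constr_basis F₀ ![(1 : F₀), 0, 0] i]
      exact LinearMap.congr_fun hφ (bs i)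
    have h0 : QuadraticMap.polar (⇑Q₀) v₀ b = 1 := hv 0
    have h1 : QuadraticMap.polar (⇑Q₀) v₀ a = 0 := hv 1
    have h2 : QuadraticMap.polar (⇑Q₀) v₀ u = 0 := hv 2
    refine ⟨v₀ + (-Q₀ v₀) • b, ?_, ?_, ?_, ?_⟩
    · rw [WittQuad.val_smul_add, hb', h0]; ring
    · rw [QuadraticMap.polar_add_left, QuadraticMap.polar_smul_left, h0, QuadraticMap.polar_self, hb', smul_zero,
        smul_zero, add_zero]
    · rw [QuadraticMap.polar_add_left, QuadraticMap.polar_smul_left, h1, hba, smul_zero, add_zero]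
    · rw [QuadraticMap.polar_add_left, QuadraticMap.polar_smul_left, h2, hbu, smul_zero, add_zero]
  have hsw : ∀ {x y : ι → F₀}, QuadraticMap.polar (⇑Q₀) x y = 0 → QuadraticMap.polar (⇑Q₀) y x = 0 :=
    fun h => by rw [QuadraticMap.polar_comm]; exact h
  have hmove : ∀ {x y : ι → F₀} {Z : ι → F}, Q₀ x = 0 → Q₀ y = 0 → QuadraticMap.polar (⇑Q₀) x y = 0 →
      QuadraticMap.polar (⇑Q₀) x u = 0 → QuadraticMap.polar (⇑Q₀) y u = 0 → Pr Q K (ratVec F₀ u) Z →
      Pr Q K (ratVec F₀ u) (QuadraticMap.polar (⇑Q) (ratVec F₀ x) Z • ratVec F₀ y -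
        QuadraticMap.polar (⇑Q) (ratVec F₀ y) Z • ratVec F₀ x) := by
    intro x y Z hx hy hxy hxu hyu hZ
    have h1 := (S.pr_rat hK hx hxy).2 (S.val_zero hx) (S.polar_zero hxy)
    have h2 := (hZ.map h1)
    rw [mat_siegelG, mat_siegelG] at h2
    simp only [siegelMap, S.polar_zero hxu, S.polar_zero hyu, S.val_zero hy, zero_smul, neg_zero, zero_mul, sub_zero,
      add_zero] at h2
    convert h2.sub hZ using 1
    module
  have h1 := hmove ha hb' (hsw hba) (hsw hua) hbu hPr
  rw [← ht] at h1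
  have haa : QuadraticMap.polar (⇑Q₀) a a = 0 := by rw [QuadraticMap.polar_self, ha, smul_zero]
  have h2 := hmove hp ha hpa hpu (hsw hua) h1
  simp only [QuadraticMap.polar_sub_right, QuadraticMap.polar_smul_right, S.polar, hpb, hpa, hsw hba, haa,
    OneMemClass.coe_one, ZeroMemClass.coe_zero, smul_eq_mul, mul_one, mul_zero, sub_zero, zero_smul] at h2
  -- the coefficients
  set L : Set F := {s | ∀ x y, Q₀ x = 0 → Q₀ y = 0 → QuadraticMap.polar (⇑Q₀) x y = 0 →
    Pr Q K (ratVec F₀ x) (s • ratVec F₀ y)} with hL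
  have hliuq : LinearIndependent F₀ ![u, a] := LinearIndependent.pair_iff.mpr fun c d h => by
    by_cases hd : d = 0
    · subst hd
      rw [zero_smul, add_zero, smul_eq_zero] at h
      exact ⟨h.resolve_right hu0, rfl⟩
    · refine absurd (Submodule.mem_span_singleton.mpr ⟨-c / d, ?_⟩) hau
      have : a = d⁻¹ • (-(c • u)) := by
        rw [show -(c • u) = d • a by linear_combination (norm := module) -h, smul_smul, inv_mul_cancel₀ hd, one_smul]
      rw [this]
      module
  have htL : t ∈ L := by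
    intro x y hx hy hxy
    by_cases hx0 : x = 0
    · subst hx0; rw [ratVec_zero]; exact Pr.zero_left _
    by_cases hyx : y ∈ Submodule.span F₀ {x}
    · obtain ⟨c, rfl⟩ := Submodule.mem_span_singleton.mp hyx
      rw [ratVec_smul, smul_smul]; exact Pr.self (S.val_zero hx) _
    refine S.pr_transitive hK hu ha hua hliuq hx hy hxy ?_ h2
    exact LinearIndependent.pair_iff.mpr fun c d h => by
      by_cases hd : d = 0
      · subst hd
        rw [zero_smul, add_zero, smul_eq_zero] at h
        exact ⟨h.resolve_right hx0, rfl⟩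
      · refine absurd (Submodule.mem_span_singleton.mpr ⟨-c / d, ?_⟩) hyx
        have : y = d⁻¹ • (-(c • x)) := by
          rw [show -(c • x) = d • y by linear_combination (norm := module) -h, smul_smul, inv_mul_cancel₀ hd, one_smul]
        rw [this]
        module
  have hL₀ : (F₀ : Set F) ⊆ L := fun s hs x y hx hy hxy => by
    have := S.pr_rat hK hx (w := (⟨s, hs⟩ : F₀) • y) (by rw [QuadraticMap.polar_smul_right, hxy, smul_zero])
    rwa [ratVec_smul] at this
  have hLadd : ∀ x ∈ L, ∀ y ∈ L, x + y ∈ L := fun s hs s' hs' x y hx hy hxy => by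
    rw [add_smul]; exact (hs x y hx hy hxy).add (hs' x y hx hy hxy)
  -- a frame for the multiplication
  obtain ⟨w, hw, hwv, hwn⟩ := exists_prescribed Q₀ hn₀ _ hone ![0] (by omega)
  have hwu : QuadraticMap.polar (⇑Q₀) w u = 0 := hwv 0
  have hliw : LinearIndependent F₀ ![w, u] := li_cons hone hwn
  obtain ⟨w', hw', hw'v, -⟩ := exists_prescribed Q₀ hn₀ _ hliw ![1, 0] (by omega)
  have hw'w : QuadraticMap.polar (⇑Q₀) w' w = 1 := hw'v 0
  have hw'u : QuadraticMap.polar (⇑Q₀) w' u = 0 := hw'v 1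
  have hw'n : w' ∉ Submodule.span F₀ (Set.range ![w, u]) := by
    intro hmem
    obtain ⟨c, d, hcd⟩ := Submodule.mem_span_pair.mp (by rwa [Matrix.range_cons_cons_empty] at hmem)
    rw [← hcd, QuadraticMap.polar_add_left, QuadraticMap.polar_smul_left, QuadraticMap.polar_smul_left,
      QuadraticMap.polar_self, hw, hsw hwu] at hw'w
    simp at hw'w
  obtain ⟨v, hv, hvv, hvn⟩ := exists_prescribed_rad Q₀ hn₀ _ (li_cons hliw hw'n) ![0, 0, 0] (by
    have h3 := rad_pair_le Q₀ _ (li_cons hliw hw'n) (i := 0) (j := 1)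
      (by show QuadraticMap.polar (⇑Q₀) w w = 0; rw [QuadraticMap.polar_self, hw, smul_zero])
      (by show QuadraticMap.polar (⇑Q₀) w' w ≠ 0; rw [hw'w]; exact one_ne_zero)
    omega)
  have hvw' : QuadraticMap.polar (⇑Q₀) v w' = 0 := hvv 0
  have hvw : QuadraticMap.polar (⇑Q₀) v w = 0 := hvv 1
  have hvu : QuadraticMap.polar (⇑Q₀) v u = 0 := hvv 2
  have hlivu : LinearIndependent F₀ ![v, u] := li_cons hone fun hmem => hvn
    ((Submodule.span_mono (by rintro _ ⟨i, rfl⟩; fin_cases i; exact ⟨2, rfl⟩) :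
      Submodule.span F₀ (Set.range ![u]) ≤ Submodule.span F₀ (Set.range ![w', w, u])) hmem)
  have hLmul : ∀ x ∈ L, ∀ y ∈ L, x * y ∈ L := by
    intro s hs t' ht' x y hx hy hxy
    by_cases hx0 : x = 0
    · subst hx0; rw [ratVec_zero]; exact Pr.zero_left _
    by_cases hyx : y ∈ Submodule.span F₀ {x}
    · obtain ⟨c, rfl⟩ := Submodule.mem_span_singleton.mp hyx
      rw [ratVec_smul, smul_smul]; exact Pr.self (S.val_zero hx) _
    have hg := (hs u w hu hw (hsw hwu)).2 (S.val_zero hu) (hs u w hu hw (hsw hwu)).1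
    have hm := (ht' w' v hw' hv (hsw hvw')).map hg
    have e1 : mat Q (siegelG Q (S.val_zero hu) (hs u w hu hw (hsw hwu)).1) *ᵥ ratVec F₀ w' =
        ratVec F₀ w' + (-s) • ratVec F₀ u := by
      rw [mat_siegelG]
      simp only [siegelMap, QuadraticMap.polar_smul_left, S.polar, hsw hw'u, QuadraticMap.polar_comm (⇑Q₀) w w',
        hw'w, ZeroMemClass.coe_zero, OneMemClass.coe_one, zero_smul, add_zero, mul_zero, sub_zero, smul_eq_mul, mul_one]
    have e2 : mat Q (siegelG Q (S.val_zero hu) (hs u w hu hw (hsw hwu)).1) *ᵥ (t' • ratVec F₀ v) =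
        t' • ratVec F₀ v := by
      rw [mat_siegelG]
      simp only [siegelMap, QuadraticMap.polar_smul_left, QuadraticMap.polar_smul_right, S.polar, hsw hvu,
        hsw hvw, ZeroMemClass.coe_zero, smul_zero, zero_smul, add_zero, mul_zero, sub_zero, neg_zero]
    rw [e1, e2] at hm
    have hX : Q (ratVec F₀ w' + (-s) • ratVec F₀ u) = 0 := by
      rw [WittQuad.val_smul_add, S.val_zero hw', S.val_zero hu, S.polar_zero hw'u]
      ring
    have hY : Q (t' • ratVec F₀ v) = 0 := by rw [QuadraticMap.map_smul, S.val_zero hv, smul_zero]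
    have hm1 := hm.swap hX hY
    have hm2 : Pr Q K (t' • ratVec F₀ v) (-ratVec F₀ w') := by
      refine Pr.scale_right (S.val_zero hv) ?_
      have := (ht' v w' hv hw' hvw').neg
      rwa [← smul_neg] at this
    have hm3 := (hm1.sub hm2).scale_left (S.val_zero hv)
    rw [show t' • (-(ratVec F₀ w' + (-s) • ratVec F₀ u) - -ratVec F₀ w') = (s * t') • ratVec F₀ u by module] at hm3
    have hliv : LinearIndependent F₀ ![v, u] → Pr Q K (ratVec F₀ x) ((s * t') • ratVec F₀ y) := fun hl =>
      S.pr_transitive hK hv hu hvu hl hx hy hxy (LinearIndependent.pair_iff.mpr fun c d h => by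
        by_cases hd : d = 0
        · subst hd
          rw [zero_smul, add_zero, smul_eq_zero] at h
          exact ⟨h.resolve_right hx0, rfl⟩
        · refine absurd (Submodule.mem_span_singleton.mpr ⟨-c / d, ?_⟩) hyx
          have : y = d⁻¹ • (-(c • x)) := by
            rw [show -(c • x) = d • y by linear_combination (norm := module) -h, smul_smul, inv_mul_cancel₀ hd,
              one_smul]
          rw [this]
          module) hm3
    exact hliv hlivu
  have hLall := eq_univ_of_mul_closed S.prime S.card hL₀ hLadd hLmul htL hat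
  have hcent : ∀ x, Q₀ x = 0 → ratVec F₀ x ∈ sCentres Q K := by
    intro x hx
    by_cases hx0 : x = 0
    · subst hx0
      rw [ratVec_zero]
      exact sCentres_of_zset (QuadraticMap.map_zero Q) fun z _ => ⟨QuadraticMap.polar_zero_left Q z,
        fun hu c hh => (Pr.zero_left (c • z)).2 hu hh⟩
    obtain ⟨e', he', he'v, -⟩ := exists_prescribed Q₀ hn₀ ![x] (LinearIndependent.of_subsingleton 0 (by simpa using hx0))
      ![1] (by omega)
    have hxe : QuadraticMap.polar (⇑Q₀) x e' = 1 := by rw [QuadraticMap.polar_comm]; exact he'v 0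
    refine sCentres_of_zset (S.val_zero hx) fun z hz => ?_
    have hall : ∀ z, z - QuadraticMap.polar (⇑Q) (ratVec F₀ x) z • ratVec F₀ e' ∈ zset Q K (ratVec F₀ x) := by
      intro z
      refine mem_of_ratVec (F₀ := F₀) (X := (zset Q K (ratVec F₀ x)).comap
        (LinearMap.id - (QuadraticMap.polarBilin Q (ratVec F₀ x)).smulRight (ratVec F₀ e'))) (fun y => ?_) z
      simp only [Submodule.mem_comap, LinearMap.sub_apply, LinearMap.id_apply, LinearMap.smulRight_apply,
        QuadraticMap.polarBilin_apply_apply]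
      rw [S.polar, ← ratVec_smul, ← ratVec_sub]
      have hxy : QuadraticMap.polar (⇑Q₀) x (y - QuadraticMap.polar (⇑Q₀) x y • e') = 0 := by
        rw [QuadraticMap.polar_sub_right, QuadraticMap.polar_smul_right, hxe, smul_eq_mul, mul_one, sub_self]
      refine ⟨S.polar_zero hxy, fun hu c hc => ?_⟩
      obtain ⟨s, s', hss, hs, hs', hxs, hxs'⟩ := exists_sing_split Q₀ hn₀ (by omega) hx hx0 hxy
      have := (hLall c x s hx hs hxs).add (hLall c x s' hx hs' hxs')
      rw [← smul_add, ← ratVec_add, ← hss] at this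
      exact this.2 hu hc
    simpa [hz] using hall z
  -- all singular vectors are centres
  rw [omega_eq_closure_all Q S.nondeg (by omega), Subgroup.closure_le]
  rintro _ ⟨v', z', hv', hvz', rfl⟩
  by_cases hv0 : v' = 0
  · subst hv0
    exact (Pr.zero_left z').2 hv' hvz'
  obtain ⟨f, hf, hf0⟩ : ∃ f, Q₀ f = 0 ∧ QuadraticMap.polar (⇑Q) v' (ratVec F₀ f) ≠ 0 := by
    by_contra hc
    push Not at hc
    refine hv0 (S.nondeg.1 v' fun x => ?_)
    refine LinearMap.congr_fun (ext_on_ratVec (F₀ := F₀) (f := QuadraticMap.polarBilin Q v') (g := 0) fun y => ?_) x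
    rw [QuadraticMap.polarBilin_apply_apply, LinearMap.zero_apply]
    by_cases hy : y = 0
    · rw [hy, ratVec_zero, QuadraticMap.polar_zero_right]
    obtain ⟨s, hs, hsv, -⟩ := exists_prescribed Q₀ hn₀ ![y] (LinearIndependent.of_subsingleton 0 (by simpa using hy))
      ![Q₀ y] (by omega)
    have e1 : QuadraticMap.polar (⇑Q₀) s y = Q₀ y := hsv 0
    have h2' : Q₀ (y - s) = 0 := by
      rw [sub_eq_add_neg, QuadraticMap.map_add (f := Q₀), QuadraticMap.map_neg, hs, QuadraticMap.polar_neg_right,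
        QuadraticMap.polar_comm, e1]
      simp
    rw [show ratVec F₀ y = ratVec F₀ (y - s) + ratVec F₀ s by rw [← ratVec_add, sub_add_cancel],
      QuadraticMap.polar_add_right, hc _ h2', hc _ hs, add_zero]
  have hf00 : f ≠ 0 := fun h => hf0 (by rw [h, ratVec_zero, QuadraticMap.polar_zero_right])
  obtain ⟨e', he', he'v, -⟩ := exists_prescribed Q₀ hn₀ ![f] (LinearIndependent.of_subsingleton 0 (by simpa using hf00))
    ![1] (by omega)
  have hfe : QuadraticMap.polar (⇑Q) (ratVec F₀ f) (ratVec F₀ e') = 1 := by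
    rw [S.polar, QuadraticMap.polar_comm, show QuadraticMap.polar (⇑Q₀) e' f = 1 from he'v 0]; rfl
  set c := QuadraticMap.polar (⇑Q) v' (ratVec F₀ f)
  set a' := QuadraticMap.polar (⇑Q) v' (ratVec F₀ e')
  set zz := v' - c • ratVec F₀ e' - a' • ratVec F₀ f with hzz
  have hfz : QuadraticMap.polar (⇑Q) (ratVec F₀ f) (c⁻¹ • zz) = 0 := by
    rw [QuadraticMap.polar_smul_right, hzz, QuadraticMap.polar_sub_right, QuadraticMap.polar_sub_right,
      QuadraticMap.polar_smul_right, QuadraticMap.polar_smul_right, hfe, QuadraticMap.polar_self, S.val_zero hf,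
      QuadraticMap.polar_comm (⇑Q) (ratVec F₀ f) v']
    simp
    exact Or.inr (sub_self _)
  have hg := (hcent f hf).2 _ hfz
  have hQz : Q zz = -(c * a') := by
    rw [hzz, show v' - c • ratVec F₀ e' - a' • ratVec F₀ f = v' + (-1 : F) • (c • ratVec F₀ e' + a' • ratVec F₀ f) by module,
      WittQuad.val_smul_add, hv', QuadraticMap.map_add (f := Q), QuadraticMap.map_smul, QuadraticMap.map_smul,
      S.val_zero he', S.val_zero hf, QuadraticMap.polar_smul_left, QuadraticMap.polar_smul_right,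
      QuadraticMap.polar_comm (⇑Q) (ratVec F₀ e'), hfe, QuadraticMap.polar_add_right, QuadraticMap.polar_smul_right,
      QuadraticMap.polar_smul_right]
    simp only [smul_eq_mul]
    ring
  have himg := sCentres_smul (sCentres_map (hcent e' he') hg) c
  rw [mat_siegelG] at himg
  have hzE : QuadraticMap.polar (⇑Q) zz (ratVec F₀ e') = 0 := by
    rw [hzz, QuadraticMap.polar_sub_left, QuadraticMap.polar_sub_left, QuadraticMap.polar_smul_left,
      QuadraticMap.polar_smul_left, QuadraticMap.polar_self, S.val_zero he', hfe]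
    simp
    exact sub_self _
  have e3 : c • siegelMap Q (ratVec F₀ f) (c⁻¹ • zz) (ratVec F₀ e') = v' := by
    simp only [siegelMap, hfe, QuadraticMap.polar_smul_left, hzE, smul_zero, neg_zero, zero_sub, QuadraticMap.map_smul,
      hQz, smul_eq_mul, mul_one, one_smul]
    rw [smul_add, smul_add, smul_smul, smul_smul, mul_inv_cancel₀ hf0, one_smul,
      show c * (-(c⁻¹ * 0) - c⁻¹ * c⁻¹ * -(c * a')) = a' by field_simp; ring]
    rw [hzz]
    module
  rw [e3] at himg
  exact himg.2 z' hvz'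

end Rat

end Cfsg.Lib.Classical.Refl
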