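import Mathlib
import Cfsg.Agent.Classical.Orth.SubfieldBase

/-!
An element of an overgroup of the rational group that maps a rational point to a rational point is rational, up to a
scalar; so is one that maps a rational root element to a rational element.
-/

set_option autoImplicit false
set_option linter.unusedSimpArgs false
set_option linter.unusedSectionVars false
set_option linter.style.haveILetI false
set_option linter.flexible false

namespace Cfsg.Lib.Classical.Refl

open Matrix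

universe u

variable {F : Type u} [Field F] [Finite F] {ι : Type} [Fintype ι] [DecidableEq ι] {F₀ : Subfield F}
  {Q : QuadraticForm F (ι → F)} {Q₀ : QuadraticForm F₀ (ι → F₀)} {r : ℕ}
  {K : Subgroup (Cfsg.isometryGroup F (⇑Q))}

theorem li_pair {E : Type*} [Field E] {V : Type*} [AddCommGroup V] [Module E V] {x y : V} (hx : x ≠ 0)
    (hy : y ∉ Submodule.span E {x}) : LinearIndependent E ![x, y] :=
  (LinearIndependent.pair_iff' hx).mpr fun a h => hy (Submodule.mem_span_singleton.mpr ⟨a, h⟩)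

omit [Finite F] in
theorem mat_inj (g : Cfsg.isometryGroup F (⇑Q)) {x y : ι → F} (h : mat Q g *ᵥ x = mat Q g *ᵥ y) : x = y := by
  rw [← mulVec_inv_cancel Q g x, h, mulVec_inv_cancel]

omit [Finite F] in
theorem mat_li (g : Cfsg.isometryGroup F (⇑Q)) {k : ℕ} {s : Fin k → (ι → F)} (h : LinearIndependent F s) :
    LinearIndependent F fun i => mat Q g *ᵥ s i := by
  have : Function.Injective (mat Q g).mulVecLin := fun x y e => mat_inj g (by simpa using e)
  exact h.map' _ (LinearMap.ker_eq_bot.mpr this)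

namespace Rat

variable (S : Rat Q Q₀ r) (hK : ∀ g ∈ Cfsg.Omega F₀ (⇑Q₀), S.lift g ∈ K) (hgood : Good Q Q₀ K)
include S hK hgood

omit hK hgood in
/-- Two commuting root elements on an isotropic plane. -/
theorem siegel_split {p v p' : ι → F₀} (hp : Q₀ p = 0) (hv : Q₀ v = 0) (hp' : Q₀ p' = 0)
    (hpv : QuadraticMap.polar (⇑Q₀) p v = 0) (hpp' : QuadraticMap.polar (⇑Q₀) p p' = 0)
    (hvp' : QuadraticMap.polar (⇑Q₀) v p' = 0) (a b : F) {P Z W : ι → F} (hP : P = ratVec F₀ p + a • ratVec F₀ v)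
    (hZ : Z = ratVec F₀ p' + b • ratVec F₀ v) (hW : W = a • ratVec F₀ p' + (-b) • ratVec F₀ p)
    (h1 : Q P = 0) (h2 : QuadraticMap.polar (⇑Q) P Z = 0) (h3 : QuadraticMap.polar (⇑Q) (ratVec F₀ v) W = 0) :
    siegelG Q h1 h2 = siegelG Q (S.val_zero hp) (S.polar_zero hpp') * siegelG Q (S.val_zero hv) h3 := by
  refine ext_mulVec Q fun x => ?_
  rw [mat_siegelG, mat, mulVec_mul]
  change _ = mat Q _ *ᵥ (mat Q _ *ᵥ x)
  rw [mat_siegelG, mat_siegelG]
  subst hP; subst hZ; subst hW
  have hswap : ∀ {x y : ι → F₀}, QuadraticMap.polar (⇑Q₀) x y = 0 → QuadraticMap.polar (⇑Q₀) y x = 0 :=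
    fun h => by rw [QuadraticMap.polar_comm]; exact h
  simp only [siegelMap, QuadraticMap.polar_add_left, QuadraticMap.polar_add_right, QuadraticMap.polar_smul_left,
    QuadraticMap.polar_smul_right, QuadraticMap.map_add (f := Q), QuadraticMap.map_smul, S.val_zero hp,
    S.val_zero hv, S.val_zero hp', S.polar_zero hpv, S.polar_zero hpp', S.polar_zero hvp', S.polar_zero (hswap hpv),
    S.polar_zero (hswap hpp'), S.polar_zero (hswap hvp'), QuadraticMap.polar_self, smul_eq_mul, mul_zero, zero_mul,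
    zero_add, add_zero, sub_zero, smul_zero, zero_smul]
  module

/-- An element mapping a rational singular point to a rational point is scaled rational. -/
theorem point {g : Cfsg.isometryGroup F (⇑Q)} (hg : g ∈ K) {u v : ι → F₀} (hu : Q₀ u = 0) (hu0 : u ≠ 0) {μ : F}
    (hgu : mat Q g *ᵥ ratVec F₀ u = μ • ratVec F₀ v) : RatScaled F₀ (mat Q g).mulVecLin := by
  classical
  haveI := S.finite₀
  have hn₀ := S.nondeg₀
  have hb := S.big
  -- general form of the first step
  have key : ∀ {u v : ι → F₀} {μ : F}, Q₀ u = 0 → u ≠ 0 → mat Q g *ᵥ ratVec F₀ u = μ • ratVec F₀ v →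
      μ ≠ 0 ∧ μ * μ ∈ F₀ ∧ ∀ w, QuadraticMap.polar (⇑Q₀) u w = 0 →
        ∃ p, μ • (mat Q g *ᵥ ratVec F₀ w) = ratVec F₀ p := by
    intro u v μ hu hu0 hgu
    have hμ : μ ≠ 0 := fun h => by
      rw [h, zero_smul, ← Matrix.mulVec_zero (mat Q g)] at hgu
      exact ratVec_ne_zero hu0 (mat_inj g hgu)
    have hv0 : v ≠ 0 := fun h => by
      rw [h, ratVec_zero, smul_zero, ← Matrix.mulVec_zero (mat Q g)] at hgu
      exact ratVec_ne_zero hu0 (mat_inj g hgu)
    have hvF : Q (ratVec F₀ v) = 0 := by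
      have h := (mem_iff Q).mp g.2 (ratVec F₀ u)
      rw [S.val_zero hu, show g.1.val *ᵥ ratVec F₀ u = μ • ratVec F₀ v from hgu, QuadraticMap.map_smul, smul_eq_mul,
        mul_eq_zero] at h
      exact h.resolve_left (mul_ne_zero hμ hμ)
    have hv : Q₀ v = 0 := by
      have := S.val v
      rw [hvF] at this
      exact Subtype.ext this.symm
    have step : ∀ w, QuadraticMap.polar (⇑Q₀) u w = 0 → ∃ (p : ι → F₀) (c : F),
        μ • (mat Q g *ᵥ ratVec F₀ w) = ratVec F₀ p + c • ratVec F₀ v ∧ QuadraticMap.polar (⇑Q₀) v p = 0 := by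
      intro w hw
      have h1 := (S.pr_rat hK hu hw).map hg
      rw [hgu] at h1
      have h2 := h1.scale_left hvF
      obtain ⟨p, c, hpc⟩ := hgood v _ hv hv0 h2
      refine ⟨p, c, hpc, Subtype.ext ?_⟩
      have h3 := h2.1
      rw [hpc, QuadraticMap.polar_add_right, QuadraticMap.polar_smul_right, QuadraticMap.polar_self, hvF, smul_zero,
        smul_zero, add_zero, S.polar] at h3
      exact h3
    have hone : LinearIndependent F₀ ![u] := LinearIndependent.of_subsingleton 0 (by simpa using hu0)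
    obtain ⟨w, hw, hwv, hwn⟩ := exists_prescribed Q₀ hn₀ _ hone ![0] (by omega)
    have huw : QuadraticMap.polar (⇑Q₀) u w = 0 := by rw [QuadraticMap.polar_comm]; exact hwv 0
    obtain ⟨y, -, hyv, -⟩ := exists_prescribed Q₀ hn₀ _ (li_cons hone hwn) ![1, 0] (by omega)
    have huy : QuadraticMap.polar (⇑Q₀) u y = 0 := by rw [QuadraticMap.polar_comm]; exact hyv 1
    have hyw : QuadraticMap.polar (⇑Q₀) y w = 1 := hyv 0
    have hμ2 : μ * μ ∈ F₀ := by
      obtain ⟨p, c, hp, hvp⟩ := step y huy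
      obtain ⟨p', c', hp', hvp'⟩ := step w huw
      have h := congrArg₂ (QuadraticMap.polar (⇑Q)) hp hp'
      rw [QuadraticMap.polar_smul_left, QuadraticMap.polar_smul_right, polar_act, S.polar, hyw,
        QuadraticMap.polar_add_left, QuadraticMap.polar_add_right, QuadraticMap.polar_add_right,
        QuadraticMap.polar_smul_left, QuadraticMap.polar_smul_left, QuadraticMap.polar_smul_right,
        QuadraticMap.polar_smul_right, QuadraticMap.polar_self, hvF, S.polar_zero hvp',
        QuadraticMap.polar_comm (⇑Q) (ratVec F₀ p) (ratVec F₀ v), S.polar_zero hvp, S.polar] at h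
      simp only [OneMemClass.coe_one, smul_eq_mul, mul_one, smul_zero, add_zero, mul_zero] at h
      rw [h]
      exact SetLike.coe_mem _
    refine ⟨hμ, hμ2, ?_⟩
    -- singular vectors outside the point
    have hsing : ∀ w, Q₀ w = 0 → QuadraticMap.polar (⇑Q₀) u w = 0 →
        ∃ p, μ • (mat Q g *ᵥ ratVec F₀ w) = ratVec F₀ p := by
      intro w hw huw
      by_cases hwu : w ∈ Submodule.span F₀ {u}
      · obtain ⟨j, rfl⟩ := Submodule.mem_span_singleton.mp hwu
        refine ⟨(j * ⟨μ * μ, hμ2⟩) • v, ?_⟩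
        rw [ratVec_smul, Matrix.mulVec_smul, hgu, ratVec_smul, smul_smul, smul_smul]
        congr 1
        push_cast
        ring
      have hli2 : LinearIndependent F₀ ![u, w] := li_pair hu0 hwu
      obtain ⟨x, hx, hxv, hxn⟩ := exists_prescribed Q₀ hn₀ _ hli2 ![0, 0] (by omega)
      have hxu : QuadraticMap.polar (⇑Q₀) x u = 0 := hxv 0
      have hxw : QuadraticMap.polar (⇑Q₀) x w = 0 := hxv 1
      have hwx : QuadraticMap.polar (⇑Q₀) w x = 0 := by rw [QuadraticMap.polar_comm]; exact hxw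
      obtain ⟨p, a, hp, hvp⟩ := step w huw
      obtain ⟨p', b, hp', hvp'⟩ := step x (by rw [QuadraticMap.polar_comm]; exact hxu)
      have hsq : ∀ {w p : ι → F₀} {a : F}, Q₀ w = 0 → μ • (mat Q g *ᵥ ratVec F₀ w) = ratVec F₀ p + a • ratVec F₀ v →
          QuadraticMap.polar (⇑Q₀) v p = 0 → Q₀ p = 0 := by
        intro w p a hw hp hvp
        have h := congrArg Q hp
        rw [QuadraticMap.map_smul, (mem_iff Q).mp g.2, S.val_zero hw, QuadraticMap.map_add (f := Q),
          QuadraticMap.map_smul, hvF, QuadraticMap.polar_smul_right,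
          QuadraticMap.polar_comm (⇑Q) (ratVec F₀ p) (ratVec F₀ v), S.polar_zero hvp, S.val] at h
        simp only [smul_zero, add_zero] at h
        exact Subtype.ext h.symm
      have hQp := hsq hw hp hvp
      have hQp' := hsq hx hp' hvp'
      have hpp' : QuadraticMap.polar (⇑Q₀) p p' = 0 := by
        have h := congrArg₂ (QuadraticMap.polar (⇑Q)) hp hp'
        rw [QuadraticMap.polar_smul_left, QuadraticMap.polar_smul_right, polar_act, S.polar_zero hwx,
          QuadraticMap.polar_add_left, QuadraticMap.polar_add_right, QuadraticMap.polar_add_right,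
          QuadraticMap.polar_smul_left, QuadraticMap.polar_smul_left, QuadraticMap.polar_smul_right,
          QuadraticMap.polar_smul_right, QuadraticMap.polar_self, hvF, S.polar_zero hvp',
          QuadraticMap.polar_comm (⇑Q) (ratVec F₀ p) (ratVec F₀ v), S.polar_zero hvp, S.polar] at h
        simp only [smul_zero, add_zero] at h
        exact Subtype.ext h.symm
      -- the root element of the image
      have hP : Pr Q K (μ • (mat Q g *ᵥ ratVec F₀ w)) (μ • (mat Q g *ᵥ ratVec F₀ x)) := by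
        refine Pr.scale_right (by rw [(mem_iff Q).mp g.2]; exact S.val_zero hw) ?_
        have := (S.pr_rat hK hw (w := (⟨μ * μ, hμ2⟩ : F₀) • x)
          (by rw [QuadraticMap.polar_smul_right, hwx, smul_zero])).map hg
        rw [ratVec_smul, Matrix.mulVec_smul] at this
        rwa [smul_smul]
      rw [hp, hp'] at hP
      set P := ratVec F₀ p + a • ratVec F₀ v with hPdef
      set Z := ratVec F₀ p' + b • ratVec F₀ v with hZdef
      have hQP : Q P = 0 := by
        rw [hPdef, QuadraticMap.map_add (f := Q), QuadraticMap.map_smul, hvF, S.val_zero hQp,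
          QuadraticMap.polar_smul_right, QuadraticMap.polar_comm (⇑Q) (ratVec F₀ p) (ratVec F₀ v), S.polar_zero hvp]
        simp
      set W := a • ratVec F₀ p' + (-b) • ratVec F₀ p with hWdef
      have hvW : QuadraticMap.polar (⇑Q) (ratVec F₀ v) W = 0 := by
        rw [hWdef, QuadraticMap.polar_add_right, QuadraticMap.polar_smul_right, QuadraticMap.polar_smul_right,
          S.polar_zero hvp', S.polar_zero hvp]
        simp
      have hsplit := S.siegel_split hQp hv hQp' (by rw [QuadraticMap.polar_comm]; exact hvp) hpp' hvp' a b hPdef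
        hZdef hWdef hQP hP.1 hvW
      have hmem := hP.2 hQP hP.1
      rw [hsplit] at hmem
      have hPW : Pr Q K (ratVec F₀ v) W := ⟨hvW, fun _ _ =>
        (K.mul_mem_cancel_left ((S.pr_rat hK hQp hpp').2 _ _)).mp hmem⟩
      obtain ⟨q, c, hq⟩ := hgood v W hv hv0 hPW
      -- the coefficient
      have hind : LinearIndependent F₀ ![v, p, p'] := by
        rw [Fintype.linearIndependent_iff]
        intro e he
        simp [Fin.sum_univ_three] at he
        have hF := congrArg (ratVec F₀) he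
        rw [ratVec_add, ratVec_add, ratVec_smul, ratVec_smul, ratVec_smul, ratVec_zero] at hF
        have hli3 : LinearIndependent F₀ ![x, u, w] := li_cons hli2 hxn
        have h0 : mat Q g *ᵥ ((((e 0 : F) - (e 1 : F) * a - (e 2 : F) * b) / μ) • ratVec F₀ u +
            ((e 1 : F) * μ) • ratVec F₀ w + ((e 2 : F) * μ) • ratVec F₀ x) = mat Q g *ᵥ 0 := by
          rw [Matrix.mulVec_zero, Matrix.mulVec_add, Matrix.mulVec_add, Matrix.mulVec_smul, Matrix.mulVec_smul,
            Matrix.mulVec_smul, hgu, ← smul_smul (e 1 : F) μ, ← smul_smul (e 2 : F) μ, hp, hp', smul_smul,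
            div_mul_cancel₀ _ hμ, hPdef, hZdef]
          linear_combination (norm := module) hF
        have hz := Fintype.linearIndependent_iff.mp (li_ratVec (F := F) hli3)
          ![(e 2 : F) * μ, ((e 0 : F) - (e 1 : F) * a - (e 2 : F) * b) / μ, (e 1 : F) * μ]
          (by simp [Fin.sum_univ_three]; linear_combination (norm := module) mat_inj g h0)
        have z2 : (e 2 : F) = 0 := (mul_eq_zero.mp (hz 0)).resolve_right hμ
        have z1 : (e 1 : F) = 0 := (mul_eq_zero.mp (hz 2)).resolve_right hμ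
        have z0 := hz 1
        simp [z1, z2, hμ] at z0
        intro i
        fin_cases i
        exacts [z0, Subtype.ext z1, Subtype.ext z2]
      obtain ⟨φ, hφ⟩ := exists_rat_dual hind 2
      have ha : a = ((φ q : F₀) : F) := by
        have h := congrArg (ratExt φ) (hWdef.symm.trans hq)
        have f0 : φ v = 0 := by simpa using hφ 0
        have f1 : φ p = 0 := by simpa using hφ 1
        have f2 : φ p' = 1 := by simpa using hφ 2
        simpa [map_add, map_smul, ratExt_apply, f0, f1, f2] using h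
      exact ⟨p + φ q • v, by rw [hp, ratVec_add, ratVec_smul, ← ha]⟩
    intro w huw
    obtain ⟨s, t, rfl, hs, ht, hus, hut⟩ := exists_sing_split Q₀ hn₀ (by omega) hu hu0 huw
    obtain ⟨p, hp⟩ := hsing s hs hus
    obtain ⟨p', hp'⟩ := hsing t ht hut
    exact ⟨p + p', by rw [ratVec_add, Matrix.mulVec_add, smul_add, hp, hp', ratVec_add]⟩
  obtain ⟨hμ, hμ2, hperp⟩ := key hu hu0 hgu
  have hone : LinearIndependent F₀ ![u] := LinearIndependent.of_subsingleton 0 (by simpa using hu0)
  obtain ⟨e, he, hev, hen⟩ := exists_prescribed Q₀ hn₀ _ hone ![1] (by omega)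
  have hue : QuadraticMap.polar (⇑Q₀) u e = 1 := by rw [QuadraticMap.polar_comm]; exact hev 0
  obtain ⟨w, hw, hwv, hwn⟩ := exists_prescribed Q₀ hn₀ _ (li_cons hone hen) ![0, 0] (by omega)
  have hw0 : w ≠ 0 := fun h => hwn (h ▸ Submodule.zero_mem _)
  obtain ⟨p, hp⟩ := hperp w (by rw [QuadraticMap.polar_comm]; exact hwv 1)
  obtain ⟨hμ', -, hperp'⟩ := key (u := w) (v := p) (μ := μ⁻¹) hw hw0
    (by rw [← hp, smul_smul, inv_mul_cancel₀ hμ, one_smul])
  obtain ⟨q, hq⟩ := hperp' e (hwv 0)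
  refine ⟨μ⁻¹, hμ', fun x => ?_⟩
  obtain ⟨p₁, hp₁⟩ := hperp (x - QuadraticMap.polar (⇑Q₀) u x • e) (by
    rw [QuadraticMap.polar_sub_right, QuadraticMap.polar_smul_right, hue, smul_eq_mul, mul_one, sub_self])
  refine ⟨p₁ + (QuadraticMap.polar (⇑Q₀) u x * ⟨μ * μ, hμ2⟩) • q, ?_⟩
  rw [Matrix.mulVecLin_apply, ratVec_add, ratVec_smul, ← hp₁, ← hq, ratVec_sub, ratVec_smul, Matrix.mulVec_sub,
    Matrix.mulVec_smul, Subfield.coe_mul]
  match_scalars <;> field_simp <;> ring

/-- An element conjugating a rational root element to a rational element is scaled rational. -/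
theorem of_exact_root {g : Cfsg.isometryGroup F (⇑Q)} (hg : g ∈ K) {u c : ι → F₀} (hu : Q₀ u = 0) (hc : Q₀ c = 0)
    (huc : QuadraticMap.polar (⇑Q₀) u c = 0) (hli : LinearIndependent F₀ ![u, c])
    (hex : RatExact F₀ (mat Q (g * siegelG Q (S.val_zero hu) (S.polar_zero huc) * g⁻¹)).mulVecLin) :
    RatScaled F₀ (mat Q g).mulVecLin := by
  classical
  haveI := S.finite₀
  have hn₀ := S.nondeg₀
  have hb := S.big
  -- the plane of a rational conjugate is spanned by rational vectors
  have hplane : ∀ {u c : ι → F₀} (hu : Q₀ u = 0) (hc : Q₀ c = 0) (huc : QuadraticMap.polar (⇑Q₀) u c = 0),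
      LinearIndependent F₀ ![u, c] →
      RatExact F₀ (mat Q (g * siegelG Q (S.val_zero hu) (S.polar_zero huc) * g⁻¹)).mulVecLin →
      Submodule.span F {mat Q g *ᵥ ratVec F₀ u, mat Q g *ᵥ ratVec F₀ c} ≤
        Submodule.span F (ratVec F₀ '' {l | ratVec F₀ l ∈
          Submodule.span F {mat Q g *ᵥ ratVec F₀ u, mat Q g *ᵥ ratVec F₀ c}}) := by
    intro u c hu hc huc hli hex
    set L := Submodule.span F {mat Q g *ᵥ ratVec F₀ u, mat Q g *ᵥ ratVec F₀ c}
    set R := Submodule.span F (ratVec F₀ '' {l | ratVec F₀ l ∈ L})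
    set h := g * siegelG Q (S.val_zero hu) (S.polar_zero huc) * g⁻¹ with hh
    have hmat : ∀ y, mat Q h *ᵥ y - y = QuadraticMap.polar (⇑Q) (mat Q g *ᵥ ratVec F₀ u) y • (mat Q g *ᵥ ratVec F₀ c) +
        (-QuadraticMap.polar (⇑Q) (mat Q g *ᵥ ratVec F₀ c) y) • (mat Q g *ᵥ ratVec F₀ u) := by
      intro y
      rw [hh, siegelG_conj, mat_siegelG]
      simp only [siegelMap, (mem_iff Q).mp g.2, S.val_zero hc, zero_mul, sub_zero]
      abel
    have hall : ∀ y, ((mat Q h).mulVecLin - LinearMap.id : (ι → F) →ₗ[F] (ι → F)) y ∈ R := mem_of_ratVec (F₀ := F₀)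
      (X := R.comap ((mat Q h).mulVecLin - LinearMap.id)) fun v => by
        show ((mat Q h).mulVecLin - LinearMap.id : (ι → F) →ₗ[F] (ι → F)) (ratVec F₀ v) ∈ R
        obtain ⟨p, hp⟩ := hex v
        simp only [LinearMap.sub_apply, LinearMap.id_apply, Matrix.mulVecLin_apply] at hp ⊢
        refine Submodule.subset_span ⟨p - v, ?_, by rw [ratVec_sub, hp]⟩
        show ratVec F₀ (p - v) ∈ L
        rw [ratVec_sub, ← hp, hmat]
        exact add_mem (L.smul_mem _ (Submodule.subset_span (by simp))) (L.smul_mem _ (Submodule.subset_span (by simp)))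
    have hall' : ∀ y, mat Q h *ᵥ y - y ∈ R := fun y => by simpa using hall y
    obtain ⟨e, -, hev, -⟩ := exists_prescribed Q₀ hn₀ _ hli ![1, 0] (by omega)
    obtain ⟨e', -, hev', -⟩ := exists_prescribed Q₀ hn₀ _ hli ![0, 1] (by omega)
    refine Submodule.span_le.mpr ?_
    rintro w (rfl | rfl)
    · have := hall' (mat Q g *ᵥ ratVec F₀ e')
      rw [hmat, polar_act, polar_act, S.polar, S.polar, QuadraticMap.polar_comm (⇑Q₀) u e',
        QuadraticMap.polar_comm (⇑Q₀) c e', show QuadraticMap.polar (⇑Q₀) e' u = 0 from hev' 0,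
        show QuadraticMap.polar (⇑Q₀) e' c = 1 from hev' 1] at this
      simpa using neg_mem this
    · have := hall' (mat Q g *ᵥ ratVec F₀ e)
      rw [hmat, polar_act, polar_act, S.polar, S.polar, QuadraticMap.polar_comm (⇑Q₀) u e,
        QuadraticMap.polar_comm (⇑Q₀) c e, show QuadraticMap.polar (⇑Q₀) e u = 1 from hev 0,
        show QuadraticMap.polar (⇑Q₀) e c = 0 from hev 1] at this
      simpa using this
  set Pl := Submodule.span F {mat Q g *ᵥ ratVec F₀ u, mat Q g *ᵥ ratVec F₀ c}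
  have hP := hplane hu hc huc hli hex
  have hGu : mat Q g *ᵥ ratVec F₀ u ≠ 0 := fun h => ratVec_ne_zero (hli.ne_zero 0)
    (mat_inj g (h.trans (Matrix.mulVec_zero _).symm))
  have hzero : ∀ l, ratVec F₀ l ∈ Pl → ∀ {y}, QuadraticMap.polar (⇑Q₀) u y = 0 → QuadraticMap.polar (⇑Q₀) c y = 0 →
      QuadraticMap.polar (⇑Q) (ratVec F₀ l) (mat Q g *ᵥ ratVec F₀ y) = 0 := by
    intro l hl y h1 h2
    obtain ⟨α, β, e⟩ := Submodule.mem_span_pair.mp hl
    rw [← e, QuadraticMap.polar_add_left, QuadraticMap.polar_smul_left, QuadraticMap.polar_smul_left, polar_act,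
      polar_act, S.polar_zero h1, S.polar_zero h2]
    simp
  -- two independent rational vectors of a rationally spanned plane
  have hpair : ∀ {A B : ι → F}, LinearIndependent F ![A, B] →
      Submodule.span F {A, B} ≤ Submodule.span F (ratVec F₀ '' {l | ratVec F₀ l ∈ Submodule.span F {A, B}}) →
      ∃ l₁ l₂, ratVec F₀ l₁ ∈ Submodule.span F {A, B} ∧ ratVec F₀ l₂ ∈ Submodule.span F {A, B} ∧
        LinearIndependent F₀ ![l₁, l₂] := by
    intro A B hAB hsp
    obtain ⟨l₁, hl₁, hl₁0⟩ : ∃ l, ratVec F₀ l ∈ Submodule.span F {A, B} ∧ l ≠ 0 := by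
      by_contra hc
      push Not at hc
      have h0 : A ∈ (⊥ : Submodule F (ι → F)) :=
        (hsp.trans (Submodule.span_le.mpr (by
          rintro _ ⟨l, hl, rfl⟩
          rw [hc l hl, ratVec_zero]
          exact Submodule.zero_mem _))) (Submodule.subset_span (by simp))
      exact hAB.ne_zero 0 ((Submodule.mem_bot F).mp h0)
    obtain ⟨l₂, hl₂, hl₂n⟩ : ∃ l, ratVec F₀ l ∈ Submodule.span F {A, B} ∧ l ∉ Submodule.span F₀ {l₁} := by
      by_contra hc
      push Not at hc
      have hle : Submodule.span F {A, B} ≤ Submodule.span F {ratVec F₀ l₁} := hsp.trans (Submodule.span_le.mpr (by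
        rintro _ ⟨l, hl, rfl⟩
        obtain ⟨j, rfl⟩ := Submodule.mem_span_singleton.mp (hc l hl)
        rw [ratVec_smul]
        exact Submodule.smul_mem _ _ (Submodule.mem_span_singleton_self _)))
      have h1 := (Submodule.finrank_mono hle).trans (finrank_span_singleton (ratVec_ne_zero (F₀ := F₀) hl₁0)).le
      rw [show ({A, B} : Set (ι → F)) = Set.range ![A, B] from (Matrix.range_cons_cons_empty _ _ _).symm,
        finrank_span_eq_card hAB, Fintype.card_fin] at h1
      omega
    exact ⟨l₁, l₂, hl₁, hl₂, li_pair hl₁0 hl₂n⟩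
  have hABli : ∀ {u c : ι → F₀}, LinearIndependent F₀ ![u, c] →
      LinearIndependent F ![mat Q g *ᵥ ratVec F₀ u, mat Q g *ᵥ ratVec F₀ c] := fun h => by
    convert mat_li g (li_ratVec (F := F) h) using 1
    funext i
    fin_cases i <;> rfl
  obtain ⟨l₁, l₂, hl₁, hl₂, hl12⟩ := hpair (hABli hli) hP
  -- a second plane
  have hcu : c ∉ Submodule.span F₀ (Set.range ![u]) := fun h => by
    obtain ⟨j, hj⟩ := Submodule.mem_span_singleton.mp (by simpa using h)
    exact one_ne_zero (neg_eq_zero.mp (LinearIndependent.pair_iff.mp hli j (-1) (by rw [hj]; module)).2)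
  obtain ⟨c₂, hc₂, hc₂v, hc₂n⟩ := exists_prescribed Q₀ hn₀ _ hli ![0, 0] (by omega)
  have huc₂ : QuadraticMap.polar (⇑Q₀) u c₂ = 0 := by rw [QuadraticMap.polar_comm]; exact hc₂v 0
  have hcc₂ : QuadraticMap.polar (⇑Q₀) c c₂ = 0 := by rw [QuadraticMap.polar_comm]; exact hc₂v 1
  have hli₂ : LinearIndependent F₀ ![u, c₂] := li_pair (hli.ne_zero 0) fun h => hc₂n
    ((Submodule.span_mono (by simp) : Submodule.span F₀ ({u} : Set _) ≤ _) h)
  have hl₁0 : l₁ ≠ 0 := hl12.ne_zero 0
  have hl₁s : Q₀ l₁ = 0 := by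
    obtain ⟨α, β, e⟩ := Submodule.mem_span_pair.mp hl₁
    have h := congrArg Q e
    rw [QuadraticMap.map_add (f := Q), QuadraticMap.map_smul, QuadraticMap.map_smul, (mem_iff Q).mp g.2,
      (mem_iff Q).mp g.2, S.val_zero hu, S.val_zero hc, QuadraticMap.polar_smul_left, QuadraticMap.polar_smul_right,
      polar_act, S.polar_zero huc, S.val] at h
    simp only [smul_zero, add_zero] at h
    exact Subtype.ext h.symm
  have huu : QuadraticMap.polar (⇑Q₀) u u = 0 := by rw [QuadraticMap.polar_self, hu, smul_zero]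
  have hfix : mat Q (g * siegelG Q (S.val_zero hu) (S.polar_zero huc₂) * g⁻¹) *ᵥ ratVec F₀ l₁ = ratVec F₀ l₁ := by
    rw [siegelG_conj, mat_siegelG]
    have e1 : QuadraticMap.polar (⇑Q) (mat Q g *ᵥ ratVec F₀ u) (ratVec F₀ l₁) = 0 := by
      rw [QuadraticMap.polar_comm]
      exact hzero l₁ hl₁ huu (by rw [QuadraticMap.polar_comm]; exact huc)
    have e2 : QuadraticMap.polar (⇑Q) (mat Q g *ᵥ ratVec F₀ c₂) (ratVec F₀ l₁) = 0 := by
      rw [QuadraticMap.polar_comm]
      exact hzero l₁ hl₁ huc₂ hcc₂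
    simp only [siegelMap, e1, e2, neg_zero, zero_smul, mul_zero, sub_zero, add_zero]
  have hmemK : g * siegelG Q (S.val_zero hu) (S.polar_zero huc₂) * g⁻¹ ∈ K :=
    K.mul_mem (K.mul_mem hg ((S.pr_rat hK hu huc₂).2 _ _)) (K.inv_mem hg)
  have hex₂ := (S.point hK hgood hmemK hl₁s hl₁0 (μ := 1) (v := l₁) (by rw [hfix, one_smul])).exact_of_fix
    hl₁0 (u₀ := l₁) (by rw [Matrix.mulVecLin_apply]; exact hfix)
  obtain ⟨l₃, l₄, hl₃, hl₄, hl34⟩ := hpair (hABli hli₂) (hplane hu hc₂ huc₂ hli₂ hex₂)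
  -- a rational vector on the common line
  set T := Submodule.span F (Set.range ![mat Q g *ᵥ ratVec F₀ u, mat Q g *ᵥ ratVec F₀ c, mat Q g *ᵥ ratVec F₀ c₂])
    with hT
  have hsub1 : Pl ≤ T := Submodule.span_le.mpr (by
    rintro w (rfl | rfl)
    exacts [Submodule.subset_span ⟨0, rfl⟩, Submodule.subset_span ⟨1, rfl⟩])
  have hsub2 : Submodule.span F {mat Q g *ᵥ ratVec F₀ u, mat Q g *ᵥ ratVec F₀ c₂} ≤ T := Submodule.span_le.mpr (by
    rintro w (rfl | rfl)
    exacts [Submodule.subset_span ⟨0, rfl⟩, Submodule.subset_span ⟨2, rfl⟩])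
  obtain ⟨e, he, ne⟩ : ∃ e : Fin 4 → F₀, ∑ i, e i • (![l₁, l₂, l₃, l₄] i) = 0 ∧ ∃ i, e i ≠ 0 := by
    refine Fintype.not_linearIndependent_iff.mp fun h4 => ?_
    have h := finrank_span_eq_card (li_ratVec (F := F) h4)
    rw [Fintype.card_fin] at h
    have hle : Submodule.span F (Set.range fun i => ratVec F₀ (![l₁, l₂, l₃, l₄] i)) ≤ T := Submodule.span_le.mpr (by
      rintro _ ⟨i, rfl⟩
      fin_cases i
      exacts [hsub1 hl₁, hsub1 hl₂, hsub2 hl₃, hsub2 hl₄])
    have h1 := Submodule.finrank_mono hle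
    have h2 : Module.finrank F T ≤ 3 := (finrank_range_le_card _).trans (Fintype.card_fin 3).le
    omega
  simp [Fin.sum_univ_four] at he
  set l := e 0 • l₁ + e 1 • l₂ with hl
  have hl0 : l ≠ 0 := fun h0 => by
    obtain ⟨z0, z1⟩ := LinearIndependent.pair_iff.mp hl12 (e 0) (e 1) h0
    rw [h0, zero_add] at he
    obtain ⟨z2, z3⟩ := LinearIndependent.pair_iff.mp hl34 (e 2) (e 3) he
    obtain ⟨i, hi⟩ := ne
    fin_cases i <;> contradiction
  have hlP : ratVec F₀ l ∈ Pl := by
    rw [hl, ratVec_add, ratVec_smul, ratVec_smul]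
    exact add_mem (Pl.smul_mem _ hl₁) (Pl.smul_mem _ hl₂)
  have hlP₂ : ratVec F₀ l ∈ Submodule.span F {mat Q g *ᵥ ratVec F₀ u, mat Q g *ᵥ ratVec F₀ c₂} := by
    rw [show l = -(e 2 • l₃ + e 3 • l₄) by rw [hl]; linear_combination (norm := module) he, ratVec_neg, ratVec_add,
      ratVec_smul, ratVec_smul]
    exact neg_mem (add_mem (Submodule.smul_mem _ _ hl₃) (Submodule.smul_mem _ _ hl₄))
  obtain ⟨α, β, h1⟩ := Submodule.mem_span_pair.mp hlP
  obtain ⟨α', β', h2⟩ := Submodule.mem_span_pair.mp hlP₂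
  have hli3 : LinearIndependent F₀ ![c₂, u, c] := li_cons hli hc₂n
  have h0 : mat Q g *ᵥ ((α - α') • ratVec F₀ u + β • ratVec F₀ c + (-β') • ratVec F₀ c₂) = mat Q g *ᵥ 0 := by
    rw [Matrix.mulVec_zero, Matrix.mulVec_add, Matrix.mulVec_add, Matrix.mulVec_smul, Matrix.mulVec_smul,
      Matrix.mulVec_smul]
    linear_combination (norm := module) h1 - h2
  have hz := Fintype.linearIndependent_iff.mp (li_ratVec (F := F) hli3) ![-β', α - α', β]
    (by simp [Fin.sum_univ_three]; linear_combination (norm := module) mat_inj g h0)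
  have hβ : β = 0 := hz 2
  rw [hβ, zero_smul, add_zero] at h1
  have hα : α ≠ 0 := fun h => ratVec_ne_zero (F₀ := F₀) hl0 (by rw [← h1, h, zero_smul])
  exact S.point hK hgood hg hu (hli.ne_zero 0) (μ := α⁻¹) (v := l)
    (by rw [← h1, smul_smul, inv_mul_cancel₀ hα, one_smul])

/-- An element mapping a rational isotropic plane into the perp of a rational point is scaled rational. -/
theorem of_orth {g : Cfsg.isometryGroup F (⇑Q)} (hg : g ∈ K) {u c a : ι → F₀} (hu : Q₀ u = 0) (hc : Q₀ c = 0)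
    (huc : QuadraticMap.polar (⇑Q₀) u c = 0) (hli : LinearIndependent F₀ ![u, c]) (ha : Q₀ a = 0) (ha0 : a ≠ 0)
    (hau : QuadraticMap.polar (⇑Q) (mat Q g *ᵥ ratVec F₀ u) (ratVec F₀ a) = 0)
    (hac : QuadraticMap.polar (⇑Q) (mat Q g *ᵥ ratVec F₀ c) (ratVec F₀ a) = 0) :
    RatScaled F₀ (mat Q g).mulVecLin := by
  have hfix : mat Q (g * siegelG Q (S.val_zero hu) (S.polar_zero huc) * g⁻¹) *ᵥ ratVec F₀ a = ratVec F₀ a := by
    rw [siegelG_conj, mat_siegelG]
    simp only [siegelMap, hau, hac, neg_zero, zero_smul, mul_zero, sub_zero, add_zero]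
  exact S.of_exact_root hK hgood hg hu hc huc hli ((S.point hK hgood
    (K.mul_mem (K.mul_mem hg ((S.pr_rat hK hu huc).2 _ _)) (K.inv_mem hg)) ha ha0 (μ := 1) (v := a)
    (by rw [hfix, one_smul])).exact_of_fix ha0 (u₀ := a) (by rw [Matrix.mulVecLin_apply]; exact hfix))

end Rat

end Cfsg.Lib.Classical.Refl
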