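import Cfsg.Agent.Classical.Orth.SubfieldPoint
import Cfsg.Agent.Classical.Misc.SLTwoGen

/-!
An element of a good overgroup of the rational group is scaled rational, in odd characteristic and odd degree: the
pairing of any root element of the overgroup with a rational one is rational, by Dickson's theorem on two unipotent
generators of `SL₂`.
-/

set_option autoImplicit false
set_option linter.unusedSimpArgs false
set_option linter.unusedSectionVars false
set_option linter.style.haveILetI false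
set_option linter.flexible false
set_option maxHeartbeats 1600000

namespace Cfsg.Lib.Classical.Refl

open Matrix
open scoped MatrixGroups

universe u

variable {F : Type u} [Field F] [Finite F] {ι : Type} [Fintype ι] [DecidableEq ι] {F₀ : Subfield F}
  {Q : QuadraticForm F (ι → F)} {Q₀ : QuadraticForm F₀ (ι → F₀)} {r : ℕ}
  {K : Subgroup (Cfsg.isometryGroup F (⇑Q))}

/-- The pairing of two root planes. -/
noncomputable def wedgePair (Q : QuadraticForm F (ι → F)) (U C x y : ι → F) : F :=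
  QuadraticMap.polar (⇑Q) x U * QuadraticMap.polar (⇑Q) y C -
    QuadraticMap.polar (⇑Q) x C * QuadraticMap.polar (⇑Q) y U

namespace Rat

variable (S : Rat Q Q₀ r) (hK : ∀ g ∈ Cfsg.Omega F₀ (⇑Q₀), S.lift g ∈ K) (hgood : Good Q Q₀ K)
include S

/-- A vector with rational products is rational. -/
theorem rat_of_polar (z : ι → F) (h : ∀ v : ι → F₀, QuadraticMap.polar (⇑Q) (ratVec F₀ v) z ∈ F₀) :
    ∃ p, z = ratVec F₀ p := by
  let φ : Module.Dual F₀ (ι → F₀) :=
    { toFun := fun v => ⟨_, h v⟩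
      map_add' := fun p q => Subtype.ext (by simp [ratVec_add, QuadraticMap.polar_add_left])
      map_smul' := fun b p => Subtype.ext (by
        simp [ratVec_smul, QuadraticMap.polar_smul_left, Subfield.smul_def]) }
  obtain ⟨w, hw⟩ := WittQuad.exists_partner_vec Q₀ S.nondeg₀ φ
  refine ⟨w, sub_eq_zero.mp (S.nondeg.2 _ fun x => ?_)⟩
  refine LinearMap.congr_fun (ext_on_ratVec (F₀ := F₀)
    (f := (QuadraticMap.polarBilin Q).flip (z - ratVec F₀ w)) (g := 0) fun v => ?_) x
  rw [LinearMap.flip_apply, LinearMap.zero_apply, QuadraticMap.polarBilin_apply_apply, QuadraticMap.polar_sub_right,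
    S.polar, congrArg Subtype.val (hw v)]
  exact sub_self _

include hK hgood

/-- A root element of the group pairs rationally with every rational one. -/
theorem pair_mem (h2 : (2 : F) ≠ 0) (hr2 : r ≠ 2) {u c : ι → F₀} (hu : Q₀ u = 0) (hc : Q₀ c = 0)
    (huc : QuadraticMap.polar (⇑Q₀) u c = 0) {U C : ι → F} (hU : Q U = 0) (hC : Q C = 0)
    (hUC : QuadraticMap.polar (⇑Q) U C = 0) (hmem : siegelG Q hU hUC ∈ K) :
    wedgePair Q U C (ratVec F₀ u) (ratVec F₀ c) ∈ F₀ := by
  classical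
  haveI := S.finite₀
  set e₁ := ratVec F₀ u with he₁
  set c' := ratVec F₀ c with hc'
  set uU := QuadraticMap.polar (⇑Q) e₁ U with huU
  set uC := QuadraticMap.polar (⇑Q) e₁ C with huC
  set cU := QuadraticMap.polar (⇑Q) c' U with hcU
  set cC := QuadraticMap.polar (⇑Q) c' C with hcC
  set t := wedgePair Q U C e₁ c' with ht
  have ht' : t = uU * cC - uC * cU := rfl
  by_cases ht0 : t = 0
  · rw [ht0]; exact F₀.zero_mem
  set κ := -t⁻¹ with hκ
  obtain ⟨e₂, he₂⟩ : ∃ f, f = κ • c' := ⟨_, rfl⟩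
  obtain ⟨f₁, hf₁⟩ : ∃ f, f = (t⁻¹ * cC) • U + (-(t⁻¹ * cU)) • C := ⟨_, rfl⟩
  obtain ⟨f₂, hf₂⟩ : ∃ f, f = uC • U + (-uU) • C := ⟨_, rfl⟩
  have hone : t⁻¹ * (uU * cC - uC * cU) = 1 := by rw [← ht']; exact inv_mul_cancel₀ ht0
  have hpc : ∀ x y, QuadraticMap.polar (⇑Q) x y = QuadraticMap.polar (⇑Q) y x := fun x y =>
    QuadraticMap.polar_comm _ x y
  have hss : ∀ {x : ι → F}, Q x = 0 → QuadraticMap.polar (⇑Q) x x = 0 := fun h => by
    rw [QuadraticMap.polar_self, h, smul_zero]
  have p11 : QuadraticMap.polar (⇑Q) e₁ e₁ = 0 := hss (S.val_zero hu)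
  have pcc : QuadraticMap.polar (⇑Q) c' c' = 0 := hss (S.val_zero hc)
  have p1c : QuadraticMap.polar (⇑Q) e₁ c' = 0 := S.polar_zero huc
  have pUU := hss hU
  have pCC := hss hC
  have g11 : QuadraticMap.polar (⇑Q) e₁ f₁ = 1 := by
    rw [hf₁, QuadraticMap.polar_add_right, QuadraticMap.polar_smul_right, QuadraticMap.polar_smul_right, ← huU, ← huC,
      smul_eq_mul, smul_eq_mul]
    linear_combination hone
  have g12 : QuadraticMap.polar (⇑Q) e₁ f₂ = 0 := by
    rw [hf₂, QuadraticMap.polar_add_right, QuadraticMap.polar_smul_right, QuadraticMap.polar_smul_right, ← huU, ← huC,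
      smul_eq_mul, smul_eq_mul]
    ring
  have g21 : QuadraticMap.polar (⇑Q) e₂ f₁ = 0 := by
    rw [he₂, hf₁, QuadraticMap.polar_smul_left, QuadraticMap.polar_add_right, QuadraticMap.polar_smul_right,
      QuadraticMap.polar_smul_right, ← hcU, ← hcC, smul_eq_mul, smul_eq_mul, smul_eq_mul]
    ring
  have g22 : QuadraticMap.polar (⇑Q) e₂ f₂ = 1 := by
    rw [he₂, hf₂, QuadraticMap.polar_smul_left, QuadraticMap.polar_add_right, QuadraticMap.polar_smul_right,
      QuadraticMap.polar_smul_right, ← hcU, ← hcC, smul_eq_mul, smul_eq_mul, smul_eq_mul, hκ]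
    linear_combination hone
  have q12 : QuadraticMap.polar (⇑Q) e₁ e₂ = 0 := by rw [he₂, QuadraticMap.polar_smul_right, p1c, smul_zero]
  have q22 : QuadraticMap.polar (⇑Q) e₂ e₂ = 0 := by
    rw [he₂, QuadraticMap.polar_smul_left, QuadraticMap.polar_smul_right, pcc, smul_zero, smul_zero]
  have hff : ∀ a b a' b' : F, QuadraticMap.polar (⇑Q) (a • U + b • C) (a' • U + b' • C) = 0 := fun a b a' b' => by
    simp only [QuadraticMap.polar_add_left, QuadraticMap.polar_add_right, QuadraticMap.polar_smul_left,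
      QuadraticMap.polar_smul_right, pUU, pCC, hUC, hpc C U, smul_zero, add_zero]
  have r11 : QuadraticMap.polar (⇑Q) f₁ f₁ = 0 := by rw [hf₁]; exact hff _ _ _ _
  have r12 : QuadraticMap.polar (⇑Q) f₁ f₂ = 0 := by rw [hf₁, hf₂]; exact hff _ _ _ _
  have r22 : QuadraticMap.polar (⇑Q) f₂ f₂ = 0 := by rw [hf₂]; exact hff _ _ _ _
  have g11' : QuadraticMap.polar (⇑Q) f₁ e₁ = 1 := (hpc _ _).trans g11
  have g12' : QuadraticMap.polar (⇑Q) f₂ e₁ = 0 := (hpc _ _).trans g12
  have g21' : QuadraticMap.polar (⇑Q) f₁ e₂ = 0 := (hpc _ _).trans g21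
  have g22' : QuadraticMap.polar (⇑Q) f₂ e₂ = 1 := (hpc _ _).trans g22
  have q12' : QuadraticMap.polar (⇑Q) e₂ e₁ = 0 := (hpc _ _).trans q12
  have r12' : QuadraticMap.polar (⇑Q) f₂ f₁ = 0 := (hpc _ _).trans r12
  -- the action of a two by two matrix
  let E : Subfield F := Subfield.closure {-t}
  let Φ : SL(2, E) → (ι → F) → (ι → F) := fun M x =>
    x + ((((M.1 0 0 : E) : F) - 1) * QuadraticMap.polar (⇑Q) f₂ x +
        ((M.1 0 1 : E) : F) * QuadraticMap.polar (⇑Q) e₁ x) • e₂ +
      (((M.1 1 0 : E) : F) * QuadraticMap.polar (⇑Q) f₂ x +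
        (((M.1 1 1 : E) : F) - 1) * QuadraticMap.polar (⇑Q) e₁ x) • f₁ +
      ((((M.1 0 0 : E) : F) - 1) * QuadraticMap.polar (⇑Q) f₁ x -
        ((M.1 0 1 : E) : F) * QuadraticMap.polar (⇑Q) e₂ x) • e₁ +
      (-((M.1 1 0 : E) : F) * QuadraticMap.polar (⇑Q) f₁ x +
        (((M.1 1 1 : E) : F) - 1) * QuadraticMap.polar (⇑Q) e₂ x) • f₂
  have hΦ1 : ∀ x, Φ 1 x = x := fun x => by simp [Φ]
  have hΦm : ∀ M N : SL(2, E), ∀ x, Φ (M * N) x = Φ M (Φ N x) := by
    intro M N x
    have hmul : ∀ i j : Fin 2, (((M * N).1 i j : E) : F) =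
        ((M.1 i 0 : E) : F) * ((N.1 0 j : E) : F) + ((M.1 i 1 : E) : F) * ((N.1 1 j : E) : F) := fun i j => by
      rw [show (M * N).1 = M.1 * N.1 from Matrix.SpecialLinearGroup.coe_mul M N, Matrix.mul_apply, Fin.sum_univ_two,
        Subfield.coe_add, Subfield.coe_mul, Subfield.coe_mul]
    simp only [Φ, hmul,
      QuadraticMap.polar_add_right, QuadraticMap.polar_smul_right, p11, q12, q12', q22, g11, g12, g21, g22, g11', g12',
      g21', g22', r11, r12, r12', r22, smul_eq_mul, mul_zero, mul_one, add_zero, zero_add]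
    match_scalars <;> ring
  let H : Subgroup SL(2, E) :=
    { carrier := {M | ∃ k ∈ K, ∀ x, mat Q k *ᵥ x = Φ M x}
      mul_mem' := by
        rintro M N ⟨k, hk, hkx⟩ ⟨l, hl, hlx⟩
        exact ⟨k * l, K.mul_mem hk hl, fun x => by rw [hΦm, ← hlx, ← hkx]; exact mulVec_mul Q k l x⟩
      one_mem' := ⟨1, K.one_mem, fun x => by rw [hΦ1]; exact Matrix.one_mulVec x⟩
      inv_mem' := by
        rintro M ⟨k, hk, hkx⟩
        refine ⟨k⁻¹, K.inv_mem hk, fun x => ?_⟩
        have e : Φ M (mat Q k⁻¹ *ᵥ x) = x := by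
          rw [← hkx, ← mulVec_mul Q k k⁻¹ x, mul_inv_cancel]
          exact Matrix.one_mulVec x
        conv_rhs => rw [← e, ← hΦm, inv_mul_cancel, hΦ1] }
  let l : E := ⟨-t, Subfield.subset_closure (Set.mem_singleton _)⟩
  have hlow : SLTwoGen.gl1 ∈ H := by
    refine ⟨_, hmem, fun x => ?_⟩
    rw [mat_siegelG]
    simp only [Φ, siegelMap, hC, zero_mul, sub_zero, SLTwoGen.gl1, PSLFour.sl_val, Subfield.coe_zero,
      Subfield.coe_one, sub_self, zero_add, add_zero, one_mul, zero_smul, sub_zero]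
    rw [hf₁, hf₂]
    simp only [QuadraticMap.polar_add_left, QuadraticMap.polar_smul_left, smul_eq_mul]
    have e : t⁻¹ * (uU * cC - uC * cU) = 1 := by rw [← ht']; exact inv_mul_cancel₀ ht0
    match_scalars <;> first
      | ring1
      | linear_combination (QuadraticMap.polar (⇑Q) C x) * e
      | linear_combination -(QuadraticMap.polar (⇑Q) C x) * e
      | linear_combination (QuadraticMap.polar (⇑Q) U x) * e
      | linear_combination -(QuadraticMap.polar (⇑Q) U x) * e
  have hup : SLTwoGen.gu l ∈ H := by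
    refine ⟨_, (S.pr_rat hK hu huc).2 (S.val_zero hu) (S.polar_zero huc), fun x => ?_⟩
    rw [mat_siegelG]
    simp only [Φ, siegelMap, S.val_zero hc, zero_mul, sub_zero, SLTwoGen.gu, PSLFour.sl_val, Subfield.coe_zero,
      Subfield.coe_one, sub_self, zero_add, add_zero, zero_smul, neg_zero]
    simp only [he₁, hc', he₂, QuadraticMap.polar_smul_left, smul_eq_mul]
    rw [show ((l : E) : F) = -t from rfl, hκ]
    match_scalars <;> (try field_simp) <;> (try ring)
  have hgenE : Subfield.closure ({l} : Set E) = ⊤ := by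
    refine eq_top_iff.mpr fun x _ => ?_
    have hx : (x : F) ∈ (Subfield.closure ({l} : Set E)).map E.subtype := by
      rw [RingHom.map_field_closure, Set.image_singleton]
      exact x.2
    obtain ⟨y, hy, e⟩ := hx
    rwa [show x = y from Subtype.ext e.symm]
  have h2E : (2 : E) ≠ 0 := fun h => h2 (by rw [← map_ofNat E.subtype 2, h, map_zero])
  have hl0 : l ≠ 0 := fun h => ht0 (neg_eq_zero.mp (congrArg Subtype.val h))
  haveI : Finite E := Finite.of_injective _ Subtype.val_injective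
  haveI := Fintype.ofFinite E
  rcases SLTwoGen.dickson_gen h2E l hl0 hgenE with ⟨htop, -⟩ | ⟨-, hl2, -⟩
  swap
  · refine mem_of_sq_mem S.prime hr2 S.card ?_
    have h := congrArg Subtype.val hl2
    simp [l] at h
    rw [show t * t = -1 by linear_combination h]
    exact F₀.neg_mem F₀.one_mem
  have hle : SLTwoGen.gen l ≤ H := (Subgroup.closure_le H).mpr (by
    rintro _ (rfl | rfl)
    exacts [hlow, hup])
  obtain ⟨k, hk, hkx⟩ := hle (htop ▸ Subgroup.mem_top (SLTwoGen.gu (1 : E)))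
  by_cases hu0 : u = 0
  · exact absurd (by simp [ht, wedgePair, he₁, hu0, ratVec_zero]) ht0
  have hpr : Pr Q K e₁ (κ • c') := by
    refine ⟨he₂ ▸ q12, fun hh hp => ?_⟩
    convert hk using 1
    refine ext_mulVec Q fun x => ?_
    rw [hkx, mat_siegelG]
    simp only [Φ, siegelMap, he₁, hc', he₂, QuadraticMap.map_smul, S.val_zero hc, smul_zero, zero_mul, sub_zero, SLTwoGen.gu,
      PSLFour.sl_val, Subfield.coe_zero, Subfield.coe_one, sub_self, zero_add, add_zero, zero_smul, neg_zero,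
      one_mul]
    match_scalars <;> ring
  obtain ⟨w, d, hwd⟩ := hgood u _ hu hu0 hpr
  by_cases hli : c ∈ Submodule.span F₀ {u}
  · obtain ⟨a, rfl⟩ := Submodule.mem_span_singleton.mp hli
    exfalso
    apply ht0
    simp [ht, wedgePair, he₁, hc', ratVec_smul, QuadraticMap.polar_smul_left]
    ring
  obtain ⟨φ, hφ⟩ := exists_rat_dual (li_pair hu0 hli) 1
  have h := congrArg (ratExt φ) hwd
  rw [hc', map_add, map_smul, map_smul, ratExt_apply, ratExt_apply, ratExt_apply, show φ c = 1 from hφ 1,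
    show φ u = 0 from hφ 0, smul_eq_mul, smul_eq_mul] at h
  simp only [OneMemClass.coe_one, ZeroMemClass.coe_zero, mul_one, mul_zero, add_zero] at h
  have hκF : κ ∈ F₀ := h ▸ SetLike.coe_mem _
  have : t = -κ⁻¹ := by rw [hκ, inv_neg, inv_inv, neg_neg]
  rw [this]
  exact F₀.neg_mem (F₀.inv_mem hκF)

/-- A root element of the group is rational. -/
theorem root_exact (h2 : (2 : F) ≠ 0) (hr2 : r ≠ 2) {U C : ι → F} (hU : Q U = 0) (hC : Q C = 0)
    (hUC : QuadraticMap.polar (⇑Q) U C = 0) (hmem : siegelG Q hU hUC ∈ K) :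
    RatExact F₀ (mat Q (siegelG Q hU hUC)).mulVecLin := by
  classical
  haveI := S.finite₀
  have hn₀ := S.nondeg₀
  have hb := S.big
  set B : (ι → F₀) → (ι → F₀) → F := fun x y => wedgePair Q U C (ratVec F₀ x) (ratVec F₀ y) with hB
  have hanti : ∀ x y, B y x = -B x y := fun x y => by simp only [hB, wedgePair]; ring
  have haddr : ∀ x y z, B x (y + z) = B x y + B x z := fun x y z => by
    simp only [hB, wedgePair, ratVec_add, QuadraticMap.polar_add_left]; ring
  have haddl : ∀ x y z, B (x + y) z = B x z + B y z := fun x y z => by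
    simp only [hB, wedgePair, ratVec_add, QuadraticMap.polar_add_left]; ring
  have hsmulr : ∀ (a : F₀) x y, B x (a • y) = (a : F) * B x y := fun a x y => by
    simp only [hB, wedgePair, ratVec_smul, QuadraticMap.polar_smul_left, smul_eq_mul]; ring
  have hperp : ∀ {x y}, Q₀ x = 0 → Q₀ y = 0 → QuadraticMap.polar (⇑Q₀) x y = 0 → B x y ∈ F₀ := fun hx hy hxy =>
    S.pair_mem hK hgood h2 hr2 hx hy hxy hU hC hUC hmem
  have hperp' : ∀ {x z}, Q₀ x = 0 → QuadraticMap.polar (⇑Q₀) x z = 0 → B x z ∈ F₀ := fun {x z} hx hxz => by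
    by_cases hx0 : x = 0
    · subst hx0
      simp [hB, wedgePair, ratVec_zero]
    obtain ⟨s, t, rfl, hs, ht, hus, hut⟩ := exists_sing_split Q₀ hn₀ (by omega) hx hx0 hxz
    rw [haddr]
    exact F₀.add_mem (hperp hx hs hus) (hperp hx ht hut)
  have h20 : (2 : F₀) ≠ 0 := fun h => h2 (by rw [← map_ofNat F₀.subtype 2, h, map_zero])
  -- a hyperbolic pair
  have hhyp : ∀ {x e}, Q₀ x = 0 → Q₀ e = 0 → QuadraticMap.polar (⇑Q₀) x e = 1 → B x e ∈ F₀ := by
    intro x e hx he hxe
    have hex : QuadraticMap.polar (⇑Q₀) e x = 1 := by rw [QuadraticMap.polar_comm]; exact hxe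
    have hx0 : x ≠ 0 := fun h => by rw [h, QuadraticMap.polar_zero_left] at hxe; exact zero_ne_one hxe
    have hn : e ∉ Submodule.span F₀ {x} := fun h => by
      obtain ⟨a, rfl⟩ := Submodule.mem_span_singleton.mp h
      rw [QuadraticMap.polar_smul_right, QuadraticMap.polar_self, hx, smul_zero, smul_zero] at hxe
      exact zero_ne_one hxe
    have l2 := li_pair hx0 hn
    have hrad := rad_pair_le Q₀ _ l2 (i := 0) (j := 1)
      (by show QuadraticMap.polar (⇑Q₀) e e = 0; rw [QuadraticMap.polar_self, he, smul_zero])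
      (by show QuadraticMap.polar (⇑Q₀) x e ≠ 0; rw [hxe]; exact one_ne_zero)
    obtain ⟨b, hb', hbv, hbn⟩ := exists_prescribed_rad Q₀ hn₀ _ l2 ![0, 0] (by omega)
    have l3 := li_cons l2 hbn
    obtain ⟨b', hb'', hbv', -⟩ := exists_prescribed_rad Q₀ hn₀ _ l3 ![-1, 0, 0] (by
      have h3 := rad_pair_le Q₀ _ l3 (i := 1) (j := 2)
        (by show QuadraticMap.polar (⇑Q₀) e e = 0; rw [QuadraticMap.polar_self, he, smul_zero])
        (by show QuadraticMap.polar (⇑Q₀) x e ≠ 0; rw [hxe]; exact one_ne_zero)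
      omega)
    have b1 : QuadraticMap.polar (⇑Q₀) b x = 0 := hbv 0
    have b2 : QuadraticMap.polar (⇑Q₀) b e = 0 := hbv 1
    have b3 : QuadraticMap.polar (⇑Q₀) b' b = -1 := hbv' 0
    have b4 : QuadraticMap.polar (⇑Q₀) b' x = 0 := hbv' 1
    have b5 : QuadraticMap.polar (⇑Q₀) b' e = 0 := hbv' 2
    have c1 : QuadraticMap.polar (⇑Q₀) x b = 0 := by rw [QuadraticMap.polar_comm]; exact b1
    have c2 : QuadraticMap.polar (⇑Q₀) e b = 0 := by rw [QuadraticMap.polar_comm]; exact b2
    have c3 : QuadraticMap.polar (⇑Q₀) b b' = -1 := by rw [QuadraticMap.polar_comm]; exact b3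
    have c4 : QuadraticMap.polar (⇑Q₀) x b' = 0 := by rw [QuadraticMap.polar_comm]; exact b4
    have c5 : QuadraticMap.polar (⇑Q₀) e b' = 0 := by rw [QuadraticMap.polar_comm]; exact b5
    have k1 := hperp (x := x + b) (y := e + b')
      (by rw [QuadraticMap.map_add (f := Q₀), hx, hb', c1, add_zero, add_zero])
      (by rw [QuadraticMap.map_add (f := Q₀), he, hb'', c5, add_zero, add_zero])
      (by simp only [QuadraticMap.polar_add_left, QuadraticMap.polar_add_right, hxe, c4, b2, c3]; ring)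
    have k2 := hperp (x := x + b') (y := e + b)
      (by rw [QuadraticMap.map_add (f := Q₀), hx, hb'', c4, add_zero, add_zero])
      (by rw [QuadraticMap.map_add (f := Q₀), he, hb', c2, add_zero, add_zero])
      (by simp only [QuadraticMap.polar_add_left, QuadraticMap.polar_add_right, hxe, c1, b5, b3]; ring)
    simp only [haddl, haddr] at k1 k2
    rw [hanti b b'] at k2
    have m1 := hperp hx hb'' c4
    have m2 := hperp hx hb' c1
    have m3 := hperp hb' he b2
    have m4 := hperp hb'' he b5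
    have h := F₀.sub_mem (F₀.sub_mem (F₀.add_mem k1 k2) (F₀.add_mem m1 m2)) (F₀.add_mem m3 m4)
    have e2 : (2 : F) * B x e ∈ F₀ := by convert h using 1; ring
    have := F₀.mul_mem (F₀.inv_mem (show (2 : F) ∈ F₀ from ofNat_mem F₀ 2)) e2
    rwa [← mul_assoc, inv_mul_cancel₀ h2, one_mul] at this
  have hsing : ∀ {x}, Q₀ x = 0 → ∀ v, B x v ∈ F₀ := by
    intro x hx v
    by_cases hx0 : x = 0
    · exact hperp' hx (by rw [hx0, QuadraticMap.polar_zero_left])
    obtain ⟨e, he, hev, -⟩ := exists_prescribed Q₀ hn₀ ![x] (LinearIndependent.of_subsingleton 0 (by simpa using hx0))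
      ![1] (by omega)
    have hxe : QuadraticMap.polar (⇑Q₀) x e = 1 := by rw [QuadraticMap.polar_comm]; exact hev 0
    have hw : QuadraticMap.polar (⇑Q₀) x (v - QuadraticMap.polar (⇑Q₀) x v • e) = 0 := by
      rw [QuadraticMap.polar_sub_right, QuadraticMap.polar_smul_right, hxe, smul_eq_mul, mul_one, sub_self]
    have := F₀.add_mem (hperp' hx hw) (F₀.mul_mem (QuadraticMap.polar (⇑Q₀) x v).2 (hhyp hx he hxe))
    rwa [← hsmulr, ← haddr, sub_add_cancel] at this
  obtain ⟨u, -, hu0, hu⟩ := exists_singular Q₀ (⊤ : Submodule F₀ (ι → F₀))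
    (by rw [finrank_top, Module.finrank_fintype_fun_eq_card]; omega)
  obtain ⟨e, he, hev, -⟩ := exists_prescribed Q₀ hn₀ ![u] (LinearIndependent.of_subsingleton 0 (by simpa using hu0))
    ![1] (by omega)
  have hue : QuadraticMap.polar (⇑Q₀) u e = 1 := by rw [QuadraticMap.polar_comm]; exact hev 0
  have hall : ∀ x v, B x v ∈ F₀ := by
    intro x v
    have hw : QuadraticMap.polar (⇑Q₀) u (x - QuadraticMap.polar (⇑Q₀) u x • e) = 0 := by
      rw [QuadraticMap.polar_sub_right, QuadraticMap.polar_smul_right, hue, smul_eq_mul, mul_one, sub_self]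
    obtain ⟨s, t, hst, hs, ht, -, -⟩ := exists_sing_split Q₀ hn₀ (by omega) hu hu0 hw
    have hxe : x = s + (t + QuadraticMap.polar (⇑Q₀) u x • e) := by rw [← add_assoc, ← hst, sub_add_cancel]
    rw [hxe, haddl, haddl]
    exact F₀.add_mem (hsing hs v) (F₀.add_mem (hsing ht v)
      (hsing (by rw [QuadraticMap.map_smul, he, smul_zero]) v))
  intro x
  obtain ⟨p, hp⟩ := S.rat_of_polar (mat Q (siegelG Q hU hUC) *ᵥ ratVec F₀ x) fun v => by
    rw [mat_siegelG]
    simp only [siegelMap, hC, zero_mul, sub_zero, QuadraticMap.polar_add_right, QuadraticMap.polar_smul_right, S.polar]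
    have h := F₀.add_mem (QuadraticMap.polar (⇑Q₀) v x).2 (hall x v)
    convert h using 1
    simp only [hB, wedgePair, smul_eq_mul, QuadraticMap.polar_comm (⇑Q) U, QuadraticMap.polar_comm (⇑Q) C]
    ring
  exact ⟨p, hp⟩

end Rat

end Cfsg.Lib.Classical.Refl
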