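import Mathlib
import Cfsg.Prelude.Def_GeometricClasses
import Cfsg.Agent.Classical.MaxBridge
import Cfsg.Agent.Classical.Orth.SubfieldPoint
import Cfsg.Agent.Classical.Orth.SubfieldSmall
import Cfsg.Agent.Classical.Orth.PairPerp
import Cfsg.Agent.Classical.Subfield.InvolutionGen
import Cfsg.Agent.Classical.Subfield.LinearMain
import Cfsg.Agent.Classical.Misc.Dickson
import Cfsg.Agent.Classical.Misc.Spinor

/-! The subfield subgroup of `Ω` is maximal. -/

set_option autoImplicit false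
set_option linter.unusedSimpArgs false
set_option linter.unusedSectionVars false
set_option linter.unusedVariables false
set_option linter.style.haveILetI false
set_option linter.flexible false

namespace Cfsg.Lib.Classical.Refl

open Matrix
open scoped commutatorElement

universe u

variable {F : Type u} [Field F] [Finite F] {ι : Type} [Fintype ι] [DecidableEq ι] {F₀ : Subfield F}
  {Q : QuadraticForm F (ι → F)} {Q₀ : QuadraticForm F₀ (ι → F₀)} {r : ℕ}
  {K : Subgroup (Cfsg.isometryGroup F (⇑Q))}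

/-- An isometry as a linear automorphism. -/
noncomputable def toLin (Q : QuadraticForm F (ι → F)) : Cfsg.isometryGroup F (⇑Q) →* ((ι → F) ≃ₗ[F] (ι → F)) :=
  (linToGL ι F).symm.toMonoidHom.comp (Cfsg.isometryGroup F (⇑Q)).subtype

omit [Finite F] in
theorem toLin_apply (g : Cfsg.isometryGroup F (⇑Q)) (x : ι → F) : toLin Q g x = mat Q g *ᵥ x := rfl

omit [Finite F] in
theorem toLin_injective : Function.Injective (toLin Q) := fun g h e =>
  ext_mulVec Q fun x => by rw [← toLin_apply, e, toLin_apply]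

omit [Finite F] in
theorem toLin_linear (g : Cfsg.isometryGroup F (⇑Q)) : (toLin Q g).toLinearMap = (mat Q g).mulVecLin :=
  LinearMap.ext fun x => rfl

/-- The displacement space of an isometry. -/
def disp (g : Cfsg.isometryGroup F (⇑Q)) : Submodule F (ι → F) :=
  LinearMap.range ((mat Q g).mulVecLin - LinearMap.id)

/-- The fixed space of an isometry. -/
def fixd (g : Cfsg.isometryGroup F (⇑Q)) : Submodule F (ι → F) :=
  LinearMap.ker ((mat Q g).mulVecLin - LinearMap.id)

omit [Finite F] in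
theorem mem_fixd {g : Cfsg.isometryGroup F (⇑Q)} {x : ι → F} : x ∈ fixd g ↔ mat Q g *ᵥ x = x := by
  simp [fixd, sub_eq_zero]

omit [Finite F] in
theorem mem_disp {g : Cfsg.isometryGroup F (⇑Q)} {x : ι → F} : x ∈ disp g ↔ ∃ y, mat Q g *ᵥ y - y = x := by
  simp [disp, LinearMap.mem_range]

omit [Finite F] in
theorem finrank_disp_add_fixd (g : Cfsg.isometryGroup F (⇑Q)) :
    Module.finrank F (disp g) + Module.finrank F (fixd g) = Fintype.card ι := by
  rw [disp, fixd, LinearMap.finrank_range_add_finrank_ker, Module.finrank_fintype_fun_eq_card]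

omit [Finite F] in
theorem mat_mul_apply (g h : Cfsg.isometryGroup F (⇑Q)) (x : ι → F) :
    mat Q (g * h) *ᵥ x = mat Q g *ᵥ (mat Q h *ᵥ x) := mulVec_mul Q g h x

/-- The rational vectors of a subspace. -/
def ratPart (F₀ : Subfield F) (X : Submodule F (ι → F)) : Submodule F₀ (ι → F₀) where
  carrier := {a | ratVec F₀ a ∈ X}
  add_mem' := fun ha hb => by rw [Set.mem_ofPred_eq, ratVec_add]; exact X.add_mem ha hb
  zero_mem' := by rw [Set.mem_ofPred_eq, ratVec_zero]; exact X.zero_mem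
  smul_mem' := fun c a ha => by rw [Set.mem_ofPred_eq, ratVec_smul]; exact X.smul_mem _ ha

theorem mem_ratPart {X : Submodule F (ι → F)} {a : ι → F₀} : a ∈ ratPart F₀ X ↔ ratVec F₀ a ∈ X := Iff.rfl

omit [Finite F] in
theorem exact_mul {g h : Cfsg.isometryGroup F (⇑Q)} (hg : RatExact F₀ (mat Q g).mulVecLin)
    (hh : RatExact F₀ (mat Q h).mulVecLin) : RatExact F₀ (mat Q (g * h)).mulVecLin := fun u => by
  obtain ⟨p, hp⟩ := hh u
  obtain ⟨q, hq⟩ := hg p
  exact ⟨q, by rw [Matrix.mulVecLin_apply, mat_mul_apply] at *; rw [hp, hq]⟩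

set_option maxHeartbeats 1600000 in
/-- The spaces of a rational isometry are rational. -/
theorem exact_dims {g : Cfsg.isometryGroup F (⇑Q)} (hg : RatExact F₀ (mat Q g).mulVecLin) :
    Module.finrank F (disp g) ≤ Module.finrank F₀ (ratPart F₀ (disp g)) ∧
      Module.finrank F (fixd g) ≤ Module.finrank F₀ (ratPart F₀ (fixd g)) ∧
      disp g ≤ Submodule.span F (ratVec F₀ '' {a | a ∈ ratPart F₀ (disp g)}) := by
  classical
  haveI : Finite F₀ := Finite.of_injective _ Subtype.val_injective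
  choose f hf using hg
  have hf' : ∀ a, mat Q g *ᵥ ratVec F₀ a = ratVec F₀ (f a) := fun a => by simpa using hf a
  let L : (ι → F₀) →ₗ[F₀] (ι → F₀) :=
    { toFun := fun a => f a - a
      map_add' := fun a b => ratVec_injective (F₀ := F₀) (by
        simp only [ratVec_sub, ratVec_add, ← hf', Matrix.mulVec_add]; abel)
      map_smul' := fun c a => ratVec_injective (F₀ := F₀) (by
        simp only [ratVec_sub, ratVec_smul, ← hf', Matrix.mulVec_smul, RingHom.id_apply, smul_sub]) }
  have hL : ∀ a, ratVec F₀ (L a) = mat Q g *ᵥ ratVec F₀ a - ratVec F₀ a := fun a => by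
    show ratVec F₀ (f a - a) = _
    rw [ratVec_sub, hf']
  have hle : LinearMap.range L ≤ ratPart F₀ (disp g) := by
    rintro _ ⟨a, rfl⟩
    exact mem_disp.mpr ⟨ratVec F₀ a, (hL a).symm⟩
  let b := Module.finBasis F₀ (LinearMap.range L)
  have hbli : LinearIndependent F₀ fun i => (b i : ι → F₀) :=
    b.linearIndependent.map' _ (Submodule.ker_subtype _)
  have hbF := li_ratVec (F := F) hbli
  have hspan : disp g ≤ Submodule.span F (Set.range fun i => ratVec F₀ (b i : ι → F₀)) := by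
    rintro _ ⟨y, rfl⟩
    refine mem_of_ratVec (F₀ := F₀) (X := (Submodule.span F (Set.range fun i => ratVec F₀ (b i : ι → F₀))).comap
      ((mat Q g).mulVecLin - LinearMap.id)) (fun a => ?_) y
    simp only [Submodule.mem_comap, LinearMap.sub_apply, LinearMap.id_apply, Matrix.mulVecLin_apply, ← hL]
    let T : Submodule F₀ (ι → F₀) := ratPart F₀ (Submodule.span F (Set.range fun i => ratVec F₀ (b i : ι → F₀)))
    have hT : LinearMap.range L ≤ T := by
      intro x hx
      have h := b.sum_repr ⟨x, hx⟩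
      have hx' : x = ∑ i, b.repr ⟨x, hx⟩ i • (b i : ι → F₀) := by
        have h' := congrArg Subtype.val h
        simp only [Submodule.coe_sum, Submodule.coe_smul] at h'
        exact h'.symm
      rw [hx']
      exact T.sum_mem fun i _ => T.smul_mem _ (show (b i : ι → F₀) ∈ T from mem_ratPart.mpr (Submodule.subset_span (Set.mem_range_self i)))
    exact hT ⟨a, rfl⟩
  have hrank : Module.finrank F (disp g) = Module.finrank F₀ (LinearMap.range L) := by
    refine le_antisymm ((Submodule.finrank_mono hspan).trans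
      ((finrank_range_le_card _).trans (Fintype.card_fin _).le)) ?_
    have h1 : Submodule.span F (Set.range fun i => ratVec F₀ (b i : ι → F₀)) ≤ disp g := Submodule.span_le.mpr (by
      rintro _ ⟨i, rfl⟩; exact hle (b i).2)
    have h2 := Submodule.finrank_mono h1
    rwa [finrank_span_eq_card hbF, Fintype.card_fin] at h2
  refine ⟨hrank.le.trans (Submodule.finrank_mono hle), ?_, hspan.trans (Submodule.span_mono ?_)⟩
  · have h1 := LinearMap.finrank_range_add_finrank_ker L
    rw [Module.finrank_fintype_fun_eq_card] at h1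
    have h2 := finrank_disp_add_fixd g
    have h3 : LinearMap.ker L ≤ ratPart F₀ (fixd g) := fun a ha => mem_fixd.mpr (by
      have := hL a
      rw [LinearMap.mem_ker.mp ha, ratVec_zero] at this
      exact sub_eq_zero.mp this.symm)
    have h4 := Submodule.finrank_mono h3
    omega
  · rintro _ ⟨i, rfl⟩
    exact ⟨(b i : ι → F₀), hle (b i).2, rfl⟩

/-- Fixed space of codimension the number of displacement vectors. -/
theorem fixd_of_disp {g : Cfsg.isometryGroup F (⇑Q)} {k : ℕ} {s : Fin k → (ι → F)} (hs : LinearIndependent F s)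
    (hle : ∀ y, mat Q g *ᵥ y - y ∈ Submodule.span F (Set.range s)) (hmem : ∀ i, ∃ y, mat Q g *ᵥ y - y = s i) :
    Module.finrank F (fixd g) + k = Fintype.card ι := by
  have e : disp g = Submodule.span F (Set.range s) := le_antisymm
    (fun x hx => by obtain ⟨y, rfl⟩ := mem_disp.mp hx; exact hle y)
    (Submodule.span_le.mpr (by rintro _ ⟨i, rfl⟩; exact mem_disp.mpr (hmem i)))
  have h := finrank_disp_add_fixd g
  rw [e, finrank_span_eq_card hs, Fintype.card_fin] at h
  omega

omit [Finite F] in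
/-- In characteristic two the displacement space of an involution is totally isotropic. -/
theorem polar_disp_involution (Q : QuadraticForm F (ι → F)) (h2 : (2 : F) = 0) {z : Cfsg.isometryGroup F (⇑Q)}
    (hz : z * z = 1) {p q : ι → F} (hp : p ∈ disp z) (hq : q ∈ disp z) : QuadraticMap.polar (⇑Q) p q = 0 := by
  obtain ⟨x, rfl⟩ := mem_disp.mp hp
  obtain ⟨y, rfl⟩ := mem_disp.mp hq
  simp only [QuadraticMap.polar_sub_left, QuadraticMap.polar_sub_right, polar_act]
  have e : QuadraticMap.polar (⇑Q) x (mat Q z *ᵥ y) = QuadraticMap.polar (⇑Q) (mat Q z *ᵥ x) y := by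
    rw [← polar_act Q z x, ← mat_mul_apply, hz, show mat Q 1 *ᵥ y = y from Matrix.one_mulVec y]
  rw [e]
  linear_combination (QuadraticMap.polar (⇑Q) x y - QuadraticMap.polar (⇑Q) (mat Q z *ᵥ x) y) * h2

namespace Rat

variable (S : Rat Q Q₀ r)
include S

/-- A totally isotropic plane has a singular vector, in characteristic two. -/
theorem exists_sing_isotropic (h2 : (2 : F) = 0) (X : Submodule F₀ (ι → F₀))
    (hX : ∀ p ∈ X, ∀ q ∈ X, QuadraticMap.polar (⇑Q) (ratVec F₀ p) (ratVec F₀ q) = 0)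
    (T : Submodule F₀ (ι → F₀)) (h : Module.finrank F₀ T + 2 ≤ Module.finrank F₀ X) :
    ∃ a ∈ X, a ∉ T ∧ Q₀ a = 0 ∧ ∀ b ∈ X, QuadraticMap.polar (⇑Q₀) b a = 0 := by
  haveI := S.finite₀
  have h20 : (2 : F₀) = 0 := Subtype.ext (by push_cast; exact h2)
  have hpol : ∀ p ∈ X, ∀ q ∈ X, QuadraticMap.polar (⇑Q₀) p q = 0 := fun p hp q hq => by
    refine Subtype.ext ?_
    rw [← S.polar]
    exact hX p hp q hq
  obtain ⟨C, hC⟩ := T.exists_isCompl
  have h1 := Submodule.finrank_sup_add_finrank_inf_eq X C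
  have h3 := Submodule.finrank_le (X ⊔ C)
  have h4 := Submodule.finrank_add_eq_of_isCompl hC
  obtain ⟨a, ha, ha0⟩ := (X ⊓ C).exists_mem_ne_zero_of_ne_bot fun e => by
    rw [e, finrank_bot] at h1; omega
  obtain ⟨b, hb, hbn⟩ : ∃ b ∈ X ⊓ C, b ∉ Submodule.span F₀ {a} := by
    refine SetLike.not_le_iff_exists.mp fun hle => ?_
    have h5 := (Submodule.finrank_mono hle).trans (finrank_span_singleton (K := F₀) ha0).le
    omega
  have key : ∀ x ∈ X ⊓ C, x ≠ 0 → Q₀ x = 0 → ∃ a ∈ X, a ∉ T ∧ Q₀ a = 0 ∧ ∀ b ∈ X, QuadraticMap.polar (⇑Q₀) b a = 0 :=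
    fun x hx hx0 hQx => ⟨x, hx.1, fun hT => hx0 (Submodule.disjoint_def.mp hC.disjoint x hT hx.2), hQx,
      fun c hc => hpol c hc x hx.1⟩
  by_cases hQa : Q₀ a = 0
  · exact key a ha ha0 hQa
  obtain ⟨t, ht⟩ := exists_sqrt_two h20 (-Q₀ b / Q₀ a)
  refine key (b + t • a) (add_mem hb (Submodule.smul_mem _ t ha)) (fun e => hbn ?_) ?_
  · rw [eq_neg_of_add_eq_zero_left e]
    exact neg_mem (Submodule.smul_mem _ _ (Submodule.mem_span_singleton_self a))
  · rw [WittQuad.val_smul_add, hpol b hb.1 a ha.1, ht]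
    field_simp
    ring

omit [Finite F] in
theorem lift_exact (g : Cfsg.isometryGroup F₀ (⇑Q₀)) : RatExact F₀ (mat Q (S.lift g)).mulVecLin :=
  fun u => ⟨mat Q₀ g *ᵥ u, by rw [Matrix.mulVecLin_apply]; exact S.mat_lift g u⟩

/-- An element of `Ω` displacing along at most a line is trivial. -/
theorem eq_one_of_small {z : Cfsg.isometryGroup F (⇑Q)} (hz : z ∈ Cfsg.Omega F (⇑Q))
    (h : Module.finrank F (disp z) ≤ 1) : z = 1 := by
  by_contra hne
  obtain ⟨y, hy⟩ : ∃ y, mat Q z *ᵥ y - y ≠ 0 := by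
    by_contra hc
    push Not at hc
    exact hne (ext_mulVec Q fun x => (sub_eq_zero.mp (hc x)).trans (Matrix.one_mulVec x).symm)
  set a := mat Q z *ᵥ y - y
  have ha : a ∈ disp z := mem_disp.mpr ⟨y, rfl⟩
  have hspan : Submodule.span F {a} = disp z := Submodule.eq_of_le_of_finrank_le
    (Submodule.span_le.mpr (by simpa using ha)) (by rw [finrank_span_singleton hy]; exact h)
  have hc : ∀ x, ∃ c : F, mat Q z *ᵥ x = x + c • a := fun x => by
    obtain ⟨c, hc⟩ := Submodule.mem_span_singleton.mp (hspan.symm ▸ mem_disp.mpr ⟨x, rfl⟩ :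
      mat Q z *ᵥ x - x ∈ Submodule.span F {a})
    exact ⟨c, by rw [hc]; abel⟩
  have hrel : ∀ x c, mat Q z *ᵥ x = x + c • a → c * (c * Q a + QuadraticMap.polar (⇑Q) x a) = 0 := by
    intro x c h
    have e := (mem_iff Q).mp z.2 x
    rw [show z.1.val *ᵥ x = x + c • a from h, WittQuad.val_smul_add] at e
    linear_combination e
  have hy1 : mat Q z *ᵥ y = y + (1 : F) • a := by rw [one_smul]; simp [a]
  have hy2 : Q a + QuadraticMap.polar (⇑Q) y a = 0 := by have := hrel y 1 hy1; simpa using this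
  -- the product with a vector moved by `a`
  have hfixed : ∀ x, mat Q z *ᵥ x = x → QuadraticMap.polar (⇑Q) x a = 0 := by
    intro x hx
    have h1 : mat Q z *ᵥ (x + y) = (x + y) + (1 : F) • a := by rw [Matrix.mulVec_add, hx, hy1]; abel
    have := hrel _ 1 h1
    rw [QuadraticMap.polar_add_left] at this
    linear_combination this - hy2
  by_cases hQa : Q a = 0
  · refine hy (S.nondeg.2 a fun x => ?_)
    obtain ⟨c, hcx⟩ := hc x
    by_cases hc0 : c = 0
    · exact hfixed x (by rw [hcx, hc0, zero_smul, add_zero])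
    · have := (mul_eq_zero.mp (hrel x c hcx)).resolve_left hc0
      rw [hQa, mul_zero, zero_add] at this
      exact this
  · have e : z = refl Q a hQa := ext_mulVec Q fun x => by
      obtain ⟨c, hcx⟩ := hc x
      rw [hcx]
      change _ = Cfsg.reflectionMatrix (⇑Q) a *ᵥ x
      rw [mulVec_eq, sub_eq_add_neg, ← neg_smul]
      congr 2
      by_cases hc0 : c = 0
      · rw [hc0, QuadraticMap.polar_comm, hfixed x (by rw [hcx, hc0, zero_smul, add_zero])]; simp
      · have := (mul_eq_zero.mp (hrel x c hcx)).resolve_left hc0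
        rw [QuadraticMap.polar_comm (⇑Q) a x]
        field_simp
        linear_combination this
    have h1 := hom_eq_one_of_omega Q (dickson Q S.nondeg) hz
    rw [e, dickson_refl Q S.nondeg a hQa] at h1
    exact absurd h1 (by decide)

variable (hK : ∀ g ∈ Cfsg.Omega F₀ (⇑Q₀), S.lift g ∈ K)
include hK

omit hK in
/-- A totally singular pair in a rational space of dimension at least five. -/
theorem exists_pair (X : Submodule F₀ (ι → F₀)) (hX : 5 ≤ Module.finrank F₀ X) :
    ∃ u ∈ X, ∃ c ∈ X, Q₀ u = 0 ∧ Q₀ c = 0 ∧ QuadraticMap.polar (⇑Q₀) u c = 0 ∧ LinearIndependent F₀ ![u, c] := by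
  haveI := S.finite₀
  obtain ⟨u, huX, hu0, hu⟩ := exists_singular Q₀ X (by omega)
  obtain ⟨C, hC⟩ := (Submodule.span F₀ {u}).exists_isCompl
  set Y := X ⊓ HypQuad.perp Q₀ (Submodule.span F₀ {u})
  have h1 := HypQuad.finrank_perp Q₀ S.nondeg₀ (Submodule.span F₀ {u})
  have h2 := Submodule.finrank_sup_add_finrank_inf_eq X (HypQuad.perp Q₀ (Submodule.span F₀ {u}))
  have h3 := Submodule.finrank_le (X ⊔ HypQuad.perp Q₀ (Submodule.span F₀ {u}))
  have h4 := Submodule.finrank_add_eq_of_isCompl hC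
  have h5 := Submodule.finrank_sup_add_finrank_inf_eq Y C
  have h6 := Submodule.finrank_le (Y ⊔ C)
  have h7 := finrank_span_singleton (K := F₀) hu0
  rw [Module.finrank_fintype_fun_eq_card] at h1 h3 h4 h6
  have hY : Module.finrank F₀ Y = Module.finrank F₀ ↥(X ⊓ HypQuad.perp Q₀ (Submodule.span F₀ {u})) := rfl
  obtain ⟨c, hc, hc0, hQc⟩ := exists_singular Q₀ (Y ⊓ C) (by omega)
  refine ⟨u, huX, c, hc.1.1, hu, hQc, (HypQuad.mem_perp Q₀).mp hc.1.2 u (Submodule.mem_span_singleton_self u),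
    li_pair hu0 fun h => hc0 (Submodule.disjoint_def.mp hC.disjoint c h hc.2)⟩

variable (hgood : Good Q Q₀ K)
include hgood

set_option maxHeartbeats 1600000 in
/-- An element intertwining two rational elements is scaled rational. -/
theorem transfer {g z w : Cfsg.isometryGroup F (⇑Q)} (hg : g ∈ K) (hwe : RatExact F₀ (mat Q w).mulVecLin)
    (he : g * w = z * g) (hfix : 5 ≤ Module.finrank F (fixd w)) {a : ι → F₀} (ha : Q₀ a = 0) (ha0 : a ≠ 0)
    (had : ratVec F₀ a ∈ disp z) : RatScaled F₀ (mat Q g).mulVecLin := by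
  obtain ⟨u, hu, c, hc, hQu, hQc, huc, hli⟩ :=
    S.exists_pair (ratPart F₀ (fixd w)) (hfix.trans (exact_dims hwe).2.1)
  have key : ∀ v : ι → F₀, v ∈ ratPart F₀ (fixd w) →
      QuadraticMap.polar (⇑Q) (mat Q g *ᵥ ratVec F₀ v) (ratVec F₀ a) = 0 := by
    intro v hv
    have hz : mat Q z *ᵥ (mat Q g *ᵥ ratVec F₀ v) = mat Q g *ᵥ ratVec F₀ v := by
      rw [← mat_mul_apply, ← he, mat_mul_apply, mem_fixd.mp (mem_ratPart.mp hv)]
    obtain ⟨y, hy⟩ := mem_disp.mp had
    rw [← hy, QuadraticMap.polar_sub_right]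
    nth_rw 1 [← hz]
    rw [polar_act, sub_self]
  exact S.of_orth hK hgood hg hQu hQc huc hli ha ha0 (key u hu) (key c hc)

omit hgood in
/-- Two rational involutions, in characteristic two. -/
theorem exists_invol (hb : 8 ≤ Fintype.card ι) (h2 : (2 : F) = 0) :
    ∃ i j : Cfsg.isometryGroup F (⇑Q), i ∈ K ∧ j ∈ K ∧ RatExact F₀ (mat Q i).mulVecLin ∧
    RatExact F₀ (mat Q j).mulVecLin ∧ i * i = 1 ∧ j * j = 1 ∧
    Module.finrank F (fixd i) + 2 = Fintype.card ι ∧ Module.finrank F (fixd j) + 4 = Fintype.card ι := by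
  classical
  haveI := S.finite₀
  have hn₀ := S.nondeg₀
  obtain ⟨u, hu0, hu⟩ : ∃ u : ι → F₀, u ≠ 0 ∧ Q₀ u = 0 := by
    obtain ⟨u, -, hu0, hu⟩ := exists_singular Q₀ ⊤ (by rw [finrank_top, Module.finrank_fintype_fun_eq_card]; omega)
    exact ⟨u, hu0, hu⟩
  have l1 : LinearIndependent F₀ ![u] := LinearIndependent.of_subsingleton 0 (by simpa using hu0)
  obtain ⟨c, hc, hcv, hcn⟩ := exists_prescribed Q₀ hn₀ _ l1 ![0] (by omega)
  have l2 := li_cons l1 hcn
  obtain ⟨u', hu', hu'v, hu'n⟩ := exists_prescribed Q₀ hn₀ _ l2 ![0, 0] (by omega)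
  have l3 := li_cons l2 hu'n
  have h20 : (2 : F₀) = 0 := Subtype.ext (by push_cast; exact h2)
  obtain ⟨c', hc'p, hc'n⟩ : ∃ c', c' ∈ HypQuad.perp Q₀ (Submodule.span F₀ (Set.range ![u', c, u])) ∧
      c' ∉ Submodule.span F₀ (Set.range ![u', c, u]) := by
    refine SetLike.not_le_iff_exists.mp fun hle => ?_
    have h1 := Submodule.finrank_mono hle
    have h2' := HypQuad.finrank_perp Q₀ hn₀ (Submodule.span F₀ (Set.range ![u', c, u]))
    rw [finrank_span_eq_card l3, Fintype.card_fin] at h1 h2'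
    rw [Module.finrank_fintype_fun_eq_card] at h2'
    omega
  have hc'v : ∀ i, QuadraticMap.polar (⇑Q₀) c' (![u', c, u] i) = ![(0 : F₀), 0, 0] i := fun i => by
    rw [QuadraticMap.polar_comm, (HypQuad.mem_perp Q₀).mp hc'p _ (Submodule.subset_span ⟨i, rfl⟩)]
    fin_cases i <;> rfl
  have l4 : LinearIndependent F₀ ![c', u', c, u] := li_cons l3 hc'n
  set A : Fin 4 → (ι → F₀) := ![c', u', c, u] with hA
  have hcu : QuadraticMap.polar (⇑Q₀) u c = 0 := by rw [QuadraticMap.polar_comm]; exact hcv 0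
  have hcu' : QuadraticMap.polar (⇑Q₀) u' c' = 0 := by rw [QuadraticMap.polar_comm]; exact hc'v 0
  set V : Fin 4 → (ι → F) := fun i => ratVec F₀ (A i) with hV
  have hVV : ∀ i j, QuadraticMap.polar (⇑Q) (V i) (V j) = 0 := by
    have h : ∀ i j, QuadraticMap.polar (⇑Q₀) (A i) (A j) = 0 := by
      have e1 : QuadraticMap.polar (⇑Q₀) c u = 0 := hcv 0
      have e2 : QuadraticMap.polar (⇑Q₀) u' c = 0 := hu'v 0
      have e3 : QuadraticMap.polar (⇑Q₀) u' u = 0 := hu'v 1
      have e4 : QuadraticMap.polar (⇑Q₀) c' u' = 0 := hc'v 0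
      have e5 : QuadraticMap.polar (⇑Q₀) c' c = 0 := hc'v 1
      have e6 : QuadraticMap.polar (⇑Q₀) c' u = 0 := hc'v 2
      intro i j
      fin_cases i <;> fin_cases j <;>
        first
          | assumption
          | (rw [QuadraticMap.polar_comm]; assumption)
          | (rw [QuadraticMap.polar_self, two_smul, ← two_mul, h20, zero_mul])
    exact fun i j => S.polar_zero (h i j)
  have hmemi := (S.pr_rat hK hu hcu).2 (S.val_zero hu) (S.polar_zero hcu)
  have hmemj := (S.pr_rat hK hu' hcu').2 (S.val_zero hu') (S.polar_zero hcu')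
  have hex : ∀ {u c : ι → F₀} (hu : Q₀ u = 0) (h : QuadraticMap.polar (⇑Q₀) u c = 0),
      RatExact F₀ (mat Q (siegelG Q (S.val_zero hu) (S.polar_zero h))).mulVecLin := fun hu h => by
    rw [← S.lift_siegel hu h]; exact S.lift_exact _
  set i := siegelG Q (S.val_zero hu) (S.polar_zero hcu)
  set i' := siegelG Q (S.val_zero hu') (S.polar_zero hcu')
  have hi : ∀ y, mat Q i *ᵥ y = y + QuadraticMap.polar (⇑Q) (V 3) y • V 2 +
      (-QuadraticMap.polar (⇑Q) (V 2) y) • V 3 := fun y => by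
    simp only [i, mat_siegelG, siegelMap, S.val_zero hc, zero_mul, sub_zero]
    rfl
  have hi' : ∀ y, mat Q i' *ᵥ y = y + QuadraticMap.polar (⇑Q) (V 1) y • V 0 +
      (-QuadraticMap.polar (⇑Q) (V 0) y - Q (V 0) * QuadraticMap.polar (⇑Q) (V 1) y) • V 1 := fun y => by
    simp only [i', mat_siegelG, siegelMap]
    rfl
  have hVli : LinearIndependent F V := li_ratVec l4
  have hwit : ∀ k : Fin 4, ∃ y : ι → F, ∀ l, QuadraticMap.polar (⇑Q) (V l) y = if l = k then 1 else 0 := by
    intro k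
    let bs := Module.Basis.span l4
    obtain ⟨φ, hφ⟩ := (bs.constr F₀ fun l => if l = k then (1 : F₀) else 0).exists_extend
    obtain ⟨e, he⟩ := WittQuad.exists_partner_vec Q₀ hn₀ φ
    refine ⟨ratVec F₀ e, fun l => ?_⟩
    have e1 : (bs l : ι → F₀) = A l := congrArg Subtype.val (Module.Basis.span_apply l4 l)
    rw [hV, S.polar, he]
    have e2 : φ (A l) = if l = k then (1 : F₀) else 0 := by
      rw [← e1, ← bs.constr_basis F₀ (fun l => if l = k then (1 : F₀) else 0) l]
      exact LinearMap.congr_fun hφ (bs l)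
    rw [e2]
    split_ifs <;> rfl
  have hneg : ∀ x : ι → F, -x = x := fun x => by
    rw [← sub_eq_zero, show -x - x = (-(2 : F)) • x by module, h2, neg_zero, zero_smul]
  refine ⟨i, i * i', hmemi, K.mul_mem hmemi hmemj, hex hu hcu, exact_mul (hex hu hcu) (hex hu' hcu'), ?_, ?_, ?_, ?_⟩
  · refine ext_mulVec Q fun y => ?_
    rw [mat_mul_apply, hi, hi]
    refine Eq.trans ?_ (Matrix.one_mulVec y).symm
    simp only [QuadraticMap.polar_add_right, QuadraticMap.polar_smul_right, hVV, smul_zero, add_zero]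
    match_scalars <;> first | (ring_nf; simp [h2]; done) | simp [h2] | ring1
  · refine ext_mulVec Q fun y => ?_
    simp only [mat_mul_apply, hi, hi']
    refine Eq.trans ?_ (Matrix.one_mulVec y).symm
    simp only [QuadraticMap.polar_add_right, QuadraticMap.polar_smul_right, hVV, smul_zero, add_zero]
    match_scalars <;> first | (ring_nf; simp [h2]; done) | simp [h2] | ring1
  · refine fixd_of_disp (s := fun l : Fin 2 => V (![2, 3] l)) (hVli.comp ![2, 3] (by decide)) (fun y => ?_) (fun l => ?_)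
    · rw [hi, show ∀ p q : ι → F, y + p + q - y = p + q from fun p q => by abel]
      exact add_mem (Submodule.smul_mem _ _ (Submodule.subset_span ⟨0, rfl⟩))
        (Submodule.smul_mem _ _ (Submodule.subset_span ⟨1, rfl⟩))
    · obtain ⟨y, hy⟩ := hwit (![3, 2] l)
      refine ⟨y, ?_⟩
      rw [hi, hy, hy]
      fin_cases l <;> simp [hneg]
  · refine fixd_of_disp (s := V) hVli (fun y => ?_) (fun l => ?_)
    · simp only [mat_mul_apply, hi, hi', QuadraticMap.polar_add_right, QuadraticMap.polar_smul_right, hVV, smul_zero,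
        add_zero]
      rw [show ∀ p q s t : ι → F, y + p + q + s + t - y = p + q + s + t from fun p q s t => by abel]
      exact add_mem (add_mem (add_mem (Submodule.smul_mem _ _ (Submodule.subset_span ⟨0, rfl⟩))
        (Submodule.smul_mem _ _ (Submodule.subset_span ⟨1, rfl⟩))) (Submodule.smul_mem _ _ (Submodule.subset_span ⟨2, rfl⟩)))
        (Submodule.smul_mem _ _ (Submodule.subset_span ⟨3, rfl⟩))
    · refine mem_disp.mp ?_
      have hd : ∀ y, QuadraticMap.polar (⇑Q) (V 3) y • V 2 + QuadraticMap.polar (⇑Q) (V 2) y • V 3 +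
          QuadraticMap.polar (⇑Q) (V 1) y • V 0 +
          (QuadraticMap.polar (⇑Q) (V 0) y + Q (V 0) * QuadraticMap.polar (⇑Q) (V 1) y) • V 1 ∈ disp (i * i') := fun y =>
        mem_disp.mpr ⟨y, by
          simp only [mat_mul_apply, hi, hi', QuadraticMap.polar_add_right, QuadraticMap.polar_smul_right, hVV, smul_zero,
            add_zero]
          match_scalars <;>
            first
              | linear_combination (0 : F) * h2
              | linear_combination (-QuadraticMap.polar (⇑Q) (V 2) y) * h2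
              | linear_combination (-(QuadraticMap.polar (⇑Q) (V 0) y + Q (V 0) * QuadraticMap.polar (⇑Q) (V 1) y)) * h2⟩
      obtain ⟨y0, h0⟩ := hwit 0
      obtain ⟨y1, h1⟩ := hwit 1
      obtain ⟨y2, h2'⟩ := hwit 2
      obtain ⟨y3, h3⟩ := hwit 3
      have e0 := hd y0
      have e1 := hd y1
      have e2 := hd y2
      have e3 := hd y3
      simp [h0, h1, h2', h3] at e0 e1 e2 e3
      fin_cases l
      · simpa using sub_mem e1 ((disp (i * i')).smul_mem (Q (V 0)) e0)
      · exact e0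
      · exact e3
      · exact e2

variable (hΩ : K ≤ Cfsg.Omega F (⇑Q))
include hΩ

set_option maxHeartbeats 1600000 in
/-- Without non-rational root elements, the group is scaled rational. -/
theorem rational_of_good (hlarge : 8 ≤ Fintype.card ι ∨ (2 : F) ≠ 0) {g₀ : Cfsg.isometryGroup F (⇑Q)} (hg₀ : g₀ ∈ K) : RatScaled F₀ (mat Q g₀).mulVecLin := by
  classical
  haveI := S.finite₀
  haveI : Nonempty ι := Fintype.card_pos_iff.mp (by have := S.big; omega)
  have hb7 := S.big
  by_cases hr2 : r = 2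
  · obtain ⟨u, -, c, -, hu, hc, huc, hli⟩ :=
      S.exists_pair ⊤ (by rw [finrank_top, Module.finrank_fintype_fun_eq_card]; omega)
    haveI : FiniteDimensional F₀ F := Module.Finite.of_finite
    have hfr : Module.finrank F₀ F = 2 := by
      have h := Module.natCard_eq_pow_finrank (K := F₀) (V := F)
      rw [S.card, hr2] at h
      exact (Nat.pow_right_injective (show 2 ≤ Nat.card F₀ from Finite.one_lt_card) h).symm
    let L : (ι → F₀) →ₗ[F₀] F × F :=
      { toFun := fun x => (QuadraticMap.polar (⇑Q) (mat Q g₀ *ᵥ ratVec F₀ u) (ratVec F₀ x),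
          QuadraticMap.polar (⇑Q) (mat Q g₀ *ᵥ ratVec F₀ c) (ratVec F₀ x))
        map_add' := fun x y => by simp [ratVec_add, QuadraticMap.polar_add_right]
        map_smul' := fun s x => by
          simp only [ratVec_smul, QuadraticMap.polar_smul_right, RingHom.id_apply, Prod.smul_mk, smul_eq_mul,
            Subfield.smul_def] }
    have h1 := L.finrank_range_add_finrank_ker
    have h2 := (LinearMap.range L).finrank_le
    rw [Module.finrank_fintype_fun_eq_card] at h1
    rw [Module.finrank_prod, hfr] at h2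
    obtain ⟨a, ha, ha0, hQa⟩ := exists_singular Q₀ (LinearMap.ker L) (by omega)
    have h := LinearMap.mem_ker.mp ha
    exact S.of_orth hK hgood hg₀ hu hc huc hli hQa ha0 (congrArg Prod.fst h) (congrArg Prod.snd h)
  by_cases h2' : (2 : F) ≠ 0
  · obtain ⟨u, -, c, -, hu, hc, huc, hli⟩ :=
      S.exists_pair ⊤ (by rw [finrank_top, Module.finrank_fintype_fun_eq_card]; omega)
    refine S.of_exact_root hK hgood hg₀ hu hc huc hli ?_
    have hmem := K.mul_mem (K.mul_mem hg₀ ((S.pr_rat hK hu huc).2 (S.val_zero hu) (S.polar_zero huc))) (K.inv_mem hg₀)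
    rw [siegelG_conj] at hmem ⊢
    exact S.root_exact hK hgood h2' hr2 _ (by rw [(mem_iff Q).mp g₀.2, S.val_zero hc]) _ hmem
  have h2 : (2 : F) = 0 := not_not.mp h2'
  have hb : 8 ≤ Fintype.card ι := hlarge.resolve_right h2'
  have hker : ∀ g : Cfsg.isometryGroup F (⇑Q),
      LinearMap.ker ((toLin Q g).toLinearMap - LinearMap.id) = fixd g := fun g => by rw [toLin_linear]; rfl
  obtain ⟨i, j, hiK, hjK, hie, hje, hii, hjj, hifix, hjfix⟩ := S.exists_invol hK hb h2
  have hexL : ∀ {g : Cfsg.isometryGroup F (⇑Q)}, RatExact F₀ (mat Q g).mulVecLin →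
      RatExact F₀ (toLin Q g).toLinearMap := fun h => by rwa [toLin_linear]
  rw [← toLin_linear]
  refine ratScaled_of_involutions_gen (k := 1) S.prime hr2 S.card (K := K.map (toLin Q)) ?_
    (i := toLin Q i) (j := toLin Q j) ⟨i, hiK, rfl⟩ ⟨j, hjK, rfl⟩ (hexL hie) (hexL hje)
    (by rw [← map_mul, hii, map_one]) (by rw [← map_mul, hjj, map_one]) 2 4 (by norm_num) (by norm_num)
    (by rw [hker]; exact hifix) (by rw [hker]; exact hjfix) (by norm_num) (by omega) (by omega) (by omega)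
    ⟨g₀, hg₀, rfl⟩
  rintro _ ⟨g, hg, rfl⟩ _ ⟨z, hzK, rfl⟩ _ ⟨w, hwK, rfl⟩ hze hwe hzz hww hz1 - he
  rw [toLin_linear] at hze hwe ⊢
  have he' : g * w = z * g := toLin_injective (by rw [map_mul, map_mul]; exact he)
  have hzz' : z * z = 1 := toLin_injective (by rw [map_mul, map_one]; exact hzz)
  have hww' : w * w = 1 := toLin_injective (by rw [map_mul, map_one]; exact hww)
  have hz1' : z ≠ 1 := fun h => hz1 (by rw [h, map_one])
  obtain ⟨hd1, -, -⟩ := exact_dims hze
  have hge2 : 2 ≤ Module.finrank F (disp z) := by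
    by_contra h
    exact hz1' (S.eq_one_of_small (hΩ hzK) (by omega))
  obtain ⟨a, hQa, ha0, ha⟩ : ∃ a, Q₀ a = 0 ∧ a ≠ 0 ∧ ratVec F₀ a ∈ disp z := by
    obtain ⟨a, ha, ha0, hQa, -⟩ := S.exists_sing_isotropic h2 (ratPart F₀ (disp z))
      (fun p hp q hq => polar_disp_involution Q h2 hzz' hp hq) ⊥ (by rw [finrank_bot]; omega)
    exact ⟨a, hQa, fun h => ha0 (by rw [h]; exact Submodule.zero_mem _), ha⟩
  by_cases h5 : 5 ≤ Module.finrank F (fixd w)
  · exact S.transfer hK hgood hg hwe he' h5 hQa ha0 ha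
  -- otherwise the fixed space of `w` is totally isotropic and contains a singular pair
  have hle : disp w ≤ fixd w := fun v hv => by
    obtain ⟨y, rfl⟩ := mem_disp.mp hv
    refine mem_fixd.mpr ?_
    rw [Matrix.mulVec_sub, ← mat_mul_apply, hww', show mat Q 1 *ᵥ y = y from Matrix.one_mulVec y]
    rw [← sub_eq_zero, show y - mat Q w *ᵥ y - (mat Q w *ᵥ y - y) = (2 : F) • (y - mat Q w *ᵥ y) by module, h2,
      zero_smul]
  have hsum := finrank_disp_add_fixd w
  have hlew := Submodule.finrank_mono hle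
  have heq : disp w = fixd w := Submodule.eq_of_le_of_finrank_le hle (by omega)
  have hdim : 4 ≤ Module.finrank F₀ (ratPart F₀ (fixd w)) := le_trans (by omega) (exact_dims hwe).2.1
  have hiso : ∀ p ∈ ratPart F₀ (fixd w), ∀ q ∈ ratPart F₀ (fixd w), QuadraticMap.polar (⇑Q) (ratVec F₀ p) (ratVec F₀ q) = 0 :=
    fun p hp q hq => polar_disp_involution Q h2 hww' (heq.ge hp) (heq.ge hq)
  obtain ⟨u, hu, hu0, hQu, -⟩ := S.exists_sing_isotropic h2 _ hiso ⊥ (by rw [finrank_bot]; omega)
  have hu0' : u ≠ 0 := fun h => hu0 (by rw [h]; exact Submodule.zero_mem _)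
  obtain ⟨c, hc, hcu, hQc, huc⟩ := S.exists_sing_isotropic h2 _ hiso (Submodule.span F₀ {u})
    (by rw [finrank_span_singleton hu0']; omega)
  have key : ∀ v : ι → F₀, v ∈ ratPart F₀ (fixd w) →
      QuadraticMap.polar (⇑Q) (mat Q g *ᵥ ratVec F₀ v) (ratVec F₀ a) = 0 := by
    intro v hv
    have hz : mat Q z *ᵥ (mat Q g *ᵥ ratVec F₀ v) = mat Q g *ᵥ ratVec F₀ v := by
      rw [← mat_mul_apply, ← he', mat_mul_apply, mem_fixd.mp (mem_ratPart.mp hv)]
    obtain ⟨y, hy⟩ := mem_disp.mp ha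
    rw [← hy, QuadraticMap.polar_sub_right]
    nth_rw 1 [← hz]
    rw [polar_act, sub_self]
  exact S.of_orth hK hgood hg hQu hQc (huc u hu) (li_pair hu0' hcu) hQa ha0 (key u hu) (key c hc)

omit hgood hΩ hK in
/-- The rational subgroup of `Ω` is a coatom. -/
theorem isCoatom (hlarge : 8 ≤ Fintype.card ι ∨ (2 : F) ≠ 0) (M : Subgroup (Cfsg.Omega F (⇑Q)))
    (hM : ∀ g : Cfsg.Omega F (⇑Q), g ∈ M ↔ RatScaled F₀ (mat Q (g : Cfsg.isometryGroup F (⇑Q))).mulVecLin) :
    IsCoatom M := by
  classical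
  haveI := S.finite₀
  have hn₀ := S.nondeg₀
  have hb := S.big
  refine ⟨fun htop => ?_, fun H hlt => ?_⟩
  · obtain ⟨t, ht⟩ := exists_notMem_subfield S.prime S.card
    obtain ⟨u, -, w, -, hu, hw, huw, hli⟩ :=
      S.exists_pair ⊤ (by rw [finrank_top, Module.finrank_fintype_fun_eq_card]; omega)
    have h0 : QuadraticMap.polar (⇑Q) (ratVec F₀ u) (t • ratVec F₀ w) = 0 := by
      rw [QuadraticMap.polar_smul_right, S.polar_zero huw, smul_zero]
    set s := siegelG Q (S.val_zero hu) h0 with hs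
    have hfix : mat Q s *ᵥ ratVec F₀ u = ratVec F₀ u := by
      rw [hs, mat_siegelG]
      simp only [siegelMap, QuadraticMap.polar_smul_left, QuadraticMap.polar_self, S.val_zero hu,
        QuadraticMap.polar_comm (⇑Q) (ratVec F₀ w), S.polar_zero huw, smul_zero, neg_zero, zero_smul, mul_zero,
        sub_zero, add_zero]
    have hsc := (hM ⟨s, siegelG_mem_omega Q S.nondeg (by omega) _ _⟩).mp (htop ▸ Subgroup.mem_top _)
    have hex := hsc.exact_of_fix (hli.ne_zero 0) (u₀ := u) (by rw [Matrix.mulVecLin_apply]; exact hfix)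
    obtain ⟨e, -, hev, -⟩ := exists_prescribed Q₀ hn₀ _ hli ![1, 0] (by omega)
    obtain ⟨p, hp⟩ := hex e
    change mat Q s *ᵥ ratVec F₀ e = ratVec F₀ p at hp
    rw [hs, mat_siegelG] at hp
    simp only [siegelMap, QuadraticMap.polar_smul_left, QuadraticMap.map_smul, S.val_zero hw, S.polar,
      QuadraticMap.polar_comm (⇑Q₀) u e, QuadraticMap.polar_comm (⇑Q₀) w e,
      show QuadraticMap.polar (⇑Q₀) e u = 1 from hev 0, show QuadraticMap.polar (⇑Q₀) e w = 0 from hev 1,
      OneMemClass.coe_one, ZeroMemClass.coe_zero, smul_zero, neg_zero, zero_mul, sub_zero, zero_smul, add_zero,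
      one_smul] at hp
    obtain ⟨φ, hφ⟩ := exists_rat_dual hli 1
    have h := congrArg (ratExt φ) hp
    rw [map_add, map_smul, ratExt_apply, ratExt_apply, ratExt_apply, show φ w = 1 from hφ 1, smul_eq_mul] at h
    simp only [OneMemClass.coe_one, mul_one] at h
    exact ht (by rw [show t = ((φ p - φ e : F₀) : F) by push_cast; linear_combination h]; exact SetLike.coe_mem _)
  set K := H.map (Cfsg.Omega F (⇑Q)).subtype with hKdef
  have hΩK : K ≤ Cfsg.Omega F (⇑Q) := Subgroup.map_subtype_le H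
  have hKM : ∀ g ∈ Cfsg.Omega F₀ (⇑Q₀), S.lift g ∈ K := fun g hg =>
    ⟨⟨S.lift g, S.lift_mem_omega hg⟩, hlt.le ((hM _).mpr (S.lift_exact g).scaled), rfl⟩
  by_cases hgd : Good Q Q₀ K
  · exfalso
    obtain ⟨g, hg, hgM⟩ := SetLike.exists_of_lt hlt
    exact hgM ((hM g).mpr (S.rational_of_good hKM hgd hΩK hlarge ⟨g, hg, rfl⟩))
  · refine eq_top_iff.mpr fun g _ => ?_
    obtain ⟨g', hg', e⟩ := S.omega_le_of_not_good hKM hgd g.2
    rwa [show g' = g from Subtype.ext e] at hg'

end Rat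

/-- The subgroup of a subfield structure is maximal in `Ω`. -/
theorem subfield_maximal' [Fintype F] (hQ : (QuadraticMap.polarBilin Q).Nondegenerate) (hn : 7 ≤ Fintype.card ι)
    (hlarge : 8 ≤ Fintype.card ι ∨ (2 : F) ≠ 0)
    (F₀ : Subfield F) {r : ℕ} (hr : r.Prime) (hcard : Fintype.card F = Nat.card F₀ ^ r) (P : GL ι F) {ζ : F}
    (hζ : ζ ≠ 0) (hP : Cfsg.Geo.IsQuadFormRationalStructure (fun v => ζ * Q v) F₀ P) :
    Cfsg.Geo.IsMaximalIn (Cfsg.Geo.omegaGL (⇑Q)) (Cfsg.Geo.subfieldSubgroup F₀ P ⊓ Cfsg.Geo.omegaGL (⇑Q)) := by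
  classical
  haveI : Nonempty ι := Fintype.card_pos_iff.mp (by omega)
  set Q₁ : QuadraticForm F (ι → F) := ζ • Q.comp (Matrix.toLin' P.val) with hQ₁
  have hval : ∀ x, Q₁ x = ζ * Q (P.val *ᵥ x) := fun x => by simp [hQ₁]
  have hpol : ∀ x y, QuadraticMap.polar (⇑Q₁) x y = ζ * QuadraticMap.polar (⇑Q) (P.val *ᵥ x) (P.val *ᵥ y) := fun x y => by
    simp only [QuadraticMap.polar, hval, Matrix.mulVec_add]; ring
  have hinv : ∀ x, (P⁻¹ : GL ι F).val *ᵥ (P.val *ᵥ x) = x := fun x => by
    rw [Matrix.mulVec_mulVec, ← Units.val_mul, inv_mul_cancel, Units.val_one, Matrix.one_mulVec]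
  have hinv' : ∀ x, P.val *ᵥ ((P⁻¹ : GL ι F).val *ᵥ x) = x := fun x => by
    rw [Matrix.mulVec_mulVec, ← Units.val_mul, mul_inv_cancel, Units.val_one, Matrix.one_mulVec]
  have hQ₁n : (QuadraticMap.polarBilin Q₁).Nondegenerate := by
    have h1 : ∀ x, (∀ y, QuadraticMap.polar (⇑Q₁) x y = 0) → x = 0 := fun x hx => by
      have h := hQ.1 (P.val *ᵥ x) fun y => by
        have := hx ((P⁻¹ : GL ι F).val *ᵥ y)
        rw [hpol, hinv'] at this
        exact (mul_eq_zero.mp this).resolve_left hζ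
      rw [← hinv x, h, Matrix.mulVec_zero]
    exact ⟨h1, fun x hx => h1 x fun y => by rw [QuadraticMap.polar_comm]; exact hx y⟩
  have hrat : ∀ u : ι → F₀, Q₁ (ratVec F₀ u) ∈ F₀ := fun u => by rw [hval]; exact hP _ fun i => (u i).2
  let Q₀ : QuadraticForm F₀ (ι → F₀) := QuadraticMap.ofPolar (fun u => ⟨_, hrat u⟩)
    (fun a x => Subtype.ext (by
      show Q₁ (ratVec F₀ (a • x)) = ((a * a) • (⟨Q₁ (ratVec F₀ x), hrat x⟩ : F₀) : F₀)
      rw [ratVec_smul, QuadraticMap.map_smul]
      simp [smul_eq_mul]))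
    (fun x y z => Subtype.ext (by
      simp only [QuadraticMap.polar]
      push_cast
      have := QuadraticMap.polar_add_left (Q := Q₁) (ratVec F₀ x) (ratVec F₀ y) (ratVec F₀ z)
      simp only [QuadraticMap.polar, ← ratVec_add] at this
      exact this))
    (fun a x y => Subtype.ext (by
      simp only [QuadraticMap.polar, smul_eq_mul]
      push_cast
      have := QuadraticMap.polar_smul_left (Q := Q₁) (a : F) (ratVec F₀ x) (ratVec F₀ y)
      simp only [QuadraticMap.polar, ← ratVec_add, ← ratVec_smul, smul_eq_mul] at this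
      exact this))
  have S : Rat Q₁ Q₀ r := ⟨hQ₁n, fun u => rfl, hr, by rw [Nat.card_eq_fintype_card]; exact hcard, hn⟩
  let φ : Cfsg.isometryGroup F (⇑Q₁) →* GL ι F := (MulAut.conj P).toMonoidHom.comp (Cfsg.isometryGroup F (⇑Q₁)).subtype
  have hφ : φ.range = Cfsg.isometryGroup F (⇑Q) := by
    ext A
    constructor
    · rintro ⟨g, rfl⟩
      refine (mem_iff Q).mpr fun x => ?_
      show Q ((P * g.1 * P⁻¹).val *ᵥ x) = Q x
      rw [Units.val_mul, Units.val_mul, ← Matrix.mulVec_mulVec, ← Matrix.mulVec_mulVec]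
      have h := (mem_iff Q₁).mp g.2 ((P⁻¹ : GL ι F).val *ᵥ x)
      rw [hval, hval, hinv'] at h
      exact mul_left_cancel₀ hζ h
    · intro hA
      refine ⟨⟨P⁻¹ * A * P, (mem_iff Q₁).mpr fun x => ?_⟩, by simp [φ, mul_assoc]⟩
      rw [hval, hval, Units.val_mul, Units.val_mul, ← Matrix.mulVec_mulVec, ← Matrix.mulVec_mulVec, hinv',
        (mem_iff Q).mp hA]
  let ψ := φ.comp (Cfsg.Omega F (⇑Q₁)).subtype
  have hψ : ψ.range = Cfsg.Geo.omegaGL (⇑Q) := by
    rw [MonoidHom.range_comp, Subgroup.range_subtype, Cfsg.Geo.omegaGL, Cfsg.Omega, Cfsg.Omega, commutator_def,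
      commutator_def, Subgroup.map_commutator, Subgroup.map_commutator, ← MonoidHom.range_eq_map,
      ← MonoidHom.range_eq_map, hφ, Subgroup.range_subtype]
  refine isMaximalIn_of_isCoatom_comap ψ hψ (S.isCoatom hlarge _ fun g => ?_)
  rw [Subgroup.mem_comap, Cfsg.Geo.subfieldSubgroup]
  refine (Subgroup.mem_map_iff_mem (MulAut.conj P).injective).trans ?_
  rw [mem_sup_scalars_iff, Matrix.toLin'_apply']
  rfl

/-- The subgroup of a subfield structure is maximal in `Ω`, in dimension at least eight. -/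
theorem subfield_maximal [Fintype F] (hQ : (QuadraticMap.polarBilin Q).Nondegenerate) (hn : 8 ≤ Fintype.card ι)
    (F₀ : Subfield F) {r : ℕ} (hr : r.Prime) (hcard : Fintype.card F = Nat.card F₀ ^ r) (P : GL ι F) {ζ : F}
    (hζ : ζ ≠ 0) (hP : Cfsg.Geo.IsQuadFormRationalStructure (fun v => ζ * Q v) F₀ P) :
    Cfsg.Geo.IsMaximalIn (Cfsg.Geo.omegaGL (⇑Q)) (Cfsg.Geo.subfieldSubgroup F₀ P ⊓ Cfsg.Geo.omegaGL (⇑Q)) :=
  subfield_maximal' hQ (by omega) (Or.inl hn) F₀ hr hcard P hζ hP

end Cfsg.Lib.Classical.Refl
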