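import Mathlib
import Cfsg.Agent.Classical.SLExtra
import Cfsg.Agent.Classical.Misc.Spinor
import Cfsg.Prelude.Def_SporadicB

/-! Orthogonal transvections over the field with two elements. -/

set_option autoImplicit false
set_option linter.style.haveILetI false

namespace Cfsg.Lib.Classical.Refl

open Matrix

variable {ι : Type} [Fintype ι] [DecidableEq ι] (Q : QuadraticForm (ZMod 2) (ι → ZMod 2))

theorem zmod_two_eq_one {a : ZMod 2} (h : a ≠ 0) : a = 1 := by revert a; decide

theorem refl_two_apply (v : ι → ZMod 2) (hv : Q v ≠ 0) (x : ι → ZMod 2) :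
    mat Q (refl Q v hv) *ᵥ x = x + QuadraticMap.polar (⇑Q) v x • v := by
  change Cfsg.reflectionMatrix (⇑Q) v *ᵥ x = _
  rw [mulVec_eq, zmod_two_eq_one hv, inv_one, one_mul]
  funext i
  simp [CharTwo.sub_eq_add]

theorem three_transposition (hQ : (QuadraticMap.polarBilin Q).Nondegenerate) (hn : 5 ≤ Fintype.card ι) :
    Cfsg.IsThreeTranspositionClass
      {g : Cfsg.isometryGroup (ZMod 2) (⇑Q) | (mat Q g - 1).rank = 1} := by
  classical
  have polar_v : ∀ v : ι → ZMod 2, Q v ≠ 0 → v ≠ 0 := fun v hv h => hv (by rw [h, QuadraticMap.map_zero])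
  have hset : {g : Cfsg.isometryGroup (ZMod 2) (⇑Q) | (mat Q g - 1).rank = 1} =
      {g | ∃ (v : ι → ZMod 2) (hv : Q v ≠ 0), g = refl Q v hv} := by
    ext g
    constructor
    · intro hg
      obtain ⟨v, w, hv0, hw0, hM⟩ := exists_vecMulVec_of_rank_eq_one hg
      have hgx : ∀ x, mat Q g *ᵥ x = x + (w ⬝ᵥ x) • v := fun x => by
        rw [← sub_add_cancel (mat Q g) 1, hM, Matrix.add_mulVec, Matrix.one_mulVec, Matrix.vecMulVec_mulVec, add_comm]
        funext i
        simp [mul_comm]
      have key : ∀ x, w ⬝ᵥ x = 1 → Q v + QuadraticMap.polar (⇑Q) x v = 0 := by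
        intro x hx
        have h := (mem_iff Q).mp g.2 x
        rw [show (((g : Matrix.GeneralLinearGroup ι (ZMod 2)) : Matrix ι ι (ZMod 2))) = mat Q g from rfl, hgx, hx,
          one_smul, QuadraticMap.map_add (f := Q)] at h
        linear_combination h
      obtain ⟨x₀, hx₀⟩ : ∃ x₀, w ⬝ᵥ x₀ = 1 := by
        by_contra hh
        push Not at hh
        refine hw0 (funext fun i => ?_)
        by_contra hwi
        exact hh (Pi.single i 1) (by rw [dotProduct_single, mul_one]; exact zmod_two_eq_one hwi)
      have hpx : ∀ x, w ⬝ᵥ x = 0 → QuadraticMap.polar (⇑Q) x v = 0 := by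
        intro x hx
        have h := key (x + x₀) (by rw [dotProduct_add, hx, hx₀, zero_add])
        rw [QuadraticMap.polar_add_left] at h
        linear_combination h - key x₀ hx₀
      have hQv : Q v ≠ 0 := by
        intro h0
        refine hv0 (hQ.1 v fun x => ?_)
        show QuadraticMap.polar (⇑Q) v x = 0
        rw [QuadraticMap.polar_comm]
        by_cases hx : w ⬝ᵥ x = 0
        · exact hpx x hx
        · have h := key x (zmod_two_eq_one hx)
          rwa [h0, zero_add] at h
      refine ⟨v, hQv, ext_mulVec Q fun x => ?_⟩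
      rw [hgx, refl_two_apply]
      congr 2
      rw [QuadraticMap.polar_comm]
      by_cases hx : w ⬝ᵥ x = 0
      · rw [hx, hpx x hx]
      · have h := key x (zmod_two_eq_one hx)
        rw [zmod_two_eq_one hx]
        rw [zmod_two_eq_one hQv] at h
        rw [eq_neg_of_add_eq_zero_right h]
        decide
    · rintro ⟨v, hv, rfl⟩
      have e : mat Q (refl Q v hv) - 1 = Matrix.vecMulVec v (-((Q v)⁻¹ • Cfsg.polarVec (⇑Q) v)) := by
        change Cfsg.reflectionMatrix (⇑Q) v - 1 = _
        rw [Cfsg.reflectionMatrix, sub_sub_cancel_left, Matrix.vecMulVec_neg, Matrix.vecMulVec_smul]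
      show (mat Q (refl Q v hv) - 1).rank = 1
      have hle : (mat Q (refl Q v hv) - 1).rank ≤ 1 := by rw [e]; exact Matrix.rank_vecMulVec_le _ _
      have hne : (mat Q (refl Q v hv) - 1).rank ≠ 0 := by
        intro h0
        have h1 : mat Q (refl Q v hv) = 1 := sub_eq_zero.mp (Matrix.toLin'.injective (by
          rw [map_zero, ← LinearMap.range_eq_bot]
          exact Submodule.finrank_eq_zero.mp h0))
        refine polar_v v hv (hQ.1 v fun x => ?_)
        show QuadraticMap.polar (⇑Q) v x = 0
        have h := refl_two_apply Q v hv x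
        rw [h1, Matrix.one_mulVec, left_eq_add, smul_eq_zero] at h
        exact h.resolve_right (polar_v v hv)
      omega
  rw [hset]
  have rne : ∀ v (hv : Q v ≠ 0), refl Q v hv ≠ 1 := fun v hv h1 => by
    refine polar_v v hv (hQ.1 v fun x => ?_)
    show QuadraticMap.polar (⇑Q) v x = 0
    have h := refl_two_apply Q v hv x
    rw [h1, show mat Q 1 = 1 from rfl, Matrix.one_mulVec, left_eq_add, smul_eq_zero] at h
    exact h.resolve_right (polar_v v hv)
  refine ⟨⟨?_, ?_⟩, ?_, ?_⟩
  · rintro g ⟨v, hv, rfl⟩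
    exact orderOf_eq_prime (by rw [pow_two, refl_mul_self]) (rne v hv)
  · rintro g ⟨u, hu, rfl⟩ h ⟨v, hv, rfl⟩
    by_cases hp : QuadraticMap.polar (⇑Q) u v = 0
    · left
      have e := refl_conj Q (refl Q u hu) v hv
      rw [refl_congr Q hv _ (t := 1) (show mat Q (refl Q u hu) *ᵥ v = (1 : ZMod 2) • v by
        rw [refl_two_apply, hp, zero_smul, add_zero, one_smul])] at e
      rw [pow_two, mul_assoc, ← mul_assoc (refl Q v hv)]
      rw [inv_eq_of_mul_eq_one_left (refl_mul_self Q u hu)] at e
      calc refl Q u hu * (refl Q v hv * refl Q u hu * refl Q v hv)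
          = refl Q u hu * refl Q v hv * refl Q u hu * refl Q v hv := by simp only [mul_assoc]
        _ = 1 := by rw [e, refl_mul_self]
    · right
      have hp1 := zmod_two_eq_one hp
      have huv : Q (u + v) ≠ 0 := by
        rw [QuadraticMap.map_add (f := Q), zmod_two_eq_one hu, zmod_two_eq_one hv, hp1]
        decide
      have e1 := refl_conj Q (refl Q u hu) v hv
      rw [refl_congr Q huv _ (t := 1) (show mat Q (refl Q u hu) *ᵥ v = (1 : ZMod 2) • (u + v) by
        rw [refl_two_apply, hp1, one_smul, one_smul, add_comm])] at e1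
      have e2 := refl_conj Q (refl Q v hv) u hu
      rw [refl_congr Q huv _ (t := 1) (show mat Q (refl Q v hv) *ᵥ u = (1 : ZMod 2) • (u + v) by
        rw [refl_two_apply, QuadraticMap.polar_comm, hp1, one_smul, one_smul])] at e2
      rw [inv_eq_of_mul_eq_one_left (refl_mul_self Q u hu)] at e1
      rw [inv_eq_of_mul_eq_one_left (refl_mul_self Q v hv)] at e2
      calc (refl Q u hu * refl Q v hv) ^ 3
          = (refl Q u hu * refl Q v hv * refl Q u hu) * (refl Q v hv * refl Q u hu * refl Q v hv) := by
            simp only [pow_succ, pow_zero, one_mul, mul_assoc]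
        _ = 1 := by rw [e1, e2, refl_mul_self]
  · obtain ⟨v, hv⟩ : ∃ v, Q v ≠ 0 := by
      by_contra hh
      push Not at hh
      haveI : Nonempty ι := Fintype.card_pos_iff.mp (by omega)
      have : (fun _ : ι => (1 : ZMod 2)) = 0 := hQ.1 _ fun y => by
        show QuadraticMap.polar (⇑Q) _ y = 0
        simp [QuadraticMap.polar, hh]
      exact one_ne_zero (congrFun this (Classical.arbitrary ι))
    refine ⟨refl Q v hv, ⟨v, hv, rfl⟩, Set.ext fun g => ?_⟩
    show _ ↔ g ∈ conjugatesOf _
    simp only [conjugatesOf, Set.mem_setOf_eq, isConj_iff]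
    constructor
    · rintro ⟨w, hw, rfl⟩
      obtain ⟨c, hc⟩ := exists_map Q hQ (polar_v v hv) (polar_v w hw) ((zmod_two_eq_one hv).trans (zmod_two_eq_one hw).symm)
      refine ⟨c, ?_⟩
      rw [refl_conj]
      exact (refl_congr Q _ hw (t := 1) (by rw [hc, one_smul])).symm
    · rintro ⟨c, rfl⟩
      rw [refl_conj]
      exact ⟨_, _, rfl⟩
  · exact eq_top_of_refl Q _ (fun v hv => Subgroup.subset_closure ⟨v, hv, rfl⟩) hQ (Or.inr (by omega))

end Cfsg.Lib.Classical.Refl
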